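import Mathlib
import Cfsg.Agent.H82.Zsigmondy

/-! The primitive part of `q ^ e - 1`. -/

set_option autoImplicit false

namespace Cfsg.Agent.H88

open Polynomial

theorem sq_le_totient_cube (n : ℕ) (hn : n ≠ 0) :
    ((n : ℚ)) ^ 2 ≤ (if 2 ∣ n then 4 else 1) * (if 3 ∣ n then 9 / 8 else 1) * (n.totient : ℚ) ^ 3 := by
  induction n using Nat.recOnPosPrimePosCoprime with
  | zero => exact absurd rfl hn
  | one => simp
  | prime_pow p k hp hk =>
    obtain ⟨k, rfl⟩ : ∃ j, k = j + 1 := ⟨k - 1, by omega⟩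
    rw [Nat.totient_prime_pow_succ hp]
    have h1 : (1 : ℚ) ≤ (p : ℚ) ^ k := one_le_pow₀ (by exact_mod_cast hp.one_lt.le)
    have key : (p : ℚ) ^ 2 ≤ (if 2 ∣ p ^ (k + 1) then 4 else 1) * (if 3 ∣ p ^ (k + 1) then 9 / 8 else 1) *
        ((p - 1 : ℕ) : ℚ) ^ 3 := by
      by_cases h2 : p = 2
      · subst h2
        rw [if_pos (dvd_pow_self 2 k.succ_ne_zero), if_neg (fun h => by
          have := Nat.prime_three.dvd_of_dvd_pow h
          omega)]
        norm_num
      rw [if_neg (fun h => h2 ((Nat.prime_dvd_prime_iff_eq Nat.prime_two hp).1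
        (Nat.prime_two.dvd_of_dvd_pow h)).symm)]
      by_cases h3 : p = 3
      · subst h3
        rw [if_pos (dvd_pow_self 3 k.succ_ne_zero)]
        norm_num
      rw [if_neg (fun h => h3 ((Nat.prime_dvd_prime_iff_eq Nat.prime_three hp).1
        (Nat.prime_three.dvd_of_dvd_pow h)).symm)]
      have h5 := hp.five_le_of_ne_two_of_ne_three h2 h3
      obtain ⟨s, rfl⟩ : ∃ s, p = s + 5 := ⟨p - 5, by omega⟩
      rw [show s + 5 - 1 = s + 4 by omega]
      push_cast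
      have : (0 : ℚ) ≤ s := Nat.cast_nonneg s
      nlinarith [mul_nonneg this this, mul_nonneg this (mul_nonneg this this)]
    generalize (if 2 ∣ p ^ (k + 1) then (4 : ℚ) else 1) * (if 3 ∣ p ^ (k + 1) then 9 / 8 else 1) = w at *
    push_cast
    set x := (p : ℚ) ^ k with hx
    have hw : 0 ≤ w * ((p - 1 : ℕ) : ℚ) ^ 3 := le_trans (by positivity) key
    calc ((p : ℚ) ^ (k + 1)) ^ 2 = x ^ 2 * 1 * (p : ℚ) ^ 2 := by rw [pow_succ, hx]; ring
      _ ≤ x ^ 2 * x * (w * ((p - 1 : ℕ) : ℚ) ^ 3) := by gcongr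
      _ = _ := by ring
  | coprime a b ha hb hab iha ihb =>
    have h1 := iha (by omega)
    have h2 := ihb (by omega)
    have e2 : (if 2 ∣ a * b then (4 : ℚ) else 1) = (if 2 ∣ a then 4 else 1) * (if 2 ∣ b then 4 else 1) := by
      by_cases c1 : 2 ∣ a <;> by_cases c2 : 2 ∣ b
      · exact absurd (Nat.eq_one_of_dvd_coprimes hab c1 c2) (by norm_num)
      all_goals simp [c1, c2, Nat.prime_two.dvd_mul]
    have e3 : (if 3 ∣ a * b then (9 / 8 : ℚ) else 1) =
        (if 3 ∣ a then 9 / 8 else 1) * (if 3 ∣ b then 9 / 8 else 1) := by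
      by_cases c1 : 3 ∣ a <;> by_cases c2 : 3 ∣ b
      · exact absurd (Nat.eq_one_of_dvd_coprimes hab c1 c2) (by norm_num)
      all_goals simp [c1, c2, Nat.prime_three.dvd_mul]
    rw [Nat.totient_mul hab, e2, e3]
    push_cast
    have := mul_le_mul h1 h2 (by positivity) (le_trans (by positivity) h1)
    calc ((a : ℚ) * b) ^ 2 = (a : ℚ) ^ 2 * (b : ℚ) ^ 2 := by ring
      _ ≤ _ := this
      _ = _ := by ring

theorem two_mul_sq_le_totient_cube {n : ℕ} (hn : n ≠ 0) : 2 * n ^ 2 ≤ 9 * n.totient ^ 3 := by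
  have h := sq_le_totient_cube n hn
  have h0 : (0 : ℚ) ≤ (n.totient : ℚ) ^ 3 := by positivity
  have : (2 * n ^ 2 : ℚ) ≤ 9 * (n.totient : ℚ) ^ 3 := by
    split_ifs at h <;> nlinarith
  exact_mod_cast this

theorem cast_eval_cyclotomic (n q : ℕ) :
    (((cyclotomic n ℤ).eval (q : ℤ) : ℤ) : ℝ) = (cyclotomic n ℝ).eval (q : ℝ) := by
  rw [← map_cyclotomic_int n ℝ, eval_map]
  have := eval₂_at_apply (p := cyclotomic n ℤ) (Int.castRingHom ℝ) ((q : ℕ) : ℤ)
  rw [← eq_intCast (Int.castRingHom ℝ), ← this]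
  simp

theorem pow_totient_le_cyclotomic_sq {q e : ℕ} (hq : 2 ≤ q) (he : 3 ≤ e) :
    q ^ e.totient ≤ ((cyclotomic e ℤ).eval (q : ℤ)).natAbs ^ 2 := by
  obtain ⟨r, k, m, hr, hm, rfl, hrk⟩ : ∃ r k m : ℕ, r.Prime ∧ ¬ r ∣ m ∧ e = r ^ (k + 1) * m ∧
      (3 ≤ r ∨ 1 ≤ k) := by
    obtain ⟨j, m, hm, rfl⟩ := Nat.exists_eq_pow_mul_and_not_dvd (n := e) (by omega) 2 (by norm_num)
    by_cases h1 : m = 1
    · subst h1
      have : 2 ≤ j := by
        by_contra h
        have : j ≤ 1 := by omega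
        interval_cases j <;> omega
      exact ⟨2, j - 1, 1, Nat.prime_two, hm, by rw [show j - 1 + 1 = j by omega], Or.inr (by omega)⟩
    · obtain ⟨r, hr, hrm⟩ := Nat.exists_prime_and_dvd h1
      have hr2 : r ≠ 2 := fun h => hm (h ▸ hrm)
      obtain ⟨i, m', hm', h'⟩ := Nat.exists_eq_pow_mul_and_not_dvd (n := 2 ^ j * m) (by omega) r hr.ne_one
      rcases i with _ | i
      · rw [pow_zero, one_mul] at h'
        exact absurd (h' ▸ hrm.mul_left _) hm'
      · exact ⟨r, i, m', hr, hm', h', Or.inl (by have := hr.two_le; omega)⟩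
  have hm0 : m ≠ 0 := by rintro rfl; exact hm (dvd_zero r)
  set b : ℕ := q ^ r ^ k with hb
  have hb2 : 2 ≤ b := hq.trans (Nat.le_self_pow (pow_pos hr.pos k).ne' q)
  have hbig : b ^ (r - 1) * (b + 1) ^ 2 ≤ (b ^ r - 1) ^ 2 := by
    obtain ⟨s, hs⟩ : ∃ s, r = s + 1 := ⟨r - 1, by have := hr.pos; omega⟩
    have e1 : b ^ r = b * b ^ (r - 1) := by rw [hs, pow_succ']; simp
    by_cases h3 : 3 ≤ r
    · have h1 : b ^ 2 ≤ b ^ (r - 1) := Nat.pow_le_pow_right (by omega) (by omega)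
      rw [e1]
      generalize b ^ (r - 1) = c at *
      obtain ⟨d, hd⟩ : ∃ d, b * c = d + 1 := ⟨b * c - 1, by
        have : 0 < b * c := by nlinarith
        omega⟩
      rw [hd, Nat.add_sub_cancel]
      have h2 : (b + 1) ^ 2 + 2 * b ≤ b ^ 2 * c := by nlinarith [Nat.mul_le_mul hb2 hb2]
      have h4 : d ^ 2 + 2 * (b * c) = (b * c) ^ 2 + 1 := by rw [hd]; ring
      nlinarith [Nat.mul_le_mul_left c h2]
    · have hr2 : r = 2 := by have := hr.two_le; omega
      have hk : 1 ≤ k := hrk.resolve_left h3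
      have h4 : 4 ≤ b := by
        have : 2 ≤ r ^ k := by
          rw [hr2]
          exact Nat.le_self_pow (by omega) 2
        calc 4 = 2 ^ 2 := rfl
          _ ≤ q ^ 2 := Nat.pow_le_pow_left hq 2
          _ ≤ q ^ r ^ k := Nat.pow_le_pow_right (by omega) this
      rw [hr2]
      obtain ⟨c, hc⟩ : ∃ c, b = c + 1 := ⟨b - 1, by omega⟩
      rw [hc, show (c + 1) ^ 2 - 1 = c * (c + 2) by
        rw [Nat.sub_eq_iff_eq_add (Nat.one_le_pow _ _ (by omega))]; ring, mul_pow]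
      apply Nat.mul_le_mul_right
      rw [show 2 - 1 = 1 from rfl, pow_one]
      have : 3 ≤ c := by omega
      nlinarith
  have hpos : 0 < (cyclotomic (r ^ (k + 1) * m) ℤ).eval (q : ℤ) :=
    cyclotomic_pos' _ (by exact_mod_cast (by omega : 1 < q))
  have hΦ := cast_eval_cyclotomic (r ^ (k + 1) * m) q
  rw [H82.cyclotomic_eval_prime_pow_mul (R := ℝ) hr] at hΦ
  have hbR : ((b : ℕ) : ℝ) = (q : ℝ) ^ r ^ k := by rw [hb]; push_cast; rfl
  have hb1 : (1 : ℝ) < b := by exact_mod_cast (by omega : 1 < b)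
  have h1 := congrArg (eval (b : ℝ)) (cyclotomic_expand_eq_cyclotomic_mul hr hm ℝ)
  rw [expand_eval, eval_mul, hbR, ← hΦ, ← hbR] at h1
  have h2 := sub_one_pow_totient_le_cyclotomic_eval (q := (b : ℝ) ^ r) (one_lt_pow₀ hb1 hr.ne_zero) m
  have h3 := cyclotomic_eval_le_add_one_pow_totient hb1 m
  set Φ : ℤ := (cyclotomic (r ^ (k + 1) * m) ℤ).eval (q : ℤ)
  have hΦ0 : (0 : ℝ) < Φ := by exact_mod_cast hpos
  have h4 : ((b : ℝ) ^ r - 1) ^ m.totient ≤ Φ * ((b : ℝ) + 1) ^ m.totient :=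
    h2.trans (h1.le.trans (mul_le_mul_of_nonneg_left h3 hΦ0.le))
  have h5 : (b : ℝ) ^ (r - 1) * ((b : ℝ) + 1) ^ 2 ≤ ((b : ℝ) ^ r - 1) ^ 2 := by
    have : ((b ^ (r - 1) * (b + 1) ^ 2 : ℕ) : ℝ) ≤ (((b ^ r - 1) ^ 2 : ℕ) : ℝ) := by exact_mod_cast hbig
    rw [Nat.cast_pow (b ^ r - 1), Nat.cast_sub (Nat.one_le_pow _ _ (by omega))] at this
    push_cast at this
    exact this
  have h6 : ((b : ℝ) ^ (r - 1)) ^ m.totient * (((b : ℝ) + 1) ^ m.totient) ^ 2 ≤
      Φ ^ 2 * (((b : ℝ) + 1) ^ m.totient) ^ 2 := by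
    calc _ = ((b : ℝ) ^ (r - 1) * ((b : ℝ) + 1) ^ 2) ^ m.totient := by
          rw [mul_pow, ← pow_mul _ 2, ← pow_mul _ _ 2, mul_comm 2]
      _ ≤ (((b : ℝ) ^ r - 1) ^ 2) ^ m.totient := pow_le_pow_left₀ (by positivity) h5 _
      _ = (((b : ℝ) ^ r - 1) ^ m.totient) ^ 2 := by rw [← pow_mul, ← pow_mul, mul_comm]
      _ ≤ (Φ * ((b : ℝ) + 1) ^ m.totient) ^ 2 := pow_le_pow_left₀ (pow_nonneg (by
          have := one_lt_pow₀ hb1 hr.ne_zero
          linarith) _) h4 2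
      _ = _ := by ring
  have h7 := le_of_mul_le_mul_right h6 (by positivity)
  rw [Nat.totient_mul ((Nat.Coprime.pow_left _ ((Nat.Prime.coprime_iff_not_dvd hr).2 hm))),
    Nat.totient_prime_pow_succ hr, pow_mul, pow_mul, ← hb]
  have : (((b ^ (r - 1)) ^ m.totient : ℕ) : ℝ) ≤ ((Φ.natAbs ^ 2 : ℕ) : ℝ) := by
    push_cast
    rw [Nat.cast_natAbs, Int.cast_abs, sq_abs]
    exact h7
  exact_mod_cast this

theorem exists_primitive_part {q e : ℕ} (hq : 2 ≤ q) (he : 3 ≤ e) :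
    ∃ m : ℕ, m ∣ q ^ e - 1 ∧ (∀ i : ℕ, 1 ≤ i → i < e → Nat.Coprime m (q ^ i - 1)) ∧
      ((cyclotomic e ℤ).eval (q : ℤ)).natAbs ≤ e * m := by
  set Φ : ℤ := (cyclotomic e ℤ).eval (q : ℤ) with hΦ
  have ha' : (1 : ℤ) < q := by exact_mod_cast (by omega : 1 < q)
  have hΦpos : 0 < Φ := cyclotomic_pos' e ha'
  have hdvd : Φ.natAbs ∣ q ^ e - 1 := by
    have := eval_dvd (x := (q : ℤ)) (cyclotomic.dvd_X_pow_sub_one e ℤ)
    simp only [eval_sub, eval_pow, eval_X, eval_one] at this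
    rw [← Int.natCast_dvd_natCast, Nat.cast_sub (Nat.one_le_pow _ _ (by omega)), Int.natAbs_dvd]
    exact_mod_cast this
  have key : ∀ r : ℕ, r.Prime → r ∣ Φ.natAbs → ∃ k m, e = r ^ k * m ∧ ¬ r ∣ m ∧
      IsPrimitiveRoot (q : ZMod r) m ∧ m ∣ r - 1 := by
    intro r hr hd
    have : Fact r.Prime := ⟨hr⟩
    obtain ⟨k, m, hm, hnk⟩ := Nat.exists_eq_pow_mul_and_not_dvd (n := e) (by omega) r hr.ne_one
    have h1 : IsPrimitiveRoot ((q : ℤ) : ZMod r) m :=
      H82.isPrimitiveRoot_of_dvd_cyclotomic (k := k) hr hm (by rw [← hnk]; exact Int.natCast_dvd.2 hd)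
    rw [Int.cast_natCast] at h1
    have hm0 : m ≠ 0 := by rintro rfl; exact hm (dvd_zero r)
    exact ⟨k, m, hnk, hm, h1, h1.dvd_of_pow_eq_one _ (ZMod.pow_card_sub_one_eq_one (h1.ne_zero hm0))⟩
  have hcop : ∀ m, m ∣ Φ.natAbs → (∀ s : ℕ, s.Prime → s ∣ m → ¬ s ∣ e) →
      ∀ i : ℕ, 1 ≤ i → i < e → Nat.Coprime m (q ^ i - 1) := by
    intro m hm h i hi hie
    apply Nat.coprime_of_dvd
    intro s hs hsm hsq
    obtain ⟨k, m', hk, -, hprim, -⟩ := key s hs (hsm.trans hm)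
    rcases k with _ | k
    · rw [pow_zero, one_mul] at hk
      have : ((q ^ i - 1 : ℕ) : ZMod s) = 0 := (ZMod.natCast_eq_zero_iff _ _).2 hsq
      rw [Nat.cast_sub (Nat.one_le_pow _ _ (by omega)), sub_eq_zero] at this
      have := Nat.le_of_dvd hi (hprim.dvd_of_pow_eq_one i (by exact_mod_cast this))
      omega
    · exact h s hs hsm (hk ▸ (dvd_pow_self s k.succ_ne_zero).mul_right _)
  by_cases hex : ∃ r : ℕ, r.Prime ∧ r ∣ Φ.natAbs ∧ r ∣ e
  swap
  · push Not at hex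
    exact ⟨Φ.natAbs, hdvd, hcop _ dvd_rfl hex, Nat.le_mul_of_pos_left _ (by omega)⟩
  obtain ⟨r, hr, hrd, hre⟩ := hex
  have : Fact r.Prime := ⟨hr⟩
  obtain ⟨k, m, hnk, hm, hprim, hmr⟩ := key r hr hrd
  have hm0 : m ≠ 0 := by rintro rfl; exact hm (dvd_zero r)
  obtain ⟨k, rfl⟩ : ∃ j, k = j + 1 := by
    rcases k with _ | k
    · rw [pow_zero, one_mul] at hnk
      exact absurd (hnk ▸ hre) hm
    · exact ⟨k, rfl⟩
  have huniq : ∀ {s : ℕ}, s.Prime → s ∣ Φ.natAbs → s ∣ e → s = r := by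
    intro s hs hsd hse
    obtain ⟨l, m', hnl, hm', -, hm's⟩ := key s hs hsd
    by_contra hne
    have h1 : s ∣ m := by
      rcases (Nat.Prime.dvd_mul hs).1 (hnk ▸ hse) with h | h
      · exact absurd ((Nat.prime_dvd_prime_iff_eq hs hr).1 (hs.dvd_of_dvd_pow h)) hne
      · exact h
    have h2 : r ∣ m' := by
      rcases (Nat.Prime.dvd_mul hr).1 (hnl ▸ hre) with h | h
      · exact absurd ((Nat.prime_dvd_prime_iff_eq hr hs).1 (hr.dvd_of_dvd_pow h)).symm hne
      · exact h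
    have h3 := Nat.le_of_dvd (by have := hr.two_le; omega) (h1.trans hmr)
    have h4 := Nat.le_of_dvd (by have := hs.two_le; omega) (h2.trans hm's)
    have := hr.two_le
    omega
  have ha0 : (q : ZMod r) ≠ 0 := hprim.ne_zero hm0
  have hra : ¬ (r : ℤ) ∣ q := by
    rw [← ZMod.intCast_zmod_eq_zero_iff_dvd, Int.cast_natCast]; exact ha0
  have hd0 : 0 < r ^ k * m := Nat.mul_pos (pow_pos hr.pos k) (Nat.pos_of_ne_zero hm0)
  have hgeom : Φ ∣ ∑ i ∈ Finset.range r, ((q : ℤ) ^ (r ^ k * m)) ^ i := by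
    have : e = (r ^ k * m) * r := by rw [hnk]; ring
    rw [hΦ, this]
    exact H82.cyclotomic_eval_dvd_geom_sum ha' hr.one_lt hd0
  have hsq : ¬ r ^ 2 ∣ Φ.natAbs := by
    intro hsq
    have hsq' : (r : ℤ) ^ 2 ∣ ∑ i ∈ Finset.range r, ((q : ℤ) ^ (r ^ k * m)) ^ i :=
      Dvd.dvd.trans (by exact_mod_cast Int.natCast_dvd.2 hsq) hgeom
    rcases hr.eq_two_or_odd' with rfl | hodd
    · have hm1 : m = 1 := Nat.dvd_one.1 hmr
      subst hm1
      rcases k with _ | k
      · omega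
      · simp only [Finset.sum_range_succ, Finset.range_zero, Finset.sum_empty, pow_zero, pow_one,
          mul_one, zero_add] at hsq'
        have hodd : Odd ((q : ℤ) ^ 2 ^ k) := by
          apply Odd.pow
          rw [← Int.not_even_iff_odd, even_iff_two_dvd]
          exact hra
        obtain ⟨c, hc⟩ := hodd
        rw [pow_succ 2 k, pow_mul, hc] at hsq'
        have : (1 : ℤ) + (2 * c + 1) ^ 2 = 4 * (c ^ 2 + c) + 2 := by ring
        rw [this] at hsq'
        push_cast at hsq'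
        omega
    · have h1 : (r : ℤ) ∣ (q : ℤ) ^ (r ^ k * m) - 1 := by
        rw [← ZMod.intCast_zmod_eq_zero_iff_dvd]
        push_cast
        rw [mul_comm, pow_mul, hprim.pow_eq_one, one_pow, sub_self]
      have h3 := emultiplicity_geom_sum₂_eq_one (Nat.prime_iff_prime_int.1 hr) hodd h1
        (fun h => hra ((Nat.prime_iff_prime_int.1 hr).dvd_of_dvd_pow h))
      simp only [one_pow, mul_one] at h3
      have h4 := le_emultiplicity_of_pow_dvd hsq'
      rw [h3] at h4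
      norm_num at h4
  obtain ⟨m', hm'⟩ := hrd
  have hd' : m' ∣ Φ.natAbs := Dvd.intro_left _ hm'.symm
  refine ⟨m', hd'.trans hdvd, hcop _ hd' fun s hs hsm hse => ?_, ?_⟩
  · have := huniq hs (hsm.trans hd') hse
    subst this
    apply hsq
    rw [hm', pow_two]
    exact Nat.mul_dvd_mul_left _ hsm
  · rw [hm']
    exact Nat.mul_le_mul_right _ (Nat.le_of_dvd (by omega) hre)

/-- remove from `m` the prime factors of `d` (with fuel) -/
def strip : ℕ → ℕ → ℕ → ℕ
  | 0, m, _ => m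
  | f + 1, m, d => if Nat.gcd m d = 1 then m else strip f (m / Nat.gcd m d) d

/-- candidate primitive part -/
def primCand (q e : ℕ) : ℕ := (List.range (e - 1)).foldl (fun m i => strip 30 m (q ^ (i + 1) - 1)) (q ^ e - 1)

/-- the thirteen exceptions -/
def primExc : List (ℕ × ℕ) := [(2, 6), (2, 4), (2, 10), (2, 12), (2, 18), (3, 4), (3, 6), (5, 6), (2, 3),
  (2, 8), (2, 20), (4, 3), (4, 6)]

/-- certificate check for one pair -/
def primOk (q e : ℕ) : Bool :=
  let m := primCand q e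
  (q ^ e - 1) % m == 0 && (List.range (e - 1)).all (fun i => Nat.gcd m (q ^ (i + 1) - 1) == 1) &&
    decide (3 * e + 1 ≤ m)

/-- certificate check for one exponent -/
def primRow (e : ℕ) : Bool :=
  let f := ((List.range e).filter (fun i => Nat.gcd e i == 1)).length
  let T := (e * (3 * e + 1)) ^ 2
  decide (T ≤ 114 ^ f) && (List.range 114).all fun q =>
    decide (q < 2) || decide (T ≤ q ^ f) || primExc.contains (q, e) || primOk q e

theorem primRow_all : (List.range 534).all (fun i => primRow (i + 3)) = true := by decide +kernel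

theorem totient_eq_length (e : ℕ) :
    e.totient = ((List.range e).filter (fun i => Nat.gcd e i == 1)).length := by
  rw [Nat.totient]
  rfl

theorem poly_le_two_pow {f : ℕ} (h : 41 ≤ f) : 324 * f ^ 6 ≤ 2 ^ f := by
  induction f, h using Nat.le_induction with
  | base => norm_num
  | succ f hf ih =>
    have h1 : (f + 1) ^ 6 ≤ 2 * f ^ 6 := by
      have h2 : 41 * (f + 1) ≤ 42 * f := by omega
      have h3 := Nat.pow_le_pow_left h2 6
      rw [mul_pow, mul_pow] at h3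
      omega
    rw [pow_succ 2]
    omega

/-- Outside thirteen pairs the primitive part of `q ^ e - 1` is at least `3 e + 1`. -/
theorem exists_large_primitive {q e : ℕ} (hq : 2 ≤ q) (he : 3 ≤ e) (h : (q, e) ∉ primExc) :
    ∃ m : ℕ, m ∣ q ^ e - 1 ∧ (∀ i : ℕ, 1 ≤ i → i < e → Nat.Coprime m (q ^ i - 1)) ∧ 3 * e + 1 ≤ m := by
  by_cases hT : (e * (3 * e + 1)) ^ 2 ≤ q ^ e.totient
  · obtain ⟨m, h1, h2, h3⟩ := exists_primitive_part hq he
    refine ⟨m, h1, h2, ?_⟩
    have h4 := (Nat.pow_le_pow_iff_left two_ne_zero).1 (hT.trans (pow_totient_le_cyclotomic_sq hq he))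
    exact Nat.le_of_mul_le_mul_left (h4.trans h3) (by omega)
  have h1 := two_mul_sq_le_totient_cube (n := e) (by omega)
  have h2 : e.totient ≤ 40 := by
    by_contra hc
    apply hT
    refine le_trans ?_ ((poly_le_two_pow (f := e.totient) (by omega)).trans (Nat.pow_le_pow_left hq _))
    have h3 : e * (3 * e + 1) ≤ 2 * (2 * e ^ 2) := by nlinarith
    calc _ ≤ (2 * (9 * e.totient ^ 3)) ^ 2 := Nat.pow_le_pow_left (h3.trans (by omega)) 2
      _ = _ := by ring
  have h3 : e ≤ 536 := by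
    have := Nat.pow_le_pow_left h2 3
    by_contra hc
    nlinarith
  have h4 := List.all_eq_true.1 primRow_all (e - 3) (List.mem_range.2 (by omega))
  rw [show e - 3 + 3 = e by omega] at h4
  simp only [primRow, ← totient_eq_length, Bool.and_eq_true, decide_eq_true_eq, List.all_eq_true,
    List.mem_range, Bool.or_eq_true, List.contains_iff_mem] at h4
  have h5 : q < 114 := by
    by_contra hc
    exact hT (h4.1.trans (Nat.pow_le_pow_left (by omega) _))
  rcases h4.2 q h5 with ((h6 | h6) | h6) | h6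
  · omega
  · exact absurd h6 hT
  · exact absurd h6 h
  · simp only [primOk, Bool.and_eq_true, beq_iff_eq, List.all_eq_true, List.mem_range,
      decide_eq_true_eq] at h6
    refine ⟨_, Nat.dvd_of_mod_eq_zero h6.1.1, fun i hi hie => ?_, h6.2⟩
    have := h6.1.2 (i - 1) (by omega)
    rwa [show i - 1 + 1 = i by omega] at this

theorem primitive_le_of_cert {q e A m : ℕ} (hA : 0 < A)
    (h : q ^ e - 1 ∣ A * (∏ i ∈ Finset.range (e - 1), (q ^ (i + 1) - 1)) ^ 5) (hm : m ∣ q ^ e - 1)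
    (hc : ∀ i : ℕ, 1 ≤ i → i < e → Nat.Coprime m (q ^ i - 1)) : m ≤ A := by
  apply Nat.le_of_dvd hA
  refine Nat.Coprime.dvd_of_dvd_mul_right (Nat.Coprime.pow_right 5 ?_) (hm.trans h)
  exact Nat.Coprime.prod_right fun i hi => hc _ (by omega) (by have := Finset.mem_range.1 hi; omega)

end Cfsg.Agent.H88
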