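import Mathlib
import Cfsg.Agent.H17.KnCongr

/-!
# The standard case: extension of the coordinates to the even Sylow subgroup
-/

set_option autoImplicit false
set_option maxRecDepth 100000
set_option synthInstance.maxSize 2000

namespace Cfsg.Agent.H88.KnStd

open Equiv Subgroup Cfsg.Agent.H63 Cfsg.Agent.H8.GD Cfsg.Agent.H17.Kn
open Cfsg.Agent.H11.A16 hiding z2
open Cfsg.Agent.H89.Rec (Syl)

universe u

/-! ### Finite facts -/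

/-- A sign change that is constant on the blocks. -/
def eb (a b c d : ZMod 2) : N2 := ⟨1, ![a, a, b, b, c, c, d, d]⟩

theorem e1_eq {u : N2} (h : u ∈ E1) : u = eb (u.f 0) (u.f 2) (u.f 4) (u.f 6) := by
  have h1 : ∀ p, u.f (x 1 p) = u.f p := h.2.2.2
  refine N2.ext h.1.1 (funext fun p => ?_)
  fin_cases p
  exacts [rfl, h1 0, rfl, h1 2, rfl, h1 4, rfl, h1 6]

def a0 : N2 := xe 0 1
def a1 : N2 := dl 3 * dl 7
def a2 : N2 := dl 5 * dl 7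
def kk : N2 := xe 2 3 * xe 3 2 * xe 2 3
def l1 (ε : ZMod 2) : Fin 3 → ZMod 2 := ![0, 0, ε]
def l2 : Fin 3 → ZMod 2 := ![0, 1, 1]
def pb (b : Bool) (g : N2) : N2 := if b then g else 1
def cjf (u : N2) : N2 := f0 * u * f0⁻¹

theorem q0 : ∀ a b c d, a0 * eb a b c d = cjf (xe 2 4) * (a0 * eb a b c d) * (cjf (xe 2 4))⁻¹ →
    a0 * eb a b c d = cjf (xe 3 4) * (a0 * eb a b c d) * (cjf (xe 3 4))⁻¹ →
    eb a b c d = e34 ∨ eb a b c d = e34 * z2 := by decide +kernel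

theorem q1 : ∀ a b c d, a1 * eb a b c d = cjf (xe 3 4) * (a1 * eb a b c d) * (cjf (xe 3 4))⁻¹ →
    a0 * e34 * (a1 * eb a b c d) = cjf (xe 2 4) * (a1 * eb a b c d) * (cjf (xe 2 4))⁻¹ →
    ∃ ε, a1 * eb a b c d = f0 * a1 * f0⁻¹ * zp (ch (l1 ε) a1) := by decide +kernel

theorem q2 : ∀ ε, (f0 * a1 * f0⁻¹ * zp (ch (l1 ε) a1)) * (cjf (xe 2 3) *
    (f0 * a1 * f0⁻¹ * zp (ch (l1 ε) a1)) * (cjf (xe 2 3))⁻¹) =
      f0 * a2 * f0⁻¹ * zp (ch (l1 ε) a2) := by decide +kernel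

theorem q3 : ∀ ε a b c d, eb a b c d = f0 * eb a b c d * f0⁻¹ * zp (ch (l1 ε) (eb a b c d)) := by
  decide +kernel

theorem q4 : ∀ p q, ∃ i j k, (pb i a0 * pb j a1 * pb k a2)⁻¹ * (dl p * dl q) ∈ E1 := by
  decide +kernel

theorem q5 : ∀ p q, kk * (f0 * (kk⁻¹ * (f0 * (dl p * dl q) * f0⁻¹ * zp (ch (l1 1) (dl p * dl q))) *
    kk⁻¹⁻¹) * f0⁻¹ * zp (ch (l1 1) (kk⁻¹ * (f0 * (dl p * dl q) * f0⁻¹ *
      zp (ch (l1 1) (dl p * dl q))) * kk⁻¹⁻¹))) * kk⁻¹ =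
    1 * (dl p * dl q) * 1⁻¹ * zp (ch l2 (dl p * dl q)) := by decide +kernel

theorem q6 : ∀ p q, dl p * dl q ∈ EE := by decide +kernel

theorem zp_mem : ∀ c, zp c ∈ EE := by decide +kernel

theorem zp_add (a b : ZMod 2) : zp (a + b) = zp a * zp b := by revert a b; decide +kernel

theorem zp_comm (c : ZMod 2) (u : N2) : u * zp c = zp c * u :=
  N2.ext (by simp [zp]) (funext fun p => by simp [zp, add_comm])

theorem q7 : a0 ∈ EE ∧ a1 ∈ EE ∧ a2 ∈ EE ∧ e34 ∈ E1 ∧ z2 ∈ U1 ∧ xe 1 4 ∈ U1 ∧ kk ∈ QK ∧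
    xe 2 4 ∈ DD ∧ xe 3 4 ∈ DD ∧ xe 1 2 ∈ DD ∧ xe 2 3 ∈ XX ∧ xe 0 3 ∈ U1 ∧ xe 1 3 ∈ U1 ∧ a0 ∈ T0 ∧
    f0 ∈ SE ∧ f0 ∉ T1 ∧ f0 ∈ FF ∧ z2 ∈ AA ∧ z2 ≠ 1 ∧ dl 1 * dl 2 ∈ EE ∧
    ch l2 (dl 1 * dl 2) ≠ 0 := by decide +kernel

theorem q8 : xe 2 4 * a0 * (xe 2 4)⁻¹ = a0 ∧ xe 3 4 * a0 * (xe 3 4)⁻¹ = a0 ∧
    xe 3 4 * a1 * (xe 3 4)⁻¹ = a1 ∧ xe 2 4 * a1 * (xe 2 4)⁻¹ = a0 * a1 ∧
    a1 * (xe 2 3 * a1 * (xe 2 3)⁻¹) = a2 ∧ xe 2 3 * e34 * (xe 2 3)⁻¹ = e34 * xe 0 3 ∧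
    f0 * xe 2 3 * f0⁻¹ = xe 1 3 * xe 2 3 ∧ (∀ ε, a0 * e34 = f0 * a0 * f0⁻¹ * zp (ch (l1 ε) a0)) ∧
    a0 * a0 = 1 ∧ f0 * f0 = 1 ∧ a0 * xe 1 4 * a0⁻¹ = xe 1 4 * z2 ∧ a0 * e34 * a0⁻¹ = e34 ∧
    (∀ e, zp (ch (l1 0) e) = 1) := by
  refine ⟨?_, ?_, ?_, ?_, ?_, ?_, ?_, ?_, ?_, ?_, ?_, ?_, fun e => ?_⟩
  any_goals decide +kernel
  simp [ch, l1]; rfl

theorem q9 : s12 * pm2 (xe 2 3) * s12⁻¹ = pm2 (xe 2 3) ∧ s12 * pm2 (xe 0 3) * s12⁻¹ = pm2 (xe 1 3) ∧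
    s12 * pm2 z2 * s12⁻¹ = pm2 (xe 1 4) ∧ s12 * pm2 (xe 1 4) * s12⁻¹ = pm2 z2 ∧
    s12 * pm2 a0 * (s12 * pm2 a0) * (s12 * pm2 a0) = 1 ∧
    s12 * pm2 e34 * s12⁻¹ = pm2 f0 ∧ s12 * pm2 f0 * s12⁻¹ = pm2 e34 := by decide +kernel

/-! ### The action on `EE` -/

section

variable {G : Type u} [Group G] {J : N2 → G} {φ : G → Perm Ω} {F : Subgroup G} {f s : G}

theorem exK (m2 : Mod2) (m3 : Mod3) (h : Em J EE) (g : G) (m : N2) (l : Fin 3 → ZMod 2) :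
    ∃ K : Subgroup N2, ∀ e, e ∈ K ↔ e ∈ EE ∧ R J g e (m * e * m⁻¹ * zp (ch l e)) := by
  have n : ∀ e ∈ EE, m * e * m⁻¹ * zp (ch l e) ∈ EE := fun e he =>
    mul_mem ((m2.nrm m).2.1 e he) (zp_mem _)
  have k : ∀ a ∈ EE, ∀ b ∈ EE, m * (a * b) * m⁻¹ * zp (ch l (a * b)) =
      m * a * m⁻¹ * zp (ch l a) * (m * b * m⁻¹ * zp (ch l b)) := fun a ha b hb => by
    rw [(m3.chm l).1 a ha b hb, zp_add, mul_assoc (m * a * m⁻¹), ← mul_assoc (zp (ch l a)),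
      ← zp_comm (ch l a) (m * b * m⁻¹)]
    group
  have o : ch l 1 = 0 := (m3.chm l).2 1 (one_mem _)
  have z : zp 0 = 1 := rfl
  refine ⟨⟨⟨⟨{e | e ∈ EE ∧ R J g e (m * e * m⁻¹ * zp (ch l e))}, fun {a b} ha hb =>
    ⟨mul_mem ha.1 hb.1, ?_⟩⟩, one_mem _, ?_⟩, fun {a} ha => ?_⟩, fun _ => Iff.rfl⟩
  · rw [k a ha.1 b hb.1]; exact R.mul h ha.2 hb.2 ha.1 (n a ha.1) hb.1 (n b hb.1)
  · simp [R, o, z, h.one]
  · rwa [inv_eq_of_mul_eq_one_right (m2.ab.2.2.2.1 a ha.1.1)]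

theorem cj_act (h : Em J T1) {v e e' : N2} (hv : v ∈ T1) (hv' : cjf v ∈ T1) (he : e ∈ T1)
    (he' : e' ∈ T1) (a : R J f v (cjf v)) (b : R J f e e') :
    R J f (v * e * v⁻¹) (cjf v * e' * (cjf v)⁻¹) := by
  unfold R at *
  rw [← h.self hv he, ← h.self hv' he', ← a, ← b]; group

theorem x23 (m2 : Mod2) (h : Sd J φ) (d : Fd J φ F f s) : R J f (xe 2 3) (cjf (xe 2 3)) := by
  obtain ⟨-, -, -, -, -, l6, l7, l8, -, -, -, -, -, -, -, l16, -⟩ := m2.le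
  obtain ⟨-, -, -, b4, -, -, -, -, -, -, b11, b12, b13, -⟩ := q7
  have h1 := h.em1.self (l8 b11.1) (l7 (l6 b4.1))
  rw [q8.2.2.2.2.2.1, R, h.em1.mul _ (l7 (l6 b4.1)) _ (l8 b12.1)] at h1
  have h2 := d.sX _ b11 _ b11 q9.1
  have h3 := d.sX _ (l16 b12).1 _ (l16 b13).1 q9.2.1
  have h4 : J (xe 2 3) * f * (J (xe 2 3))⁻¹ = f * J (xe 1 3) := by
    rw [← d.fs, ← h3]
    conv_lhs => rw [← h2]
    rw [show s * J e34 * s⁻¹ * (s * J (xe 0 3) * s⁻¹) = s * (J e34 * J (xe 0 3)) * s⁻¹ by group,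
      ← h1]
    group
  rw [R, cjf, q8.2.2.2.2.2.2.1, h.em1.mul _ (l8 b13.1) _ (l8 b11.1),
    ← inv_eq_of_mul_eq_one_right (d.sq f d.fF), inv_inv, eq_inv_mul_iff_mul_eq.2 h4.symm]
  group

theorem not_z [Finite G] (hG : Gen G) (m2 : Mod2) (k : Kit J φ) (h : Sd J φ) (d : Fd J φ F f s) :
    ¬ R J f a0 (a0 * (e34 * z2)) := fun r => by
  obtain ⟨-, -, -, -, -, l6, l7, l8, -, -, -, -, -, -, -, l16, -⟩ := m2.le
  obtain ⟨b1, -, -, b4, b5, b6, -, -, -, -, -, -, -, b14, -, -, -, b18, b19, -⟩ := q7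
  obtain ⟨-, -, -, -, -, -, -, -, c9, -, c11, c12, -⟩ := q8
  have t0 := l8 b14
  have te := l7 (l6 b4.1)
  have tz := l8 b5.1
  have tx := l8 b6.1
  have e1 := h.em1.self t0 te
  have e2 := h.em1.self t0 tx
  rw [c12] at e1
  rw [c11, R, h.em1.mul _ tx _ tz] at e2
  rw [R, h.em1.mul _ t0 _ (mul_mem te tz), h.em1.mul _ te _ tz] at r
  have e3 : J a0 * J a0 = 1 := by rw [← h.em1.mul _ t0 _ t0, c9, h.em1.one]
  have s1 := d.sX _ (l16 b5).1 _ (l16 b6).1 q9.2.2.1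
  have s2 := d.sX _ (l16 b6).1 _ (l16 b5).1 q9.2.2.2.1
  have hN := mul_mem d.sN (k.le _ b14)
  have hφ : φ (s * J a0) = s12 * pm2 a0 := by rw [h.mul _ d.sN _ (k.le _ b14), d.sφ, h.res _ b14]
  have h1 : φ (s * J a0 * (s * J a0) * (s * J a0)) = 1 := by
    rw [h.mul _ (mul_mem hN hN) _ hN, h.mul _ hN _ hN, hφ, q9.2.2.2.2.1]
  have hN3 := mul_mem (mul_mem hN hN) hN
  have fe := d.le2 (mem_im b4)
  have fz := d.le1 (mem_im b5)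
  have fx := d.le1 (mem_im b6)
  have fs := d.fs
  have sf := d.sf
  have e4 : J a0 * f * (J a0)⁻¹ = J e34 * J z2 * f := by
    rw [← inv_eq_of_mul_eq_one_right e3, inv_inv, ← inv_mul_cancel_left (J a0) (J e34 * J z2),
      ← r]
    group
  unfold R at e1 s1 s2
  have g1 : s * J a0 * J e34 * (s * J a0)⁻¹ = f := by rw [← fs, ← e1]; nth_rw 2 [← e1]; group
  have g2 : s * J a0 * f * (s * J a0)⁻¹ = f * J (xe 1 4) * J e34 := by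
    rw [show s * J a0 * f * (s * J a0)⁻¹ = s * (J a0 * f * (J a0)⁻¹) * s⁻¹ by group, e4, ← s1]
    nth_rw 2 [← sf]
    nth_rw 2 [← fs]
    group
  have g3 : s * J a0 * J (xe 1 4) * (s * J a0)⁻¹ = J z2 * J (xe 1 4) := by
    rw [show s * J a0 * J (xe 1 4) * (s * J a0)⁻¹ = s * (J a0 * J (xe 1 4) * (J a0)⁻¹) * s⁻¹ by
      group, e2]
    nth_rw 2 [← s2]
    nth_rw 3 [← s1]
    group
  have h2 := h.ker _ hN3 h1
  have h3 := mem_centralizer_iff.1 (k.kerC _ hN3 h1) _ (mem_im b18)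
  generalize s * J a0 = r at g1 g2 g3 h2 h3
  have h4 : r * r * r * J e34 * (r * r * r)⁻¹ = J e34 * J z2 := by
    calc r * r * r * J e34 * (r * r * r)⁻¹ = r * (r * (r * J e34 * r⁻¹) * r⁻¹) * r⁻¹ := by group
      _ = r * (f * J (xe 1 4) * J e34) * r⁻¹ := by rw [g1, g2]
      _ = (r * f * r⁻¹) * (r * J (xe 1 4) * r⁻¹) * (r * J e34 * r⁻¹) := by group
      _ = f * (J (xe 1 4) * (J e34 * J z2) * J (xe 1 4)) * f := by rw [g1, g2, g3]; group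
      _ = J e34 * J z2 := by
        rw [(d.ab _ fx _ (mul_mem fe fz)).eq, mul_assoc _ (J (xe 1 4)), d.sq _ fx, mul_one,
          (d.ab _ d.fF _ (mul_mem fe fz)).eq, mul_assoc _ f, d.sq _ d.fF, mul_one]
  have h5 := hG.odd1 _ _ _ 1 h2 h3.symm h4 (by rw [pow_one, sq, d.sq _ fz])
  exact b19 (h.em1.inj _ tz _ (one_mem _) (h5.trans h.em1.one.symm))

theorem onE [Finite G] (hG : Gen G) (m2 : Mod2) (m3 : Mod3) (k : Kit J φ) (h : Sd J φ)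
    (d : Fd J φ F f s) (hc : ∀ e ∈ EE, ∃ c ∈ E1, R J f e (e * c)) :
    ∃ ε, ∀ e ∈ EE, R J f e (f0 * e * f0⁻¹ * zp (ch (l1 ε) e)) := by
  obtain ⟨-, -, -, -, -, l6, l7, l8, -⟩ := m2.le
  obtain ⟨b1, b2, b3, b4, -, -, -, b8, b9, -, b11, -⟩ := q7
  obtain ⟨c1, c2, c3, c4, c5, -, -, c8, -⟩ := q8
  have lE : EE ≤ T1 := l6.trans l7
  have t24 : cjf (xe 2 4) ∈ T1 ∧ cjf (xe 3 4) ∈ T1 ∧ cjf (xe 2 3) ∈ T1 := by decide +kernel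
  have n := fun m => (m2.nrm m).2.1
  have a24 := fun {e e'} (he : e ∈ EE) (he' : e' ∈ EE) =>
    cj_act h.em1 (l8 b8.1.1) t24.1 (lE he) (lE he') (d.fD _ b8)
  have a34 := fun {e e'} (he : e ∈ EE) (he' : e' ∈ EE) =>
    cj_act h.em1 (l8 b9.1.1) t24.2.1 (lE he) (lE he') (d.fD _ b9)
  have a23 := fun {e e'} (he : e ∈ EE) (he' : e' ∈ EE) =>
    cj_act h.em1 (l8 b11.1) t24.2.2 (lE he) (lE he') (x23 m2 h d)
  have hE := h.em1.mono lE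
  have r0 : R J f a0 (a0 * e34) := by
    obtain ⟨c, hc, r⟩ := hc a0 b1
    have m := mul_mem b1 hc.1
    have h1 := a24 b1 m r
    have h2 := a34 b1 m r
    rw [c1] at h1
    rw [c2] at h2
    have h3 := R.uniq hE r h1 m (n _ _ m)
    have h4 := R.uniq hE r h2 m (n _ _ m)
    rw [e1_eq hc] at h3 h4
    rcases q0 _ _ _ _ h3 h4 with h5 | h5 <;> rw [← e1_eq hc] at h5 <;> rw [h5] at r
    · exact r
    · exact (not_z hG m2 k h d r).elim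
  obtain ⟨ε, r1⟩ : ∃ ε, R J f a1 (f0 * a1 * f0⁻¹ * zp (ch (l1 ε) a1)) := by
    obtain ⟨c, hc, r⟩ := hc a1 b2
    have m := mul_mem b2 hc.1
    have m0 := mul_mem b1 b4.1
    have h1 := a24 b2 m r
    have h2 := a34 b2 m r
    rw [c4] at h1
    rw [c3] at h2
    have h3 := R.uniq hE (R.mul hE r0 r b1 m0 b2 m) h1 (mul_mem m0 m) (n _ _ m)
    have h4 := R.uniq hE r h2 m (n _ _ m)
    rw [e1_eq hc] at h3 h4
    obtain ⟨ε, h5⟩ := q1 _ _ _ _ h4 h3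
    rw [← e1_eq hc] at h5
    exact ⟨ε, h5 ▸ r⟩
  have m1 := mul_mem (n f0 _ b2) (zp_mem (ch (l1 ε) a1))
  have r2 := R.mul hE r1 (a23 b2 m1 r1) b2 m1 (n _ _ b2) (n _ _ m1)
  rw [c5, q2] at r2
  obtain ⟨K, hK⟩ := exK m2 m3 hE f f0 (l1 ε)
  have k0 := (hK a0).2 ⟨b1, c8 ε ▸ r0⟩
  have k1 := (hK a1).2 ⟨b2, r1⟩
  have k2 := (hK a2).2 ⟨b3, r2⟩
  have k3 : E1 ≤ K := fun c hc => (hK c).2 ⟨hc.1, by
    rw [e1_eq hc, ← q3, ← e1_eq hc, R, (d.ab _ d.fF _ (d.le2 (mem_im hc))).eq,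
      mul_inv_cancel_right]⟩
  have k4 : ∀ (b : Bool) {g : N2}, g ∈ K → pb b g ∈ K := fun b g hg => by
    cases b
    · exact one_mem _
    · exact hg
  refine ⟨ε, fun e he => ((hK e).1 (m2.gEE K (fun p q => ?_) he)).2⟩
  obtain ⟨i, j, l, h1⟩ := q4 p q
  exact (K.mul_mem_cancel_left (inv_mem (mul_mem (mul_mem (k4 i k0) (k4 j k1)) (k4 l k2)))).1
    (k3 h1)

theorem exE [Finite G] (hG : Gen G) (m2 : Mod2) (m3 : Mod3) (h1 : Pb1Stmt.{u}) (k : Kit J φ)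
    (h : Sd J φ) (d : Fd J φ F f s) (hc : ∀ e ∈ EE, ∃ c ∈ E1, R J f e (e * c)) :
    Ex J f f0 EE := by
  obtain ⟨ε, r⟩ := onE hG m2 m3 k h d hc
  obtain ⟨-, -, -, -, -, l6, l7, -⟩ := m2.le
  obtain rfl | rfl : ε = 0 ∨ ε = 1 := H11.A16.z2 ε
  · intro e he
    simpa [q8.2.2.2.2.2.2.2.2.2.2.2.2] using r e he
  exfalso
  obtain ⟨-, -, -, -, -, -, b7, -, -, -, -, -, -, -, -, -, -, -, -, b20, b21⟩ := q7
  obtain ⟨g, -, -, hg⟩ := h.exK kk b7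
  have n := fun m => (m2.nrm m).2.1
  have g1 := hg.mono l6
  have g2 := g1.inv (n _)
  obtain ⟨K, hK⟩ := exK m2 m3 (h.em1.mono (l6.trans l7)) (g * (f * (g⁻¹ * f))) 1 l2
  refine b21 (h1 J φ h.toE0 (g * (f * (g⁻¹ * f))) l2 (fun e he => ?_) _ b20)
  suffices hh : EE ≤ K by simpa using ((hK e).1 (hh he)).2
  refine m2.gEE K fun p q => (hK _).2 ⟨q6 p q, ?_⟩
  have m1 := mul_mem (n f0 _ (q6 p q)) (zp_mem (ch (l1 1) (dl p * dl q)))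
  have m2 := n kk⁻¹ _ m1
  have := (((r _ (q6 p q)).trans (g2 _ m1)).trans (r _ m2)).trans
    (g1 _ (mul_mem (n f0 _ m2) (zp_mem _)))
  rwa [q5] at this

theorem exT [Finite G] (hG : Gen G) (m2 : Mod2) (m3 : Mod3) (h1 : Pb1Stmt.{u}) (k : Kit J φ)
    (h : Sd J φ) (d : Fd J φ F f s) (hc : ∀ e ∈ EE, ∃ c ∈ E1, R J f e (e * c)) :
    ∀ u ∈ T1, cjf u ∈ T1 ∧ R J f u (cjf u) := by
  obtain ⟨-, -, -, -, -, l6, l7, l8, -⟩ := m2.le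
  have hE := exE hG m2 m3 h1 k h d hc
  have c : ∀ a b, cjf (a * b) = cjf a * cjf b := fun a b => by unfold cjf; group
  have c' : ∀ a, cjf a⁻¹ = (cjf a)⁻¹ := fun a => by unfold cjf; group
  let K : Subgroup N2 :=
    { carrier := {u | u ∈ T1 ∧ cjf u ∈ T1 ∧ R J f u (cjf u)}
      one_mem' := ⟨one_mem _, by simp [cjf], by simp [cjf, R, h.em1.one]⟩
      mul_mem' := fun {a b} ha hb => ⟨mul_mem ha.1 hb.1, c a b ▸ mul_mem ha.2.1 hb.2.1,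
        c a b ▸ R.mul h.em1 ha.2.2 hb.2.2 ha.1 ha.2.1 hb.1 hb.2.1⟩
      inv_mem' := fun {a} ha => ⟨inv_mem ha.1, c' a ▸ inv_mem ha.2.1, by
        rw [c', R, h.em1.inv ha.1, h.em1.inv ha.2.1, ← ha.2.2]; group⟩ }
  have k1 : EE ≤ K := fun e he => ⟨l7 (l6 he), l7 (l6 ((m2.nrm f0).2.1 e he)), hE e he⟩
  have k2 : T0 ≤ K := m2.gT0 K (k1 q7.1)
    ⟨by decide +kernel, by decide +kernel, d.fD _ (by decide +kernel)⟩
    ⟨by decide +kernel, by decide +kernel, x23 m2 h d⟩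
    ⟨by decide +kernel, by decide +kernel, d.fD _ (by decide +kernel)⟩
  intro u hu
  obtain ⟨t, ht, e, he, rfl⟩ := m2.pT1 u hu
  exact (K.mul_mem (k2 ht) (k1 he)).2

theorem ff_le (m2 : Mod2) {K : Subgroup N2} (h1 : U1 ≤ K) (h2 : e34 ∈ K) (h3 : f0 ∈ K) :
    FF ≤ K := by
  have h4 : F1 ≤ K := fun u hu => (m2.iF1 u hu).elim (fun h => h1 h) fun h =>
    (K.mul_mem_cancel_left (inv_mem h2)).1 (h1 h)
  exact fun u hu => (m2.iFF u hu).elim (fun h => h4 h) fun h =>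
    (K.mul_mem_cancel_left (inv_mem h3)).1 (h4 h)

end

theorem std (hB : Base.{u}) (h1 : Pb1Stmt.{u}) : StdStmt.{u} := by
  intro G _ _ J φ h F f s d hc
  have m2 := hB.m2
  have hT := exT hB.gen m2 hB.m3 h1 (hB.kit J φ h.toKi) h d hc
  obtain ⟨-, -, l3, l4, -, l6, l7, l8, l9, -, -, -, l13, -, -, l16, -, -, -, -, l21, l22, l23, -⟩ :=
    m2.le
  obtain ⟨-, -, -, b4, -, -, -, -, -, -, -, -, -, -, b15, b16, b17, -⟩ := q7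
  obtain ⟨J', hS, hJ, hf⟩ := hB.gen.ext J T1 SE f0 f h.em1 l9 b15 b16 m2.iSE (fun u hu => (hT u hu).2)
    (by rw [d.sq f d.fF, q8.2.2.2.2.2.2.2.2.2.1, h.em1.one]) fun hf => by
      obtain ⟨t, ht, rfl⟩ := h.em1.mem.1 hf
      have lA : AA ≤ T1 := (l4.trans l3).trans l7
      refine b16 ((T1.mul_mem_cancel_left (inv_mem ht)).1 (lA (hB.m3.cAA _ fun a ha => ?_)))
      have h2 := R.uniq h.em1 (h.em1.self ht (lA ha)) (hT a (lA ha)).2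
        (mul_mem (mul_mem ht (lA ha)) (inv_mem ht)) (hT a (lA ha)).1
      calc t⁻¹ * f0 * a = t⁻¹ * cjf a * f0 := by unfold cjf; group
        _ = a * (t⁻¹ * f0) := by rw [← h2]; group
  have e0 : ∀ u ∈ T0, J' u = J u := fun u hu => hJ u (l8 hu)
  have ee : J' e34 = J e34 := hJ _ (l7 (l6 b4.1))
  refine ⟨J', h.congr m2 hJ, hS, NA_congr e0 ▸ d.sN, d.sφ, ?_, ?_⟩
  · let K : Subgroup N2 :=
      { carrier := {u | u ∈ YY ∧ ∃ v ∈ YY, s12 * pm2 u * s12⁻¹ = pm2 v ∧ R J' s u v}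
        one_mem' := ⟨one_mem _, 1, one_mem _, by simp, by simp [R, hS.one]⟩
        mul_mem' := fun {a b} ⟨ha, v, hv, a1, a2⟩ ⟨hb, v', hv', b1, b2⟩ => ⟨mul_mem ha hb, v * v',
          mul_mem hv hv', by rw [map_mul, map_mul, ← a1, ← b1]; group,
          R.mul hS a2 b2 (l23 ha) (l23 hv) (l23 hb) (l23 hv')⟩
        inv_mem' := fun {a} ⟨ha, v, hv, a1, a2⟩ => ⟨inv_mem ha, v⁻¹, inv_mem hv,
          by rw [map_inv, map_inv, ← a1]; group,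
          by rw [R, hS.inv (l23 ha), hS.inv (l23 hv), ← a2]; group⟩ }
    have k1 : XX ≤ K := fun u hu => by
      obtain ⟨v, hv, a⟩ := m2.s12m.2.1 u hu
      exact ⟨l22 hu, v, l22 hv, a, (d.sX u hu v hv a).congr (e0 u hu.1) (e0 v hv.1)⟩
    have k2 : FF ≤ K := ff_le m2 (fun u hu => k1 (l16 hu).1)
      ⟨l21 b4.2, f0, l21 b17, q9.2.2.2.2.2.1, by rw [R, ee, hf, d.fs]⟩
      ⟨l21 b17, e34, l21 b4.2, q9.2.2.2.2.2.2, by rw [R, ee, hf, d.sf]⟩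
    intro u hu v hv a
    obtain ⟨t, ht, y, hy, rfl⟩ := m2.pYY u hu
    obtain ⟨-, v', -, b1, b2⟩ := K.mul_mem (k1 ht) (k2 hy)
    rwa [pm2_inj (a.symm.trans b1)]
  · have hF := hS.mono l13
    have k1 : im J' FF ≤ F := by
      have k1 := ff_le m2 (K := (F.comap hF.hom).map FF.subtype)
        (fun u hu => ⟨⟨u, hu.2⟩, show J' u ∈ F from e0 u hu.1 ▸ d.le1 (mem_im hu), rfl⟩)
        ⟨⟨_, b4.2⟩, show J' e34 ∈ F from ee ▸ d.le2 (mem_im b4), rfl⟩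
        ⟨⟨_, b17⟩, show J' f0 ∈ F from hf ▸ d.fF, rfl⟩
      refine im_le fun u hu => ?_
      obtain ⟨v, hv, rfl⟩ := k1 hu
      exact hv
    rw [eq_of_le_of_card_ge k1 (by rw [hF.card, hB.m1.cFF, d.card]),
      im_congr fun u (hu : u ∈ U1) => e0 u hu.1]
    exact d.syl

end Cfsg.Agent.H88.KnStd
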