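import Cfsg.Agent.H18.RfSc
import Cfsg.Agent.H8.GoldTool
import Cfsg.Agent.H83.Syl

/-! Project RF: odd normal subgroups of the action on `Q / Z` have order at most three. -/

set_option autoImplicit false

namespace Cfsg.Agent.H88.RfGo

open Cfsg Subgroup Cfsg.Agent.H18.MaxOff Cfsg.Agent.H18.Rf
open scoped commutatorElement

universe u

theorem go : GoStmt.{u} := by
  intro G _ _ V z Q W hV hw h F hK hF hN ho
  set C := C1 z ⊓ NN Q with hC
  set K := C ⊓ CM Q (zpowers z) with hKd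
  have cz : ∀ c ∈ C1 z, ∀ a ∈ zpowers z, c * a * c⁻¹ = a := by
    rintro c hc _ ⟨n, rfl⟩
    have : Commute c z := mem_centralizer_singleton_iff.1 hc
    rw [(this.zpow_right n).eq, mul_inv_cancel_right]
  have nZ : ∀ c ∈ C1 z, c ∈ NN (zpowers z) := fun c hc =>
    mem_norm_of_le fun a ha => by rwa [cz c hc a ha]
  have VM : V ≤ MM V z := fun v hv =>
    ⟨le_normalizer hv, mem_centralizer_singleton_iff.2 (comm_of_sq hV hv h.zV)⟩
  have MC : MM V z ≤ C := fun m hm => ⟨hm.2, h.mq hm⟩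
  have VC := VM.trans MC
  have WV : W ≤ V := h.qv ▸ inf_le_right
  have WQ : W ≤ Q := h.qv ▸ inf_le_left
  have QK : Q ≤ K := fun x hx =>
    ⟨MC (h.qm hx), nZ _ (h.qm hx).2, fun y hy => h.xs.commutator_mem hx hy⟩
  have cQ : ∀ c ∈ C, ∀ x ∈ Q, c⁻¹ * x * c ∈ Q := fun c hc x hx =>
    (mem_normalizer_iff''.1 hc.2 x).1 hx
  have nK : ∀ c ∈ C, ∀ k ∈ K, c * k * c⁻¹ ∈ K := fun c hc k hk => by
    have h1 := C.mul_mem (C.mul_mem hc hk.1) (C.inv_mem hc)
    refine ⟨h1, nZ _ h1.1, fun x hx => ?_⟩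
    have h2 := hk.2.2 _ (cQ c hc x hx)
    rw [← cz c hc.1 _ h2] at h2
    simpa [mul_assoc] using h2
  have : (K.subgroupOf C).Normal := ⟨fun k hk c => nK c c.2 k hk⟩
  let π := QuotientGroup.mk' (K.subgroupOf C)
  have k1 : ∀ x : C, π x = 1 ↔ (x : G) ∈ K := fun x => QuotientGroup.eq_one_iff x
  have kc : ∀ x y : C, π x * π y = π y * π x ↔ (x : G) * y * (x : G)⁻¹ * (y : G)⁻¹ ∈ K :=
    fun x y => by
      rw [← mul_inv_eq_one, mul_inv_rev, ← mul_assoc, ← map_inv, ← map_inv, ← map_mul, ← map_mul,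
        ← map_mul, k1]
      rfl
  have cF : Nat.card ((F.subgroupOf C).map π) = K.relIndex F := by
    rw [← relIndex_ker, QuotientGroup.ker_mk', relIndex_subgroupOf hF]
  let g := π.comp (inclusion VC)
  rw [← cF] at ho ⊢
  have nF : ∀ c : C, π c ∈ NN ((F.subgroupOf C).map π) := fun c =>
    le_normalizer_map π (mem_map_of_mem π (le_normalizer_comap C.subtype (hN c.2)))
  have gc : ∀ a b : V, g a * g b = g b * g a := fun a b => by
    rw [← map_mul, ← map_mul]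
    exact congrArg g (Subtype.ext (comm_of_sq hV a.2 b.2))
  have s1 : ⁅(F.subgroupOf C).map π, g.range⁆ ≤ ⊥ := by
    refine H8.GD.Tool.comm_le_of_hyperplanes ⟨⟨⟨?_⟩⟩, ?_⟩
      (fun p _ hd (e : p = 2) => ho.not_two_dvd_nat (e ▸ hd)) ?_ fun B hB hi => ?_
    · rintro ⟨_, a, rfl⟩ ⟨_, b, rfl⟩
      exact Subtype.ext (gc a b)
    · rintro _ ⟨a, rfl⟩
      rw [← map_pow, show a ^ 2 = 1 from Subtype.ext ((sq _).trans (hV a a.2)), map_one]
    · rintro _ ⟨a, rfl⟩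
      exact nF _
    rw [commutator_le]
    rintro _ ⟨⟨f, hf, rfl⟩, hc⟩ _ ⟨v, rfl⟩
    have hy := h.hyp ((B.comap g).map V.subtype)
      (fun w hw => ⟨⟨w, WV hw⟩, by
        rw [SetLike.mem_coe, mem_comap, show g ⟨w, WV hw⟩ = 1 from (k1 _).2 (QK (WQ hw))]
        exact one_mem _, rfl⟩) (map_subtype_le _) (by
        rw [card_map_of_injective V.subtype_injective, ← hi, ← index_comap, index_mul_card])
    have nW : (f : G) ∈ NN W := mem_norm_of_le fun w hw => by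
      have h1 := (mem_normalizer_iff.1 f.2.2 w).1 (WQ hw)
      refine hy ⟨h1, nZ _ (h.qm h1).2, ?_⟩
      rintro _ ⟨a, ha, rfl⟩
      have h2 := inv_mem ((((kc f⁻¹ (inclusion VC a)).1 (by
        rw [map_inv]; exact (Commute.inv_right (hc _ ha)).symm)).2.2 w (WQ hw)))
      rw [← cz f f.2.1 _ h2] at h2
      have e : (a : G)⁻¹ * w⁻¹ * a = w⁻¹ := by
        rw [mul_assoc, comm_of_sq hV (inv_mem (WV hw)) a.2, inv_mul_cancel_left]
      convert h2 using 1
      calc _ = f * w * (f : G)⁻¹ * a * f * w⁻¹ * (f : G)⁻¹ * (a : G)⁻¹ := by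
            rw [coe_subtype]; group
        _ = f * w * (f : G)⁻¹ * a * f * ((a : G)⁻¹ * w⁻¹ * a) * (f : G)⁻¹ * (a : G)⁻¹ := by rw [e]
        _ = _ := by rw [coe_inv, coe_inclusion]; group
    have vS : ∀ c ∈ C, c ∈ NN W → c * v * c⁻¹ ∈ CC W ⊓ CM Q W := fun c h1 h2 => by
      have h3 : c * v * c⁻¹ ∈ CC W := fun w hw => by
        have := comm_of_sq hV (WV ((mem_normalizer_iff''.1 h2 w).1 hw)) v.2
        calc _ = c * (c⁻¹ * w * c * v) * c⁻¹ := by group
          _ = _ := by rw [this]; group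
      refine ⟨h3, centralizer_le_normalizer _ h3, fun x hx => ?_⟩
      simpa [mul_assoc] using (mem_normalizer_iff.1 h2 _).1 (h.vq v v.2 _ (cQ c h1 x hx))
    have hs := mul_mem (vS f f.2 nW) (inv_mem (vS 1 (one_mem _) (one_mem _)))
    rw [one_mul, inv_one, mul_one] at hs
    let c : C := f * inclusion VC v * f⁻¹ * (inclusion VC v)⁻¹
    have c2 : π c ^ 2 = 1 := by
      rw [← map_pow, k1]
      refine ⟨(c ^ 2).2, nZ _ (c ^ 2).2.1, fun x hx => ?_⟩
      have h1 : (c : G) * x * (c : G)⁻¹ * x⁻¹ ∈ W := hs.2.2 x hx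
      have h2 : _ * (c : G) = c * _ := hs.1 _ h1
      have h3 := hV _ (WV h1)
      generalize hw : (c : G) * x * (c : G)⁻¹ * x⁻¹ = w at h2 h3
      have : ((c ^ 2 : C) : G) * x * ((c ^ 2 : C) : G)⁻¹ * x⁻¹ = c * w * (c : G)⁻¹ * w := by
        rw [← hw, coe_pow, sq]; group
      rw [this, ← h2, mul_inv_cancel_right, h3]
      exact one_mem _
    have e : ⁅π f, g v⁆ = π c := by simp [c, g, commutatorElement_def]
    have cm : π c ∈ (F.subgroupOf C).map π := by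
      have h1 := (mem_normalizer_iff.1 (nF (inclusion VC v)) _).1 (inv_mem (mem_map_of_mem π hf))
      simpa [c, mul_assoc] using mul_mem (mem_map_of_mem π hf) h1
    have o1 := orderOf_dvd_of_pow_eq_one c2
    have o2 : orderOf (π c) ∣ _ := orderOf_dvd_natCard _ cm
    rw [e, mem_bot, ← orderOf_eq_one_iff]
    exact Nat.eq_one_of_dvd_coprimes (Nat.coprime_two_left.2 ho) o1 o2
  have s2 : ∀ f : C, (f : G) ∈ F → ∀ v : V, π f * g v = g v * π f := fun f hf v =>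
    commutatorElement_eq_one_iff_mul_comm.1
      (s1 (commutator_mem_commutator (mem_map_of_mem π hf) ⟨v, rfl⟩))
  have VK : V ≤ NN K := fun v hv => mem_norm_of_le (nK v (VC hv))
  have V2 := pg_of_sq hV
  have s3 : (F.subgroupOf C).map π ≤ ((MM V z ⊓ CM V W).subgroupOf C).map π := by
    rintro _ ⟨f, hf, rfl⟩
    obtain ⟨T, hT, VT⟩ := H83.exists_isSylowIn_ge (le_sup_left : V ≤ V ⊔ K) V2
    obtain ⟨k, hk, e⟩ := hT.exists_conj_le (P := cj (f : G) V) (by
      rintro _ ⟨v, hv, rfl⟩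
      simpa using mul_mem (mem_sup_right ((kc f (inclusion VC ⟨v, hv⟩)).1 (s2 f hf _)))
        (mem_sup_left hv : v ∈ V ⊔ K)) (V2.map _)
    have h1 : cj (k * f) V = V :=
      hw _ (cj_cj k (f : G) V ▸ e.trans (hw.le_norm hT.isPGroup VT))
    obtain ⟨v, hv, κ, hκ, rfl⟩ := mem_sup_prod VK hk
    let m : C := inclusion VC ⟨v, hv⟩ * ⟨κ, hκ.1⟩ * f
    have e1 : π m = g ⟨v, hv⟩ * π f := by
      rw [map_mul, map_mul, (k1 ⟨κ, hκ.1⟩).2 hκ, mul_one]; rfl
    have mM : (m : G) ∈ MM V z := ⟨mem_norm_iff.2 h1, m.2.1⟩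
    have D : ∀ x : C, (x : G) ∈ MM V z → (∀ a : V, π x * g a = g a * π x) →
        x ∈ (MM V z ⊓ CM V W).subgroupOf C := fun x hx hc => by
      refine ⟨hx, mem_norm_of_le fun w hw => h.qv ▸ ⟨(mem_normalizer_iff.1 x.2.2 w).1 (WQ hw),
        (mem_normalizer_iff.1 hx.1 w).1 (WV hw)⟩, fun a ha => ?_⟩
      have h2 := (kc x (inclusion VC ⟨a, ha⟩)).1 (hc _)
      have h3 := mul_mem ((mem_normalizer_iff.1 hx.1 a).1 ha) (inv_mem ha)
      exact h.qv ▸ ⟨h.cq ⟨VM h3, h2.2⟩, h3⟩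
    have := mul_mem (inv_mem (mem_map_of_mem π (D (inclusion VC ⟨v, hv⟩) (VM hv) (gc _))))
      (mem_map_of_mem π (D m mM fun a => by
        rw [e1, mul_assoc, s2 f hf, ← mul_assoc, gc, mul_assoc]))
    rw [e1] at this
    exact inv_mul_cancel_left (g ⟨v, hv⟩) (π f) ▸ this
  obtain ⟨k, hk⟩ := h.odd
  have := (card_dvd_of_le s3).trans ((card_map_dvd _ π).trans
    ((Nat.card_congr (subgroupOfEquivOfLe (inf_le_left.trans MC)).toEquiv).dvd.trans hk))
  exact Nat.le_of_dvd (by decide)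
    (((Nat.coprime_two_right.2 ho).pow_right k).dvd_of_dvd_mul_right this)

end Cfsg.Agent.H88.RfGo
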