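import Cfsg.Agent.H37.FkKit

/-! Sylow `2`-subgroups of products of symmetric groups. -/

set_option autoImplicit false

namespace Cfsg.Agent.H88.Sym

open Cfsg Subgroup Equiv Cfsg.Agent.H37.FK
open Cfsg.Agent.H98 (SylIn)

universe u v

instance : Fact (Nat.Prime 2) := ⟨Nat.prime_two⟩

section basic

variable {ι : Type u} [Fintype ι] [DecidableEq ι] {κ : Type v} {c : ι → κ}
  {P : Subgroup (Perm ι)}

omit [Fintype ι] in
theorem swap_col {i j : ι} (h : c i = c j) : swap i j ∈ colStab c := fun k => by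
  rw [swap_apply_def]
  split_ifs with h1 h2
  exacts [h1 ▸ h.symm, h2 ▸ h, rfl]

omit [Fintype ι] in
theorem cj_swap (g : Perm ι) (i j : ι) : g * swap i j * g⁻¹ = swap (g i) (g j) :=
  (swap_apply_apply g i j).symm

theorem three (h : SylIn 2 P (colStab c)) {i j : ι} (ne : i ≠ j) (e : c i = c j) :
    ∃ a b, a ≠ b ∧ c a = c i ∧ swap a b ∈ P := by
  obtain ⟨g, hg, le⟩ := h.exists_conj_le (zpowers_le.2 (swap_col e))
    (Two.of_sq (swap_mul_self i j)).zpowers
  exact ⟨g i, g j, g.injective.ne ne, hg i,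
    cj_swap g i j ▸ le (H98.conj_mem_map_conj (mem_zpowers _))⟩

theorem four (h : SylIn 2 P (colStab c)) {i : ι} (hi : ∃ x ∈ P, x i ≠ i) :
    ∃ j, j ≠ i ∧ swap i j ∈ P := by
  obtain ⟨x, hx, ne⟩ := hi
  let c' : ι → Set ι := fun k => {l | ∃ y ∈ P, y k = l}
  have inv : ∀ y ∈ P, ∀ k, c' (y k) = c' k := fun y hy k => Set.ext fun l =>
    ⟨fun ⟨w, hw, e⟩ => ⟨w * y, mul_mem hw hy, e⟩,
      fun ⟨w, hw, e⟩ => ⟨w * y⁻¹, mul_mem hw (inv_mem hy), by simpa using e⟩⟩
  have own : ∀ k, k ∈ c' k := fun k => ⟨1, one_mem _, rfl⟩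
  have h' : SylIn 2 P (colStab c') := h.mono (fun y hy => inv y hy) fun y hy k => by
    obtain ⟨w, hw, e⟩ : y k ∈ c' k := hy k ▸ own _
    rw [← e]; exact h.le hw k
  obtain ⟨a, b, ab, e, m⟩ := three h' ne.symm (inv x hx i).symm
  obtain ⟨y, hy, rfl⟩ : i ∈ c' a := e ▸ own i
  exact ⟨y b, y.injective.ne ab.symm, cj_swap y a b ▸ mul_mem (mul_mem hy m) (inv_mem hy)⟩

omit [Fintype ι] in
theorem swap_uniq (hP : IsPGroup 2 P) {i j k : ι} (hj : j ≠ i) (hk : k ≠ i) (h1 : swap i j ∈ P)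
    (h2 : swap i k ∈ P) : j = k := by
  by_contra ne
  have h3 : (swap i j * swap i k) ^ 3 = 1 := by
    ext l
    simp only [pow_succ, pow_zero, one_mul, Perm.mul_apply, Perm.one_apply, swap_apply_def]
    grind
  have := (Two.of_mem hP (mul_mem h1 h2)).eq_one
    (Odd.of_dvd_nat (by decide : Odd 3) (orderOf_dvd_of_pow_eq_one h3))
  have := congrArg (fun g : Perm ι => g k) this
  simp only [Perm.mul_apply, swap_apply_right, swap_apply_left, Perm.one_apply] at this
  exact ne this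

theorem exists_sigma (h : SylIn 2 P (colStab c)) : ∃ σ : Perm ι, (∀ i, σ (σ i) = i) ∧
    (∀ i, swap i (σ i) ∈ P) ∧ (∀ i j, swap i j ∈ P → j ≠ i → j = σ i) := by
  classical
  let s : ι → ι := fun i => if e : ∃ j, j ≠ i ∧ swap i j ∈ P then e.choose else i
  have s1 : ∀ i, swap i (s i) ∈ P := fun i => by
    simp only [s]
    split_ifs with e
    · exact e.choose_spec.2
    · rw [swap_self]; exact one_mem P
  have s2 : ∀ i j, swap i j ∈ P → j ≠ i → j = s i := fun i j h1 h2 => by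
    have e : ∃ j, j ≠ i ∧ swap i j ∈ P := ⟨j, h2, h1⟩
    simp only [s, dif_pos e]
    exact swap_uniq h.isPGroup h2 e.choose_spec.1 h1 e.choose_spec.2
  have s3 : ∀ i, s (s i) = i := fun i => by
    by_cases e : i = s i
    · rw [← e, ← e]
    · exact (s2 _ _ (swap_comm i _ ▸ s1 i) e).symm
  exact ⟨Function.Involutive.toPerm s s3, s3, s1, s2⟩

end basic

section block

variable {ι : Type u} (σ : Perm ι) (h2 : ∀ i, σ (σ i) = i)

/-- The orbits of an involution. -/
def st : Setoid ι where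
  r i j := j = i ∨ j = σ i
  iseqv := ⟨fun _ => .inl rfl, fun h => h.imp Eq.symm fun e => by rw [e, h2],
    by rintro a b c (rfl | rfl) (rfl | rfl) <;> simp [h2]⟩

theorem mk_eq {i j : ι} : Quotient.mk (st σ h2) i = Quotient.mk _ j ↔ j = i ∨ j = σ i :=
  Quotient.eq

theorem com {x : Perm ι} (hx : x ∈ centralizer {σ}) (i : ι) : x (σ i) = σ (x i) :=
  congrArg (fun g : Perm ι => g i) (mem_centralizer_singleton_iff.1 hx)

/-- The map induced on the orbits. -/
def ind (x : centralizer ({σ} : Set (Perm ι))) : Quotient (st σ h2) → Quotient (st σ h2) :=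
  Quotient.map x.1 fun a b h => h.imp (congrArg _) fun e => by rw [e, com σ x.2]

/-- The action on the orbits. -/
def act : centralizer ({σ} : Set (Perm ι)) →* Perm (Quotient (st σ h2)) where
  toFun x := ⟨ind σ h2 x, ind σ h2 x⁻¹, fun q => Quotient.inductionOn q fun i =>
    congrArg (Quotient.mk _) (x.1.symm_apply_apply i),
    fun q => Quotient.inductionOn q fun i => congrArg (Quotient.mk _) (x.1.apply_symm_apply i)⟩
  map_one' := Equiv.ext fun q => Quotient.inductionOn q fun _ => rfl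
  map_mul' _ _ := Equiv.ext fun q => Quotient.inductionOn q fun _ => rfl

theorem act_mk (x : centralizer ({σ} : Set (Perm ι))) (i : ι) :
    act σ h2 x (Quotient.mk _ i) = Quotient.mk _ (x.1 i) := rfl

theorem out_mk (i : ι) : i = (Quotient.mk (st σ h2) i).out ∨ i = σ (Quotient.mk (st σ h2) i).out :=
  (mk_eq σ h2).1 (Quotient.out_eq _)

open Classical in
/-- The lift of a map of the orbits. -/
noncomputable def lf (τ : Quotient (st σ h2) → Quotient (st σ h2)) (i : ι) : ι :=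
  if i = (Quotient.mk (st σ h2) i).out then (τ (Quotient.mk _ i)).out
    else σ (τ (Quotient.mk _ i)).out

theorem mk_sig (i : ι) : Quotient.mk (st σ h2) (σ i) = Quotient.mk _ i :=
  ((mk_eq σ h2).2 (.inr rfl)).symm

theorem lf_out (τ : Quotient (st σ h2) → Quotient (st σ h2)) (q : Quotient (st σ h2)) :
    lf σ h2 τ q.out = (τ q).out := by
  rw [lf, Quotient.out_eq, if_pos rfl]

theorem lf_sig {τ : Quotient (st σ h2) → Quotient (st σ h2)}
    (h : ∀ q, σ (τ q).out = (τ q).out ↔ σ q.out = q.out) (q : Quotient (st σ h2)) :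
    lf σ h2 τ (σ q.out) = σ (τ q).out := by
  rw [lf, mk_sig, Quotient.out_eq]
  split_ifs with e
  exacts [((h q).2 e).symm, rfl]

theorem cases {p : ι → Prop} (h : ∀ q : Quotient (st σ h2), p q.out ∧ p (σ q.out)) (i : ι) : p i := by
  rcases out_mk σ h2 i with e | e <;> rw [e]
  exacts [(h _).1, (h _).2]

theorem exists_lift {τ : Perm (Quotient (st σ h2))} (t2 : τ * τ = 1)
    (h : ∀ q, σ (τ q).out = (τ q).out ↔ σ q.out = q.out) :
    ∃ x : centralizer ({σ} : Set (Perm ι)), x * x = 1 ∧ act σ h2 x = τ := by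
  have tt : ∀ q, τ (τ q) = q := fun q => congrArg (fun g : Perm _ => g q) t2
  have i2 : Function.Involutive (lf σ h2 τ) := cases σ h2 fun q =>
    ⟨by rw [lf_out, lf_out, tt], by rw [lf_sig σ h2 h, lf_sig σ h2 h, tt]⟩
  refine ⟨⟨i2.toPerm, mem_centralizer_singleton_iff.2 (Equiv.ext (cases σ h2 fun q => ⟨?_, ?_⟩))⟩,
    Subtype.ext (Equiv.ext i2), Equiv.ext fun q => ?_⟩
  · change lf σ h2 τ (σ _) = σ (lf σ h2 τ _)
    rw [lf_sig σ h2 h, lf_out]
  · change lf σ h2 τ (σ _) = σ (lf σ h2 τ _)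
    rw [h2, lf_sig σ h2 h, lf_out, h2]
  · conv_lhs => rw [← Quotient.out_eq q, act_mk]
    change Quotient.mk _ (lf σ h2 τ _) = _
    rw [lf_out, Quotient.out_eq]

theorem exists_lift' (τ : Perm (Quotient (st σ h2)))
    (h : ∀ q, σ (τ q).out = (τ q).out ↔ σ q.out = q.out) :
    ∃ x : centralizer ({σ} : Set (Perm ι)), act σ h2 x = τ := by
  have h' : ∀ q, σ (τ.symm q).out = (τ.symm q).out ↔ σ q.out = q.out := fun q => by
    rw [← h, τ.apply_symm_apply]
  refine ⟨⟨⟨lf σ h2 τ, lf σ h2 τ.symm, cases σ h2 fun q => ⟨?_, ?_⟩, cases σ h2 fun q => ⟨?_, ?_⟩⟩,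
    mem_centralizer_singleton_iff.2 (Equiv.ext (cases σ h2 fun q => ⟨?_, ?_⟩))⟩,
    Equiv.ext fun q => ?_⟩
  · rw [lf_out, lf_out, τ.symm_apply_apply]
  · rw [lf_sig σ h2 h, lf_sig σ h2 h', τ.symm_apply_apply]
  · rw [lf_out, lf_out, τ.apply_symm_apply]
  · rw [lf_sig σ h2 h', lf_sig σ h2 h, τ.apply_symm_apply]
  · change lf σ h2 τ (σ _) = σ (lf σ h2 τ _)
    rw [lf_sig σ h2 h, lf_out]
  · change lf σ h2 τ (σ _) = σ (lf σ h2 τ _)
    rw [h2, lf_sig σ h2 h, lf_out, h2]
  · conv_lhs => rw [← Quotient.out_eq q, act_mk]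
    change Quotient.mk _ (lf σ h2 τ _) = _
    rw [lf_out, Quotient.out_eq]

include h2 in
theorem ker_mem [Fintype ι] [DecidableEq ι] {I : Subgroup (Perm ι)} (hI : ∀ i, swap i (σ i) ∈ I)
    (x : Perm ι) (hx : ∀ i, x i = i ∨ x i = σ i) : x ∈ I := by
  induction hn : x.support.card using Nat.strong_induction_on generalizing x with
  | _ n ih =>
  by_cases e : x = 1
  · exact e ▸ one_mem I
  obtain ⟨i, hi⟩ : ∃ i, x i ≠ i := not_forall.1 fun h => e (Equiv.ext h)
  have e1 : x i = σ i := (hx i).resolve_left hi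
  have e2 : x (σ i) = i := by
    rcases hx (σ i) with h | h
    · exact absurd (x.injective (h.trans e1.symm)) (e1 ▸ hi)
    · rw [h, h2]
  have := ih _ (hn ▸ Perm.card_support_swap_mul hi) (swap i (x i) * x) (fun j => ?_) rfl
  · rwa [e1, mul_mem_cancel_left (hI i)] at this
  rw [Perm.mul_apply, e1]
  by_cases a : j = i
  · left; rw [a, e1, swap_apply_right]
  by_cases b : j = σ i
  · left; rw [b, e2, swap_apply_left]
  rw [swap_apply_of_ne_of_ne (fun h => b (x.injective (h.trans e2.symm)))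
    fun h => a (x.injective (h.trans e1.symm))]
  exact hx j

end block

theorem main (n : ℕ) : ∀ (ι : Type u) [Fintype ι] [DecidableEq ι] (κ : Type v) (c : ι → κ)
    (P : Subgroup (Perm ι)), Fintype.card ι = n → SylIn 2 P (colStab c) →
    P ≤ closure {π | π ∈ P ∧ π * π = 1} ∧
    ∀ π : Perm ι, Odd (orderOf π) → (∀ x ∈ P, π * x * π⁻¹ ∈ P) → π ∈ colStab c → π = 1 := by
  induction n using Nat.strong_induction_on with
  | _ n ih =>
  intro ι _ _ κ c P hn h
  classical
  obtain ⟨σ, h2, s1, s2⟩ := exists_sigma h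
  have nc : ∀ x : Perm ι, (∀ y ∈ P, x * y * x⁻¹ ∈ P) → x ∈ centralizer ({σ} : Set (Perm ι)) :=
    fun x hx => by
      have hx' : x ∈ normalizer (P : Set (Perm ι)) := mem_normalizer_fintype hx
      refine mem_centralizer_singleton_iff.2 (Equiv.ext fun i => ?_)
      change x (σ i) = σ (x i)
      by_cases e : σ i = i
      · rw [e]
        by_contra ne
        have := (mem_normalizer_iff.1 (inv_mem hx') _).1 (s1 (x i))
        rw [cj_swap, show x⁻¹ (x i) = i from x.symm_apply_apply i] at this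
        have e' := s2 _ _ this fun e' => ne (Perm.inv_eq_iff_eq.1 e').symm
        exact ne (Perm.inv_eq_iff_eq.1 (e'.trans e)).symm
      · exact s2 _ _ (cj_swap x _ _ ▸ hx _ (s1 i)) (x.injective.ne e)
  have PC : P ≤ centralizer ({σ} : Set (Perm ι)) := fun x hx =>
    nc x fun y hy => mul_mem (mul_mem hx hy) (inv_mem hx)
  by_cases triv : ∀ i, σ i = i
  · refine ⟨fun x hx => subset_closure ⟨hx, ?_⟩, fun π _ _ hπ => Equiv.ext fun i => ?_⟩
    · suffices x = 1 by rw [this, mul_one]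
      refine Equiv.ext fun i => by_contra fun ne => ?_
      obtain ⟨j, j1, j2⟩ := four h ⟨x, hx, ne⟩
      exact j1 ((s2 _ _ j2 j1).trans (triv i))
    · by_contra ne
      obtain ⟨a, b, ab, -, m⟩ := three h ne (hπ i)
      exact ab ((s2 _ _ m ab.symm).trans (triv a)).symm
  have cs : ∀ i, c (σ i) = c i := fun i => by simpa using h.le (s1 i) i
  let c' : Quotient (st σ h2) → κ × Prop := fun q => (c q.out, σ q.out = q.out)
  have cm : ∀ i, c' (Quotient.mk _ i) = (c i, σ i = i) := fun i => by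
    rcases out_mk σ h2 i with e | e <;> conv_rhs => rw [e]
    rw [cs, σ.injective.eq_iff]
  let H := centralizer ({σ} : Set (Perm ι))
  let D := (colStab c).subgroupOf H
  have dm : ∀ x : H, x ∈ D ↔ act σ h2 x ∈ colStab c' := fun x =>
    ⟨fun hx q => Quotient.inductionOn q fun i => by
      rw [act_mk, cm, cm, show c (x.1 i) = c i from hx i, ← com σ x.2, x.1.injective.eq_iff], fun hx i => by
      have := hx (Quotient.mk _ i)
      rw [act_mk, cm, cm] at this
      exact congrArg Prod.fst this⟩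
  have fx : ∀ τ ∈ colStab c', ∀ q, σ (τ q).out = (τ q).out ↔ σ q.out = q.out :=
    fun τ hτ q => iff_of_eq (congrArg Prod.snd (hτ q))
  have e1 : D.map (act σ h2) = colStab c' := le_antisymm
    (by rintro _ ⟨x, hx, rfl⟩; exact (dm x).1 hx) fun τ hτ => by
      obtain ⟨x, rfl⟩ := exists_lift' σ h2 τ (fx τ hτ)
      exact ⟨x, (dm x).2 hτ, rfl⟩
  have h1 : SylIn 2 (P.subgroupOf H) D := SylIn.of_map_of_injective H.subtype H.subtype_injective (by
    rw [subgroupOf_map_subtype, subgroupOf_map_subtype, inf_of_le_left PC]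
    exact h.mono (le_inf h.le PC) inf_le_left)
  have h3 := h1.map (act σ h2)
  rw [e1] at h3
  have := Fintype.ofFinite (Quotient (st σ h2))
  have lt : Fintype.card (Quotient (st σ h2)) < n := by
    push Not at triv
    obtain ⟨i, hi⟩ := triv
    exact hn ▸ Fintype.card_lt_of_surjective_not_injective _ Quotient.mk_surjective
      fun inj => hi (inj (mk_sig σ h2 i))
  obtain ⟨k1, k2⟩ := ih _ lt _ _ c' _ rfl h3
  have kr : ∀ x : H, act σ h2 x = 1 → ∀ i, x.1 i = i ∨ x.1 i = σ i := fun x hx i =>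
    (mk_eq σ h2).1 (by rw [← act_mk, hx]; rfl)
  have kP : ∀ x : H, act σ h2 x = 1 → x.1 ∈ P := fun x hx => ker_mem σ h2 s1 _ (kr x hx)
  have kI : ∀ x : H, act σ h2 x = 1 → x.1 ∈ closure {π | π ∈ P ∧ π * π = 1} := fun x hx =>
    ker_mem σ h2 (fun i => Subgroup.subset_closure (by exact ⟨s1 i, swap_mul_self _ _⟩)) _ (kr x hx)
  refine ⟨fun x hx => ?_, fun π ho hπ hc => ?_⟩
  · have : closure {π | π ∈ (P.subgroupOf H).map (act σ h2) ∧ π * π = 1} ≤
        ((closure {π | π ∈ P ∧ π * π = 1}).subgroupOf H).map (act σ h2) :=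
      (Subgroup.closure_le _).2 fun τ hτ => by
        obtain ⟨hτ, t2⟩ := hτ
        obtain ⟨y, y2, rfl⟩ := exists_lift σ h2 t2 (fx τ (h3.le hτ))
        obtain ⟨w, hw, e⟩ := hτ
        have := kP (w⁻¹ * y) (by rw [map_mul, map_inv, e, inv_mul_cancel])
        exact ⟨y, subset_closure ⟨(mul_mem_cancel_left (inv_mem hw)).1 this,
          congrArg Subtype.val y2⟩, rfl⟩
    obtain ⟨y, hy, e⟩ := this (k1 ⟨⟨x, PC hx⟩, hx, rfl⟩)
    exact (mul_mem_cancel_left (inv_mem hy)).1
      (kI (y⁻¹ * ⟨x, PC hx⟩) (by rw [map_mul, map_inv, e, inv_mul_cancel]))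
  · let y : H := ⟨π, nc π hπ⟩
    have := k2 (act σ h2 y) (ho.of_dvd_nat ((orderOf_map_dvd _ _).trans (orderOf_coe y).symm.dvd))
      (by
        rintro _ ⟨w, hw, rfl⟩
        exact ⟨y * w * y⁻¹, hπ _ hw, by simp⟩) ((dm y).1 hc)
    exact (Two.of_mem h.isPGroup (kP y this)).eq_one ho

/-- **SYM** -/
theorem sym : SymStmt.{u, v} := fun ι _ _ κ c P h =>
  ⟨(main _ ι κ c P rfl h).1, (main _ ι κ c P rfl h).2, fun _ _ => three h, fun _ => four h⟩

end Cfsg.Agent.H88.Sym
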