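import Cfsg.Agent.H37.FkKit

/-! Quaternion-like subgroups of a `2`-group commute. -/

set_option autoImplicit false

namespace Cfsg.Agent.H88.Te

open Cfsg Subgroup Cfsg.Agent.H37.FK
open Cfsg.Agent.H98 (mem_map_conj conj_mem_map_conj map_conj_map_conj map_conj_one
  map_conj_eq_iff_mem_normalizer)

universe u

variable {K : Type u} [Group K]

/-- the conjugate -/
abbrev cj (s : K) (Q : Subgroup K) : Subgroup K := Q.map (MulAut.conj s).toMonoidHom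

/-- elementwise commuting -/
def Cm (Q R : Subgroup K) : Prop := ∀ a ∈ Q, ∀ b ∈ R, a * b = b * a

theorem Cm.symm {Q R : Subgroup K} (h : Cm Q R) : Cm R Q := fun a ha b hb => (h b hb a ha).symm

theorem cn {Q : Subgroup K} {g x : K} (hg : g ∈ normalizer (Q : Set K)) (hx : x ∈ Q) :
    g * x * g⁻¹ ∈ Q := (mem_normalizer_iff.1 hg x).1 hx

theorem exists_inv {x : K} (h : Two x) (h1 : x ≠ 1) : ∃ n : ℕ, x ^ n ≠ 1 ∧ x ^ n * x ^ n = 1 := by
  obtain ⟨k, hk⟩ := h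
  induction k with
  | zero => exact absurd (by simpa using hk) h1
  | succ k ih =>
    by_cases e : x ^ 2 ^ k = 1
    · exact ih e
    · exact ⟨2 ^ k, e, by rw [← pow_add, ← two_mul, ← pow_succ', hk]⟩

theorem trick {Q R : Subgroup K} {y : K} (hn : Q ≤ normalizer (R : Set K))
    (h0 : ∀ x ∈ R, x ∈ Q → x = 1) (hy : y ∈ R) (hc : Cm Q (cj y Q)) : Cm Q Q := by
  intro v hv w hw
  have c : ∀ a ∈ Q, y * w * y⁻¹ * a = a * (y * w * y⁻¹) := fun a ha =>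
    (hc a ha _ (conj_mem_map_conj hw)).symm
  have qR : y * w * y⁻¹ * w⁻¹ ∈ R := by
    simpa only [mul_assoc] using mul_mem hy (cn (hn hw) (inv_mem hy))
  have e : y * w * y⁻¹ * w⁻¹ * (v * (y * w * y⁻¹ * w⁻¹)⁻¹ * v⁻¹) = w⁻¹ * v * w * v⁻¹ := by
    have := c _ (mul_mem (mul_mem (inv_mem hw) hv) hw)
    calc _ = y * w * y⁻¹ * (w⁻¹ * v * w) * (y * w * y⁻¹)⁻¹ * v⁻¹ := by group
      _ = _ := by rw [this]; group
  have := h0 _ (mul_mem qR (cn (hn hv) (inv_mem qR)))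
    (e ▸ mul_mem (mul_mem (mul_mem (inv_mem hw) hv) hw) (inv_mem hv))
  rw [e, mul_inv_eq_one, mul_assoc, inv_mul_eq_iff_eq_mul] at this
  exact this

/-- The hypotheses. -/
structure Hy (S : Subgroup K) (M : Set (Subgroup K)) (z : Subgroup K → K) : Prop where
  two : IsPGroup 2 S
  le : ∀ Q ∈ M, Q ≤ S
  na : ∀ Q ∈ M, ∃ a ∈ Q, ∃ b ∈ Q, a * b ≠ b * a
  zz : ∀ Q ∈ M, z Q ∈ Q ∧ z Q ≠ 1 ∧ z Q * z Q = 1 ∧ ∀ x ∈ Q, x * x = 1 → x = 1 ∨ x = z Q
  cj : ∀ Q ∈ M, ∀ s ∈ S, cj s Q ∈ M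
  nm : ∀ Q ∈ M, ∀ s ∈ S, s * z Q = z Q * s → s ∈ normalizer (Q : Set K)
  inj : ∀ Q ∈ M, ∀ Q' ∈ M, z Q = z Q' → Q = Q'

namespace Hy

variable {S : Subgroup K} {M : Set (Subgroup K)} {z : Subgroup K → K} (h : Hy S M z)
  {Q Q' R : Subgroup K}
include h

theorem nab (hQ : Q ∈ M) : ¬ Cm Q Q := fun c => by
  obtain ⟨a, ha, b, hb, n⟩ := h.na Q hQ
  exact n (c a ha b hb)

theorem zi (hQ : Q ∈ M) : (z Q)⁻¹ = z Q := inv_eq_of_mul_eq_one_right (h.zz Q hQ).2.2.1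

theorem eq_z (hQ : Q ∈ M) {x : K} (hx : x ∈ Q) (h1 : x ≠ 1) (h2 : x * x = 1) : x = z Q :=
  ((h.zz Q hQ).2.2.2 x hx h2).resolve_left h1

theorem z_cj (hQ : Q ∈ M) {s : K} (hs : s ∈ S) : z (Te.cj s Q) = s * z Q * s⁻¹ :=
  (h.eq_z (h.cj Q hQ s hs) (conj_mem_map_conj (h.zz Q hQ).1)
    (by simpa using (h.zz Q hQ).2.1) (by rw [conj_mul, (h.zz Q hQ).2.2.1]; group)).symm

theorem z_fix (hQ : Q ∈ M) {s : K} (hs : s ∈ normalizer (Q : Set K)) : s * z Q = z Q * s :=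
  mul_inv_eq_iff_eq_mul.1 (h.eq_z hQ (cn hs (h.zz Q hQ).1)
    (by simpa using (h.zz Q hQ).2.1) (by rw [conj_mul, (h.zz Q hQ).2.2.1]; group))

theorem triv (hQ : Q ∈ M) (hz : z Q ∉ R) {x : K} (hR : x ∈ R) (hx : x ∈ Q) : x = 1 := by
  by_contra h1
  obtain ⟨n, n1, n2⟩ := exists_inv (Two.of_mem h.two (h.le Q hQ hx)) h1
  exact hz (h.eq_z hQ (pow_mem hx n) n1 n2 ▸ pow_mem hR n)

theorem z_not (hQ : Q ∈ M) (hQ' : Q' ∈ M) (ne : Q ≠ Q') : z Q' ∉ Q := fun e =>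
  ne (h.inj _ hQ _ hQ' (h.eq_z hQ e (h.zz Q' hQ').2.1 (h.zz Q' hQ').2.2.1).symm)

theorem mu (hQ : Q ∈ M) (hQ' : Q' ∈ M) (ne : Q ≠ Q') (h1 : Q ≤ normalizer (Q' : Set K))
    (h2 : Q' ≤ normalizer (Q : Set K)) : Cm Q Q' := fun a ha b hb => by
  have := h.triv hQ' (h.z_not hQ hQ' ne) (x := a * b * a⁻¹ * b⁻¹)
    (by simpa only [mul_assoc] using mul_mem ha (cn (h2 hb) (inv_mem ha)))
    (mul_mem (cn (h1 ha) hb) (inv_mem hb))
  rwa [mul_inv_eq_one, mul_inv_eq_iff_eq_mul] at this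

theorem reach (hQ : Q ∈ M) {t : K} (t2 : t * t = 1) (ht : t ∈ normalizer (Q : Set K)) {y : K}
    (hy : y ∈ Q) (ne : y * t ≠ t * y) : ∃ y ∈ Q, y * t * y⁻¹ = z Q * t := by
  have ti : t⁻¹ = t := inv_eq_of_mul_eq_one_right t2
  have mem : ∀ y ∈ Q, y * t * y⁻¹ * t⁻¹ ∈ Q := fun y hy => by
    simpa only [mul_assoc] using mul_mem hy (cn ht (inv_mem hy))
  obtain ⟨k, hk⟩ := Two.of_mem h.two (h.le Q hQ (mem y hy))
  have n1 : y * t * y⁻¹ * t⁻¹ ≠ 1 := fun e => ne (by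
    rwa [mul_inv_eq_one, mul_inv_eq_iff_eq_mul] at e)
  clear ne
  induction k generalizing y with
  | zero => exact absurd (by simpa using hk) n1
  | succ k ih =>
    have e : y * t * y⁻¹ * t⁻¹ * t * (y * t * y⁻¹ * t⁻¹)⁻¹ * t⁻¹ =
        y * t * y⁻¹ * t⁻¹ * (y * t * y⁻¹ * t⁻¹) := by
      simp only [mul_inv_rev, inv_inv, ti, mul_assoc, t2, mul_one]
    by_cases c : y * t * y⁻¹ * t⁻¹ * (y * t * y⁻¹ * t⁻¹) = 1
    · exact ⟨y, hy, mul_inv_eq_iff_eq_mul.1 (h.eq_z hQ (mem y hy) n1 c)⟩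
    · exact ih (mem y hy) (by rw [e, ← sq, ← pow_mul, ← pow_succ', hk]) (by rwa [e])

theorem three (hQ : Q ∈ M) (hQ' : Q' ∈ M) (ne : Q ≠ Q') (c : ∀ x ∈ Q', x * z Q = z Q * x) :
    Cm Q Q' := by
  have n1 : Q' ≤ normalizer (Q : Set K) := fun x hx => h.nm Q hQ x (h.le _ hQ' hx) (c x hx)
  by_cases e : ∀ y ∈ Q, y * z Q' = z Q' * y
  · exact h.mu hQ hQ' ne (fun x hx => h.nm Q' hQ' x (h.le _ hQ hx) (e x hx)) n1
  push Not at e
  obtain ⟨y, hy, e⟩ := e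
  obtain ⟨y, hy, e⟩ := h.reach hQ (h.zz _ hQ').2.2.1 (n1 (h.zz _ hQ').1) hy e
  have yS := h.le Q hQ hy
  have m := h.cj Q' hQ' y yS
  have ez : z (Te.cj y Q') = z Q * z Q' := (h.z_cj hQ' yS).trans e
  have yz := h.z_fix hQ (le_normalizer hy)
  refine absurd (trick n1 (fun x h1 h2 => h.triv hQ' (h.z_not hQ hQ' ne) h1 h2) hy
    (h.mu hQ' m (fun e' => (h.zz Q hQ).2.1 ?_) (fun x hx => h.nm _ m x (h.le _ hQ' hx) ?_)
      fun x hx => h.nm _ hQ' x (h.le _ m hx) ?_)) (h.nab hQ')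
  · rw [← e'] at ez
    exact right_eq_mul.1 ez
  · rw [ez, ← mul_assoc, c x hx, mul_assoc, h.z_fix hQ' (le_normalizer hx), mul_assoc]
  · have c1 : x * z Q = z Q * x := by
      have := c _ (mem_map_conj.1 hx)
      calc x * z Q = y * (y⁻¹ * x * y) * (y⁻¹ * z Q) := by group
        _ = y * (y⁻¹ * x * y * z Q) * y⁻¹ := by
          rw [show y⁻¹ * z Q = z Q * y⁻¹ from (Commute.inv_left yz)]; group
        _ = y * z Q * (y⁻¹ * x) := by rw [this]; group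
        _ = _ := by rw [yz]; group
    have c2 := h.z_fix m (le_normalizer hx)
    rw [ez, ← mul_assoc, c1, mul_assoc, mul_assoc] at c2
    exact mul_left_cancel c2

theorem claim {M0 : Set (Subgroup K)} (sub : M0 ⊆ M) (pw : ∀ A ∈ M0, ∀ B ∈ M0, A ≠ B → Cm A B)
    (mx : ∀ A ∈ M, (∀ B ∈ M0, B ≠ A → Cm B A) → A ∈ M0) (hQ' : Q' ∈ M)
    (st : ∀ w ∈ Q', ∀ A ∈ M0, Te.cj w A ∈ M0) : Q' ∈ M0 := by
  have z' := h.zz _ hQ'
  have nA : ∀ A ∈ M0, ∀ B ∈ M0, A ≤ normalizer (B : Set K) := fun A hA B hB x hx => by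
    by_cases e : A = B
    · exact le_normalizer (e ▸ hx)
    · exact centralizer_le_normalizer _ fun b hb => (pw A hA B hB e x hx b hb).symm
  by_cases ha : ∀ w ∈ Q', ∀ A ∈ M0, w ∈ normalizer (A : Set K)
  · exact mx _ hQ' fun B hB ne => h.three (sub hB) hQ' ne fun x hx => h.z_fix (sub hB) (ha x hx B hB)
  exfalso
  have zc : ∀ w ∈ Q', ∀ A ∈ M0, w ∉ normalizer (A : Set K) →
      Cm A (Te.cj w A) ∧ z A * (w * z A * w⁻¹) = w * z A * w⁻¹ * z A ∧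
        z A * (w * z A * w⁻¹) ≠ 1 := fun w hw A hA n => by
    have ne : A ≠ Te.cj w A := fun e => n (map_conj_eq_iff_mem_normalizer.1 e.symm)
    have c := pw _ hA _ (st w hw A hA) ne
    refine ⟨c, c _ (h.zz _ (sub hA)).1 _ (conj_mem_map_conj (h.zz _ (sub hA)).1), fun e => ne ?_⟩
    refine h.inj _ (sub hA) _ (sub (st w hw A hA)) ?_
    rw [h.z_cj (sub hA) (h.le _ hQ' hw), ← inv_eq_of_mul_eq_one_right e, h.zi (sub hA)]
  by_cases hb : ∀ A ∈ M0, z Q' ∈ normalizer (A : Set K)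
  · push Not at ha
    obtain ⟨w, hw, A, hA, n⟩ := ha
    obtain ⟨c, c1, c2⟩ := zc w hw A hA n
    have zA := h.zz _ (sub hA)
    have n1 := h.nm _ hQ' _ (h.le _ (sub hA) zA.1) (h.z_fix (sub hA) (hb A hA)).symm
    have e1 : z A * (w * z A * w⁻¹) = z Q' := by
      refine h.eq_z hQ' ?_ c2 ?_
      · have := mul_mem (cn n1 hw) (inv_mem hw)
        rw [h.zi (sub hA)] at this
        simpa only [mul_assoc] using this
      · conv_lhs => congr; rw [c1]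
        rw [mul_assoc, ← mul_assoc (z A), zA.2.2.1, one_mul, conj_mul, zA.2.2.1]; group
    have n2 : A ≤ normalizer (Q' : Set K) := fun x hx => h.nm _ hQ' _ (h.le _ (sub hA) hx) (by
      rw [← e1, ← mul_assoc, h.z_fix (sub hA) (le_normalizer hx), mul_assoc,
        c x hx _ (conj_mem_map_conj zA.1), ← mul_assoc])
    have ym : ∀ x ∈ A, x⁻¹ * (w * x * w⁻¹) ∈ Q' := fun x hx => by
      simpa only [mul_assoc, inv_inv] using mul_mem (cn (n2 (inv_mem hx)) hw) (inv_mem hw)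
    have m1 := sub (st w hw A hA)
    have ne : Te.cj w A ≠ Q' := fun e => zA.2.1 (by
      rw [← e, h.z_cj (sub hA) (h.le _ hQ' hw)] at e1
      exact mul_eq_right.1 e1)
    refine h.nab (sub hA) fun a ha b hb => ?_
    have e2 : ((b * a)⁻¹ * (w * (b * a) * w⁻¹))⁻¹ * (a⁻¹ * (w * a * w⁻¹) * (b⁻¹ * (w * b * w⁻¹))) =
        w * ((b * a)⁻¹ * (a * b)) * w⁻¹ := by
      have := c _ (inv_mem hb) _ (conj_mem_map_conj (g := w) ha)
      calc _ = (w * (b * a) * w⁻¹)⁻¹ * (b * (w * a * w⁻¹ * b⁻¹) * (w * b * w⁻¹)) := by group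
        _ = _ := by rw [← this]; group
    have := h.triv hQ' (h.z_not m1 hQ' ne) (x := w * ((b * a)⁻¹ * (a * b)) * w⁻¹)
      (conj_mem_map_conj (mul_mem (inv_mem (mul_mem hb ha)) (mul_mem ha hb)))
      (e2 ▸ mul_mem (inv_mem (ym _ (mul_mem hb ha))) (mul_mem (ym a ha) (ym b hb)))
    exact (inv_mul_eq_one.1 (by simpa using this)).symm
  · push Not at hb
    obtain ⟨A, hA, n⟩ := hb
    obtain ⟨-, c1, c2⟩ := zc _ z'.1 A hA n
    have zA := h.zz _ (sub hA)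
    have zS := h.le _ (sub hA) zA.1
    have z'S := h.le _ hQ' z'.1
    let R0 : Subgroup K := closure {x | ∃ B ∈ M0, x ∈ B}
    have r1 : ∀ B ∈ M0, B ≤ R0 := fun B hB x hx => subset_closure ⟨B, hB, hx⟩
    have r2 : z Q' ∉ R0 := fun e =>
      n ((closure_le (normalizer (A : Set K))).2 (fun x hx => by
        obtain ⟨B, hB, hx⟩ := hx
        exact nA B hB A hA hx) e)
    have r3 : ∀ w ∈ Q', ∀ x ∈ R0, w * x * w⁻¹ ∈ R0 := fun w hw x hx =>
      H98.map_conj_le_iff.1 (by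
        rw [MonoidHom.map_closure, closure_le]
        rintro _ ⟨y, ⟨B, hB, hy⟩, rfl⟩
        exact r1 _ (st w hw B hB) (conj_mem_map_conj hy)) x hx
    have r4 : Q' ≤ normalizer (R0 : Set K) := fun w hw => mem_normalizer_iff.2 fun x =>
      ⟨r3 w hw x, fun e => by simpa [mul_assoc] using r3 _ (inv_mem hw) _ e⟩
    have r5 : ∀ x ∈ R0, x ∈ Q' → x = 1 := fun x h1 h2 => h.triv hQ' r2 h1 h2
    have zR := r1 A hA zA.1
    have uR : z A * (z Q' * z A * (z Q')⁻¹) ∈ R0 := mul_mem zR (r3 _ z'.1 _ zR)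
    have uz : z A * (z Q' * z A * (z Q')⁻¹) * z Q' = z Q' * (z A * (z Q' * z A * (z Q')⁻¹)) := by
      conv_rhs => rw [c1]
      rw [h.zi hQ']
      simp only [← mul_assoc, z'.2.2.1, one_mul]
      have := c1
      rw [h.zi hQ'] at this
      simp only [mul_assoc, z'.2.2.1, mul_one]
    have un := h.nm _ hQ' _ (mul_mem zS (mul_mem (mul_mem z'S zS) (inv_mem z'S))) uz
    have ez : z (Te.cj (z A) Q') = z A * (z Q' * z A * (z Q')⁻¹) * z Q' := by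
      rw [h.z_cj hQ' zS, h.zi (sub hA)]; group
    generalize z A * (z Q' * z A * (z Q')⁻¹) = q at c2 uR uz un ez
    have m := h.cj Q' hQ' _ zS
    refine h.nab hQ' (trick r4 r5 zR (h.three m hQ' (fun e => c2 ?_) fun x hx => ?_).symm)
    · rw [e] at ez
      exact right_eq_mul.1 ez
    · have := r5 (q * x * q⁻¹ * x⁻¹)
        (by simpa only [mul_assoc] using mul_mem uR (r3 x hx _ (inv_mem uR)))
        (mul_mem (cn un hx) (inv_mem hx))
      rw [mul_inv_eq_one, mul_inv_eq_iff_eq_mul] at this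
      rw [ez, ← mul_assoc, ← this, mul_assoc, h.z_fix hQ' (le_normalizer hx), mul_assoc]

end Hy

/-- **TE** -/
theorem te : TeStmt.{u} := by
  intro K _ _ S h1 M z h2 h3 h4 h5 h6 h7
  have h : Hy S M z := ⟨h1, h2, h3, h4, h5, h6, h7⟩
  obtain ⟨M0, ⟨sub, pw⟩, mx⟩ := Set.Finite.exists_maximal
    (Set.toFinite {M0 : Set (Subgroup K) | M0 ⊆ M ∧ ∀ A ∈ M0, ∀ B ∈ M0, A ≠ B → Cm A B})
    ⟨∅, Set.empty_subset _, fun _ h => h.elim⟩
  have mx' : ∀ A ∈ M, (∀ B ∈ M0, B ≠ A → Cm B A) → A ∈ M0 := fun A hA c =>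
    mx (y := insert A M0) ⟨Set.insert_subset hA sub, by
      rintro B (rfl | hB) C (rfl | hC) ne
      exacts [absurd rfl ne, (c C hC ne.symm).symm, c B hB ne, pw B hB C hC ne]⟩
      (Set.subset_insert _ _) (Set.mem_insert _ _)
  let N : Subgroup K :=
    { carrier := {s | s ∈ S ∧ ∀ A, cj s A ∈ M0 ↔ A ∈ M0}
      one_mem' := ⟨one_mem _, fun A => by rw [cj, map_conj_one]⟩
      mul_mem' := fun {a b} ha hb => ⟨mul_mem ha.1 hb.1, fun A => by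
        rw [cj, ← map_conj_map_conj, ha.2, hb.2]⟩
      inv_mem' := fun {a} ha => ⟨inv_mem ha.1, fun A => by
        rw [← ha.2, cj, cj, H98.map_conj_map_conj_inv]⟩ }
  have mN : ∀ s ∈ S, (∀ A ∈ M0, cj s A ∈ M0) → (∀ A ∈ M0, cj s⁻¹ A ∈ M0) → s ∈ N :=
    fun s hs k1 k2 => ⟨hs, fun A => ⟨fun e => by
      have := k2 _ e
      rwa [cj, cj, H98.map_conj_inv_map_conj] at this, k1 A⟩⟩
  have aN : ∀ A ∈ M0, A ≤ N := fun A hA => by
    have : ∀ x ∈ A, ∀ B ∈ M0, cj x B ∈ M0 := fun x hx B hB => by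
      rwa [cj, map_conj_eq_iff_mem_normalizer.2 ?_]
      by_cases e : A = B
      · exact le_normalizer (e ▸ hx)
      · exact centralizer_le_normalizer _ fun b hb => (pw A hA B hB e x hx b hb).symm
    exact fun x hx => mN x (h2 A (sub hA) hx) (this x hx) (this _ (inv_mem hx))
  have cl : ∀ A ∈ M, A ≤ N → A ∈ M0 := fun A hA le =>
    h.claim sub pw mx' hA fun w hw B hB => ((le hw).2 B).2 hB
  have top : N.subgroupOf S = ⊤ := by
    have : Fact (Nat.Prime 2) := ⟨Nat.prime_two⟩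
    have := h1.isNilpotent
    by_contra ne
    have key : ∀ s ∈ normalizer (N.subgroupOf S : Set S), ∀ A ∈ M0, cj (s : K) A ∈ M0 :=
      fun s hs A hA => cl _ (h5 A (sub hA) s s.2) (H98.map_conj_le_iff.2 fun x hx =>
        (mem_normalizer_iff.1 hs ⟨x, h2 A (sub hA) hx⟩).1 (aN A hA hx))
    exact (Group.normalizerCondition_of_isNilpotent _ (lt_top_iff_ne_top.2 ne)).not_ge fun s hs =>
      mN s s.2 (key s hs) (key s⁻¹ (inv_mem hs))
  have le := subgroupOf_eq_top.1 top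
  exact fun Q hQ Q' hQ' => pw Q (cl Q hQ ((h2 Q hQ).trans le)) Q' (cl Q' hQ' ((h2 Q' hQ').trans le))

end Cfsg.Agent.H88.Te
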