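import Mathlib

/-! Irreducible cyclic `2`-groups of linear maps over a prime field of odd order. -/

set_option autoImplicit false

namespace Cfsg.Agent.H88

open Polynomial

theorem exists_pow_exact_two_pow {u : ℤ} (hu : 4 ∣ u - 1) {k : ℕ} (hk : ¬ 2 ^ (k + 1) ∣ u - 1)
    : ∃ j : ℕ, 2 ^ k ∣ u ^ j - 1 ∧ ¬ 2 ^ (k + 1) ∣ u ^ j - 1 := by
  induction k generalizing u with
  | zero => exact ⟨1, by simp, by simpa using hk⟩
  | succ k ih =>
    by_cases h : 2 ^ (k + 1) ∣ u - 1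
    · exact ⟨1, by simpa using h, by simpa using hk⟩
    obtain ⟨j, ⟨c, hc⟩, h2⟩ := ih hu h
    have h3 : 4 ∣ u ^ j - 1 := hu.trans (by simpa using sub_dvd_pow_sub_pow u 1 j)
    obtain ⟨d, hd⟩ := h3
    have hc' : ¬ 2 ∣ c := fun ⟨e, he⟩ => h2 ⟨e, by rw [hc, he]; ring⟩
    have h4 : u ^ (j * 2) - 1 = 2 ^ (k + 1) * (c * (2 * d + 1)) := by
      rw [pow_mul, show (u ^ j) ^ 2 - 1 = (u ^ j - 1) * (u ^ j - 1 + 2) by ring]
      nth_rw 1 [hc]
      rw [hd]; ring
    refine ⟨j * 2, ⟨_, h4⟩, fun h5 => ?_⟩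
    rw [h4, pow_succ 2 (k + 1), mul_dvd_mul_iff_left (by positivity)] at h5
    rcases Int.prime_two.dvd_or_dvd h5 with h6 | h6
    · exact hc' h6
    · omega

theorem two_pow_dvd_sq_sub_one {q : ℤ} (hq : Odd q) {k i : ℕ} (h : 2 ^ k ∣ 2 * (q ^ i + 1)) :
    2 ^ k ∣ q ^ 2 - 1 := by
  have key : ∀ {x c : ℤ}, Odd c → 2 ^ k ∣ x * c → 2 ^ k ∣ x := fun hc h =>
    IsCoprime.dvd_of_dvd_mul_right (IsCoprime.pow_left (Int.isCoprime_two_left.2 hc)) h
  obtain ⟨t, rfl⟩ := hq
  rcases Nat.even_or_odd' i with ⟨l, rfl | rfl⟩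
  · obtain ⟨m, hm⟩ := (Odd.pow (n := l) ⟨t, rfl⟩ : Odd ((2 * t + 1) ^ l))
    rw [pow_mul', hm, show 2 * ((2 * m + 1) ^ 2 + 1) = 4 * (2 * (m ^ 2 + m) + 1) by ring] at h
    exact (key ⟨_, rfl⟩ h).trans ⟨t ^ 2 + t, by ring⟩
  · obtain ⟨c, hc, h1⟩ : ∃ c, Odd c ∧ (2 * t + 1) ^ (2 * l + 1) + 1 = (2 * t + 2) * c := by
      clear h
      induction l with
      | zero => exact ⟨1, odd_one, by ring⟩
      | succ l ih =>
        obtain ⟨c, ⟨d, rfl⟩, h1⟩ := ih
        refine ⟨(2 * t + 1) ^ 2 * (2 * d + 1) - 2 * t, ⟨(2 * t + 1) ^ 2 * d + 2 * t ^ 2 + t, by ring⟩, ?_⟩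
        rw [show 2 * (l + 1) + 1 = 2 * l + 1 + 2 by ring, pow_add, eq_sub_of_add_eq h1]
        ring
    rw [h1, ← mul_assoc] at h
    exact (key hc h).trans ⟨t, by ring⟩

variable {K W : Type*} [Field K] [AddCommGroup W] [Module K W]

theorem irreducible_minpoly_of_irred [Module.Finite K W] [Nontrivial W] {a : Module.End K W}
    (h : ∀ U : Submodule K W, (∀ x ∈ U, a x ∈ U) → U = ⊥ ∨ U = ⊤) : Irreducible (minpoly K a) := by
  have hi : IsIntegral K a := Algebra.IsIntegral.isIntegral a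
  have key : ∀ g g' : K[X], minpoly K a = g * g' → aeval a g = 0 → IsUnit g' := fun g g' hg h0 => by
    obtain ⟨c, hc⟩ := minpoly.dvd K a h0
    have h1 : minpoly K a * (c * g') = minpoly K a * 1 := by
      rw [← mul_assoc, ← hc, ← hg, mul_one]
    exact IsUnit.of_mul_eq_one_right c (mul_left_cancel₀ (minpoly.ne_zero hi) h1)
  refine ⟨minpoly.not_isUnit K a, fun g g' hg => ?_⟩
  rcases h (LinearMap.ker (aeval a g)) (fun x hx => by
    have h1 : aeval a g * a = a * aeval a g := by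
      have := congrArg (aeval a) (mul_comm g X)
      rwa [map_mul, map_mul, aeval_X] at this
    rw [LinearMap.mem_ker] at hx ⊢
    rw [← Module.End.mul_apply, h1, Module.End.mul_apply, hx, map_zero]) with h1 | h1
  · refine Or.inl (key g' g (hg.trans (mul_comm _ _)) (LinearMap.ext fun x => ?_))
    have h2 := LinearMap.congr_fun (minpoly.aeval K a) x
    rw [hg, map_mul, Module.End.mul_apply] at h2
    exact h1.le h2
  · exact Or.inr (key g g' hg (LinearMap.ker_eq_top.1 h1))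

theorem aeval_conj {a b b' : Module.End K W} (hb : b' * b = 1) (hb' : b * b' = 1) (f : K[X]) :
    aeval (b * a * b') f = b * aeval a f * b' := by
  induction f using Polynomial.induction_on with
  | C c => rw [aeval_C, aeval_C, ← Algebra.commutes, mul_assoc, hb', mul_one]
  | add f g h1 h2 => rw [map_add, map_add, h1, h2, mul_add, add_mul]
  | monomial n c h =>
    rw [pow_succ, ← mul_assoc, map_mul, map_mul _ _ X, h, aeval_X, aeval_X]
    simp only [mul_assoc]
    rw [← mul_assoc b' b, hb, one_mul]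

/-- An irreducible cyclic `2`-group `⟨a⟩` such that `⟨a²⟩` is irreducible, or `a` is conjugate to
`± a⁻¹`, acts on a space of dimension at most two. -/
theorem finrank_le_two_of_irred {q : ℕ} [hq : Fact q.Prime] (hq2 : q ≠ 2) {W : Type*}
    [AddCommGroup W] [Module (ZMod q) W] [Finite W] {a : Module.End (ZMod q) W} {k : ℕ}
    (hk : orderOf a = 2 ^ k)
    (h : ∀ U : Submodule (ZMod q) W, (∀ x ∈ U, a x ∈ U) → U = ⊥ ∨ U = ⊤)
    (h' : (∀ U : Submodule (ZMod q) W, (∀ x ∈ U, a (a x) ∈ U) → U = ⊥ ∨ U = ⊤) ∨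
      ∃ (b b' : Module.End (ZMod q) W) (s : ℕ), b' * b = 1 ∧ b * b' = 1 ∧ b * a * b' = a ^ s ∧
        a ^ (2 * (s + 1)) = 1) : Module.finrank (ZMod q) W ≤ 2 := by
  rcases subsingleton_or_nontrivial W with _ | _
  · rw [Module.finrank_zero_of_subsingleton]; omega
  obtain ⟨w, hw⟩ := exists_ne (0 : W)
  have hi : IsIntegral (ZMod q) a := Algebra.IsIntegral.isIntegral a
  have := Fact.mk (irreducible_minpoly_of_irred h)
  let L := AdjoinRoot (minpoly (ZMod q) a)
  have : Module.Finite (ZMod q) L := (minpoly.monic hi).finite_adjoinRoot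
  have : Finite L := Module.finite_of_finite (ZMod q)
  let ι : L →ₐ[ZMod q] Module.End (ZMod q) W :=
    Ideal.Quotient.liftₐ _ (aeval a) fun g hg => by
      obtain ⟨c, rfl⟩ := Ideal.mem_span_singleton.1 hg
      rw [map_mul, minpoly.aeval, zero_mul]
  let θ : L := AdjoinRoot.root _
  have hθ : ι θ = a := aeval_X a
  have hι : Function.Injective ι := ι.toRingHom.injective
  have hθk : orderOf θ = 2 ^ k := 
    ((orderOf_injective ι.toMonoidHom hι θ).symm.trans (congrArg orderOf hθ)).trans hk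
  have hθ0 : θ ≠ 0 := fun h0 => by
    have := pow_orderOf_eq_one θ
    rw [hθk, h0, zero_pow (by positivity)] at this
    exact zero_ne_one this
  have hpow : ∀ n : ℕ, 1 ≤ n → (θ ^ n = θ ↔ (2 : ℤ) ^ k ∣ n - 1) := fun n hn => by
    obtain ⟨m, rfl⟩ := Nat.exists_eq_add_of_le' hn
    rw [pow_succ, mul_left_eq_self₀, or_iff_left hθ0, ← orderOf_dvd_iff_pow_eq_one, hθk]
    push_cast
    rw [add_sub_cancel_right]
    exact_mod_cast Iff.rfl
  let ev : L →ₗ[ZMod q] W := (LinearMap.applyₗ w).comp ι.toLinearMap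
  have hev : ∀ x, ev x = ι x w := fun _ => rfl
  have hev1 : Function.Injective ev := (injective_iff_map_eq_zero ev).2 fun x hx => by
    by_contra h0
    apply hw
    rw [← Module.End.one_apply (R := ZMod q) w, ← map_one ι, ← inv_mul_cancel₀ h0, map_mul,
      Module.End.mul_apply, ← hev, hx, map_zero]
  have hev2 : LinearMap.range ev = ⊤ := (h _ (by
    rintro _ ⟨x, rfl⟩
    exact ⟨θ * x, by rw [hev, hev, map_mul, hθ]; rfl⟩)).resolve_left fun h0 =>
      hw (h0.le ⟨1, by rw [hev, map_one]; rfl⟩)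
  let Φ := FiniteField.frobeniusAlgHom (ZMod q) L
  have hΦ : ∀ (i : ℕ) (x : L), (Φ ^ i) x = x ^ q ^ i := fun i x => by
    rw [AlgHom.coe_pow, FiniteField.coe_frobeniusAlgHom, pow_iterate, ZMod.card]
  have hqo : Odd (q : ℤ) := by exact_mod_cast hq.out.odd_of_ne_two hq2
  have hq1 : ∀ i, 1 ≤ q ^ i := fun i => Nat.one_le_pow _ _ hq.out.pos
  have main : (2 : ℤ) ^ k ∣ (q : ℤ) ^ 2 - 1 := by
    rcases h' with h' | ⟨b, b', s, hb, hb', hs, hs'⟩
    · by_contra hc
      obtain ⟨k, rfl⟩ : ∃ j, k = j + 1 := ⟨k - 1, by rcases k with _ | k <;> simp at hc ⊢⟩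
      obtain ⟨j, h1, h2⟩ := exists_pow_exact_two_pow (u := (q : ℤ) ^ 2)
        (by obtain ⟨t, ht⟩ := hqo; exact ⟨t ^ 2 + t, by rw [ht]; ring⟩) hc
      rw [← pow_mul] at h1 h2
      have h3 : (Φ ^ (2 * j)) (θ * θ) = θ * θ := by
        obtain ⟨m, hm⟩ := Nat.exists_eq_add_of_le' (hq1 (2 * j))
        have h4 : 2 ^ (k + 1) ∣ 2 * m := by
          rw [pow_succ']
          refine Nat.mul_dvd_mul_left _ ?_
          have : ((q ^ (2 * j) : ℕ) : ℤ) = m + 1 := by rw [hm]; simp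
          rw [← Nat.cast_pow, this, add_sub_cancel_right] at h1
          exact_mod_cast h1
        rw [hΦ, hm, pow_succ, ← pow_two, ← pow_mul, orderOf_dvd_iff_pow_eq_one.1 (hθk ▸ h4), one_mul]
      let U : Submodule (ZMod q) L := LinearMap.eqLocus (Φ ^ (2 * j)).toLinearMap LinearMap.id
      have hU : ∀ x, x ∈ U ↔ (Φ ^ (2 * j)) x = x := fun _ => Iff.rfl
      have h5 := (h' (U.map ev) (by
        rintro _ ⟨x, hx, rfl⟩
        exact ⟨θ * θ * x, (hU _).2 (by rw [map_mul, h3, (hU x).1 hx]),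
          by rw [hev, hev, map_mul, map_mul, hθ]; rfl⟩)).resolve_left fun h0 =>
          hw (h0.le ⟨1, (hU 1).2 (map_one _), by rw [hev, map_one]; rfl⟩)
      obtain ⟨x, hx, hxθ⟩ := h5.ge (Submodule.mem_top (x := ev θ))
      rw [hev1 hxθ, SetLike.mem_coe, hU, hΦ, hpow _ (hq1 _)] at hx
      exact h2 (by exact_mod_cast hx)
    · have h1 : eval₂ (Algebra.ofId (ZMod q) L) (θ ^ s) (minpoly (ZMod q) a) = 0 := by
        apply hι
        change ι (aeval (θ ^ s) _) = _
        rw [← aeval_algHom_apply, map_pow, hθ, ← hs, aeval_conj hb hb', minpoly.aeval, mul_zero,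
          zero_mul, map_zero]
      obtain ⟨i, hi⟩ := (FiniteField.bijective_frobeniusAlgHom_pow (ZMod q) L).2
        (AdjoinRoot.liftAlgHom _ (Algebra.ofId (ZMod q) L) (θ ^ s) h1)
      have h2 : θ ^ q ^ i.1 = θ ^ s := by
        rw [← hΦ]
        exact (DFunLike.congr_fun hi θ).trans (AdjoinRoot.liftAlgHom_root _ _ _ _)
      have h3 : θ ^ (2 * (q ^ i.1 + 1)) = 1 := by
        apply hι
        rw [mul_comm, pow_mul, pow_succ θ, h2, ← pow_succ, ← pow_mul, mul_comm, map_pow, hθ, hs',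
          map_one]
      rw [← orderOf_dvd_iff_pow_eq_one, hθk] at h3
      exact two_pow_dvd_sq_sub_one hqo (i := i.1) (by exact_mod_cast h3)
  have h1 : Φ ^ 2 = 1 := AdjoinRoot.algHom_ext (by
    rw [hΦ]
    exact (hpow _ (hq1 2)).2 (by exact_mod_cast main))
  rw [← orderOf_dvd_iff_pow_eq_one, FiniteField.orderOf_frobeniusAlgHom] at h1
  rw [← finrank_top, ← hev2]
  exact (LinearMap.finrank_range_le ev).trans (Nat.le_of_dvd two_pos h1)

end Cfsg.Agent.H88
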