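import Mathlib
import Cfsg.Agent.H88.CycIrr
import Cfsg.Agent.H9.SelfCent
import Cfsg.Agent.H92.ClassSize

/-! Linear groups over a prime field of odd order all of whose orbits on vectors have `2`-power
length. -/

set_option autoImplicit false

namespace Cfsg.Agent.H88

open Subgroup Cfsg.Agent.H92

universe u v

section Defs

variable {K : Type*} [Field K] {H : Type*} [Group H] {W : Type*} [AddCommGroup W] [Module K W]

theorem rep_mul_apply (ρ : Representation K H W) (g h : H) (w : W) : ρ (g * h) w = ρ g (ρ h w) := by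
  rw [map_mul]; rfl

/-- The stabiliser of a vector. -/
def vstab (ρ : Representation K H W) (w : W) : Subgroup H where
  carrier := {g | ρ g w = w}
  one_mem' := by simp
  mul_mem' := fun {a b} ha hb => by
    change ρ (a * b) w = w
    rw [rep_mul_apply, hb, ha]
  inv_mem' := fun {a} ha => by
    change ρ a⁻¹ w = w
    nth_rw 1 [← ha]
    rw [← rep_mul_apply, inv_mul_cancel, map_one]; rfl

theorem mem_vstab {ρ : Representation K H W} {w : W} {g : H} : g ∈ vstab ρ w ↔ ρ g w = w := Iff.rfl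

variable [Finite H]

/-- The stabiliser of a subspace. -/
def sstab (ρ : Representation K H W) (U : Submodule K W) : Subgroup H where
  carrier := {g | ∀ x ∈ U, ρ g x ∈ U}
  one_mem' := by simp
  mul_mem' := fun {a b} ha hb x hx => by rw [rep_mul_apply]; exact ha _ (hb x hx)
  inv_mem' := fun {a} ha x hx => by
    have h1 : ∀ n : ℕ, ρ (a ^ n) x ∈ U := fun n => by
      induction n with
      | zero => simpa using hx
      | succ n ih => rw [pow_succ', rep_mul_apply]; exact ha _ ih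
    obtain ⟨n, hn⟩ := mem_powers_iff_mem_zpowers.2 (inv_mem (mem_zpowers a))
    exact hn ▸ h1 n

theorem mem_sstab {ρ : Representation K H W} {U : Submodule K W} {g : H} :
    g ∈ sstab ρ U ↔ ∀ x ∈ U, ρ g x ∈ U := Iff.rfl

omit [Finite H] in
theorem mem_of_normalizes_of_coprime {S : Subgroup H} {h : H} (hn : h ∈ normalizer (S : Set H))
    (hc : (orderOf h).Coprime S.index) : h ∈ S := by
  have h1 : h ^ S.relIndex (normalizer (S : Set H)) ∈ S :=
    pow_index_mem (S.subgroupOf (normalizer (S : Set H))) ⟨h, hn⟩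
  exact zpowers_le.2 h1 (mem_zpowers_pow_iff.2
    (hc.symm.coprime_dvd_left (relIndex_dvd_index_of_le le_normalizer)))

theorem fix_of_eigen (ρ : Representation K H W) {h : H} {w : W} {c : K} (hc : ρ h w = c • w)
    (hcop : (orderOf h).Coprime (vstab ρ w).index) : ρ h w = w := by
  refine mem_of_normalizes_of_coprime (S := vstab ρ w) (inv_mem_iff.1
    (mem_normalizer_fintype fun g hg => ?_)) hcop
  change ρ _ w = w
  rw [inv_inv, rep_mul_apply, rep_mul_apply, hc, map_smul, mem_vstab.1 hg, ← hc, ← rep_mul_apply,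
    inv_mul_cancel, map_one]
  rfl

omit [Finite H] in
theorem eq_one_of_unipotent {f : Module.End K W} {n : ℕ} (hn : f ^ n = 1) (hn' : (n : K) ≠ 0)
    (h : ∀ x, f (f x - x) = f x - x) : f = 1 := by
  refine LinearMap.ext fun x => ?_
  have h1 : ∀ m : ℕ, (f ^ m) x = x + (m : K) • (f x - x) := fun m => by
    induction m with
    | zero => simp
    | succ m ih =>
      rw [pow_succ', Module.End.mul_apply, ih, map_add, map_smul, h, Nat.cast_succ, add_smul,
        one_smul]
      abel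
  have h2 := h1 n
  rw [hn, Module.End.one_apply, left_eq_add, smul_eq_zero, or_iff_right hn', sub_eq_zero] at h2
  exact h2

end Defs

theorem finrank_le_two_of_primitive_faithful {q : ℕ} [hq : Fact q.Prime] (hq2 : q ≠ 2)
    {W : Type*} [AddCommGroup W] [Module (ZMod q) W] [Finite W] {P : Type*} [Group P] [Finite P]
    (hP : IsPGroup 2 P) (σ : Representation (ZMod q) P W) (hf : Function.Injective σ)
    (h : ∀ U, (sstab σ U).index ∣ 2 → U = ⊥ ∨ U = ⊤) : Module.finrank (ZMod q) W ≤ 2 := by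
  have hord : ∀ a : P, ∃ k, orderOf (σ a) = 2 ^ k := fun a => by
    rw [orderOf_injective σ hf]; exact IsPGroup.iff_orderOf.1 hP a
  have hz : ∀ (a : P) (U : Submodule (ZMod q) W), (zpowers a).index ∣ 2 →
      (∀ x ∈ U, σ a x ∈ U) → U = ⊥ ∨ U = ⊤ := fun a U h1 h2 =>
    h U ((index_dvd_of_le (zpowers_le.2 (show a ∈ sstab σ U from h2))).trans h1)
  rcases H9.isCyclic_or_MC_of_no_normal_sq hP (fun E hE _ hc => by
    by_contra hcon
    push Not at hcon
    have h1 : ∀ e ∈ E, e ≠ 1 → σ e = -1 := fun e he he1 => by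
      have h2 : cs[e] ≤ 3 := by
        rw [← card_conjSet_top, Nat.card_coe_set_eq]
        have h3 : ((E : Set P) \ {1}).ncard = 3 := by
          rw [Set.ncard_sdiff_singleton_of_mem E.one_mem, ← Nat.card_coe_set_eq]
          exact congrArg (· - 1) hc
        refine h3 ▸ Set.ncard_le_ncard ?_
        rintro _ ⟨g, -, rfl⟩
        exact ⟨hE.conj_mem e he g, fun h4 => he1 (by simpa [mul_inv_eq_iff_eq_mul] using h4)⟩
      obtain ⟨n, hn⟩ := hP.exists_card_eq
      obtain ⟨j, hj⟩ := eq_pow_of_dvd_pow Nat.prime_two (hn ▸ cs_dvd_card e)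
      have h3 : cs[e] ∣ 2 := by
        rw [hj] at h2 ⊢
        rcases j with _ | _ | j
        · simp
        · simp
        · rw [pow_succ, pow_succ] at h2
          have := Nat.one_le_two_pow (n := j)
          omega
      rcases h (LinearMap.ker (σ e - 1)) ((index_dvd_of_le fun g hg x hx => by
        rw [LinearMap.mem_ker, LinearMap.sub_apply, Module.End.one_apply, sub_eq_zero] at hx ⊢
        rw [← rep_mul_apply, ← (mem_C.1 hg).eq, rep_mul_apply, hx]).trans h3) with h4 | h4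
      · refine LinearMap.ext fun x => eq_neg_iff_add_eq_zero.2 (h4.le ?_)
        rw [LinearMap.mem_ker, LinearMap.sub_apply, Module.End.one_apply, map_add, ← rep_mul_apply,
          ← pow_two, hcon e he, map_one]
        simp [add_comm]
      · exact absurd (hf ((sub_eq_zero.1 (LinearMap.ker_eq_top.1 h4)).trans (map_one σ).symm)) he1
    obtain ⟨x, hx⟩ : ∃ x : P, ∀ e ∈ E, e = 1 ∨ e = x := by
      by_cases h2 : ∃ e ∈ E, e ≠ 1
      · obtain ⟨x, hx, hx1⟩ := h2
        exact ⟨x, fun e he => or_iff_not_imp_left.2 fun h3 => hf ((h1 e he h3).trans (h1 x hx hx1).symm)⟩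
      · push Not at h2
        exact ⟨1, fun e he => Or.inl (h2 e he)⟩
    have h2 := (Set.ncard_le_ncard (s := (E : Set P)) (t := {1, x}) hx).trans
      (Set.ncard_insert_le 1 {x})
    rw [← Nat.card_coe_set_eq, Set.ncard_singleton] at h2
    exact absurd (hc.ge.trans h2) (by norm_num)) with ⟨a, ha⟩ | ⟨-, a, b, n, hM, -⟩
  · obtain ⟨k, hk⟩ := hord a
    have h1 : zpowers a = ⊤ := eq_top_iff.2 fun g _ => ha g
    refine finrank_le_two_of_irred hq2 hk (fun U => hz a U (by rw [h1, index_top]; simp))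
      (Or.inl fun U hU => hz (a * a) U (index_dvd_two_iff.2 ⟨a, fun g => ?_⟩)
        (by simpa only [rep_mul_apply] using hU))
    obtain ⟨i, rfl⟩ := ha g
    rcases Int.even_or_odd' i with ⟨j, rfl | rfl⟩
    · exact Or.inr ⟨j, by simp only [← pow_two, zpow_mul]; norm_cast⟩
    · exact Or.inl ⟨j + 1, by simp only [← pow_two]; group⟩
  · obtain ⟨k, hk⟩ := hord a
    have h1 := hM.relIndex_zpowers
    rw [relIndex_top_right] at h1
    obtain ⟨s, hs⟩ := mem_powers_iff_mem_zpowers.2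
      (hM.conj_mem_zpowers (mem_top b) (mem_zpowers a))
    refine finrank_le_two_of_irred hq2 hk (fun U => hz a U h1.dvd) (Or.inr ⟨σ b, σ b⁻¹, s,
      by rw [← map_mul, inv_mul_cancel, map_one], by rw [← map_mul, mul_inv_cancel, map_one],
      by rw [← map_mul, ← map_mul, ← map_pow]; exact congrArg σ hs.symm, ?_⟩)
    rw [← map_pow, mul_comm, pow_mul, pow_succ a, show a ^ s = _ from hs, ← map_one σ]
    rcases hM.conj with h2 | ⟨-, h2⟩
    · rw [h2, inv_mul_cancel, one_pow]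
    · rw [h2, mul_assoc, ← pow_succ, pow_succ' a, inv_mul_cancel_left, pow_two, hM.z_mul_z]

theorem finrank_le_two_of_primitive {q : ℕ} [hq : Fact q.Prime] (hq2 : q ≠ 2)
    {W : Type*} [AddCommGroup W] [Module (ZMod q) W] [Finite W] {P : Type*} [Group P] [Finite P]
    (hP : IsPGroup 2 P) (σ : Representation (ZMod q) P W)
    (h : ∀ U, (sstab σ U).index ∣ 2 → U = ⊥ ∨ U = ⊤) : Module.finrank (ZMod q) W ≤ 2 := by
  refine finrank_le_two_of_primitive_faithful hq2 (hP.to_quotient σ.ker)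
    (QuotientGroup.lift σ.ker σ le_rfl) ((injective_iff_map_eq_one' _).2 ?_) fun U hU => h U ?_
  · rintro ⟨g⟩
    exact (QuotientGroup.eq_one_iff (N := σ.ker) g).symm
  · rwa [← index_comap_of_surjective _ (QuotientGroup.mk'_surjective σ.ker)] at hU

/-- If all orbits on vectors have `2`-power length, then `r`-elements act trivially for every
odd prime `r` different from the characteristic. -/
theorem eq_one_of_two_orbits {q r : ℕ} [hq : Fact q.Prime] [hr : Fact r.Prime] (hq2 : q ≠ 2)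
    (hr2 : r ≠ 2) (hrq : r ≠ q) (n : ℕ) : ∀ (W : Type u) [AddCommGroup W] [Module (ZMod q) W]
    [Finite W], Nat.card W = n → ∀ (H : Type v) [Group H] [Finite H]
    (ρ : Representation (ZMod q) H W), (∀ w, ∃ k, (vstab ρ w).index = 2 ^ k) →
    ∀ h : H, (∃ j, orderOf h = r ^ j) → ρ h = 1 := by
  induction n using Nat.strong_induction_on with
  | _ n ih =>
  intro W _ _ _ hn H _ _ ρ hρ h hh
  obtain ⟨P⟩ : Nonempty (Sylow 2 H) := inferInstance
  have orb : ∀ (g : H) (w : W), ∃ y : P, ρ g w = ρ y w := fun g w => by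
    obtain ⟨y, hy, c, hc, rfl⟩ := H1.factorization_of_coprime_index
      (coprime_of_pow_of_not_dvd Nat.prime_two (hρ w) P.not_dvd_index).symm g
    exact ⟨⟨y, hy⟩, by rw [rep_mul_apply, mem_vstab.1 hc]⟩
  have hcop : ∀ w, (orderOf h).Coprime (vstab ρ w).index := fun w =>
    coprime_of_pow_of_pow hr.out Nat.prime_two hr2 hh (hρ w)
  have huni : (∀ x, ρ h (ρ h x - x) = ρ h x - x) → ρ h = 1 :=
    eq_one_of_unipotent (n := orderOf h) (by rw [← map_pow, pow_orderOf_eq_one, map_one]) (by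
      rw [Ne, ZMod.natCast_eq_zero_iff]
      exact not_dvd_of_eq_pow hq.out hr.out hrq.symm hh)
  have hsub : ∀ U : Submodule (ZMod q) W, U ≠ ⊤ → h ∈ sstab ρ U →
      (∀ w ∈ U, w ≠ 0 → vstab ρ w ≤ sstab ρ U) → ∀ x ∈ U, ρ h x = x := fun U hU hhU hv x hx => by
    have h1 := ih _ (hn ▸ Finite.card_subtype_lt (p := (· ∈ U))
      (Classical.choose_spec (SetLike.exists_of_lt hU.lt_top)).2) U rfl (sstab ρ U)
      (Representation.subrepresentation (ρ.comp (sstab ρ U).subtype) U fun g => g.2) (fun w => by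
        by_cases hw : (w : W) = 0
        · exact ⟨0, index_eq_one.2 (eq_top_iff.2 fun g _ => by
            rw [mem_vstab, show w = 0 from Subtype.ext hw, map_zero])⟩
        · refine eq_pow_of_dvd Nat.prime_two ?_ (hρ w)
          refine dvd_trans (dvd_of_eq (congrArg index ?_)) (relIndex_dvd_index_of_le (hv w w.2 hw))
          ext g
          exact Subtype.ext_iff) ⟨h, hhU⟩ (by simpa using hh)
    exact congrArg Subtype.val (LinearMap.congr_fun h1 ⟨x, hx⟩)
  let σ : Representation (ZMod q) P W := ρ.comp (P : Subgroup H).subtype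
  by_cases h0 : ∃ U : Submodule (ZMod q) W, U ≠ ⊥ ∧ U ≠ ⊤ ∧ ∀ y : P, ∀ x ∈ U, ρ y x ∈ U
  · obtain ⟨U, hU1, hU2, hU⟩ := h0
    have h1 : ∀ g, g ∈ sstab ρ U := fun g x hx => by
      obtain ⟨y, hy⟩ := orb g x
      exact hy ▸ hU y x hx
    have : Finite (W ⧸ U) := Finite.of_surjective _ U.mkQ_surjective
    have h2 := ih (Nat.card (W ⧸ U)) (by
      have h3 := U.card_eq_card_quotient_mul_card
      have h4 : 1 < Nat.card U :=
        Finite.one_lt_card_iff_nontrivial.2 (Submodule.nontrivial_iff_ne_bot.2 hU1)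
      rw [← hn, h3]
      exact (Nat.lt_mul_iff_one_lt_left Nat.card_pos).2 h4) (W ⧸ U) rfl H
      (ρ.quotient U fun g => h1 g) (fun w => by
        obtain ⟨w, rfl⟩ := U.mkQ_surjective w
        exact eq_pow_of_dvd Nat.prime_two (index_dvd_of_le fun g hg =>
          congrArg U.mkQ (mem_vstab.1 hg)) (hρ w)) h hh
    exact huni fun x => hsub U hU2 (h1 h) (fun _ _ _ g _ => h1 g) _
      ((Submodule.Quotient.eq U).1 (LinearMap.congr_fun h2 (U.mkQ x)))
  push Not at h0
  replace h0 : ∀ U : Submodule (ZMod q) W, (∀ y : P, ∀ x ∈ U, ρ y x ∈ U) → U = ⊥ ∨ U = ⊤ :=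
    fun U hU => by
      by_contra hc
      push Not at hc
      obtain ⟨y, x, hx, hy⟩ := h0 U hc.1 hc.2
      exact hy (hU y x hx)
  by_cases h1 : ∀ U, (sstab σ U).index ∣ 2 → U = ⊥ ∨ U = ⊤
  · have h2 := finrank_le_two_of_primitive hq2 P.isPGroup' σ h1
    rcases subsingleton_or_nontrivial W with _ | _
    · exact Subsingleton.elim _ _
    obtain ⟨w, hw⟩ := exists_ne (0 : W)
    obtain ⟨g, hg⟩ := H1.exists_conj_le_of_not_dvd_index ((isPGroup_zpowers_iff h).2 hh)
      (not_dvd_of_eq_pow hr.out Nat.prime_two hr2 (hρ w))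
    have h3 : ρ (g * h * g⁻¹) w = w := hg (smul_mem_pointwise_smul _ _ _ (mem_zpowers h))
    have h4 : LinearMap.ker (ρ h - 1) ≠ ⊥ := fun h5 => hw (by
      have h6 : ρ g⁻¹ w = 0 := h5.le (by
        rw [LinearMap.mem_ker, LinearMap.sub_apply, Module.End.one_apply, sub_eq_zero]
        nth_rw 2 [← h3]
        rw [← rep_mul_apply, ← rep_mul_apply]
        congr 2
        group)
      rw [← Module.End.one_apply (R := ZMod q) w, ← map_one ρ, ← mul_inv_cancel g, rep_mul_apply,
        h6, map_zero])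
    have h5 := (ρ h - 1).finrank_range_add_finrank_ker
    have h6 := Submodule.finrank_eq_zero.not.2 h4
    obtain ⟨v, hv⟩ := finrank_le_one_iff.1
      (show Module.finrank (ZMod q) (LinearMap.range (ρ h - 1)) ≤ 1 by omega)
    refine huni fun x => ?_
    obtain ⟨c, hc⟩ := hv ⟨_, x, rfl⟩
    obtain ⟨d, hd⟩ := hv ⟨_, ρ h x, rfl⟩
    replace hc : c • (v : W) = ρ h x - x := congrArg Subtype.val hc
    replace hd : d • (v : W) = ρ h (ρ h x) - ρ h x := congrArg Subtype.val hd
    by_cases hc0 : c = 0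
    · rw [← hc, hc0, zero_smul, map_zero]
    · exact fix_of_eigen ρ (c := d * c⁻¹)
        (by rw [map_sub, ← hd, ← hc, smul_smul, inv_mul_cancel_right₀ hc0]) (hcop _)
  have hA : ∀ U, U ≠ ⊥ → U ≠ ⊤ → (sstab σ U).index ∣ 2 → ∃ U' : Submodule (ZMod q) W,
      U' ≠ ⊥ ∧ U' ≠ ⊤ ∧ (sstab σ U').index ∣ 2 ∧ U ⊓ U' = ⊥ ∧ U ⊔ U' = ⊤ ∧
      (∀ y : P, ∀ x ∈ U, ρ y x ∈ U ∨ ρ y x ∈ U') ∧ ∀ y : P, ∀ x ∈ U', ρ y x ∈ U' ∨ ρ y x ∈ U := by
    intro U hU1 hU2 hU
    have hne : sstab σ U ≠ ⊤ := fun h2 =>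
      (h0 U fun y => (h2.ge (mem_top y) : y ∈ sstab σ U)).elim hU1 hU2
    have h2 : (sstab σ U).index = 2 :=
      ((Nat.dvd_prime Nat.prime_two).1 hU).resolve_left (mt index_eq_one.1 hne)
    obtain ⟨y, -, hy⟩ := SetLike.exists_of_lt hne.lt_top
    have e : ∀ (a b : P) (x : W), ρ a (ρ b x) = σ (a * b) x := fun a b x =>
      (rep_mul_apply σ a b x).symm
    have a1 : ∀ b ∈ sstab σ U, ∀ x ∈ U.map (ρ y), ρ b x ∈ U.map (ρ y) := by
      rintro b hb _ ⟨x, hx, rfl⟩
      have h3 : y⁻¹ * (b * y) ∈ sstab σ U := by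
        simp [mul_mem_iff_of_index_two h2, hb]
      exact ⟨_, h3 x hx, by rw [e b y]; exact (rep_mul_apply σ _ _ _).symm.trans (by rw [mul_inv_cancel_left])⟩
    have a2 : ∀ b ∉ sstab σ U, ∀ x ∈ U, ρ b x ∈ U.map (ρ y) := fun b hb x hx => by
      have h3 : y⁻¹ * b ∈ sstab σ U := by simp [mul_mem_iff_of_index_two h2, hb, hy]
      exact ⟨_, h3 x hx, (rep_mul_apply σ _ _ _).symm.trans (by rw [mul_inv_cancel_left]; rfl)⟩
    have a3 : ∀ b ∉ sstab σ U, ∀ x ∈ U.map (ρ y), ρ b x ∈ U := by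
      rintro b hb _ ⟨x, hx, rfl⟩
      have h3 : b * y ∈ sstab σ U := by simp [mul_mem_iff_of_index_two h2, hb, hy]
      exact e b y x ▸ h3 x hx
    have a4 : U ⊓ U.map (ρ y) = ⊥ := (h0 _ fun b x hx => by
      by_cases hb : b ∈ sstab σ U
      · exact ⟨hb x hx.1, a1 b hb x hx.2⟩
      · exact ⟨a3 b hb x hx.2, a2 b hb x hx.1⟩).resolve_right fun h3 => hU2 (top_le_iff.1
        (h3.ge.trans inf_le_left))
    have a5 : U ⊔ U.map (ρ y) = ⊤ := (h0 _ fun b x hx => by
      obtain ⟨x', hx', z, hz, rfl⟩ := Submodule.mem_sup.1 hx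
      rw [map_add]
      by_cases hb : b ∈ sstab σ U
      · exact Submodule.add_mem_sup (hb x' hx') (a1 b hb z hz)
      · rw [add_comm]
        exact Submodule.add_mem_sup (a3 b hb z hz) (a2 b hb x' hx')).resolve_left fun h3 => hU1
        (le_bot_iff.1 (le_sup_left.trans h3.le))
    refine ⟨U.map (ρ y), fun h3 => hU2 (by rwa [h3, sup_bot_eq] at a5),
      fun h3 => hU1 (by rwa [h3, inf_top_eq] at a4), (index_dvd_of_le a1).trans hU, a4, a5,
      fun b x hx => ?_, fun b x hx => ?_⟩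
    · exact (em (b ∈ sstab σ U)).imp (fun hb => hb x hx) fun hb => a2 b hb x hx
    · exact (em (b ∈ sstab σ U)).imp (fun hb => a1 b hb x hx) fun hb => a3 b hb x hx
  have hB : ∀ U, U ≠ ⊥ → U ≠ ⊤ → (sstab σ U).index ∣ 2 → ∀ x ∈ U, ρ h x = x := by
    intro U hU1 hU2 hU
    obtain ⟨U', -, hU', -, a4, a5, a6, a7⟩ := hA U hU1 hU2 hU
    have key : ∀ (A B : Submodule (ZMod q) W), (∀ y : P, ∀ x ∈ A, ρ y x ∈ A ∨ ρ y x ∈ B) →
        ∀ g : H, A ≤ A.comap (ρ g) ∨ A ≤ B.comap (ρ g) := fun A B hAB g =>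
      AddSubgroupClass.subset_union.1 fun x hx => by
        obtain ⟨y, hy⟩ := orb g x
        exact (hy ▸ hAB y x hx : ρ g x ∈ A ∨ ρ g x ∈ B)
    refine hsub U hU2 ?_ fun w hw hw0 g hg => (key U U' a6 g).resolve_right fun h3 =>
      hw0 (a4.le ⟨hw, mem_vstab.1 hg ▸ h3 hw⟩)
    rcases key U U' a6 h with h3 | h3
    · exact h3
    rcases key U' U a7 h with h4 | h4
    · refine absurd (eq_top_iff.2 fun x _ => ?_) hU'
      have := (sup_le h3 h4) (a5.ge (Submodule.mem_top (x := ρ h⁻¹ x)))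
      rwa [Submodule.mem_comap, ← rep_mul_apply, mul_inv_cancel, map_one] at this
    · have h5 : h ^ 2 ∈ sstab ρ U := fun x hx => by
        rw [pow_two, rep_mul_apply]; exact h4 (h3 hx)
      exact zpowers_le.2 h5 (mem_zpowers_pow_iff.2
        (coprime_of_pow_of_pow Nat.prime_two hr.out hr2.symm ⟨1, rfl⟩ hh))
  push Not at h1
  obtain ⟨U, hU, hU1, hU2⟩ := h1
  obtain ⟨U', hU1', hU2', hU', -, a5, -⟩ := hA U hU1 hU2 hU
  refine LinearMap.ext fun x => ?_
  obtain ⟨y, hy, z, hz, rfl⟩ := Submodule.mem_sup.1 (a5.ge (Submodule.mem_top (x := x)))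
  rw [map_add, hB U hU1 hU2 hU y hy, hB U' hU1' hU2' hU' z hz]
  rfl

end Cfsg.Agent.H88
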