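import Mathlib
import Cfsg.Agent.H88.TwoOrbits
import Cfsg.Agent.H88.Tower
import Cfsg.Agent.H92.Kazarin
import Cfsg.Agent.H92.Direct
import Cfsg.Agent.S0205

/-! Groups all of whose `q`-elements have prime-power class size. -/

set_option autoImplicit false

namespace Cfsg.Agent.H88

open Subgroup Cfsg.Agent.H92
open scoped commutatorElement

universe u

variable {G : Type u} [Group G] [Finite G]

omit [Finite G] in
theorem card_dvd_of_mul_mem (T : Subgroup G) (Y : Set G) (h : ∀ y ∈ Y, ∀ t ∈ T, y * t ∈ Y) :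
    Nat.card T ∣ Nat.card Y := by
  have h1 : (QuotientGroup.mk ⁻¹' (QuotientGroup.mk '' Y : Set (G ⧸ T))) = Y := by
    refine Set.Subset.antisymm ?_ (Set.subset_preimage_image _ _)
    rintro x ⟨y, hy, hxy⟩
    simpa using h y hy _ (QuotientGroup.eq.1 hxy)
  exact ⟨_, h1 ▸ QuotientGroup.card_preimage_mk T _⟩

/-- Two elements with coprime class sizes such that the class of the product is not larger than
the class of the first: the second is central modulo a normal subgroup of order dividing the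
class size of the first. -/
theorem exists_normal_of_cs_mul_le {x y : G} (hc : cs[y].Coprime cs[x]) (h : cs[y * x] ≤ cs[y]) :
    ∃ T : Subgroup G, T.Normal ∧ Nat.card T ∣ cs[y] ∧ ∀ g, g * x * g⁻¹ * x⁻¹ ∈ T := by
  let T : Subgroup G :=
    { carrier := {t | ∀ z ∈ conjSet ⊤ y, z * t ∈ conjSet ⊤ y}
      one_mem' := by simp
      mul_mem' := fun {a b} ha hb z hz => mul_assoc z a b ▸ hb _ (ha z hz)
      inv_mem' := fun {a} ha z hz => by
        have h1 : ∀ n : ℕ, z * a ^ n ∈ conjSet ⊤ y := fun n => by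
          induction n with
          | zero => simpa using hz
          | succ n ih => rw [pow_succ, ← mul_assoc]; exact ha _ ih
        obtain ⟨n, hn⟩ := mem_powers_iff_mem_zpowers.2 (inv_mem (mem_zpowers a))
        exact hn ▸ h1 n }
  have h1 : ∀ g k : G, k * y * k⁻¹ * (g * x * g⁻¹) ∈ conjSet ⊤ (y * x) := fun g k => by
    obtain ⟨c, hc, d, hd, e⟩ := H1.factorization_of_coprime_index hc (k⁻¹ * g)
    refine ⟨k * c, mem_top _, ?_⟩
    rw [show g = k * (c * d) by rw [← e]; group]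
    have h2 : c * y * c⁻¹ = y := by rw [(mem_C.1 hc).eq]; group
    have h3 : d * x * d⁻¹ = x := by rw [(mem_C.1 hd).eq]; group
    calc k * c * (y * x) * (k * c)⁻¹ = k * (c * y * c⁻¹) * k⁻¹ * (k * c * x * c⁻¹ * k⁻¹) := by group
      _ = k * y * k⁻¹ * (k * c * (d * x * d⁻¹) * c⁻¹ * k⁻¹) := by rw [h2, h3]
      _ = _ := by group
  have h2 : (· * x) '' conjSet ⊤ y = conjSet ⊤ (y * x) := by
    refine Set.eq_of_subset_of_ncard_le ?_ ?_
    · rintro _ ⟨_, ⟨k, -, rfl⟩, rfl⟩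
      simpa using h1 1 k
    · rw [Set.ncard_image_of_injective _ (mul_left_injective x), ← Nat.card_coe_set_eq,
        ← Nat.card_coe_set_eq, card_conjSet_top, card_conjSet_top]
      exact h
  refine ⟨T, ⟨fun t ht g z ⟨k, _, hk⟩ => ?_⟩, card_conjSet_top y ▸ card_dvd_of_mul_mem T _
    fun z hz t ht => ht z hz, fun g z ⟨k, _, hk⟩ => ?_⟩
  · obtain ⟨l, -, hl⟩ := ht _ ⟨g⁻¹ * k, mem_top _, rfl⟩
    exact ⟨g * l, mem_top _, by
      rw [← hk, show g * l * y * (g * l)⁻¹ = g * (l * y * l⁻¹) * g⁻¹ by group, hl]; group⟩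
  · obtain ⟨w, hw, e⟩ := h2.ge (h1 g k)
    rwa [← hk, ← mul_assoc, ← e, mul_inv_cancel_right]

theorem eq_one_of_commute_of_conj {x t g : G} (h : Commute t x) (e : g * x * g⁻¹ = t * x)
    (hc : (orderOf t).Coprime (orderOf x)) : t = 1 := by
  have h1 := orderOf_conj g x
  rw [e, h.orderOf_mul_eq_mul_orderOf_of_coprime hc] at h1
  exact orderOf_eq_one_iff.1 ((Nat.mul_eq_right (orderOf_pos x).ne').1 h1)

variable {q : ℕ} [hq : Fact q.Prime]

theorem qbaer_mixed_aux (hB : ∀ x : G, (∃ k, orderOf x = q ^ k) → ∃ r a, r.Prime ∧ cs[x] = r ^ a)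
    {p r : ℕ} (hp : p.Prime) (hr : r.Prime) (hpr : p ≠ r) (hrq : r ≠ q) {x y : G}
    (hx : ∃ k, orderOf x = q ^ k) (hy : ∃ k, orderOf y = q ^ k) (hx' : ∃ k, cs[x] = p ^ k)
    (hy' : ∃ k, cs[y] = r ^ k) (hlt : cs[x] ≤ cs[y]) : cs[x] = 1 := by
  obtain ⟨Q, hQ⟩ := exists_sylow_mem hx
  obtain ⟨g, hg⟩ := exists_conj_mem_sylow Q hy
  rw [← cs_conj g y] at hy' hlt
  generalize g * y * g⁻¹ = z at hy' hlt hg
  have hc := coprime_of_pow_of_pow hr hp hpr.symm hy' hx'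
  obtain ⟨s, a, hs, ha⟩ := hB _ (orderOf_eq_pow_of_mem Q.isPGroup' (mul_mem hg hQ))
  have h1 : s ^ a ∣ cs[z] * cs[x] := by
    rw [← ha, ← H1.index_inf_of_coprime hc]; exact index_dvd_of_le (inf_le_C_mul z x)
  obtain ⟨T, hT, hT1, hT2⟩ := exists_normal_of_cs_mul_le hc (by
    rw [ha]
    by_cases h2 : s = p
    · exact (Nat.le_of_dvd (cs_pos x) ((coprime_of_pow_of_pow hp hr hpr ⟨a, h2 ▸ rfl⟩
        hy').dvd_of_dvd_mul_left h1)).trans hlt
    · exact Nat.le_of_dvd (cs_pos z) ((coprime_of_pow_of_pow hs hp h2 ⟨a, rfl⟩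
        hx').dvd_of_dvd_mul_right h1))
  refine cs_eq_one_iff.2 (mem_center_iff.2 fun k => ?_)
  have h2 := eq_one_of_commute_of_conj (g := k)
    (mem_C.1 (normal_le_C_of_coprime T (hc.coprime_dvd_left hT1) (hT2 k))) (by group)
    (coprime_of_pow_of_pow hr hq.out hrq
      (eq_pow_of_dvd hr ((T.orderOf_dvd_natCard (hT2 k)).trans hT1) hy') hx)
  rwa [mul_inv_eq_one, mul_inv_eq_iff_eq_mul] at h2

theorem mem_pCore_of_cs_pow {x : G} (hx : ∃ k, orderOf x = q ^ k) (hx' : ∃ k, cs[x] = q ^ k) :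
    x ∈ pCore q G := by
  obtain ⟨Q, hQ⟩ := exists_sylow_mem hx
  exact H3.le_pCore (Q.isPGroup'.to_le (normalClosure_le_of_cs_pow hq.out hx' hQ Q.not_dvd_index))
    (subset_normalClosure rfl)

theorem sylow_le_sup_of_cs_pow (Q : Sylow q G) {Z : Subgroup G} {r : ℕ} [hr : Fact r.Prime]
    (hrq : r ≠ q) (P : Sylow r G) (h : ∀ w ∈ (Q : Subgroup G), w ∉ Z → ∃ k, cs[w] = q ^ k)
    {L : Subgroup G} (hZL : Z ≤ L)
    (hL : (Q : Subgroup G) ⊓ centralizer (P : Subgroup G) ≤ L) : (Q : Subgroup G) ≤ L := by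
  refine subgroupOf_eq_top.1 (eq_top_of_forall_conj_mem fun w => ?_)
  by_cases hw : (w : G) ∈ Z
  · exact ⟨1, by simpa [mem_subgroupOf] using hZL hw⟩
  obtain ⟨g, hg⟩ := (not_dvd_cs_iff_conj P).1 (not_dvd_of_eq_pow hr.out hq.out hrq (h w w.2 hw))
  obtain ⟨u, hu, c, hc, rfl⟩ := H1.factorization_of_coprime_index
    (coprime_of_pow_of_not_dvd hq.out (h w w.2 hw) Q.not_dvd_index).symm g
  have e : u * c * w * (u * c)⁻¹ = u * w * u⁻¹ := by rw [mul_assoc u, (mem_C.1 hc).eq]; group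
  rw [e] at hg
  exact ⟨⟨u, hu⟩, hL (mem_inf.2 ⟨mul_mem (mul_mem hu w.2) (inv_mem hu), hg⟩)⟩

theorem qbaer_mixed_q (hB : ∀ x : G, (∃ k, orderOf x = q ^ k) → ∃ r a, r.Prime ∧ cs[x] = r ^ a)
    {p : ℕ} (hp : p.Prime) (hpq : p ≠ q) {x y : G} (hx : ∃ k, orderOf x = q ^ k)
    (hy : ∃ k, orderOf y = q ^ k) (hx' : ∃ k, cs[x] = p ^ k) (hy' : ∃ k, cs[y] = q ^ k) :
    cs[x] = 1 ∨ cs[y] = 1 := by
  refine or_iff_not_imp_right.2 fun hy1 => ?_
  have := Fact.mk hp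
  have h1 : ∀ w : G, (∃ k, orderOf w = q ^ k) → (∃ k, cs[w] = q ^ k) ∨
      ∃ Q : Sylow q G, (Q : Subgroup G) ≤ Ce[w] := fun w hw => by
    obtain ⟨r, a, hr, ha⟩ := hB w hw
    by_cases h : r = q
    · exact Or.inl ⟨a, h ▸ ha⟩
    · exact Or.inr (not_dvd_cs_iff.1 (not_dvd_of_eq_pow hq.out hr (Ne.symm h) ⟨a, ha⟩))
  have h2 : ∀ Q : Sylow q G, ¬ (Q : Subgroup G) ≤ Ce[y] := fun Q hQ =>
    hy1 ((Nat.coprime_self _).1 (coprime_of_pow_of_not_dvd hq.out hy' (not_dvd_cs_iff.2 ⟨Q, hQ⟩)))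
  have h3 : ∀ Q : Sylow q G, (Q : Subgroup G) ≤ pCore q G := fun Q =>
    (SubgroupClass.subset_union.1 (show ((Q : Subgroup G) : Set G) ⊆ pCore q G ∪ Ce[y] from
      fun w hw => (h1 w (orderOf_eq_pow_of_mem Q.isPGroup' hw)).imp
        (mem_pCore_of_cs_pow (orderOf_eq_pow_of_mem Q.isPGroup' hw)) fun ⟨R, hR⟩ =>
        mem_C_comm.1 (hR (H3.pCore_le_sylow R (mem_pCore_of_cs_pow hy hy'))))).resolve_right (h2 Q)
  obtain ⟨Q, hxQ⟩ := exists_sylow_mem hx
  have h4 : ∀ R : Sylow q G, (Q : Subgroup G) ≤ R := fun R => (h3 Q).trans (H3.pCore_le_sylow R)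
  obtain ⟨P⟩ : Nonempty (Sylow p G) := inferInstance
  have h5 : ∀ w ∈ (Q : Subgroup G), w ∉ centralizer (Q : Subgroup G) → ∃ k, cs[w] = q ^ k :=
    fun w hw hw' => (h1 w (orderOf_eq_pow_of_mem Q.isPGroup' hw)).resolve_right fun ⟨R, hR⟩ =>
      hw' (le_C_iff.1 ((h4 R).trans hR))
  let L : Subgroup G :=
    { carrier := {w | ∃ z ∈ centralizer ((Q : Subgroup G) : Set G),
        ∃ c ∈ (Q : Subgroup G) ⊓ centralizer (P : Subgroup G), w = z * c}
      one_mem' := ⟨1, one_mem _, 1, one_mem _, by simp⟩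
      mul_mem' := by
        rintro _ _ ⟨z, hz, c, hc, rfl⟩ ⟨z', hz', c', hc', rfl⟩
        exact ⟨_, mul_mem hz hz', _, mul_mem hc hc', by
          rw [mul_assoc, mul_assoc, ← mul_assoc c, hz' c hc.1, mul_assoc]⟩
      inv_mem' := by
        rintro _ ⟨z, hz, c, hc, rfl⟩
        exact ⟨_, inv_mem hz, _, inv_mem hc, by rw [← mul_inv_rev, hz c hc.1]⟩ }
  have h6 : (Q : Subgroup G) ≤ L := sylow_le_sup_of_cs_pow Q hpq P h5
    (fun z hz => ⟨z, hz, 1, one_mem _, by simp⟩) fun c hc => ⟨1, one_mem _, c, hc, by simp⟩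
  obtain ⟨R, hR⟩ := not_dvd_cs_iff.1 (not_dvd_of_eq_pow hq.out hp hpq.symm hx')
  have hxZ := le_C_iff.1 ((h4 R).trans hR)
  obtain ⟨z, hz, c, hc, rfl⟩ := h6 (H3.pCore_le_sylow Q (mem_pCore_of_cs_pow hy hy'))
  have h7 := h5 (x * c) (mul_mem hxQ hc.1) fun h =>
    h2 Q (le_C_iff.2 (mul_mem hz ((mul_mem_cancel_left hxZ).1 h)))
  obtain ⟨g, hg⟩ := (not_dvd_cs_iff_conj P).1 (not_dvd_of_eq_pow hp hq.out hpq h7)
  obtain ⟨u, hu, d, hd, rfl⟩ := H1.factorization_of_coprime_index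
    (coprime_of_pow_of_not_dvd hq.out h7 Q.not_dvd_index).symm g
  obtain ⟨z', hz', c', hc', rfl⟩ := h6 hu
  have e : z' * c' * d * (x * c) * (z' * c' * d)⁻¹ = x * (c' * c * c'⁻¹) := by
    rw [mul_assoc _ d, (mem_C.1 hd).eq, ← mul_assoc, mul_inv_rev, mul_assoc _ d,
      mul_inv_cancel_left, ← mul_assoc, hxZ _ hu, mul_assoc x, mul_assoc z',
      ← hz' _ (mul_mem (mem_inf.1 hc').1 (mem_inf.1 hc).1), ← hz' _ hc'.1]
    group
  rw [e, mul_mem_cancel_right (mul_mem (mul_mem (mem_inf.1 hc').2 (mem_inf.1 hc).2)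
    (inv_mem (mem_inf.1 hc').2))] at hg
  exact (Nat.coprime_self _).1
    (coprime_of_pow_of_not_dvd hp hx' (not_dvd_cs_iff.2 ⟨P, le_C_iff.2 hg⟩))

theorem qbaer_one_prime
    (hB : ∀ x : G, (∃ k, orderOf x = q ^ k) → ∃ r a, r.Prime ∧ cs[x] = r ^ a) :
    ∃ p : ℕ, p.Prime ∧ ∀ x : G, (∃ k, orderOf x = q ^ k) → ∃ a, cs[x] = p ^ a := by
  by_cases h : ∀ x : G, (∃ k, orderOf x = q ^ k) → cs[x] = 1
  · exact ⟨q, hq.out, fun x hx => ⟨0, h x hx⟩⟩
  push Not at h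
  obtain ⟨x, hx, hx1⟩ := h
  obtain ⟨p, a, hp, ha⟩ := hB x hx
  refine ⟨p, hp, fun y hy => ?_⟩
  obtain ⟨r, b, hr, hb⟩ := hB y hy
  by_cases hpr : p = r
  · exact ⟨b, hpr ▸ hb⟩
  refine ⟨0, ?_⟩
  by_cases hpq : p = q
  · exact (qbaer_mixed_q hB hr (hpq ▸ Ne.symm hpr) hy hx ⟨b, hb⟩ ⟨a, hpq ▸ ha⟩).resolve_right hx1
  by_cases hrq : r = q
  · exact (qbaer_mixed_q hB hp hpq hx hy ⟨a, ha⟩ ⟨b, hrq ▸ hb⟩).resolve_left hx1
  rcases le_total cs[x] cs[y] with h | h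
  · exact absurd (qbaer_mixed_aux hB hp hr hpr hrq hx hy ⟨a, ha⟩ ⟨b, hb⟩ h) hx1
  · exact qbaer_mixed_aux hB hr hp (Ne.symm hpr) hpq hy hx ⟨b, hb⟩ ⟨a, ha⟩ h

theorem qbaer_direct (h : ∀ x : G, (∃ k, orderOf x = q ^ k) → ∃ a, cs[x] = q ^ a) (Q : Sylow q G) :
    (Q : Subgroup G).Normal ∧ ∃ N : Subgroup G, N.Normal ∧ N.IsComplement' (Q : Subgroup G) := by
  have h1 := fun w (hw : w ∈ (Q : Subgroup G)) => orderOf_eq_pow_of_mem Q.isPGroup' hw
  obtain ⟨h2, N, h3, h4, -⟩ := sylow_direct_of_sup_centralizer Q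
    (eq_top_of_forall_not_dvd_index fun r hr => by
      by_cases hrq : r = q
      · rw [hrq]; exact not_dvd_index_of_sylow_le Q le_sup_left
      have := Fact.mk hr
      obtain ⟨P⟩ : Nonempty (Sylow r G) := inferInstance
      exact not_dvd_index_of_sylow_le P ((le_centralizer_iff.1 (sylow_le_sup_of_cs_pow Q (Z := ⊥)
        hrq P (fun w hw _ => h w (h1 w hw)) bot_le inf_le_right)).trans le_sup_right))
  exact ⟨h2, N, h3, h4⟩

theorem qbaer_comm {p : ℕ} (hp : p.Prime) (hpq : p ≠ q)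
    (h : ∀ x : G, (∃ k, orderOf x = q ^ k) → ∃ a, cs[x] = p ^ a) (Q : Sylow q G) :
    IsMulCommutative (Q : Subgroup G) ∧ (pCore p G ⊔ (Q : Subgroup G)).Normal := by
  have := Fact.mk hp
  have h1 := fun w (hw : w ∈ (Q : Subgroup G)) => orderOf_eq_pow_of_mem Q.isPGroup' hw
  refine ⟨⟨⟨fun x y => Subtype.ext ?_⟩⟩, ⟨fun x hx g => ?_⟩⟩
  · have h2 := (IsPGroup.disjoint_of_ne p q hpq _ _ (H3.pCore_isPGroup p G) Q.isPGroup').le_bot
      ⟨commutator_mem_pCore_of_cs_pow (h x (h1 x x.2)) (h y (h1 y y.2)), (x * y * x⁻¹ * y⁻¹).2⟩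
    exact commutatorElement_eq_one_iff_mul_comm.1 h2
  · refine (sup_le (fun y hy => le_sup_left (a := pCore p G) ((pCore_normal p G).conj_mem y hy g))
      (fun y hy => ?_) : _ ≤ (pCore p G ⊔ (Q : Subgroup G)).comap (MulAut.conj g).toMonoidHom) hx
    have h2 : ∃ k, orderOf (g * y * g⁻¹) = q ^ k := orderOf_conj g y ▸ h1 y hy
    change g * y * g⁻¹ ∈ pCore p G ⊔ (Q : Subgroup G)
    generalize g * y * g⁻¹ = z at h2
    refine mem_of_normalizes_of_coprime (mem_normalizer_fintype fun w hw => ?_)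
      (coprime_of_pow_of_not_dvd hq.out h2 (not_dvd_index_of_sylow_le Q le_sup_right))
    refine (sup_le (fun y hy => le_sup_left (a := pCore p G) ((pCore_normal p G).conj_mem y hy z))
      (fun y hy => ?_) : _ ≤ (pCore p G ⊔ (Q : Subgroup G)).comap (MulAut.conj z).toMonoidHom) hw
    simpa using mul_mem_sup (commutator_mem_pCore_of_cs_pow (h z h2) (h y (h1 y hy))) hy

theorem qbaer_solvable {p : ℕ} (hp : p.Prime) (hpq : p ≠ q)
    (h : ∀ x : G, (∃ k, orderOf x = q ^ k) → ∃ a, cs[x] = p ^ a) (h0 : pPrimeCore q G = ⊥) :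
    Group.IsSolvable G := by
  obtain ⟨Q⟩ : Nonempty (Sylow q G) := inferInstance
  obtain ⟨hc, hn⟩ := qbaer_comm hp hpq h Q
  rw [le_bot_iff.1 ((H3.pCore_le_pPrimeCore ((Nat.coprime_primes hp hq.out).2 hpq)).trans h0.le),
    bot_sup_eq] at hn
  have h1 := fun w (hw : w ∈ (Q : Subgroup G)) => h w (orderOf_eq_pow_of_mem Q.isPGroup' hw)
  have hs : Group.IsSolvable (G ⧸ (Q : Subgroup G)) → Group.IsSolvable G := fun _ =>
    have := Q.isPGroup'.isNilpotent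
    Group.isSolvable_of_ker_le_range (Q : Subgroup G).subtype (QuotientGroup.mk' Q) (by simp)
  have h2 : ∀ t ∈ centralizer ((Q : Subgroup G) : Set G), ¬ q ∣ orderOf t → t = 1 := fun t ht ht' => by
    let C := centralizer ((Q : Subgroup G) : Set G)
    have hQ : (Q : Subgroup G) ≤ C := le_centralizer _
    obtain ⟨-, N, h3, -, -, h4, h5⟩ := sylow_direct_of_sup_centralizer (Q.subtype hQ)
      (eq_top_iff.2 fun x _ => mem_sup_right fun y hy => Subtype.ext (x.2 y hy))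
    have h6 := H3.map_pPrimeCore_le_pPrimeCore (p := q) C (mem_map_of_mem _ (H3.le_pPrimeCore
      ((Nat.Prime.coprime_iff_not_dvd hq.out).2 h4).symm (h5 ⟨t, ht⟩ (by simpa using ht'))))
    rwa [h0] at h6
  by_cases hq2 : q = 2
  · subst hq2
    exact hs (S0205.result (Nat.not_even_iff_odd.1 (mt even_iff_two_dvd.1 Q.not_dvd_index)))
  by_cases hp2 : p = 2
  · subst hp2
    obtain ⟨W, _, _, e, ρ, he, hρ⟩ := H69.exists_abelem_rep (H67.elemAb_omegaOne (p := q) hc)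
      (MonoidHom.id G) fun a => H67.normalizer_le_normalizer_omegaOne q _
        (by rw [normalizer_eq_top]; trivial)
    have : Finite W := Finite.of_equiv _ e.symm
    have h3 : ∀ w, vstab ρ w = Ce[(e w : G)] := fun w => Subgroup.ext fun g => by
      rw [mem_vstab, ← e.injective.eq_iff, Subtype.ext_iff, hρ, mul_inv_eq_iff_eq_mul]
      exact mem_C.symm
    obtain ⟨k, hk⟩ := (eq_pow_iff_forall Nat.prime_two (Q : Subgroup G).index_ne_zero_of_finite).2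
      fun r hr hd => by
        by_contra hr2
        have := Fact.mk hr
        have hrq : r ≠ q := fun h4 => Q.not_dvd_index (h4 ▸ hd)
        obtain ⟨t, ht⟩ := exists_prime_orderOf_dvd_card' r (hd.trans (index_dvd_card _))
        have h4 := eq_one_of_two_orbits hq2 hr2 hrq _ W rfl G ρ
          (fun w => h3 w ▸ h1 _ (H67.omegaOne_le q _ (e w).2)) t ⟨1, by rw [ht, pow_one]⟩
        have h5 := H63.coprime_abelian_faithful_omegaOne (A := zpowers t) hq.out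
          (by rw [normalizer_eq_top]; exact le_top)
          (coprime_of_pow_of_pow hr hq.out hrq ⟨1, by rw [Nat.card_zpowers, ht, pow_one]⟩
            Q.isPGroup'.exists_card_eq) hc Q.isPGroup' (zpowers_le.2 fun w hw => by
            obtain ⟨w, hw'⟩ := e.surjective ⟨w, hw⟩
            have h6 : t ∈ vstab ρ w := by rw [mem_vstab, h4]; rfl
            rw [h3, hw'] at h6
            exact (mem_C.1 h6).symm)
        have h6 := h2 t (h5 (mem_zpowers t)) (by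
          rw [ht]; exact fun h7 => hrq ((Nat.prime_dvd_prime_iff_eq hq.out hr).1 h7).symm)
        rw [h6, orderOf_one] at ht
        exact hr.one_lt.ne ht
    have := (IsPGroup.of_card (G := G ⧸ (Q : Subgroup G)) hk).isNilpotent
    exact hs inferInstance
  refine S0205.result (Nat.not_even_iff_odd.1 fun h3 => ?_)
  obtain ⟨t, ht⟩ := exists_prime_orderOf_dvd_card' 2 (even_iff_two_dvd.1 h3)
  have ht2 : t * t = 1 := by rw [← pow_two, ← ht, pow_orderOf_eq_one]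
  have h4 := h2 t (fun x hx => by
    have h5 : t * x * t⁻¹ ∈ (Q : Subgroup G) := hn.conj_mem x hx t
    have h6 : x⁻¹ * (t * x * t⁻¹) ∈ (Q : Subgroup G) := mul_mem (inv_mem hx) h5
    have h7 : t * (x⁻¹ * (t * x * t⁻¹)) * t⁻¹ = (x⁻¹ * (t * x * t⁻¹))⁻¹ := by
      rw [mul_inv_rev, inv_inv, show t * (x⁻¹ * (t * x * t⁻¹)) * t⁻¹ =
        (t * x * t⁻¹)⁻¹ * (t * t) * x * (t * t)⁻¹ by group, ht2]
      group
    generalize hw : x⁻¹ * (t * x * t⁻¹) = w at h6 h7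
    have h8 : t ∈ Ce[w] := mem_of_normalizes_of_coprime (mem_normalizer_fintype fun g hg => by
        rw [← C_inv, ← h7, SetLike.mem_coe, mem_C_conj]; simpa [mul_assoc] using hg)
      (coprime_of_pow_of_pow Nat.prime_two hp (Ne.symm hp2) ⟨1, ht⟩ (h1 w h6))
    rw [(mem_C.1 h8).eq, mul_inv_cancel_right] at h7
    have h9 : w = 1 := orderOf_eq_one_iff.1 (Nat.eq_one_of_dvd_coprimes
      (coprime_of_pow_of_pow Nat.prime_two hq.out (Ne.symm hq2) ⟨1, rfl⟩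
        (orderOf_eq_pow_of_mem Q.isPGroup' h6))
      (orderOf_dvd_of_pow_eq_one (by rw [pow_one, pow_two]; nth_rw 1 [h7]; simp)) dvd_rfl)
    rw [h9, inv_mul_eq_one, eq_mul_inv_iff_mul_eq] at hw
    exact hw) (by rw [ht]; exact fun h7 => hq2 ((Nat.prime_dvd_prime_iff_eq hq.out Nat.prime_two).1 h7))
  rw [h4, orderOf_one] at ht
  exact absurd ht (by norm_num)

theorem qbaer_quotient {p : ℕ} (hp : p.Prime) (N : Subgroup G) [N.Normal]
    (h : ∀ x : G, (∃ k, orderOf x = q ^ k) → ∃ a, cs[x] = p ^ a) :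
    ∀ x : G ⧸ N, (∃ k, orderOf x = q ^ k) → ∃ a, cs[x] = p ^ a := by
  intro x hx
  obtain ⟨P, hP⟩ := exists_sylow_mem hx
  obtain ⟨Q, rfl⟩ := Sylow.mapSurjective_surjective (QuotientGroup.mk'_surjective N) q P
  obtain ⟨y, hy, rfl⟩ := hP
  exact eq_pow_of_dvd hp (cs_mk_dvd N y) (h y (orderOf_eq_pow_of_mem Q.isPGroup' hy))

end Cfsg.Agent.H88
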