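import Cfsg.Agent.H88.FpfCore
import Cfsg.Agent.H61.Schur

/-! Group theoretic lemmas for the exceptional case of Turull's theorem. -/

set_option autoImplicit false
set_option linter.unusedSectionVars false

namespace Cfsg.Agent.H88.Tu

open Cfsg Cfsg.Agent.H63 Cfsg.Agent.H67 Cfsg.Agent.H69 Subgroup
open scoped IsMulCommutative commutatorElement

universe u

variable {G : Type u} [Group G] [Finite G]

theorem irr_comm {A R T : Subgroup G} (hA : IsMulCommutative A) (hmin : MinNormal A R)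
    (hT : T ≤ N[A]) (hTR : T ≤ C[R]) : ⁅T, T⁆ ≤ C[A] := by
  have : Nontrivial (Additive A) := (nontrivial_iff_ne_bot A).2 hmin.1
  obtain ⟨D, _, _, _, -, h2⟩ := H61.exists_centralizer_field (V := Additive A)
    {φ | ∃ a ∈ R, φ = MonoidHom.toAdditive (conjOn A a)} (fun W hW => by
      have h1 : R ≤ N[(AddSubgroup.toSubgroup W).map A.subtype] := fun a ha =>
        mem_normalizer_of_cj_le (cj_le_iff.2 (by
          rintro _ ⟨w, hw, rfl⟩
          exact ⟨_, hW _ ⟨a, ha, rfl⟩ w hw, conjOn_apply (hmin.norm ha) w⟩))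
      rcases hmin.eq_bot_or_eq (map_subtype_le _) h1 with h | h
      · left
        refine eq_bot_iff.2 fun w hw => ?_
        have : ((Additive.toMul w : A) : G) ∈ (⊥ : Subgroup G) := h ▸ ⟨w, hw, rfl⟩
        exact Subtype.ext (mem_bot.1 this)
      · right
        refine eq_top_iff.2 fun w _ => ?_
        obtain ⟨v, hv, e⟩ := h.ge (Additive.toMul w).2
        have e' : v = Additive.toMul w := Subtype.ext e
        subst e'
        exact hv)
  have h3 : ∀ t ∈ T, ∃ d : D, ∀ v : A, Additive.ofMul (conjOn A t v) = d • Additive.ofMul v :=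
    fun t ht => h2 (MonoidHom.toAdditive (conjOn A t)) (by
      rintro _ ⟨a, ha, rfl⟩ v
      change conjOn A a (conjOn A t (Additive.toMul v)) = conjOn A t (conjOn A a (Additive.toMul v))
      rw [← conjOn_mul (hmin.norm ha) (hT ht), ← conjOn_mul (hT ht) (hmin.norm ha), hTR ht a ha])
  refine commutator_le.2 fun s hs t ht a ha => ?_
  obtain ⟨d, hd⟩ := h3 s hs
  obtain ⟨e, he⟩ := h3 t ht
  have h4 : ∀ v : A, conjOn A s (conjOn A t v) = conjOn A t (conjOn A s v) := fun v =>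
    Additive.ofMul.injective (by rw [hd, he, he, hd, smul_comm])
  have h5 := congrArg Subtype.val (h4 ⟨(t * s)⁻¹ * a * (t * s),
    conj_mem_of_mem_normalizer' (mul_mem (hT ht) (hT hs)) ha⟩)
  simp only [conjOn_apply (hT hs), conjOn_apply (hT ht)] at h5
  calc a * ⁅s, t⁆ = t * (s * ((t * s)⁻¹ * a * (t * s)) * s⁻¹) * t⁻¹ * ⁅s, t⁆ := by group
    _ = ⁅s, t⁆ * a := by rw [← h5, commutatorElement_def]; group

theorem big_of_modEq {x r : ℕ} (hr : Odd r) (hx : Odd x) (h1 : x ≠ 1) (h : x ≡ 1 [MOD r]) :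
    2 * r + 1 ≤ x := by
  obtain ⟨j, hj⟩ := (Nat.modEq_iff_dvd' hx.pos).1 h.symm
  have h2 : x = r * j + 1 := by have := hx.pos; omega
  rcases j with _ | _ | j
  · omega
  · obtain ⟨a, ha⟩ := hr
    obtain ⟨b, hb⟩ := hx
    omega
  · nlinarith

theorem h2core {r : ℕ} (hr : r.Prime) (r2 : r ≠ 2) {W R T D : Subgroup G}
    (hW : IsMulCommutative W) (oW : Odd (Nat.card W)) (cR : Nat.card R = r) (RW : R ≤ N[W])
    (fR : W ⊓ C[R] = ⊥) (TW : T ≤ N[W]) (TD : T ≤ N[D]) (TR : T ≤ C[R]) (DT : D ≤ T)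
    (pD : IsPGroup 2 D) (D1 : D ≠ ⊥)
    (hc : ∀ z ∈ D, orderOf z = 2 → Nat.card ↥⁅W, zpowers z⁆ = (2 * r - 1) ^ 2) :
    ¬ D ≤ ⁅T, T⁆ := by
  have r3 : 3 ≤ r := by have := hr.two_le; omega
  have hle : ∀ z ∈ D, ⁅W, zpowers z⁆ ≤ W := fun z hz =>
    commutator_le_of_norm_left (zpowers_le.2 (TW (DT hz)))
  have hmod : ∀ B, B ≤ W → R ≤ N[B] → Nat.card B ≡ 1 [MOD r] := fun B hB hn =>
    cR ▸ semiregular_modEq hn (H69.semiregular_of_prime_card (cR ▸ hr) (fpf_mono fR hB))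
  have hne : ∀ z ∈ D, orderOf z = 2 → ⁅W, zpowers z⁆ ≠ ⊥ := fun z hz h2 e => by
    have := hc z hz h2
    rw [e, card_bot] at this
    have h3 : 5 ≤ 2 * r - 1 := by omega
    nlinarith
  have hRn : ∀ z ∈ D, R ≤ N[⁅W, zpowers z⁆] := fun z hz => le_normalizer_commutator RW
    (le_normalizer_of_le_centralizer' (zpowers_le.2 (TR (DT hz))))
  have hmin : ∀ z ∈ D, orderOf z = 2 → MinNormal ⁅W, zpowers z⁆ R := fun z hz h2 =>
    ⟨hne z hz h2, hRn z hz, fun B hB B1 hn => by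
      obtain ⟨k, hk⟩ := card_dvd_of_le hB
      have h3 := hmod _ (hle z hz) (hRn z hz)
      have h4 := hmod _ (hB.trans (hle z hz)) hn
      have h5 : Odd (Nat.card B * k) := hk ▸ oW.of_dvd_nat (card_dvd_of_le (hle z hz))
      have h6 : k ≡ 1 [MOD r] := by
        have := (h4.mul_right k).symm.trans (hk ▸ h3)
        rwa [one_mul] at this
      have h7 := big_of_modEq (hr.odd_of_ne_two r2) (Nat.Odd.of_mul_left h5)
        (fun e => B1 (card_eq_one.1 e)) h4
      by_cases k1 : k = 1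
      · exact eq_of_le_of_card_ge hB (by rw [hk, k1, mul_one])
      · have h8 := big_of_modEq (hr.odd_of_ne_two r2) (Nat.Odd.of_mul_right h5) k1 h6
        rw [hc z hz h2] at hk
        obtain ⟨s, rfl⟩ : ∃ s, r = s + 1 := ⟨r - 1, by omega⟩
        rw [show 2 * (s + 1) - 1 = 2 * s + 1 by omega] at hk
        nlinarith [Nat.mul_le_mul h7 h8]⟩
  have hcop : ∀ z : G, orderOf z = 2 → (Nat.card (zpowers z)).Coprime (Nat.card W) := fun z h2 => by
    rw [Nat.card_zpowers, h2]; exact Nat.coprime_two_left.2 oW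
  have hTI : ∀ z ∈ D, orderOf z = 2 → ⁅W, zpowers z⁆ ⊓ C[zpowers z] = ⊥ := fun z hz h2 =>
    coprime_abel_cent_TI (zpowers_le.2 (TW (DT hz))) (hcop z h2) hW
  have hinv : ∀ z ∈ D, orderOf z = 2 → ∀ a ∈ ⁅W, zpowers z⁆, z * a * z⁻¹ = a⁻¹ := by
    intro z hz h2 a ha
    have h3 := conj_mem_of_mem_normalizer (le_norm_commutator_right W _ (mem_zpowers z)) ha
    have h4 : z * z = 1 := by rw [← pow_two, ← h2, pow_orderOf_eq_one]
    have h5 : a * (z * a * z⁻¹) ∈ ⁅W, zpowers z⁆ ⊓ C[zpowers z] := ⟨mul_mem ha h3, by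
      rw [centralizer_zpowers]
      refine mem_centralizer_singleton_iff.2 ?_
      nth_rw 1 [comm_of_isMulCommutative hW (hle z hz ha) (hle z hz h3)]
      rw [inv_eq_of_mul_eq_one_right h4]
      simp only [mul_assoc]⟩
    rw [hTI z hz h2, mem_bot] at h5
    exact eq_inv_of_mul_eq_one_right h5
  have hmem : ∀ z : G, ∀ a ∈ W, z * a * z⁻¹ = a⁻¹ → a ∈ ⁅W, zpowers z⁆ := by
    intro z a ha h
    have h3 : a ^ 2 ∈ ⁅W, zpowers z⁆ := by
      have : a ^ 2 = ⁅a, z⁆ := by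
        rw [commutatorElement_def, mul_assoc, mul_assoc, ← mul_assoc z, ← inv_inv (z * a⁻¹ * z⁻¹),
          show (z * a⁻¹ * z⁻¹)⁻¹ = z * a * z⁻¹ by group, h, inv_inv, pow_two]
      exact this ▸ commutator_mem_commutator ha (mem_zpowers z)
    exact mem_of_pow_mem_of_coprime (Nat.coprime_two_right.2
      (oW.of_dvd_nat (orderOf_dvd_card_of_mem ha))) h3
  have := Fact.mk Nat.prime_two
  obtain ⟨z, hz, h2⟩ : ∃ z ∈ Z[D], orderOf z = 2 := by
    obtain ⟨x, hx⟩ := exists_prime_orderOf_dvd_card' (G := ↥Z[D]) 2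
      (((pD.to_le inf_le_left).card_eq_or_dvd).resolve_left fun e =>
        center_ne_bot_of_isPGroup Nat.prime_two pD D1 (card_eq_one.1 e))
    exact ⟨x, x.2, by rw [← hx, orderOf_coe]⟩
  have hTz : T ≤ C1[z] := by
    intro t ht
    by_contra hzt
    set y := t * z * t⁻¹ with hy
    have hyZ : y ∈ Z[D] := conj_mem_of_mem_normalizer (normalizer_le_normalizer_center D (TD ht)) hz
    have y2 : orderOf y = 2 := by
      rw [← h2]; exact (SemiconjBy.orderOf_eq t (by simp [SemiconjBy, hy])).symm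
    have hzy : z * y = y * z := hyZ.2 z hz.1
    have z2 : z * z = 1 := by rw [← pow_two, ← h2, pow_orderOf_eq_one]
    have yy : y * y = 1 := by rw [← pow_two, ← y2, pow_orderOf_eq_one]
    have x2 : orderOf (z * y) = 2 := orderOf_eq_prime
      (by rw [Commute.mul_pow hzy, pow_two, pow_two, z2, yy, mul_one]) fun e => hzt (by
        have h3 : y = z := by rw [← mul_one y, ← z2, ← mul_assoc, ← hzy, e, one_mul]
        exact mem_centralizer_singleton_iff.2 (mul_inv_eq_iff_eq_mul.1 h3))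
    have hx : z * y ∈ D := mul_mem hz.1 hyZ.1
    have key : ∀ a ∈ Z[D], ∀ b ∈ Z[D], orderOf a = 2 → ⁅W, zpowers a⁆ ⊓ ⁅W, zpowers b⁆ = ⊥ →
        ⁅W, zpowers a⁆ ≤ ⁅W, zpowers (a * b)⁆ := by
      intro a ha b hb a2 h0 w hw
      have h3 : ⁅⁅W, zpowers a⁆, zpowers b⁆ = ⊥ := le_bot_iff.1 (h0 ▸ le_inf
        (commutator_le_of_norm_left (le_normalizer_commutator (zpowers_le.2 (TW (DT hb.1)))
          (le_normalizer_of_le_centralizer (zpowers_le.2
            (centralizer_anti (zpowers_le.2 ha.1) hb.2)))))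
        (commutator_mono (hle a ha.1) le_rfl))
      have h4 := le_cent_of_commutator_eq_bot h3 hw b (mem_zpowers b)
      refine hmem _ w (hle a ha.1 hw) ?_
      rw [← hinv a ha.1 a2 w hw, mul_assoc a, h4]
      group
    by_cases h0 : ⁅W, zpowers z⁆ ⊓ ⁅W, zpowers y⁆ = ⊥
    · have h3 := (hmin _ hx x2).eq (key z hz y hyZ h2 h0) (hne z hz.1 h2) (hRn z hz.1)
      have h4 := (hmin _ hx x2).eq (hzy ▸ key y hyZ z hz y2 (inf_comm ⁅W, zpowers z⁆ _ ▸ h0))
        (hne y hyZ.1 y2) (hRn y hyZ.1)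
      rw [h3, h4, inf_idem] at h0
      exact hne _ hx x2 h0
    · have h3 := (hmin z hz.1 h2).le_of_inf_ne_bot (hRn y hyZ.1) h0
      have h4 := (hmin y hyZ.1 y2).le_of_inf_ne_bot (hRn z hz.1) (inf_comm ⁅W, zpowers z⁆ _ ▸ h0)
      have h5 : ⁅W, zpowers (z * y)⁆ ≤ ⁅W, zpowers z⁆ :=
        (commutator_mono le_rfl (zpowers_le.2 (mul_mem (mem_sup_left (mem_zpowers z))
          (mem_sup_right (mem_zpowers y))))).trans (commutator_sup_right_le
            (le_norm_commutator_right _ _)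
            (le_antisymm h3 h4 ▸ le_norm_commutator_right _ _) le_rfl h4)
      refine hne _ hx x2 (le_bot_iff.1 (hTI _ hx x2 ▸ le_inf le_rfl fun w hw => ?_))
      rw [centralizer_zpowers, mem_centralizer_singleton_iff, eq_comm, ← mul_inv_eq_iff_eq_mul]
      calc z * y * w * (z * y)⁻¹ = z * (y * w * y⁻¹) * z⁻¹ := by group
        _ = w := by rw [hinv y hyZ.1 y2 w (h3 (h5 hw)), hinv z hz.1 h2 _ (inv_mem (h5 hw)), inv_inv]
  intro h
  have h3 := irr_comm (isMulCommutative_of_le hW (hle z hz.1)) (hmin z hz.1 h2)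
    (le_normalizer_commutator TW (le_normalizer_of_le_centralizer (centralizer_zpowers z ▸ hTz))) TR
  exact hne z hz.1 h2 (le_bot_iff.1 (hTI z hz.1 h2 ▸ le_inf le_rfl
    (cent_symm (zpowers_le.2 (h3 (h hz.1))))))

/-- Centralizing modulo a coprime subgroup. -/
theorem mem_of_comm_mod {E Z B : Subgroup G} (hZ : Z ≤ E) (hB : B ≤ N[Z])
    (hc : (Nat.card B).Coprime (Nat.card Z)) (hs : Group.IsSolvable Z) (hf : E ⊓ C[B] ≤ Z) {x : G}
    (hx : x ∈ E) (hxZ : x ∈ N[Z]) (h : B ≤ stabMod (zpowers x) Z) : x ∈ Z :=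
  (coprime_isMul_cent_of_commutator_le (K := Z ⊔ zpowers x) le_sup_left hB hc (Or.inr hs)
    (commutator_sup_left_le le_normalizer (zpowers_le.2 hxZ) (commutator_le_of_norm_left hB)
      (commutator_le_of_le_stabMod h))).le_of_le le_rfl
    ((inf_le_inf_right _ (sup_le hZ (zpowers_le.2 hx))).trans hf) (mem_sup_right (mem_zpowers x))

theorem cyc_dvd {p n : ℕ} (hp : p.Prime) {E Z : Subgroup G} (pE : IsPGroup p E)
    (cZ : Nat.card Z = p) (h1 : ⁅E, E⁆ = Z) (h2 : Z[E] = Z) (h3 : ∀ x ∈ E, x ^ p ∈ Z) {a : G}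
    (ha : a ∈ N[E]) (hc : p.Coprime (orderOf a)) (haZ : Z ≤ C1[a]) (han : a ^ n ∈ C[E])
    (hreg : ∀ k : ℕ, ¬ n ∣ k → ∀ x ∈ E, ⁅a ^ k, x⁆ ∈ Z → x ∈ Z) :
    ∃ m, 1 ≤ m ∧ Nat.card E = p ^ (2 * m + 1) ∧ (n ∣ p ^ m + 1 ∨ n ∣ p ^ m - 1) := by
  have := Fact.mk hp
  set N := zpowers (a ^ n) with hN
  have NE : N ≤ C[E] := zpowers_le.2 han
  have EN : E ≤ N[N] := le_normalizer_of_le_centralizer' NE
  have aN : a ∈ N[N] := centralizer_le_normalizer _ (by
    rw [centralizer_zpowers]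
    exact mem_centralizer_singleton_iff.2 (Commute.self_pow a n))
  have ZE : Z ≤ E := h2.ge.trans inf_le_left
  obtain ⟨j, hj⟩ := pE.exists_card_eq
  have hcE : (Nat.card E).Coprime (orderOf a) := hj ▸ Nat.Coprime.pow_left _ hc
  have hd : E ⊓ N = ⊥ := inf_eq_bot_of_coprime' (hcE.coprime_dvd_right (by
    rw [Nat.card_zpowers]; exact orderOf_pow_dvd n))
  have hq : ∀ A, A ≤ N[E] → A ≤ N[N] → (E ⊓ C[A]) /ᵍ N = E /ᵍ N ⊓ C[A /ᵍ N] := fun A hA hA' =>
    coprime_norm_quo_cent' hA hA' (by rw [hd, card_bot]; exact Nat.coprime_one_right _)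
      (Or.inr (by rw [hd]; infer_instance))
  have h4 : Z[E /ᵍ N] = Z /ᵍ N := by rw [← hq E le_normalizer EN, h2]
  have cE : ∀ X, X ≤ E → Nat.card (X /ᵍ N) = Nat.card X := fun X hX =>
    card_quo_of_disjoint (hX.trans EN) (le_bot_iff.1 (hd ▸ le_inf (inf_le_right.trans hX) inf_le_left))
  have hE := extraspecial_of hp (quo_isPGroup N pE) ((cE Z ZE).trans cZ)
    (by rw [← quo_commutator EN EN, h1]) h4 (by
      intro y hy
      obtain ⟨x, hx, hxN, rfl⟩ := mem_quo.1 hy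
      rw [← coset_pow hxN]
      exact coset_mem_quo (pow_mem hxN _) (h3 x hx))
  obtain ⟨m, hm, hcard⟩ := H7.IsExtraspecial.card_eq hE
  have nEZ : ¬ E ≤ Z := fun h => by
    have := card_le_of_le h
    rw [← cE E le_rfl, hcard, cZ] at this
    have h5 := Nat.pow_lt_pow_right hp.one_lt (show 1 < 2 * m + 1 by omega)
    rw [pow_one] at h5
    omega
  have ho : orderOf (coset N a) = n := by
    refine Nat.dvd_antisymm (orderOf_dvd_of_pow_eq_one ?_) ?_
    · rw [← coset_pow aN]; exact coset_eq_one (mem_zpowers _)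
    · by_contra hk
      refine nEZ fun x hx => hreg _ hk x hx ?_
      have h5 := pow_orderOf_eq_one (coset N a)
      rw [← coset_pow aN, coset_eq_one_iff (pow_mem aN _)] at h5
      rw [commutatorElement_eq_one_iff_mul_comm.2 (NE h5 x hx).symm]
      exact one_mem _
  have hc' : p.Coprime (Nat.card (zpowers (coset N a))) := by
    rw [Nat.card_zpowers]; exact hc.coprime_dvd_right (orderOf_coset_dvd aN)
  have hn : zpowers (coset N a) ≤ N[E /ᵍ N] := by
    rw [← quo_zpowers aN]; exact quo_norms _ (zpowers_le.2 ha)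
  have h5 := repr_extraspecial_prime_sdprod_cycle hE (sdp_of_coprime hn
    (hcard ▸ Nat.Coprime.pow_left _ hc')) inferInstance hcard hc' (by
      intro y hy y1
      obtain ⟨k, rfl⟩ := mem_powers_iff_mem_zpowers.2 hy
      have hk : ¬ n ∣ k := fun h => y1 (orderOf_dvd_iff_pow_eq_one.1 (ho ▸ h))
      simp only
      rw [← coset_pow aN, ← centralizer_zpowers, ← quo_zpowers (pow_mem aN _),
        ← hq _ (zpowers_le.2 (pow_mem ha _)) (zpowers_le.2 (pow_mem aN _)), h4, centralizer_zpowers]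
      congr 1
      refine le_antisymm (fun x hx => hreg k hk x hx.1 ?_) (le_inf ZE fun z hz => ?_)
      · rw [commutatorElement_eq_one_iff_mul_comm.2 (mem_centralizer_singleton_iff.1 hx.2).symm]
        exact one_mem _
      · exact mem_centralizer_singleton_iff.2
          (Commute.pow_right (mem_centralizer_singleton_iff.1 (haZ hz)) k))
  rw [Nat.card_zpowers, ho] at h5
  exact ⟨m, hm, (cE E le_rfl).symm.trans hcard, h5⟩

end Cfsg.Agent.H88.Tu
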