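import Cfsg.Agent.H88.TuLin
import Cfsg.Agent.H88.TuH2
import Cfsg.Agent.H30.FlavSolv

/-! The Hall-Higman type lemma for Turull's theorem, first for representations, then for
elementary abelian sections. -/

set_option autoImplicit false
set_option linter.unusedSectionVars false

namespace Cfsg.Agent.H88.Tu

open Cfsg Cfsg.Agent.H63 Cfsg.Agent.H67 Cfsg.Agent.H69 Subgroup Module
open scoped IsMulCommutative commutatorElement

universe u v

theorem arith0 {r τ q : ℕ} (hr : 2 ≤ r) (hτ : 2 ≤ τ) (hq : r * τ ≤ q + 1)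
    (h : q ^ 2 * (r * τ) ≤ ((r - 1) * τ + 0) * (r * τ - 1 + q ^ 2)) : False := by
  obtain ⟨s, rfl⟩ : ∃ s, r = s + 1 := ⟨r - 1, by omega⟩
  obtain ⟨n, hn⟩ : ∃ n, (s + 1) * τ = n + 1 := ⟨(s + 1) * τ - 1, by
    have : 0 < (s + 1) * τ := by positivity
    omega⟩
  rw [hn] at h hq
  simp only [Nat.add_sub_cancel, add_zero] at h
  have h1 : τ * q ^ 2 ≤ τ * (s * n) := by nlinarith
  have h2 := Nat.le_of_mul_le_mul_left h1 (by omega)
  have h3 : s < n := by nlinarith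
  nlinarith

theorem arith1 {r τ q : ℕ} (hr : 2 ≤ r) (hτ : 2 ≤ τ) (hq : r * τ ≤ q + 1)
    (h : q ^ 2 * (r * τ) ≤ ((r - 1) * τ + 1) * (r * τ - 1 + q ^ 2)) : τ = 2 ∧ q = 2 * r - 1 := by
  obtain ⟨s, rfl⟩ : ∃ s, r = s + 1 := ⟨r - 1, by omega⟩
  obtain ⟨t, rfl⟩ : ∃ t, τ = t + 2 := ⟨τ - 2, by omega⟩
  obtain ⟨n, hn⟩ : ∃ n, (s + 1) * (t + 2) = n + 1 := ⟨(s + 1) * (t + 2) - 1, by
    have : 0 < (s + 1) * (t + 2) := by positivity
    omega⟩
  rw [hn] at h hq
  simp only [Nat.add_sub_cancel] at h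
  have h0 : s * (t + 2) + 1 + t = n := by nlinarith
  have h1 : (t + 1) * q ^ 2 ≤ (s * (t + 2) + 1) * n := by nlinarith
  have h2 : n * n ≤ q ^ 2 := by nlinarith
  have h3 : 0 < n := by omega
  have h4 : t = 0 := by
    by_contra h5
    have h6 : 2 * (n * n) ≤ (t + 1) * q ^ 2 := Nat.mul_le_mul (by omega) h2
    nlinarith
  subst h4
  refine ⟨rfl, ?_⟩
  have h5 : q ^ 2 ≤ n ^ 2 := by nlinarith
  have h6 := (Nat.pow_le_pow_iff_left two_ne_zero).1 h5
  omega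

section
variable {X : Type u} [Group X] [Finite X]

theorem exp_derived {s : ℕ} {P : Subgroup X} (h4 : ⁅P, P⁆ ≤ C[P]) (h6 : ∀ x ∈ P, x ^ s ∈ ⁅P, P⁆) :
    ∀ z ∈ ⁅P, P⁆, z ^ s = 1 := by
  have h7 : ⁅P, P⁆ ≤ P := commutator_le_of_le le_rfl le_rfl
  intro z hz
  rw [Subgroup.commutator_def] at hz
  induction hz using closure_induction with
  | mem z hz =>
    obtain ⟨x, hx, y, hy, rfl⟩ := hz
    rw [← H7.comm_pow_left (h4 (commutator_mem_commutator hx hy) x hx),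
      commutatorElement_eq_one_iff_mul_comm]
    exact (h4 (h6 x hx) y hy).symm
  | one => exact one_pow _
  | mul a b ha hb iha ihb =>
    rw [← Subgroup.commutator_def] at ha hb
    rw [Commute.mul_pow (h4 hb a (h7 ha)), iha, ihb, one_mul]
  | inv a ha iha => rw [inv_pow, iha, inv_one]

theorem exists_pow_mem {τ : ℕ} {D C : Subgroup X} (hD : IsPGroup τ D) (h : ¬ D ≤ C) :
    ∃ d ∈ D, d ∉ C ∧ d ^ τ ∈ C := by
  classical
  obtain ⟨x, hx, hxC⟩ := SetLike.not_le_iff_exists.1 h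
  have hex : ∃ k, x ^ τ ^ k ∈ C := by
    obtain ⟨k, hk⟩ := hD ⟨x, hx⟩
    exact ⟨k, by rw [show x ^ τ ^ k = 1 from congrArg Subtype.val hk]; exact one_mem _⟩
  have h1 := Nat.find_spec hex
  obtain ⟨k, hk⟩ : ∃ k, Nat.find hex = k + 1 := Nat.exists_eq_succ_of_ne_zero fun e => by
    rw [e, pow_zero, pow_one] at h1; exact hxC h1
  exact ⟨x ^ τ ^ k, pow_mem hx _, Nat.find_min hex (by omega), by rwa [← pow_mul, ← pow_succ, ← hk]⟩

theorem ord_cop {p n : ℕ} (hp : p.Prime) {D : Subgroup X} (hD : IsPGroup p D) {d : X} (hd : d ∈ D)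
    (h : p.Coprime n) : (orderOf d).Coprime n :=
  (H30.Flav.cop_pn hp hD h).coprime_dvd_left (orderOf_dvd_card_of_mem hd)

end

variable {K : Type*} [Field K] [IsAlgClosed K] {U : Type v} [AddCommGroup U] [Module K U]
  [FiniteDimensional K U] {Γ : Type u} [Group Γ] [Finite Γ]

theorem hfi [Nontrivial U] (ρ : Representation K Γ U) (hirr : Irr ρ) (hf : ∀ g, ρ g = 1 → g = 1)
    {p τ r : ℕ} (hp : p.Prime) (hτ : τ.Prime) (hr : r.Prime) (pτ : p ≠ τ) (pr : p ≠ r) (τr : τ ≠ r)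
    (pK : (p : K) ≠ 0) (rK : (r : K) ≠ 0) {S D T R : Subgroup Γ} (pS : IsPGroup p S)
    (pD : IsPGroup τ D) (cR : Nat.card R = r) (hgen : T ⊔ S ⊔ R = ⊤) (DT : D ≤ T) (TD : T ≤ N[D])
    (TS : T ≤ N[S]) (TR : T ≤ C[R]) (RS : R ≤ N[S]) (SR : ⁅S, R⁆ = S) (SD : ⁅S, D⁆ = S)
    (h1 : ⁅S, S⁆ ≤ C[S]) {B : Subgroup Γ} (hB : B ≤ C[T]) (h2' : ⁅S, S⁆ ≤ ⁅⁅S, S⁆, R⁆ ⊔ B)
    (h3 : ∀ x ∈ S, x ^ p ∈ ⁅S, S⁆) (S1 : S ≠ ⊥)
    (h : ∀ u, (∀ a ∈ R, ρ a u = u) → ∀ d ∈ D, ρ d u = u) :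
    (∃ u, u ≠ 0 ∧ ∀ a ∈ R, ρ a u = u) ∧ ¬ D ≤ ⁅T, T⁆ := by
  have := Fact.mk hp
  have := Fact.mk hr
  have pR := H30.Flav.pg_of_card cR
  have cRS := coprime_pp hr hp pr.symm pR pS
  have nrm : ∀ A : Subgroup Γ, T ≤ N[A] → S ≤ N[A] → R ≤ N[A] → A.Normal := fun A a b c =>
    normalIn_top_iff.1 ⟨le_top, hgen ▸ sup_le (sup_le a b) c⟩
  have DS : ¬ D ≤ C[S] := fun e => S1 (SD ▸ commutator_eq_bot_of_cent' e)
  have RZ : R ≤ N[Z[S]] := RS.trans (normalizer_le_normalizer_center S)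
  have h4 : Z[S] ≤ C[R] := by
    by_contra h5
    have h6 : ⁅Z[S], R⁆ ≤ Z[S] := commutator_le_of_norm_left RZ
    have := nrm ⁅Z[S], R⁆ (le_normalizer_commutator (TS.trans (normalizer_le_normalizer_center S))
      (le_normalizer_of_le_centralizer TR)) (le_normalizer_of_le_centralizer'
        (h6.trans inf_le_right)) (le_norm_commutator_right _ _)
    obtain ⟨x, hx, x1⟩ := exists_ne_one_of_ne_bot fun e => h5 (le_cent_of_commutator_eq_bot e)
    refine DS fun d hd => ?_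
    rw [hf d (abk ρ hirr ⁅Z[S], R⁆ R (fun x hx y hy => by
      rw [← map_mul, ← map_mul, (h6 hy).2 x (h6 hx).1])
      (coprime_commGid RZ (cop_le cRS le_rfl inf_le_left) (Or.inl (sol_p hr pR))) (cR ▸ hr)
      ⟨x, hx, fun e => x1 (hf x e)⟩ (TR (DT hd)) (ord_cop hτ pD hd
        (cR ▸ (Nat.coprime_primes hτ hr).2 τr)) fun u hu => h u hu d hd)]
    exact one_mem _
  have h5 : S ⊓ C[R] ≤ ⁅S, S⁆ := by
    have := coprime_commutator_inf_cent_le RS cRS
    rwa [SR] at this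
  set Z := ⁅S, S⁆ with hZ
  have ZS : Z ≤ S := commutator_le_of_le le_rfl le_rfl
  have hZS : Z[S] = Z := le_antisymm ((le_inf inf_le_left h4).trans h5) (le_inf ZS h1)
  have ZR : Z ≤ C[R] := hZS ▸ h4
  have h2 : Z ≤ C[T] := h2'.trans (sup_le ((commutator_eq_bot_of_cent ZR).le.trans bot_le) hB)
  have hc : ∀ z ∈ Z, ∀ g, g * z = z * g := fun z hz g =>
    (show Z ≤ C[⊤] by rw [← hgen, centralizer_sup, centralizer_sup]
                      exact le_inf (le_inf h2 h1) ZR) hz g trivial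
  have hs : ∀ z : Z, ∃ c : K, ρ z = c • 1 := fun z => hirr.schur _ fun g => by
    rw [← map_mul, ← map_mul, hc z z.2 g]
  choose c hc' using hs
  obtain ⟨u₀, hu₀⟩ := exists_ne (0 : U)
  have hinj : ∀ a b : K, a • (1 : End K U) = b • 1 → a = b := fun a b e =>
    smul_left_injective K hu₀ (by simpa using congrArg (fun f : End K U => f u₀) e)
  have cZ : Nat.card Z = p := by
    let f : Z →* K := ⟨⟨c, hinj _ _ (by rw [← hc']; simp)⟩, fun a b => hinj _ _ (by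
      rw [← hc', coe_mul, map_mul, hc', hc', smul_mul_smul_comm, mul_one])⟩
    have := isCyclic_of_injective_ringHom f ((injective_iff_map_eq_one f).2 fun z hz =>
      Subtype.ext (hf z (by rw [hc', show c z = 1 from hz, one_smul])))
    refine ((Nat.dvd_prime hp).1 ?_).resolve_left fun e =>
      center_ne_bot_of_isPGroup hp pS S1 (hZS ▸ card_eq_one.1 e)
    rw [← IsCyclic.exponent_eq_card]
    exact Monoid.exponent_dvd_of_forall_pow_eq_one fun z => Subtype.ext (exp_derived h1 h3 z z.2)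
  have hfZ : ∀ z ∈ Z, ∀ u, u ≠ 0 → ρ z u = u → z = 1 := fun z hz u hu e => hf z (by
    have e1 := hc' ⟨z, hz⟩
    have e2 : c ⟨z, hz⟩ = 1 := smul_left_injective K hu (by
      simpa [show ρ z = _ from e1] using e)
    rw [show ρ z = _ from e1, e2, one_smul])
  obtain ⟨⟨σ, hσR⟩, hσ⟩ := exists_prime_orderOf_dvd_card' (G := R) r cR.symm.dvd
  rw [← orderOf_coe] at hσ
  have hR : zpowers σ = R := eq_of_le_of_card_ge (zpowers_le.2 hσR) (by
    rw [Nat.card_zpowers, cR]; exact hσ.ge)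
  have hfix : ∀ u, ρ σ u = u → ∀ a ∈ R, ρ a u = u := fun u hu a ha => by
    obtain ⟨k, rfl⟩ := mem_powers_iff_mem_zpowers.2 (hR ▸ ha : a ∈ zpowers σ)
    induction k with
    | zero => simp
    | succ k ih => simp only [pow_succ, map_mul, End.mul_apply, hu]; exact ih (pow_mem hσR k)
  have sZ := sol_p hp (pS.to_le ZS)
  have key : ∀ d ∈ D, d ∉ C[S] → d ^ τ ∈ C[S] → ∀ ε : ℕ, ((∀ u, ρ σ u = u → u = 0) ∨ ε = 1) →
      ∃ q, r * τ ≤ q + 1 ∧ Z.relIndex ⁅S, zpowers d⁆ = q ^ 2 ∧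
        q ^ 2 * (r * τ) ≤ ((r - 1) * τ + ε) * (r * τ - 1 + q ^ 2) := by
    intro d hd hdS hdτ ε hε
    have BD : zpowers d ≤ D := zpowers_le.2 hd
    have BS : zpowers d ≤ N[S] := (BD.trans DT).trans TS
    have cBS := cop_le (coprime_pp hτ hp pτ.symm pD pS) BD le_rfl
    obtain ⟨e1, e2, e3⟩ := extraspecial_commutator hp pS cZ hZS.ge le_rfl h3 BS cBS
      (hZS ▸ cent_symm (h2.trans (centralizer_anti (BD.trans DT)))) (fun e => hdS (e (mem_zpowers d)))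
    set E := ⁅S, zpowers d⁆ with hE
    have ES : E ≤ S := commutator_le_of_norm_left BS
    have ZE : Z ≤ E := e2.ge.trans inf_le_left
    have e4 : ⁅E, E⁆ = Z := by
      rw [← e2, ← map_center_subtype, ← map_commutator_subtype, e1.1.2.2]
    have hσd : Commute σ d := TR (DT hd) σ hσR
    have cσd : (orderOf σ).Coprime (orderOf d) :=
      (ord_cop hτ pD hd (hσ ▸ (Nat.coprime_primes hτ hr).2 τr)).symm
    have σE : σ ∈ N[E] := le_normalizer_commutator RS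
      (le_normalizer_of_le_centralizer' (zpowers_le.2 (TR (DT hd)))) hσR
    have dE : d ∈ N[E] := le_norm_commutator_right _ _ (mem_zpowers d)
    have hreg : ∀ k : ℕ, ¬ r * τ ∣ k → ∀ x ∈ E, ⁅(σ * d) ^ k, x⁆ ∈ Z → x ∈ Z := by
      intro k hk x hx hxk
      have nZ : ∀ g, g ∈ N[Z] := fun g => centralizer_le_normalizer _ fun z hz => (hc z hz g).symm
      have h6 : zpowers ((σ * d) ^ k) ≤ stabMod (zpowers x) Z := le_stabMod_iff.2
        ⟨fun g _ => nZ g, commutator_zpowers_zpowers_le (nZ _) (nZ _) hxk⟩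
      rw [hσd.mul_pow] at h6
      have c1 : (orderOf (σ ^ k)).Coprime (orderOf (d ^ k)) :=
        (cσd.coprime_dvd_left (orderOf_pow_dvd k)).coprime_dvd_right (orderOf_pow_dvd k)
      by_cases hrk : r ∣ k
      · have hτk : ¬ τ ∣ k := fun e =>
          hk (((Nat.coprime_primes hr hτ).2 τr.symm).mul_dvd_of_dvd_of_dvd hrk e)
        refine mem_of_comm_mod ZE (fun g _ => nZ g) (cop_le cBS le_rfl ZS) sZ e3.le hx (nZ x)
          (zpowers_le.2 (mem_of_pow_mem_of_coprime (ord_cop hτ pD hd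
            ((Nat.Prime.coprime_iff_not_dvd hτ).2 hτk)) (h6 ?_)))
        rw [(hσd.pow_pow k k).eq]
        exact mem_zp_mul (hσd.pow_pow k k).symm c1.symm
      · refine mem_of_comm_mod ZE (fun g _ => nZ g) (cop_le cRS le_rfl ZS) sZ
          ((inf_le_inf_right _ ES).trans h5) hx (nZ x) (hR ▸ zpowers_le.2 (mem_of_pow_mem_of_coprime
            (hσ ▸ (Nat.Prime.coprime_iff_not_dvd hr).2 hrk) (h6 (mem_zp_mul (hσd.pow_pow k k) c1))))
    have hdE : d ^ τ ∈ C[E] := centralizer_anti ES hdτ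
    obtain ⟨m, hm, cE, hdvd⟩ := cyc_dvd hp (pS.to_le ES) cZ e4 e2 (fun x hx => h3 x (ES hx))
      (mul_mem σE dE) (Nat.Coprime.coprime_dvd_right hσd.orderOf_mul_dvd_mul_orderOf
        (Nat.Coprime.mul_right (hσ ▸ (Nat.coprime_primes hp hr).2 pr)
          (ord_cop hτ pD hd ((Nat.coprime_primes hτ hp).2 pτ.symm)).symm))
      (fun z hz => mem_centralizer_singleton_iff.2 (hc z hz _).symm) (by
        rw [hσd.mul_pow, pow_mul, ← hσ, pow_orderOf_eq_one, one_pow, one_mul, mul_comm, pow_mul]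
        exact pow_mem hdE _) hreg
    have hi : Z.relIndex E = (p ^ m) ^ 2 := by
      have := card_mul_relIndex ZE
      rw [cZ, cE, pow_succ', mul_comm 2, pow_mul] at this
      exact Nat.eq_of_mul_eq_mul_left hp.pos this
    have h1p : 1 < p ^ m := Nat.one_lt_pow (by omega) hp.one_lt
    refine ⟨p ^ m, ?_, hi, hi ▸ hfx ρ E Z hr hτ rK hσ cσd hσd σE dE ZE (e2.ge.trans inf_le_right)
      (fun z hz => hc z hz σ) (fun z hz => hc z hz d) e4.le (fun x hx hy => e2.le ⟨hx, hy⟩) hfZ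
      (by rw [cE, Nat.cast_pow]; exact pow_ne_zero _ pK) (fun e => ?_)
      (fun x hx => (hdE x hx).symm) hreg
      (hε.imp id fun e => ⟨e, fun u hu => h u (hfix u hu) d hd⟩)⟩
    · rcases hdvd with e | e
      · exact Nat.le_of_dvd (by omega) e
      · have := Nat.le_of_dvd (by omega) e
        omega
    · rw [relIndex_eq_one.2 e] at hi
      nlinarith
  obtain ⟨d, hd, hdS, hdτ⟩ := exists_pow_mem pD DS
  obtain ⟨u, hu0, hu⟩ : ∃ u, u ≠ 0 ∧ ∀ a ∈ R, ρ a u = u := by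
    by_contra hn
    obtain ⟨q, q1, -, q3⟩ := key d hd hdS hdτ 0 (Or.inl fun u hu => by
      by_contra u0
      exact hn ⟨u, u0, hfix u hu⟩)
    exact arith0 hr.two_le hτ.two_le q1 q3
  refine ⟨⟨u, hu0, hu⟩, ?_⟩
  obtain rfl : τ = 2 := by
    obtain ⟨q, q1, -, q3⟩ := key d hd hdS hdτ 1 (Or.inr rfl)
    exact (arith1 hr.two_le hτ.two_le q1 q3).1
  have hC : ∀ x ∈ D, x ∈ C[S] → x = 1 := by
    have hN := nrm (D ⊓ C[S]) (le_normalizer_inf TD (le_normalizer_centralizer TS))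
      (le_normalizer_of_le_centralizer' inf_le_right)
      (le_normalizer_of_le_centralizer' (inf_le_left.trans (DT.trans TR)))
    let W : Submodule K U := ⨅ x : ↥(D ⊓ C[S]), LinearMap.ker (ρ x - 1)
    have hW : ∀ v, v ∈ W ↔ ∀ x ∈ D ⊓ C[S], ρ x v = v := fun v => by
      simp [W, sub_eq_zero]
    rcases hirr W (fun g v hv => (hW _).2 fun x hx => by
      rw [← End.mul_apply, ← map_mul, show x * g = g * (g⁻¹ * x * g) by group, map_mul,
        End.mul_apply, (hW v).1 hv _ (hN.conj_mem' x hx g)]) with e | e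
    · exact absurd (e.le ((hW u).2 fun x hx => h u hu x hx.1)) hu0
    · exact fun x hx hx' => hf x (LinearMap.ext fun v => (hW v).1 (e.ge trivial) x ⟨hx, hx'⟩)
  have nZ : ∀ A : Subgroup Γ, A ≤ N[Z] := fun A g _ =>
    centralizer_le_normalizer _ fun z hz => (hc z hz g).symm
  have ZD : Z ⊓ D = ⊥ := inf_eq_bot_of_coprime' (coprime_pp hp hτ pτ (pS.to_le ZS) pD)
  intro hDT
  refine h2core hr τr.symm (W := S /ᵍ Z) (R := R /ᵍ Z) (T := T /ᵍ Z) (D := D /ᵍ Z)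
    (quo_isMulCommutative_of_der_le le_rfl) (quo_odd _ (Nat.coprime_two_right.1
      (H30.Flav.cop_pn hp pS ((Nat.coprime_primes hp hτ).2 pτ))))
    ((card_quo_of_disjoint (nZ _) (inf_eq_bot_of_coprime' (cop_le cRS le_rfl ZS).symm)).trans cR)
    (quo_norms _ RS) (by
      rw [← H63.coprime_quo_cent ZS (nZ _) (cop_le cRS le_rfl ZS) (Or.inr sZ)]
      exact quo_eq_bot_of_le h5) (quo_norms _ TS) (quo_norms _ TD) (quo_cents _ TR)
    (quo_mono _ DT) (quo_isPGroup _ pD) (fun e => DS (((quo_eq_bot_iff (nZ _)).1 e).trans h1))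
    (fun y hy y2 => ?_) (by rw [← quo_commutator (nZ _) (nZ _)]; exact quo_mono _ hDT)
  obtain ⟨z, hz, hzN, rfl⟩ := mem_quo.1 hy
  have z2 : z ^ 2 = 1 := by
    have := pow_orderOf_eq_one (coset Z z)
    rw [y2, ← coset_pow hzN, coset_eq_one_iff (pow_mem hzN _)] at this
    exact mem_bot.1 (ZD ▸ ⟨this, pow_mem hz _⟩)
  obtain ⟨q, q1, q2, q3⟩ := key z hz (fun e => by simp [hC z hz e, coset_one] at y2)
    (z2 ▸ one_mem _) 1 (Or.inr rfl)
  rw [← quo_zpowers hzN, ← quo_commutator (nZ _) (nZ _), card_quo (nZ _), q2,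
    (arith1 hr.two_le hτ.two_le q1 q3).2]

theorem bc_fix {k G W : Type*} [Field k] [Group G] [Finite G] [AddCommGroup W] [Module k W]
    (K : Type*) [Field K] [Algebra k K] (ρ : Representation k G W) (A : Subgroup G)
    (hA : (Nat.card A : K) ≠ 0) (φ : End k W) (h : ∀ w, (∀ a ∈ A, ρ a w = w) → φ w = 0)
    (u : TensorProduct k K W) (hu : ∀ a ∈ A, (ρ a).baseChange K u = u) : φ.baseChange K u = 0 := by
  have h1 : φ * nsum ρ A = 0 := LinearMap.ext fun w => h _ fun a ha =>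
    congrArg (fun e : End k W => e w) (mul_nsum ρ A ha)
  have h2 := congrArg (fun e => End.baseChangeHom k K W e u) h1
  simp only [map_mul, map_zero, nsum, map_sum, End.mul_apply, LinearMap.sum_apply,
    LinearMap.zero_apply] at h2
  replace h2 : ∑ x ∈ @Finset.univ A (Fintype.ofFinite A),
    φ.baseChange K ((ρ x).baseChange K u) = 0 := h2
  rw [Finset.sum_congr rfl (g := fun _ => φ.baseChange K u) fun (a : A) _ =>
    congrArg (φ.baseChange K) (hu a a.2), Finset.sum_const,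
    @Finset.card_univ _ (Fintype.ofFinite A),
    ← @Nat.card_eq_fintype_card _ (Fintype.ofFinite A), ← Nat.cast_smul_eq_nsmul K] at h2
  exact (smul_eq_zero.1 h2).resolve_left hA

section
variable {X : Type u} [Group X] [Finite X]

theorem transfer {l : ℕ} (hl : l.Prime) {M Y : Subgroup X} (hY : IsElementaryAbelian l Y)
    (Y1 : Y ≠ ⊥) (hM : M ≤ N[Y]) :
    ∃ (Γ : Type u) (_ : Group Γ) (_ : Finite Γ) (f : M →* Γ) (K : Type) (_ : Field K)
      (_ : IsAlgClosed K) (U : Type u) (_ : AddCommGroup U) (_ : Module K U)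
      (_ : FiniteDimensional K U) (_ : Nontrivial U) (ρ : Representation K Γ U),
      f.range = ⊤ ∧ Irr ρ ∧ (∀ g, ρ g = 1 → g = 1) ∧ (∀ q : ℕ, q.Prime → q ≠ l → (q : K) ≠ 0) ∧
      (∀ A, A ≤ M → l.Coprime (Nat.card A) → Y ⊓ C[A] = ⊥ → ∀ u, (∀ a ∈ pim f A, ρ a u = u) →
        u = 0) ∧
      (∀ A D, A ≤ M → l.Coprime (Nat.card A) → Y ⊓ C[A] ≤ C[D] → ∀ u, (∀ a ∈ pim f A, ρ a u = u) →
        ∀ d ∈ pim f D, ρ d u = u) ∧ pim f C[Y] = ⊥ := by
  have := Fact.mk hl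
  obtain ⟨W, _, _, e, ρ, he, hρ⟩ := exists_abelem_rep hY M.subtype fun a => hM a.2
  have : Finite W := Finite.of_equiv Y e.symm
  have : Nontrivial Y := (nontrivial_iff_ne_bot Y).2 Y1
  have : Nontrivial W := e.nontrivial
  let K := AlgebraicClosure (ZMod l)
  let ρ' : Representation K M (TensorProduct (ZMod l) K W) :=
    (End.baseChangeHom (ZMod l) K W).toMonoidHom.comp ρ
  have : Nontrivial (TensorProduct (ZMod l) K W) := Module.nontrivial_of_finrank_pos (R := K) (by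
    rw [Module.finrank_baseChange]; exact Module.finrank_pos)
  obtain ⟨U, hU, ρ₁, h1, hirr⟩ := exists_irr_sub ρ'
  have hK : ∀ n : ℕ, l.Coprime n → (n : K) ≠ 0 := fun n hn e =>
    (Nat.Prime.coprime_iff_not_dvd hl).1 hn ((CharP.cast_eq_zero_iff K l n).1 e)
  have e0 : (e 0 : X) = 1 := by simpa using he 0 0
  have hfix : ∀ (a : M) w, ρ a w = w ↔ (a : X) * e w = e w * a := fun a w => by
    rw [← e.injective.eq_iff, Subtype.ext_iff, hρ, mul_inv_eq_iff_eq_mul]; rfl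
  have key : ∀ A, A ≤ M → l.Coprime (Nat.card A) → ∀ φ : End (ZMod l) W,
      (∀ w, (e w : X) ∈ C[A] → φ w = 0) → ∀ u : U,
      (∀ a ∈ pim (QuotientGroup.mk' ρ₁.ker) A, QuotientGroup.lift ρ₁.ker ρ₁ le_rfl a u = u) →
      φ.baseChange K u = 0 := fun A hA hc φ hφ u hu =>
    bc_fix K ρ (A.subgroupOf M) (hK _ (by rwa [card_subgroupOf hA])) φ (fun w hw => hφ w
      fun a ha => (hfix ⟨a, hA ha⟩ w).1 (hw _ ha)) u fun a ha =>
      (h1 a u).symm.trans (congrArg Subtype.val (hu _ (mem_pim_of_mem _ a.2 ha)))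
  refine ⟨M ⧸ ρ₁.ker, inferInstance, inferInstance, QuotientGroup.mk' _, K, inferInstance,
    inferInstance, U, inferInstance, inferInstance, inferInstance,
    Submodule.nontrivial_iff_ne_bot.2 hU, QuotientGroup.lift ρ₁.ker ρ₁ le_rfl,
    QuotientGroup.range_mk' _, fun V hV => hirr V fun g => hV (g : M ⧸ ρ₁.ker), fun g hg => ?_,
    fun q hq h => hK q ((Nat.coprime_primes hl hq).2 h.symm), fun A hA hc h u hu => ?_,
    fun A D hA hc h u hu d hd => ?_, eq_bot_iff.2 fun x hx => ?_⟩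
  · obtain ⟨g, rfl⟩ := QuotientGroup.mk_surjective g
    exact (QuotientGroup.eq_one_iff g).2 hg
  · have := key A hA hc 1 (fun w hw => e.injective (Subtype.ext
      ((mem_bot.1 (h ▸ ⟨(e w).2, hw⟩)).trans e0.symm))) u hu
    exact Subtype.ext (by simpa using this)
  · obtain ⟨x, hx, hxD, rfl⟩ := (mem_pim _).1 hd
    have := key A hA hc (ρ ⟨x, hx⟩ - 1) (fun w hw => sub_eq_zero.2
      ((hfix ⟨x, hx⟩ w).2 (h ⟨(e w).2, hw⟩ x hxD))) u hu
    rw [LinearMap.baseChange_sub, LinearMap.sub_apply, sub_eq_zero] at this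
    exact Subtype.ext ((h1 ⟨x, hx⟩ u).trans (this.trans (by simp)))
  · obtain ⟨x, hxM, hx', rfl⟩ := (mem_pim _).1 hx
    refine (QuotientGroup.eq_one_iff _).2 (LinearMap.ext fun u => Subtype.ext ?_)
    have : ρ ⟨x, hxM⟩ = 1 := LinearMap.ext fun w => (hfix _ w).2 (hx' _ (e w).2).symm
    rw [h1]
    change (ρ ⟨x, hxM⟩).baseChange K _ = _
    rw [this]
    simp

theorem HF_grp {l p τ r : ℕ} (hl : l.Prime) (hp : p.Prime) (hτ : τ.Prime) (hr : r.Prime)
    (pl : p ≠ l) (rl : r ≠ l) (pτ : p ≠ τ) (pr : p ≠ r) (τr : τ ≠ r) {Y S D T R : Subgroup X}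
    (hY : IsElementaryAbelian l Y) (Y1 : Y ≠ ⊥) (pS : IsPGroup p S) (pD : IsPGroup τ D)
    (cR : Nat.card R = r) (SY : S ≤ N[Y]) (TY : T ≤ N[Y]) (RY : R ≤ N[Y]) (DT : D ≤ T)
    (TD : T ≤ N[D]) (TS : T ≤ N[S]) (TR : T ≤ C[R]) (RS : R ≤ N[S]) (SR : ⁅S, R⁆ = S)
    (SD : ⁅S, D⁆ = S) (hS : Y ⊓ C[S] = ⊥) (h1 : ⁅⁅S, S⁆, S⁆ ≤ C[Y]) (h2 : ⁅S ⊓ C[R], T⁆ ≤ C[Y])
    (h3 : ∀ x ∈ S, x ^ p ∈ ⁅S, S⁆ ⊔ S ⊓ C[Y]) (h : Y ⊓ C[R] ≤ C[D]) :
    Y ⊓ C[R] ≠ ⊥ ∧ ¬ D ≤ ⁅T, T⁆ := by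
  obtain ⟨Γ, _, _, f, K, _, _, U, _, _, _, _, ρ, hf, hirr, hρ, hK, ha, hb, hc⟩ :=
    transfer hl hY Y1 (M := T ⊔ S ⊔ R) (sup_le (sup_le TY SY) RY)
  have TM : T ≤ T ⊔ S ⊔ R := le_sup_left.trans le_sup_left
  have SM : S ≤ T ⊔ S ⊔ R := le_sup_right.trans le_sup_left
  have RM : R ≤ T ⊔ S ⊔ R := le_sup_right
  have S' : ⁅S, S⁆ ≤ S := commutator_le_of_le le_rfl le_rfl
  have h0 : ∀ A, A ≤ C[Y] → pim f A = ⊥ := fun A hA => le_bot_iff.1 (hc ▸ pim_mono f hA)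
  have pR := H30.Flav.pg_of_card cR
  have S1 : pim f S ≠ ⊥ := fun e => by
    obtain ⟨u, hu⟩ := exists_ne (0 : U)
    exact hu (ha S SM (H30.Flav.cop_pn hp pS ((Nat.coprime_primes hp hl).2 pl)).symm hS u
      fun a h => by simp [mem_bot.1 (e ▸ h)])
  have cl : l.Coprime (Nat.card R) := cR ▸ (Nat.coprime_primes hl hr).2 rl.symm
  have e1 := pim_commutator f SM RM
  rw [SR] at e1
  have cR' : Nat.card (pim f R) = r := ((Nat.dvd_prime hr).1 (cR ▸ card_pim_dvd f R)).resolve_left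
    fun e => S1 (by rw [e1, card_eq_one.1 e, commutator_bot_right])
  obtain ⟨⟨u, hu0, hu⟩, h4⟩ := hfi ρ hirr hρ hp hτ hr pτ pr τr (hK p hp pl) (hK r hr rl)
    (pim_isPGroup f pS) (pim_isPGroup f pD) cR' (T := pim f T)
    (by rw [← pim_sup f TM SM, ← pim_sup f (sup_le TM SM) RM, pim_dom, hf]) (pim_mono f DT)
    (pim_norms f TD) (pim_norms f TS) (pim_cents f TR) (pim_norms f RS) e1.symm
    (by rw [← pim_commutator f SM (DT.trans TM), SD])
    (le_cent_of_commutator_eq_bot (by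
      rw [← pim_commutator f SM SM, ← pim_commutator f (S'.trans SM) SM, h0 _ h1]))
    (B := pim f (S ⊓ C[R])) (le_cent_of_commutator_eq_bot (by
      rw [← pim_commutator f (inf_le_left.trans SM) TM, h0 _ h2])) (by
      have RS' := le_normalizer_commutator RS RS
      rw [← pim_commutator f SM SM, ← pim_commutator f (S'.trans SM) RM, ← pim_sup f
        (commutator_le_of_le (S'.trans SM) RM) (inf_le_left.trans SM)]
      exact pim_mono f ((coprime_cent_prod RS' (coprime_pp hr hp pr.symm pR (pS.to_le S'))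
        (Or.inl (sol_p hr pR))).le_of_le le_sup_left ((inf_le_inf_right _ S').trans le_sup_right)))
    (fun x hx => by
      obtain ⟨y, hyM, hy, rfl⟩ := (mem_pim _).1 hx
      have := mem_pim_of_mem f (pow_mem hyM p) (h3 y hy)
      rw [pim_sup f (S'.trans SM) (inf_le_left.trans SM), h0 _ inf_le_right, sup_bot_eq,
        pim_commutator f SM SM] at this
      rw [← map_pow]
      exact this) S1 (hb R D RM cl h)
  exact ⟨fun e => hu0 (ha R RM cl e u hu), fun e => h4 (pim_commutator f TM TM ▸ pim_mono f e)⟩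

end

end Cfsg.Agent.H88.Tu
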