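import Cfsg.Agent.H88.TuHF

/-! The moving lemma for Turull's theorem. -/

set_option autoImplicit false
set_option linter.unusedSectionVars false

namespace Cfsg.Agent.H88.Tu

open Cfsg Cfsg.Agent.H63 Cfsg.Agent.H67 Cfsg.Agent.H69 Subgroup
open scoped IsMulCommutative commutatorElement

universe u

variable {X : Type u} [Group X] [Finite X]

/-- The moving property. -/
def GVP (W E R Δ : Subgroup X) : Prop :=
  ∀ H, ⁅W, R⁆ ≤ H → ¬ Δ ≤ H → ∃ g ∈ E, ¬ ⁅W, R⁆ ≤ cj g H ∧ ¬ Δ ≤ cj g H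

/-- The elements centralizing `y` modulo `M`. -/
def cm (y : X) (M : Subgroup X) : Subgroup X where
  carrier := {x | x ∈ N[M] ∧ ⁅x, y⁆ ∈ M}
  one_mem' := ⟨one_mem _, by simp⟩
  mul_mem' := fun {a b} ha hb => ⟨mul_mem ha.1 hb.1, by
    rw [commutatorElement_mul_left']
    exact mul_mem (conj_mem_of_mem_normalizer ha.1 hb.2) ha.2⟩
  inv_mem' := fun {a} ha => ⟨inv_mem ha.1, by
    have := conj_mem_of_mem_normalizer' ha.1 (inv_mem ha.2)
    rwa [show a⁻¹ * ⁅a, y⁆⁻¹ * a = ⁅a⁻¹, y⁆ by simp only [commutatorElement_def]; group] at this⟩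

theorem cover {ι : Type*} [Fintype ι] {E R : Subgroup X} (hR : (Nat.card R).Prime)
    (hι : Fintype.card ι = Nat.card R + 1) (RE : R ≤ N[E]) (cRE : (Nat.card R).Coprime (Nat.card E))
    (sE : Group.IsSolvable E) (C : ι → Subgroup X) (h1 : ∀ i, C i < E) (h2 : ∀ i, ⁅E, E⁆ ≤ C i)
    (h3 : ∀ i, R ≤ N[C i]) (ER : ⁅E, R⁆ = E) : ∃ g ∈ E, ∀ i, g ∉ C i := by
  classical
  have h4 : E ⊓ C[R] ≤ ⁅E, E⁆ := by
    have := coprime_commutator_inf_cent_le RE cRE
    rwa [ER] at this
  have h5 : ∀ i, (Nat.card R + 1) * Nat.card (C i) ≤ Nat.card E := fun i => by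
    have EC : E ≤ N[C i] := H67.le_normalizer_of_commutator_le (h2 i) (h1 i).le
    have cR := card_quo_of_disjoint (h3 i) (inf_eq_bot_of_coprime' (cop_le cRE le_rfl (h1 i).le).symm)
    have h6 := semiregular_modEq (quo_norms (C i) RE) (H69.semiregular_of_prime_card (cR ▸ hR) (by
      rw [← coprime_norm_quo_cent_of_coprime RE (h3 i) cRE (Or.inr sE)]
      exact quo_eq_bot_of_le (h4.trans (h2 i))))
    rw [cR] at h6
    have h7 : 1 < Nat.card (E /ᵍ C i) := (one_lt_card_iff_ne_bot _).2 (quo_ne_bot (h1 i) EC)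
    rw [← card_quo_mul ⟨(h1 i).le, EC⟩]
    refine Nat.mul_le_mul_right _ ?_
    have := Nat.le_of_dvd (by omega) ((Nat.modEq_iff_dvd' h7.le).1 h6.symm)
    omega
  by_contra h
  push Not at h
  have h6 : sfin E ⊆ insert 1 (Finset.univ.biUnion fun i => (sfin (C i)).erase 1) := fun g hg => by
    obtain ⟨i, hi⟩ := h g (mem_sfin.1 hg)
    by_cases g1 : g = 1
    · simp [g1]
    · exact Finset.mem_insert_of_mem (Finset.mem_biUnion.2
        ⟨i, Finset.mem_univ _, Finset.mem_erase.2 ⟨g1, mem_sfin.2 hi⟩⟩)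
  have h7 := (Finset.card_le_card h6).trans ((Finset.card_insert_le _ _).trans
    (Nat.succ_le_succ Finset.card_biUnion_le))
  have h8 : ∑ i, ((sfin (C i)).erase 1).card + Fintype.card ι = ∑ i, Nat.card (C i) := by
    rw [Fintype.card, Finset.card_eq_sum_ones, ← Finset.sum_add_distrib]
    exact Finset.sum_congr rfl fun i _ => by
      rw [Finset.card_erase_add_one (mem_sfin.2 (one_mem _)), card_sfin]
  have h9 := Finset.sum_le_sum fun i (_ : i ∈ Finset.univ) => h5 i
  rw [← Finset.mul_sum, Finset.sum_const, Finset.card_univ, hι, smul_eq_mul] at h9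
  have := Nat.le_of_mul_le_mul_left h9 (Nat.succ_pos _)
  have := hR.pos
  rw [card_sfin] at h7
  omega

theorem fpf_mem {E R M : Subgroup X} (hR : (Nat.card R).Prime) (RE : R ≤ N[E])
    (cRE : (Nat.card R).Coprime (Nat.card E)) (sE : Group.IsSolvable E) (ER : ⁅E, R⁆ = E)
    (h1 : ⁅E, E⁆ ≤ M) (ME : M ≤ E) (RM : R ≤ N[M]) {g a : X} (hg : g ∈ E) (ha : a ∈ R) (a1 : a ≠ 1)
    (hga : ⁅g, a⁆ ∈ M) : g ∈ M := by
  have h4 : E ⊓ C[R] ≤ ⁅E, E⁆ := by
    have := coprime_commutator_inf_cent_le RE cRE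
    rwa [ER] at this
  have EM : E ≤ N[M] := H67.le_normalizer_of_commutator_le h1 ME
  have e : zpowers a = R := eq_of_le_of_prime_card hR (zpowers_le.2 ha) (by simpa using a1)
  refine mem_of_comm_mod ME RM (cop_le cRE le_rfl ME) (isSolvable_of_le sE ME)
    (h4.trans h1) hg (EM hg) (le_stabMod_iff.2 ⟨RM, ?_⟩)
  rw [commutator_comm, ← e]
  exact commutator_zpowers_zpowers_le (EM hg) (RM ha) hga

theorem gv {q : ℕ} (hq : q.Prime) {W E R Δ D : Subgroup X} (hW : IsMulCommutative W)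
    (pE : IsPGroup q E) (hR : (Nat.card R).Prime) (EW : E ≤ N[W]) (RW : R ≤ N[W]) (RE : R ≤ N[E])
    (cRE : (Nat.card R).Coprime (Nat.card E)) (WE : ⁅W, E⁆ = W) (ER : ⁅E, R⁆ = E)
    (hΔ : Δ ≤ W ⊓ C[R]) (h : W ⊓ C[R] ≤ Δ ∨ (⁅E, D⁆ = E ∧ D ≤ C[R] ∧ D ≤ N[W] ∧ D ≤ N[E] ∧
      (Nat.card D).Coprime (Nat.card R) ∧ ⁅W ⊓ C[R], D⁆ ≤ Δ)) : GVP W E R Δ := by
  classical
  intro H hH hΔH
  have sE := sol_p hq pE
  have E' : ⁅E, E⁆ ≤ E := commutator_le_of_le le_rfl le_rfl
  have WR : ⁅W, R⁆ ≤ W := commutator_le_of_norm_left RW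
  set L := stabMod W (H ⊓ W) with hL
  have RL : R ≤ L := le_stabMod_of_le inf_le_right (le_inf hH WR)
  set M := E ⊓ L ⊔ ⁅E, E⁆ with hM
  have RM : R ≤ N[M] := le_normalizer_sup (le_normalizer_inf RE (le_normalizer_of_le RL))
    (le_normalizer_commutator RE RE)
  have ME : M ≤ E := sup_le inf_le_left E'
  have EM : E ≤ N[M] := H67.le_normalizer_of_commutator_le le_sup_right ME
  have M1 : M < E := lt_of_le_of_ne ME fun e => hΔH ((hΔ.trans inf_le_left).trans (by
    have := eq_of_nil_of_sup_derived (isNilpotent_of_isPGroup hq pE) e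
    exact (WE.ge.trans (commutator_le_of_le_stabMod (this.ge.trans inf_le_right))).trans
      inf_le_left))
  have hf : ∀ g ∈ E, ∀ a ∈ R, a ≠ 1 → ⁅g, a⁆ ∈ M → g ∈ M := fun g hg a ha a1 hga =>
    fpf_mem hR RE cRE sE ER le_sup_right ME RM hg ha a1 hga
  by_contra hn
  push Not at hn
  have hP : ∀ c ∈ E, c ∉ M → ∀ δ ∈ Δ, c * δ * c⁻¹ ∈ H := fun c hc hcM δ hδ => by
    have := hn c⁻¹ (inv_mem hc) (fun e => ?_) hδ
    · rwa [mem_cj, inv_inv] at this
    obtain ⟨a, ha, a1⟩ := exists_ne_one_of_ne_bot (H69.ne_bot_of_prime_card hR)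
    rw [← cj_le_iff_le_cj_inv, cj_commutator, cj_eq_self (EW hc)] at e
    have h5 : cj c R ≤ L := le_stabMod_of_le inf_le_right (le_inf e (commutator_le_of_norm_left
      (cj_le_of_mem_normalizer (le_normalizer_normalizer EW hc) RW)))
    exact hcM (hf c hc a ha a1 (mem_sup_left ⟨commutator_le_of_norm_left RE
      (commutator_mem_commutator hc ha), L.mul_mem (h5 (conj_mem_cj ha)) (L.inv_mem (RL ha))⟩))
  obtain ⟨δ, hδ, hδH⟩ := SetLike.not_le_iff_exists.1 hΔH
  let δ' : W := ⟨δ, (hΔ hδ).1⟩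
  have hc : ∀ x ∈ E, ∀ y ∈ N[W], conjOn W x (conjOn W y (nrm W R (conjOn W x⁻¹ δ'))) =
      ∏ a ∈ sfin R, conjOn W ⁅x, y * a⁆ (conjOn W y δ') := fun x hx y hy => by
    rw [nrm_apply, map_prod, map_prod]
    refine Finset.prod_congr rfl fun a ha => Subtype.ext ?_
    have ha' := mem_sfin.1 ha
    rw [conjOn_apply (EW hx), conjOn_apply hy, conjOn_apply (RW ha'), conjOn_apply (EW (inv_mem hx)),
      conjOn_apply (commutator_le_of_le EW le_rfl
        (commutator_mem_commutator hx (mul_mem hy (RW ha')))), conjOn_apply hy]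
    change x * (y * (a * (x⁻¹ * δ * x⁻¹⁻¹) * a⁻¹) * y⁻¹) * x⁻¹ = _ * (y * δ * y⁻¹) * _
    nth_rw 2 [← conj_eq_of_mem_centralizer (cent_symm (hΔ.trans inf_le_right) ha') hδ]
    simp only [commutatorElement_def]
    group
  have hA : ∀ x ∈ E, x ∉ M → x * nrm W R (conjOn W x⁻¹ δ') * x⁻¹ ∉ H := fun x hx hxM e => by
    have h5 := hc x hx 1 (one_mem _)
    rw [conjOn_one, conjOn_one, ← Finset.mul_prod_erase _ _ (mem_sfin.2 R.one_mem)] at h5
    rw [← conjOn_apply (EW hx), ← mem_subgroupOf, h5, mul_mem_cancel_right] at e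
    · simp only [mul_one, commutatorElement_one_right, conjOn_one] at e
      exact hδH e
    · refine Subgroup.prod_mem _ fun a ha => ?_
      obtain ⟨a1, ha⟩ := Finset.mem_erase.1 ha
      have ha' := mem_sfin.1 ha
      have h6 := commutator_le_of_norm_left RE (commutator_mem_commutator hx ha')
      rw [one_mul, mem_subgroupOf, conjOn_apply (EW h6)]
      exact hP _ h6 (fun e => hxM (hf x hx a ha' a1 e)) δ hδ
  rcases h with h | ⟨ED, DR, DW, DE, cD, hD⟩
  · obtain ⟨x, hx, hxM⟩ := SetLike.exists_of_lt M1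
    exact hA x hx hxM (hP x hx hxM _ (h ⟨(nrm W R _).2, nrm_mem_cent RW _⟩))
  obtain ⟨d, hd, hdM⟩ := SetLike.not_le_iff_exists.1 fun e : D ≤ stabMod E M =>
    M1.not_ge (ED.ge.trans (commutator_le_of_le_stabMod e))
  have := Fintype.ofFinite R
  obtain ⟨x, hx, hxC⟩ := cover (ι := Option R) hR (by simp) RE cRE sE
    (fun i => i.elim M fun a => E ⊓ cm (d * a) M) (by
      rintro (_ | a)
      · exact M1
      · refine lt_of_le_of_ne inf_le_left fun e => hdM ?_
        have h5 : d * a ∈ N[E] := mul_mem (DE hd) (RE a.2)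
        have h6 : d * a ∈ stabMod E M := by
          have h7 : ∀ k ∈ E, ⁅d * a, k⁆ ∈ M := fun k hk => by
            rw [← commutatorElement_inv]; exact inv_mem (e.ge hk).2.2
          refine ⟨mem_normalizer_of_cj_le (cj_le_iff.2 fun k hk => ?_), h7⟩
          simpa [commutatorElement_def] using mul_mem (h7 k (ME hk)) hk
        exact zpowers_le.2 h6 (mem_zp_mul (DR hd a a.2).symm ((cD.coprime_dvd_left
          (orderOf_dvd_card_of_mem hd)).coprime_dvd_right (orderOf_dvd_card_of_mem a.2)))) (by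
      rintro (_ | a)
      · exact le_sup_right
      · exact fun x hx => ⟨E' hx, EM (E' hx), mem_sup_right (commutator_le_of_norm_left
          (zpowers_le.2 (mul_mem (le_normalizer_commutator DE DE hd)
            (le_normalizer_commutator RE RE a.2))) (commutator_mem_commutator hx (mem_zpowers _)))⟩)
    (by
      rintro (_ | a)
      · exact RM
      · refine le_normalizer_inf RE fun b hb => mem_normalizer_of_cj_le (cj_le_iff.2 fun x hx =>
          ⟨conj_mem_of_mem_normalizer (le_normalizer_normalizer RM hb) hx.1, ?_⟩)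
        have h5 := conj_mem_of_mem_normalizer (RM hb) hx.2
        have h6 : b * (d * a) * b⁻¹ = d * a := by
          have := Fact.mk hR
          have := isCyclic_of_prime_card (α := R) rfl
          rw [← mul_assoc, DR hd b hb, mul_assoc d, comm_of_isMulCommutative
            (IsCyclic.isMulCommutative (α := R)) hb a.2]
          group
        rwa [conjugate_commutatorElement, h6] at h5) ER
  have hxM : x ∉ M := hxC none
  set n := nrm W R (conjOn W x⁻¹ δ')
  have h5 : x * (d * n * d⁻¹) * x⁻¹ ∈ H := by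
    rw [← conjOn_apply (DW hd), ← conjOn_apply (EW hx), ← mem_subgroupOf, hc x hx d (DW hd)]
    refine Subgroup.prod_mem _ fun a ha => ?_
    have ha' := mem_sfin.1 ha
    have h6 := commutator_le_of_norm_left (zpowers_le.2 (mul_mem (DE hd) (RE ha')))
      (commutator_mem_commutator hx (mem_zpowers _))
    rw [mem_subgroupOf, conjOn_apply (EW h6), conjOn_apply (DW hd)]
    exact hP _ h6 (fun e => hxC (some ⟨a, ha'⟩) ⟨hx, EM hx, e⟩) _ (conj_mem_of_mem_normalizer
      (le_norm_of_commutator_le hD hΔ hd) hδ)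
  have h6 := hP x hx hxM _ (hD (commutator_mem_commutator ⟨n.2, nrm_mem_cent RW _⟩ hd))
  refine hA x hx hxM ?_
  have := mul_mem h6 h5
  rwa [show x * ⁅(n : X), d⁆ * x⁻¹ * (x * (d * n * d⁻¹) * x⁻¹) = x * n * x⁻¹ by
    simp only [commutatorElement_def]; group] at this

end Cfsg.Agent.H88.Tu
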