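import Mathlib
import Cfsg.Agent.H73.CVKit
import Cfsg.Agent.H91.C6Zs

/-! Project CV: the `Z*` step (port of the corresponding step of project C6). -/

set_option autoImplicit false

namespace Cfsg.Agent.H88.CvZs

open Matrix Cfsg.Geo
open Cfsg.Agent.H25 Cfsg.Agent.H73.CV
open Cfsg.Agent.H25.C6 hiding Fld Mod Bc Low Ar Tri StdStmt NrmStmt EsStmt GeoStmt TpStmt TvStmt
  OddStmt ZsStmt H3bStmt H3cStmt H3dStmt H3Stmt A1Stmt K0Stmt SwStmt PrimStmt RealStmt BigStmt
  SmallStmt ClsStmt A2Stmt CopStmt Tv5Stmt LiftStmt KbStmt KoddStmt UqStmt One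
open Cfsg.Agent.H91.C6Zs (ncomm tt trT)

universe u

theorem zs : ZsStmt.{u} := by
  intro F _ _ r n p _ ω G m hU
  have h2 : (2 : ZMod r) ≠ 0 := m.fld.two_ne_zmod
  have nc := ncomm h2 m.fld.ord
  have nT : gT r F ∉ scalars (ZMod r) F := fun h => nc (by
    rw [mul_assoc, mul_assoc, ← mul_assoc (gX r ω)]
    exact mul_mem h (scalars_normal.conj_mem _ (inv_mem h) _))
  obtain ⟨M, h1, h3, h4, h5⟩ := H91.C6Zs.key m.t m.x tt nT fun s hs s2 ns ⟨c, hc⟩ => by
    have e : s * gT r F * s⁻¹ = scal _ c * gT r F := by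
      rw [show scal _ c = _ from hc]
      exact (inv_mul_cancel_right _ _).symm
    have e1 := congrArg (fun x : GL (ZMod r) F => trace x.1) e
    simp only [Units.val_mul, trace_units_conj, coe_scal, Matrix.smul_mul, Matrix.one_mul, trace_smul,
      trT h2, smul_eq_mul, mul_one] at e1
    rw [show c = 1 from Units.ext e1.symm, map_one, one_mul, mul_inv_eq_iff_eq_mul] at e
    have := hU s hs e (s2 ▸ one_mem _)
    rw [Aa, sup_comm, mem_sup_scalars] at this
    obtain ⟨_, ⟨j, rfl⟩, d, rfl⟩ := this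
    have e3 : gT r F ^ (2 : ℤ) = 1 := by rw [_root_.zpow_two, tt]
    rcases Int.even_or_odd' j with ⟨i, rfl | rfl⟩
    · exact absurd (by simpa [_root_.zpow_mul, e3] using scal_mem d) ns
    · simpa [_root_.zpow_add, _root_.zpow_mul, e3] using scal_mem d
  exact nc (m.odd M h1 h3 h4 h5)

end Cfsg.Agent.H88.CvZs
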