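import Cfsg.Agent.H78.G40A

/-! Project L40G: the embedding lemma modulo a central 2-subgroup. -/

set_option autoImplicit false

namespace Cfsg.Agent.H88.G40Ghz

open Subgroup Cfsg.Agent.H83 Cfsg.Agent.H78.G40

universe u

theorem pow_mul_of {J : Type*} [Group J] [Finite J] (Z : Subgroup J) (hZ : Z ≤ center J)
    (x y : J) : (x * y) ^ Z.index = x ^ Z.index * y ^ Z.index := by
  let _ : CommGroup Z := { (inferInstance : Group Z) with
    mul_comm := fun a b => Subtype.ext (mem_center_iff.1 (hZ b.2) a) }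
  have key : ∀ g : J, ((MonoidHom.transfer (MonoidHom.id Z) g : Z) : J) = g ^ Z.index := fun g => by
    rw [MonoidHom.transfer_eq_pow _ g fun k a h => by
      have := mem_center_iff.1 (hZ h) a
      rw [← mul_assoc, ← mul_assoc, mul_inv_cancel, one_mul, mul_left_inj] at this
      exact this.symm]
    rfl
  rw [← key, ← key, ← key, map_mul, coe_mul]

/-- Normal subgroups of odd order lift over a central 2-subgroup. -/
theorem odd_le {K Q : Type*} [Group K] [Finite K] [Group Q] (f : K →* Q)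
    (hf : Function.Surjective f) (hc : f.ker ≤ center K) (h2 : IsPGroup 2 f.ker) {P : Subgroup K}
    (hP : f.ker ≤ P) (ho : ∀ I : Subgroup K, I.Normal → Odd (Nat.card I) → I ≤ P)
    (I : Subgroup Q) (hI : I.Normal) (hm : Odd (Nat.card I)) : I.comap f ≤ P := by
  have hi : (f.ker.subgroupOf (I.comap f)).index = Nat.card I :=
    (relIndex_ker _ f).trans (by rw [map_comap_eq_self_of_surjective hf])
  let I0 : Subgroup K :=
    { carrier := {x | f x ∈ I ∧ x ^ Nat.card I = 1}
      one_mem' := ⟨by simp, one_pow _⟩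
      inv_mem' := fun h => ⟨by simpa using h.1, by rw [inv_pow, h.2, inv_one]⟩
      mul_mem' := fun {x y} hx hy => ⟨by rw [map_mul]; exact mul_mem hx.1 hy.1, by
        have := congrArg Subtype.val (pow_mul_of (f.ker.subgroupOf (I.comap f))
          (fun a h => mem_center_iff.2 fun b => Subtype.ext (mem_center_iff.1 (hc h) b))
          ⟨x, hx.1⟩ ⟨y, hy.1⟩)
        rw [hi] at this
        simpa [hx.2, hy.2] using this⟩ }
  have h0 : I0 ≤ P := ho I0 ⟨fun x hx g => ⟨by simpa using hI.conj_mem _ hx.1 (f g), by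
    rw [conj_pow, hx.2, mul_one, mul_inv_cancel]⟩⟩ (by
      by_contra h
      obtain ⟨x, hx⟩ := exists_prime_orderOf_dvd_card' (G := I0) 2
        (Nat.not_odd_iff_even.1 h).two_dvd
      have : orderOf x ∣ Nat.card I := orderOf_dvd_of_pow_eq_one (Subtype.ext x.2.2)
      exact hm.not_two_dvd_nat (hx ▸ this))
  intro x hx
  have h1 : x ^ Nat.card I ∈ f.ker := by
    rw [MonoidHom.mem_ker, map_pow]
    exact congrArg Subtype.val (pow_card_eq_one' (x := (⟨f x, hx⟩ : I)))
  obtain ⟨k, hk⟩ := h2 ⟨_, h1⟩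
  have h3 : x ^ 2 ^ k ∈ P := h0 ⟨by rw [map_pow]; exact I.pow_mem hx _, by
    rw [← pow_mul, mul_comm, pow_mul]; exact congrArg Subtype.val hk⟩
  have h4 : Nat.Coprime (2 ^ k) (Nat.card I) := (Nat.coprime_two_left.2 hm).pow_left k
  have := mul_mem (zpow_mem h3 (Nat.gcdA (2 ^ k) (Nat.card I)))
    (zpow_mem (hP h1) (Nat.gcdB (2 ^ k) (Nat.card I)))
  rwa [← zpow_natCast, ← zpow_natCast, ← zpow_mul, ← zpow_mul, ← zpow_add, ← Nat.gcd_eq_gcd_ab,
    h4, Nat.cast_one, zpow_one] at this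

theorem ghz (h7 : Alt7S.{u}) : GhzS.{u} := by
  intro hG G _ _ H P Y Z T r hPH hZP hZ hZ2 ho hYP hN ⟨W, _, π, πs, πk, w1, w2, w3⟩ rY rZ rr hT rT
    hc hu
  have hc0 : Z.subgroupOf H ≤ center H := fun z hz => mem_center_iff.2 fun h =>
    Subtype.ext (hZ hz h h.2)
  have : (Z.subgroupOf H).Normal := ⟨fun z hz g => by
    rwa [mem_center_iff.1 (hc0 hz) g, mul_inv_cancel_right]⟩
  let f := QuotientGroup.mk' (Z.subgroupOf H)
  have hf : Function.Surjective f := QuotientGroup.mk'_surjective _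
  have hk : f.ker = Z.subgroupOf H := QuotientGroup.ker_mk' _
  have k1 : ∀ x : H, f x = 1 ↔ (x : G) ∈ Z := fun x => QuotientGroup.eq_one_iff x
  have kP : f.ker ≤ P.subgroupOf H := hk.trans_le (comap_mono hZP)
  have mP : ∀ x : H, f x ∈ (P.subgroupOf H).map f ↔ (x : G) ∈ P := fun x => by
    rw [← mem_comap, comap_map_eq_self kP, mem_subgroupOf]
  let g := f.comp (inclusion (hYP.trans hPH))
  have rH := hPH (hYP rY)
  have := hG h7 _ ((P.subgroupOf H).map f) g.range (f ⟨r, rH⟩) (fun I hI hm x hx => ?_) ?_ ?_ ?_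
    ⟨⟨r, rY⟩, rfl⟩ ⟨?_, hT.toSylow.mapSurjective hf, mem_map_of_mem f rT, ?_⟩ fun a ha => ?_
  · exact fun x hx => (mP ⟨x, hx⟩).1 (this ▸ mem_top _)
  · obtain ⟨x, rfl⟩ := hf x
    refine mem_map_of_mem f (odd_le f hf (hk.trans_le hc0) (by rw [hk]; exact hZ2.comap_subtype) kP
      (fun J hJ h y hy => ?_) I hI hm hx)
    refine ho (J.map H.subtype) (map_subtype_le J) ?_
      (by rwa [card_map_of_injective H.subtype_injective]) (mem_map_of_mem _ hy)
    have := J.le_normalizer_map H.subtype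
    rwa [normalizer_eq_top, ← MonoidHom.range_eq_map, range_subtype] at this
  · rintro _ ⟨y, rfl⟩
    exact (mP _).2 (hYP y.2)
  · have e : g.range = (Y.subgroupOf H).map f := by
      rw [MonoidHom.range_comp, inclusion_range]
    rw [e]
    refine (map_mono fun x hx => ?_).trans (le_normalizer_map f)
    exact le_normalizer_comap H.subtype (hN hx)
  · have gs := g.rangeRestrict_surjective
    have kk : ∀ y, g.rangeRestrict y = 1 ↔ π y = 1 := fun y =>
      (Subtype.ext_iff.trans (k1 _)).trans (πk y).symm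
    obtain ⟨p, e⟩ : ∃ p : g.range →* W, ∀ y, p (g.rangeRestrict y) = π y :=
      ⟨_, g.rangeRestrict.liftOfRightInverse_comp_apply _ (Function.rightInverse_surjInv gs)
        ⟨π, fun y hy => (kk y).1 hy⟩⟩
    refine ⟨W, _, p, fun w => ?_, fun y => ?_, w1, w2, w3⟩
    · obtain ⟨y, rfl⟩ := πs w
      exact ⟨_, e y⟩
    · obtain ⟨y, rfl⟩ := gs y
      rw [e, mem_bot, ← kk, Subtype.ext_iff, coe_one]
  · exact orderOf_eq_prime (by rw [sq, ← map_mul]; exact (k1 _).2 rr) (mt (k1 _).1 rZ)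
  · rintro _ ⟨x, hx, rfl⟩
    have := (k1 (x * ⟨r, rH⟩ * x⁻¹ * ⟨r, rH⟩⁻¹)).2 (hc x hx)
    simpa [mul_inv_eq_iff_eq_mul] using this
  · obtain ⟨a, rfl⟩ := hf a
    rw [← map_inv, ← map_mul, ← map_mul, mP] at ha
    exact (mP a).2 (hu a a.2 ha)

end Cfsg.Agent.H88.G40Ghz
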