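import Mathlib
import Cfsg.Agent.H88.LieSub
import Cfsg.Agent.S3937
import Cfsg.Agent.Eqn.Cfsg_Agent_H88_cIter

/-! Bounding the class of a group generated by a commutator-closed family of subgroups invariant
under a coprime elementary abelian operator group. -/

set_option autoImplicit false

namespace Cfsg.Agent.H88

open Cfsg.Agent.H63 Cfsg.Agent.H67 Cfsg.Agent.H69 Cfsg.Agent.H90 Subgroup
open scoped commutatorElement

variable {Γ : Type*} [Group Γ]

theorem cIter_succ' (P K : Subgroup Γ) (s : ℕ) : cIter P K (s + 1) = cIter ⁅P, K⁆ K s := by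
  induction s with
  | zero => rfl
  | succ s ih => rw [cIter, ih]; rfl

theorem cIter_add (P K : Subgroup Γ) (s t : ℕ) : cIter P K (s + t) = cIter (cIter P K s) K t := by
  induction t with
  | zero => rfl
  | succ t ih => rw [← add_assoc, cIter, ih]; rfl

theorem exists_upper_cIter {M D X : Subgroup Γ} (hMD : M ≤ D) (hD : ⁅D, D⁆ ≤ M)
    (hM : ⁅M, X⁆ ≤ M) (hDX : ⁅D, X⁆ ≤ D) (j : ℕ) :
    ∃ T : Subgroup Γ, M ≤ T ∧ T ≤ D ∧ ∀ P ≤ D, (cIter P X j ≤ M ↔ P ≤ T) := by
  induction j with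
  | zero => exact ⟨M, le_rfl, hMD, fun _ _ => Iff.rfl⟩
  | succ j ih =>
    obtain ⟨T, h1, h2, h3⟩ := ih
    have hc : ∀ g ∈ D, ∀ t ∈ T, g * t * g⁻¹ ∈ T := fun g hg t ht => by
      simpa [commutatorElement_def] using
        T.mul_mem (h1 (hD (commutator_mem_commutator hg (h2 ht)))) ht
    let T' : Subgroup Γ :=
      { carrier := {g | g ∈ D ∧ ∀ x ∈ X, ⁅g, x⁆ ∈ T}
        one_mem' := ⟨one_mem _, fun x _ => by simp⟩
        mul_mem' := fun {g h} hg hh => ⟨mul_mem hg.1 hh.1, fun x hx => by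
          have := T.mul_mem (hc g hg.1 _ (hh.2 x hx)) (hg.2 x hx)
          convert this using 1
          simp only [commutatorElement_def]; group⟩
        inv_mem' := fun {g} hg => ⟨inv_mem hg.1, fun x hx => by
          have := hc g⁻¹ (inv_mem hg.1) _ (inv_mem (hg.2 x hx))
          convert this using 1
          simp only [commutatorElement_def]; group⟩ }
    refine ⟨T', fun g hg => ⟨hMD hg, fun x hx => h1 (hM (commutator_mem_commutator hg hx))⟩,
      fun g hg => hg.1, fun P hP => ?_⟩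
    rw [cIter_succ', h3 _ ((commutator_mono hP le_rfl).trans hDX), commutator_le]
    exact ⟨fun h g hg => ⟨hP hg, h g hg⟩, fun h g hg => (h hg).2⟩

/-- The derived series of a subgroup. -/
def dIter (W : Subgroup Γ) : ℕ → Subgroup Γ
  | 0 => W
  | r + 1 => ⁅dIter W r, dIter W r⁆

theorem dIter_mono {W W' : Subgroup Γ} (h : W ≤ W') (r : ℕ) : dIter W r ≤ dIter W' r := by
  induction r with
  | zero => exact h
  | succ r ih => exact commutator_mono ih ih

theorem dIter_succ_le (W : Subgroup Γ) (r : ℕ) : dIter W (r + 1) ≤ dIter W r :=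
  commutator_le_self _

theorem dIter_le (W : Subgroup Γ) (r : ℕ) : dIter W r ≤ W := by
  induction r with
  | zero => exact le_rfl
  | succ r ih => exact (dIter_succ_le W r).trans ih

theorem dIter_add (W : Subgroup Γ) (r s : ℕ) : dIter W (r + s) = dIter (dIter W r) s := by
  induction s with
  | zero => rfl
  | succ s ih => rw [← add_assoc, dIter, ih]; rfl

theorem dIter_le_lcs (W : Subgroup Γ) (r : ℕ) : dIter W r ≤ W.lowerCentralSeries r := by
  induction r with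
  | zero => exact le_rfl
  | succ r ih => exact commutator_mono ih (dIter_le W r)

theorem le_normalizer_dIter {A W : Subgroup Γ} (h : A ≤ N[W]) (r : ℕ) : A ≤ N[dIter W r] := by
  induction r with
  | zero => exact h
  | succ r ih => exact le_normalizer_commutator ih ih

theorem map_dIter {Γ' : Type*} [Group Γ'] (f : Γ →* Γ') (W : Subgroup Γ) (r : ℕ) :
    (dIter W r).map f = dIter (W.map f) r := by
  induction r with
  | zero => rfl
  | succ r ih => rw [dIter, dIter, map_commutator, ih]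

theorem dIter_top (r : ℕ) : dIter (⊤ : Subgroup Γ) r = derivedSeries Γ r := by
  induction r with
  | zero => rfl
  | succ r ih => rw [dIter, ih]; rfl

theorem map_derivedSeries_subtype (W : Subgroup Γ) (r : ℕ) :
    (derivedSeries W r).map W.subtype = dIter W r := by
  rw [← dIter_top, map_dIter, ← MonoidHom.range_eq_map, range_subtype]

theorem isSolvable_iff_dIter {W : Subgroup Γ} : Group.IsSolvable W ↔ ∃ r, dIter W r = ⊥ := by
  rw [Group.isSolvable_def]
  exact exists_congr fun r => by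
    rw [← map_derivedSeries_subtype, map_eq_bot_iff_of_injective _ W.subtype_injective]

theorem mem_fitting_of_cIter [Finite Γ] {N X : Subgroup Γ} (hX : X ≤ N) {n : ℕ}
    (h : cIter N X n = ⊥) : X ≤ (fittingSubgroup N).map N.subtype := by
  intro x hx
  refine ⟨⟨x, hX hx⟩, (S3937.result _).2 fun g => ⟨n, Subtype.ext ?_⟩, rfl⟩
  have : ∀ j, (((List.replicate j (⟨x, hX hx⟩ : N)).foldl (fun a b => a * b * a⁻¹ * b⁻¹) g : N) : Γ) ∈
      cIter N X j := fun j => by
    induction j with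
    | zero => exact g.2
    | succ j ih =>
      rw [S3937.foldl_succ]
      exact commutator_mem_commutator ih hx
  exact h.le (this n)

/-- The hypotheses on a family `𝒳` of `A`-invariant subgroups generating `N`. -/
structure GoodFam (A N : Subgroup Γ) (𝒳 : Set (Subgroup Γ)) (c : ℕ) : Prop where
  comm : IsMulCommutative A
  norm : A ≤ N[N]
  cop : (Nat.card A).Coprime (Nat.card N)
  inv : ∀ X ∈ 𝒳, A ≤ N[X]
  le : ∀ X ∈ 𝒳, X ≤ N
  gen : ∀ T : Subgroup Γ, (∀ X ∈ 𝒳, X ≤ T) → N ≤ T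
  clos : ∀ X ∈ 𝒳, ∀ Y ∈ 𝒳, ∀ H ≤ A, IsCyclic (A /ᵍ H) → ∃ Z ∈ 𝒳, ⁅X, Y⁆ ⊓ C[H] ≤ Z
  eng : ∃ K : Γ → Subgroup Γ, (∀ b ∈ A, b ≠ 1 → cIter (N ⊓ C1[b]) (K b) c = ⊥) ∧
    ∀ X ∈ 𝒳, ∃ B ≤ A, ¬ IsCyclic B ∧ ∀ b ∈ B, b ≠ 1 → X ≤ K b

namespace GoodFam

variable [Finite Γ] {A N : Subgroup Γ} {𝒳 : Set (Subgroup Γ)} {c : ℕ}

omit [Finite Γ] in
theorem cop' (h : GoodFam A N 𝒳 c) {B P : Subgroup Γ} (hB : B ≤ A) (hP : P ≤ N) :
    (Nat.card B).Coprime (Nat.card P) :=
  (h.cop.coprime_dvd_right (card_dvd_of_le hP)).coprime_dvd_left (card_dvd_of_le hB)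

theorem isNilpotent (h : GoodFam A N 𝒳 c) (hs : Group.IsSolvable N) : Group.IsNilpotent N := by
  obtain ⟨e, he⟩ := isSolvable_iff_dIter.1 hs
  obtain ⟨K, hK, hX⟩ := h.eng
  have h1 : N ≤ (fittingSubgroup N).map N.subtype := h.gen _ fun X hX' => by
    obtain ⟨B, hB, hnc, hb⟩ := hX X hX'
    have hn : ∀ r, ⁅dIter N r, X⁆ ≤ dIter N r := fun r => le_normalizer_iff_commutator_le_left.1
      (le_normalizer_dIter ((h.le X hX').trans le_normalizer) r)
    have h2 : ∀ r, cIter (dIter N r) X c ≤ dIter N (r + 1) := fun r => by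
      obtain ⟨T, -, -, h3⟩ := exists_upper_cIter (dIter_succ_le N r) le_rfl (hn (r + 1)) (hn r) c
      refine (h3 _ le_rfl).2 (coprime_abelian_gen_cent1 (isMulCommutative_of_le h.comm hB) hnc
        (hB.trans (le_normalizer_dIter h.norm r)) (h.cop' hB (dIter_le N r)) fun b hb' hb1 => ?_)
      exact (h3 _ inf_le_left).1 (((cIter_mono (inf_le_inf_right _ (dIter_le N r)) (hb b hb' hb1)
        c).trans (hK b (hB hb') hb1).le).trans bot_le)
    have h3 : ∀ r, cIter N X (r * c) ≤ dIter N r := fun r => by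
      induction r with
      | zero => rw [zero_mul]; exact le_rfl
      | succ r ih => rw [add_mul, one_mul, cIter_add]; exact (cIter_mono ih le_rfl c).trans (h2 r)
    exact mem_fitting_of_cIter (h.le X hX') (le_bot_iff.1 ((h3 e).trans he.le))
  have h2 : fittingSubgroup N = ⊤ := eq_top_iff.2 fun x _ => by
    obtain ⟨y, hy, hxy⟩ := h1 x.2
    rwa [← Subtype.ext hxy]
  exact H3.fitting_eq_top_iff.1 h2

/-- Homogeneous pieces inside `W`. -/
def Piece (A N : Subgroup Γ) (𝒳 : Set (Subgroup Γ)) (W : Subgroup Γ) (t : ℕ × Subgroup Γ) : Prop :=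
  t.2 ≤ N.lowerCentralSeries t.1 ∧ A ≤ N[t.2] ∧ t.2 ≤ W ∧ ∃ X ∈ 𝒳, t.2 ≤ X

/-- `U` is spanned by the images of pieces. -/
def Good (A N : Subgroup Γ) (𝒳 : Set (Subgroup Γ)) (W : Subgroup Γ) (U : Submodule ℤ (LieN N)) :
    Prop :=
  U ≤ ⨆ t : {t // Piece A N 𝒳 W t ∧ gr N t.1 t.2 ≤ U}, gr N t.1.1 t.1.2

theorem good_br (h : GoodFam A N 𝒳 c) {W : Subgroup Γ} {U : Submodule ℤ (LieN N)}
    (hU : Good A N 𝒳 W U) : Good A N 𝒳 ⁅W, W⁆ (br U U) := by
  refine (br_mono hU hU).trans ?_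
  rw [br_iSup_left]
  refine iSup_le ?_
  rintro ⟨⟨i, P⟩, ⟨hP1, hP2, hP3, X, hX, hPX⟩, hP4⟩
  rw [br_iSup_right]
  refine iSup_le ?_
  rintro ⟨⟨j, Q⟩, ⟨hQ1, hQ2, hQ3, Y, hY, hQY⟩, hQ4⟩
  have h1 : ⁅P, Q⁆ ≤ N.lowerCentralSeries (i + j + 1) :=
    (commutator_mono hP1 hQ1).trans (commutator_lcs_lcs_le N i j)
  have h2 : A ≤ N[⁅P, Q⁆] := le_normalizer_commutator hP2 hQ2
  refine (br_gr_le i j P Q).trans (gr_le_of_le_clPre (coprime_abelian_gen_cent h.comm h2
    (h.cop' le_rfl (h1.trans (lcs_le_self N _))) fun H hH hc => le_clPre (inf_le_left.trans h1) ?_))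
  obtain ⟨Z, hZ, hZ'⟩ := h.clos X hX Y hY H hH hc
  exact le_iSup_of_le (⟨(i + j + 1, ⁅P, Q⁆ ⊓ C[H]), ⟨inf_le_left.trans h1,
    le_normalizer_inf h2 (le_normalizer_centralizer (normalIn_of_isMulCommutative h.comm hH).2),
    inf_le_left.trans (commutator_mono hP3 hQ3), Z, hZ,
    (inf_le_inf_right _ (commutator_mono hPX hQY)).trans hZ'⟩,
    (gr_mono inf_le_left).trans ((gr_commutator_le hP1 hQ1).trans (br_mono hP4 hQ4))⟩ :
      {t // Piece A N 𝒳 ⁅W, W⁆ t ∧ gr N t.1 t.2 ≤ br U U}) le_rfl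

theorem good_iterate (h : GoodFam A N 𝒳 c) {W : Subgroup Γ} {U : Submodule ℤ (LieN N)}
    (hU : Good A N 𝒳 W U) (r : ℕ) : Good A N 𝒳 (dIter W r) (brD^[r] U) := by
  induction r with
  | zero => exact hU
  | succ r ih => rw [Function.iterate_succ_apply']; exact h.good_br ih

/-- The span of all pieces inside `W`. -/
noncomputable def spanW (A N : Subgroup Γ) (𝒳 : Set (Subgroup Γ)) (W : Subgroup Γ) :
    Submodule ℤ (LieN N) := ⨆ t : {t // Piece A N 𝒳 W t}, gr N t.1.1 t.1.2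

omit [Finite Γ] in
theorem gr_le_spanW {W : Subgroup Γ} {i : ℕ} {P : Subgroup Γ} (hP : Piece A N 𝒳 W (i, P)) :
    gr N i P ≤ spanW A N 𝒳 W := le_iSup_of_le (⟨(i, P), hP⟩ : {t // Piece A N 𝒳 W t}) le_rfl

omit [Finite Γ] in
theorem good_spanW (W : Subgroup Γ) : Good A N 𝒳 W (spanW A N 𝒳 W) :=
  iSup_le fun t => le_iSup_of_le (⟨t.1, t.2, gr_le_spanW t.2⟩ :
    {t // Piece A N 𝒳 W t ∧ gr N t.1 t.2 ≤ spanW A N 𝒳 W}) le_rfl

theorem br_spanW_le (h : GoodFam A N 𝒳 c) (W : Subgroup Γ) :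
    br (spanW A N 𝒳 W) (spanW A N 𝒳 W) ≤ spanW A N 𝒳 W :=
  (h.good_br (good_spanW W)).trans (iSup_le fun t => gr_le_spanW
    ⟨t.2.1.1, t.2.1.2.1, t.2.1.2.2.1.trans (commutator_le_self _), t.2.1.2.2.2⟩)

theorem top_le_spanW (h : GoodFam A N 𝒳 c) : ⊤ ≤ spanW A N 𝒳 N := by
  have h0 : N ≤ clPre N 0 (spanW A N 𝒳 N) := h.gen _ fun X hX =>
    le_clPre (h.le X hX) (gr_le_spanW ⟨h.le X hX, h.inv X hX, h.le X hX, X, hX, le_rfl⟩)
  refine top_le_of_cl fun i => ?_
  induction i with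
  | zero => exact fun x hx => (h0 hx).2
  | succ i ih =>
    intro x hx
    have h1 := gr_commutator_le (N := N) (i := i) (j := 0) le_rfl le_rfl
    exact h.br_spanW_le N (br_mono (gr_le.2 fun y hy _ => ih y hy) (gr_le_of_le_clPre h0)
      (h1 (cl_mem_gr hx hx)))

theorem brIter_eq_bot (h : GoodFam A N 𝒳 c) (hc : 1 ≤ c) {W : Subgroup Γ}
    {U : Submodule ℤ (LieN N)} (hU : Good A N 𝒳 W U) (hU' : br U U ≤ U) {e : ℕ}
    (he : brD^[e] U = ⊥) : brIter ⊤ U (c ^ (2 ^ Nat.card A * e)) = ⊥ := by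
  classical
  obtain ⟨K, hK, hX⟩ := h.eng
  have := Fintype.ofFinite (Subgroup A)
  let s : Finset (Subgroup A) := Finset.univ.filter fun B => ¬ IsCyclic (B.map A.subtype)
  let V : Subgroup A → Submodule ℤ (LieN N) := fun B =>
    grAll N (⨅ b : {b // b ∈ B.map A.subtype ∧ b ≠ 1}, K b)
  have h1 : s.card ≤ 2 ^ Nat.card A := by
    refine (Finset.card_le_univ s).trans ?_
    have := Fintype.ofFinite A
    rw [Nat.card_eq_fintype_card, ← Fintype.card_set]
    exact Fintype.card_le_of_injective _ SetLike.coe_injective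
  refine brIter_bot_of_le (brIter_eq_bot_of_solvable s V (c := c) (fun B hB => ?_) e hU'
    (fun r => (h.good_iterate hU r).trans (iSup_le ?_)) he)
    (Nat.pow_le_pow_right hc (Nat.mul_le_mul_right _ h1))
  · have hB' : B.map A.subtype ≤ A := map_subtype_le B
    have h2 : (⊤ : Submodule ℤ (LieN N)) ≤
        ⨆ b : {b // b ∈ B.map A.subtype ∧ b ≠ 1}, grAll N (N ⊓ C1[(b : Γ)]) := by
      refine top_le_of_cl fun i x hx => ((coprime_abelian_gen_cent1 (H := clPre N i _)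
        (isMulCommutative_of_le h.comm hB') (Finset.mem_filter.1 hB).2
        (hB'.trans (le_normalizer_lcs h.norm i)) (h.cop' hB' (lcs_le_self N i))
        fun b hb hb1 => le_clPre inf_le_left ?_) hx).2
      exact le_iSup_of_le ⟨b, hb, hb1⟩ (le_iSup_of_le i
        (gr_mono (inf_le_inf_right _ (lcs_le_self N i))))
    refine le_bot_iff.1 ((brIter_mono h2 le_rfl c).trans ?_)
    rw [brIter_iSup_left]
    exact iSup_le fun b => (brIter_grAll_eq_bot (le_bot_iff.1 ((cIter_mono le_rfl (iInf_le _ b)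
      c).trans (hK b (hB' b.2.1) b.2.2).le))).le
  · rintro ⟨⟨i, P⟩, ⟨-, -, -, X, hX', hPX⟩, hP⟩
    obtain ⟨B, hB, hnc, hb⟩ := hX X hX'
    have h3 : (B.subgroupOf A).map A.subtype = B := map_subgroupOf_eq_of_le hB
    refine le_iSup₂_of_le (B.subgroupOf A) (Finset.mem_filter.2 ⟨Finset.mem_univ _, by rwa [h3]⟩)
      (le_inf hP (le_iSup_of_le i (gr_mono (le_iInf fun b => hPX.trans (hb b (h3.le b.2.1) b.2.2)))))

/-- The class of `N` is bounded. -/
theorem lcs_eq_bot (h : GoodFam A N 𝒳 c) (hc : 1 ≤ c) (hs : Group.IsSolvable N) {p e : ℕ}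
    (hp : p.Prime) {a : Γ} (ha : a ∈ A) (hap : orderOf a = p) (he : dIter (N ⊓ C1[a]) e = ⊥) :
    N.lowerCentralSeries
      (c ^ (2 ^ Nat.card A * krekB (c ^ (2 ^ Nat.card A * e)) p)) = ⊥ := by
  have ha' : zpowers a ≤ A := zpowers_le.2 ha
  have h1 := h.brIter_eq_bot hc (good_spanW (N ⊓ C1[a])) (h.br_spanW_le _) (e := e) (by
    have := h.good_iterate (good_spanW (N ⊓ C1[a])) e
    rw [he] at this
    exact le_bot_iff.1 (this.trans (iSup_le fun t => (gr_mono t.2.1.2.2.1).trans (gr_bot _).le)))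
  have hap' : a ^ p = 1 := hap ▸ pow_orderOf_eq_one a
  have h2 := kreknin_aut hp (conjEnd (h.norm ha)) (conjEnd_lie _) (conjEnd_pow_eq_one _ hap')
    (e := Nat.card N) (by simpa [hap] using h.cop' ha' le_rfl) card_smul_lieN
    (T := spanW A N 𝒳 (N ⊓ C1[a])) (fun x => by
      refine (h.top_le_spanW.trans (iSup_le ?_) :
        _ ≤ (spanW A N 𝒳 (N ⊓ C1[a])).comap _) (Submodule.mem_top (x := x))
      rintro ⟨⟨i, P⟩, hP1, hP2, hP3, X, hX, hPX⟩
      refine (gr_le_comap_trace (h.norm ha) hap' hP1 (hP2 ha)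
        (by simpa using h.cop' ha' hP3)).trans (Submodule.comap_mono (gr_le_spanW
          ⟨inf_le_left.trans hP1, le_normalizer_inf hP2 ?_, inf_le_inf_right _ hP3, X, hX,
            inf_le_left.trans hPX⟩))
      exact le_normalizer_of_le fun b hb => mem_centralizer_singleton_iff.2
        (mem_centralizer_iff.1 (le_cent_of_comm h.comm le_rfl le_rfl ha) b hb)) h1
  have h3 := good_spanW (A := A) (N := N) (𝒳 := 𝒳) N
  rw [top_le_iff.1 h.top_le_spanW] at h3
  exact lcs_eq_bot_of_brIter (h.isNilpotent hs) (h.brIter_eq_bot hc h3 le_top h2)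

end GoodFam

end Cfsg.Agent.H88
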