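import Mathlib
import Cfsg.Agent.H88.GoodFam
import Cfsg.Agent.H69.FixLift
import Cfsg.Agent.H4.CoprimeExt
import Cfsg.Agent.S0515

/-! `A`-special subgroups (Acciarri–Shumyatsky) and the resulting class bounds. -/

set_option autoImplicit false

namespace Cfsg.Agent.H88

open Cfsg.Agent.H63 Cfsg.Agent.H67 Cfsg.Agent.H69 Cfsg.Agent.H90 Subgroup
open scoped commutatorElement

variable {Γ : Type*} [Group Γ]

/-- Centralisers of cocyclic subgroups. -/
def fam0 (A G : Subgroup Γ) : Set (Subgroup Γ) :=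
  {Z | ∃ H ≤ A, IsCyclic (A /ᵍ H) ∧ Z = G ⊓ C[H]}

/-- Commutators of members of two families, cut by centralisers of cocyclic subgroups. -/
def famBr (A : Subgroup Γ) (𝒳 𝒴 : Set (Subgroup Γ)) : Set (Subgroup Γ) :=
  {Z | ∃ X ∈ 𝒳, ∃ Y ∈ 𝒴, ∃ H ≤ A, IsCyclic (A /ᵍ H) ∧ Z = ⁅X, Y⁆ ⊓ C[H]}

/-- Every member of `𝒳` lies in a member of `𝒴`. -/
def Refines (𝒳 𝒴 : Set (Subgroup Γ)) : Prop := ∀ X ∈ 𝒳, ∃ Y ∈ 𝒴, X ≤ Y

theorem Refines.refl' {𝒳 : Set (Subgroup Γ)} : Refines 𝒳 𝒳 := fun X hX => ⟨X, hX, le_rfl⟩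

theorem Refines.trans {𝒳 𝒴 𝒵 : Set (Subgroup Γ)} (h : Refines 𝒳 𝒴) (h' : Refines 𝒴 𝒵) :
    Refines 𝒳 𝒵 := fun X hX =>
  let ⟨Y, hY, h1⟩ := h X hX
  let ⟨Z, hZ, h2⟩ := h' Y hY
  ⟨Z, hZ, h1.trans h2⟩

theorem Refines.famBr {A : Subgroup Γ} {𝒳 𝒴 𝒳' 𝒴' : Set (Subgroup Γ)} (h : Refines 𝒳 𝒳')
    (h' : Refines 𝒴 𝒴') : Refines (famBr A 𝒳 𝒴) (famBr A 𝒳' 𝒴') := by
  rintro _ ⟨X, hX, Y, hY, H, hH, hc, rfl⟩
  obtain ⟨X', hX', h1⟩ := h X hX
  obtain ⟨Y', hY', h2⟩ := h' Y hY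
  exact ⟨_, ⟨X', hX', Y', hY', H, hH, hc, rfl⟩, inf_le_inf_right _ (commutator_mono h1 h2)⟩

theorem refines_famBr_fam0 (A G : Subgroup Γ) :
    Refines (famBr A (fam0 A G) (fam0 A G)) (fam0 A G) := by
  rintro _ ⟨_, ⟨_, -, -, rfl⟩, _, ⟨_, -, -, rfl⟩, H, hH, hc, rfl⟩
  exact ⟨_, ⟨H, hH, hc, rfl⟩, inf_le_inf_right _
    ((commutator_mono inf_le_left inf_le_left).trans (commutator_le_self _))⟩

/-- A family of invariant subgroups generating `S`. -/
structure GenFam (A S : Subgroup Γ) (𝒳 : Set (Subgroup Γ)) : Prop where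
  inv : ∀ X ∈ 𝒳, A ≤ N[X]
  le : ∀ X ∈ 𝒳, X ≤ S
  gen : ∀ T : Subgroup Γ, (∀ X ∈ 𝒳, X ≤ T) → S ≤ T

theorem le_normalizer_sSup_of_commutator {𝒵 : Set (Subgroup Γ)} {Y : Subgroup Γ}
    (h : ∀ Z ∈ 𝒵, ⁅Y, Z⁆ ≤ sSup 𝒵) : Y ≤ N[sSup 𝒵] := by
  refine le_normalizer_iff.2 fun y hy => ?_
  refine (sSup_le fun Z hZ z hz => ?_ : sSup 𝒵 ≤ (sSup 𝒵).comap (MulAut.conj y).toMonoidHom)
  simpa [commutatorElement_def] using
    mul_mem (h Z hZ (commutator_mem_commutator hy hz)) (le_sSup hZ hz)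

variable [Finite Γ] {A G : Subgroup Γ}

theorem genFam_fam0 (hA : IsMulCommutative A) (hn : A ≤ N[G])
    (hc : (Nat.card A).Coprime (Nat.card G)) : GenFam A G (fam0 A G) where
  inv := by
    rintro _ ⟨H, hH, -, rfl⟩
    exact le_normalizer_inf hn (le_normalizer_centralizer (normalIn_of_isMulCommutative hA hH).2)
  le := by
    rintro _ ⟨H, -, -, rfl⟩
    exact inf_le_left
  gen T h := coprime_abelian_gen_cent hA hn hc fun H hH hcyc => h _ ⟨H, hH, hcyc, rfl⟩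

theorem GenFam.famBr (hA : IsMulCommutative A) (hc : (Nat.card A).Coprime (Nat.card G))
    {S T : Subgroup Γ} {𝒳 𝒴 : Set (Subgroup Γ)} (hS : S ≤ G) (hT : T ≤ G) (h : GenFam A S 𝒳)
    (h' : GenFam A T 𝒴) (h1 : Refines (famBr A 𝒳 𝒴) 𝒳) (h2 : Refines (famBr A 𝒳 𝒴) 𝒴) :
    GenFam A ⁅S, T⁆ (famBr A 𝒳 𝒴) where
  inv := by
    rintro _ ⟨X, hX, Y, hY, H, hH, -, rfl⟩
    exact le_normalizer_inf (le_normalizer_commutator (h.inv X hX) (h'.inv Y hY))
      (le_normalizer_centralizer (normalIn_of_isMulCommutative hA hH).2)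
  le := by
    rintro _ ⟨X, hX, Y, hY, H, -, -, rfl⟩
    exact inf_le_left.trans (commutator_mono (h.le X hX) (h'.le Y hY))
  gen T' hT' := by
    refine le_trans ?_ (sSup_le hT')
    set M := sSup (H88.famBr A 𝒳 𝒴)
    have h3 : ∀ X ∈ 𝒳, ∀ Y ∈ 𝒴, ⁅X, Y⁆ ≤ M := fun X hX Y hY =>
      coprime_abelian_gen_cent hA (le_normalizer_commutator (h.inv X hX) (h'.inv Y hY))
        (hc.coprime_dvd_right (card_dvd_of_le ((commutator_mono ((h.le X hX).trans hS)
          ((h'.le Y hY).trans hT)).trans (commutator_le_self _))))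
        fun H hH hcyc => le_sSup ⟨X, hX, Y, hY, H, hH, hcyc, rfl⟩
    have h4 : S ≤ N[M] := h.gen _ fun X hX => le_normalizer_sSup_of_commutator fun Z hZ =>
      let ⟨Y, hY, hZY⟩ := h2 Z hZ
      (commutator_mono le_rfl hZY).trans (h3 X hX Y hY)
    have h5 : T ≤ N[M] := h'.gen _ fun Y hY => le_normalizer_sSup_of_commutator fun Z hZ =>
      let ⟨X, hX, hZX⟩ := h1 Z hZ
      (commutator_mono le_rfl hZX).trans ((commutator_comm_le _ _).trans (h3 X hX Y hY))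
    rw [← quo_cents_iff h4 h5, quo_le_iff h4]
    refine h.gen _ fun X hX => ?_
    have h6 := (h.le X hX).trans h4
    rw [← quo_le_iff h6, le_centralizer_iff, quo_le_iff h5]
    refine h'.gen _ fun Y hY => ?_
    have h7 := (h'.le Y hY).trans h5
    rw [← quo_le_iff h7, le_centralizer_iff, quo_cents_iff h6 h7]
    exact h3 X hX Y hY

/-- Every member lies in `w (C_G(B))` for some `B` of index at most `n`. -/
def Loc (A G : Subgroup Γ) (𝒳 : Set (Subgroup Γ)) (n : ℕ) (w : Subgroup Γ → Subgroup Γ) : Prop :=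
  ∀ X ∈ 𝒳, ∃ B ≤ A, B.relIndex A ≤ n ∧ X ≤ w (G ⊓ C[B])

theorem loc_fam0 {p : ℕ} (hp : p.Prime) (hA : IsElementaryAbelian p A) :
    Loc A G (fam0 A G) p id := by
  rintro _ ⟨H, hH, hc, rfl⟩
  refine ⟨H, hH, ?_, le_rfl⟩
  have h1 := card_le_of_abelem_of_isCyclic hp (quo_isElementaryAbelian H hA).2 hc
  rw [← card_quo (normalIn_of_isMulCommutative hA.1 hH).2]
  exact Nat.le_of_dvd hp.pos h1

omit [Finite Γ] in
theorem Loc.famBr {𝒳 𝒴 : Set (Subgroup Γ)} {m n : ℕ} {v w : Subgroup Γ → Subgroup Γ}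
    (h : Loc A G 𝒳 m v) (h' : Loc A G 𝒴 n w) (hv : Monotone v) (hw : Monotone w) :
    Loc A G (famBr A 𝒳 𝒴) (m * n) fun W => ⁅v W, w W⁆ := by
  rintro _ ⟨X, hX, Y, hY, H, -, -, rfl⟩
  obtain ⟨B, hB, h1, h2⟩ := h X hX
  obtain ⟨B', hB', h1', h2'⟩ := h' Y hY
  exact ⟨B ⊓ B', inf_le_left.trans hB, (relIndex_inf_le).trans (Nat.mul_le_mul h1 h1'),
    inf_le_left.trans (commutator_mono
      (h2.trans (hv (inf_le_inf_left _ (centralizer_anti inf_le_left))))
      (h2'.trans (hw (inf_le_inf_left _ (centralizer_anti inf_le_right)))))⟩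

/-- The class bound. -/
def specB (p k c e : ℕ) : ℕ :=
  (c + 1) ^ (2 ^ p ^ k * krekB ((c + 1) ^ (2 ^ p ^ k * (e + c))) p)

theorem lcs_eq_bot_of_fam {p k c e n : ℕ} (hp : p.Prime) (hA : IsElementaryAbelian p A)
    (hk : Nat.card A = p ^ k) (hk3 : 3 ≤ k) (hn : A ≤ N[G]) (hc : (Nat.card G).Coprime p)
    {w : Subgroup Γ → Subgroup Γ} (hw : Monotone w) (hwn : ∀ W, W ≤ N[w W])
    (hwe : ∀ W, dIter W e ≤ w W) {N : Subgroup Γ} (hNG : N ≤ G) (hAN : A ≤ N[N])
    {𝒳 : Set (Subgroup Γ)} (h1 : GenFam A N 𝒳) (h2 : Refines (famBr A 𝒳 𝒳) 𝒳)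
    (h3 : Loc A G 𝒳 (p ^ n) w) (hnk : n + 2 ≤ k)
    (h : ∀ a ∈ A, a ≠ 1 → (w (G ⊓ C1[a])).lowerCentralSeries c = ⊥) :
    N.lowerCentralSeries (specB p k c e) = ⊥ := by
  have := Fact.mk hp
  have hd : ∀ a ∈ A, a ≠ 1 → dIter (G ⊓ C1[a]) (e + c) = ⊥ := fun a ha ha1 => by
    rw [dIter_add]
    exact le_bot_iff.1 (((dIter_mono (hwe _) c).trans (dIter_le_lcs _ c)).trans (h a ha ha1).le)
  have hs : Group.IsSolvable G := S0515.result p A G hA.1 hA.2
    (hk ▸ Nat.pow_le_pow_right hp.pos hk3) hc hn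
    fun a ha ha1 => isSolvable_iff_dIter.2 ⟨_, hd a ha ha1⟩
  have hs' : Group.IsSolvable N :=
    let ⟨r, hr⟩ := isSolvable_iff_dIter.1 hs
    isSolvable_iff_dIter.2 ⟨r, le_bot_iff.1 ((dIter_mono hNG r).trans hr.le)⟩
  have hg : GoodFam A N 𝒳 (c + 1) :=
    { comm := hA.1
      norm := hAN
      cop := hk ▸ ((hc.coprime_dvd_left (card_dvd_of_le hNG)).symm.pow_left k)
      inv := h1.inv
      le := h1.le
      gen := h1.gen
      clos := fun X hX Y hY H hH hcyc => h2 _ ⟨X, hX, Y, hY, H, hH, hcyc, rfl⟩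
      eng := ⟨fun b => w (G ⊓ C1[b]), fun b hb hb1 => le_bot_iff.1
        ((cIter_succ_le ((inf_le_inf_right _ hNG).trans (hwn _)) c).trans (h b hb hb1).le),
        fun X hX => by
          obtain ⟨B, hB, h4, h5⟩ := h3 X hX
          refine ⟨B, hB, fun hcyc => ?_, fun b hb _ => h5.trans (hw (inf_le_inf_left _
            (centralizer_le (Set.singleton_subset_iff.2 hb))))⟩
          have h6 := Nat.le_of_dvd hp.pos
            (card_le_of_abelem_of_isCyclic hp (fun x hx => hA.2 x (hB hx)) hcyc)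
          have h7 := card_inf_mul_relIndex B A
          rw [inf_eq_left.2 hB, hk] at h7
          have h8 := h7.ge.trans (Nat.mul_le_mul h6 h4)
          rw [← pow_succ', Nat.pow_le_pow_iff_right hp.one_lt] at h8
          omega⟩ }
  obtain ⟨a, ha, ha1⟩ := (bot_or_exists_ne_one A).resolve_left fun h0 => by
    rw [h0, card_bot, eq_comm, Nat.pow_eq_one] at hk
    have := hp.one_lt
    omega
  have := hg.lcs_eq_bot (Nat.le_add_left 1 c) hs' hp ha (orderOf_eq_prime (hA.2 a ha) ha1)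
    (le_bot_iff.1 ((dIter_mono (inf_le_inf_right _ hNG) _).trans (hd a ha ha1).le))
  rwa [hk] at this

/-- Special subgroups for the derived series. -/
def famD (A G : Subgroup Γ) : ℕ → Set (Subgroup Γ)
  | 0 => fam0 A G
  | r + 1 => famBr A (famD A G r) (famD A G r)

/-- Special subgroups for the lower central series. -/
def famG (A G : Subgroup Γ) : ℕ → Set (Subgroup Γ)
  | 0 => fam0 A G
  | r + 1 => famBr A (famG A G r) (fam0 A G)

theorem derived_lcs_eq_bot {p k c d : ℕ} (hp : p.Prime) (hA : IsElementaryAbelian p A)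
    (hk : Nat.card A = p ^ k) (hd : 2 ^ d + 2 ≤ k) (hn : A ≤ N[G]) (hc : (Nat.card G).Coprime p)
    (h : ∀ a ∈ A, a ≠ 1 → (dIter (G ⊓ C1[a]) d).lowerCentralSeries c = ⊥) :
    (dIter G d).lowerCentralSeries (specB p k c d) = ⊥ := by
  have hc' : (Nat.card A).Coprime (Nat.card G) := hk ▸ hc.symm.pow_left k
  have h1 : ∀ r, Refines (famD A G (r + 1)) (famD A G r) := fun r => by
    induction r with
    | zero => exact refines_famBr_fam0 A G
    | succ r ih => exact ih.famBr ih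
  have h2 : ∀ r, GenFam A (dIter G r) (famD A G r) := fun r => by
    induction r with
    | zero => exact genFam_fam0 hA.1 hn hc'
    | succ r ih => exact ih.famBr hA.1 hc' (dIter_le G r) (dIter_le G r) ih (h1 r) (h1 r)
  have h3 : ∀ r, Loc A G (famD A G r) (p ^ 2 ^ r) fun W => dIter W r := fun r => by
    induction r with
    | zero => rw [pow_zero, pow_one]; exact loc_fam0 hp hA
    | succ r ih =>
      rw [pow_succ, mul_two, pow_add]
      exact ih.famBr ih (fun _ _ h => dIter_mono h r) fun _ _ h => dIter_mono h r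
  have := Nat.one_le_two_pow (n := d)
  exact lcs_eq_bot_of_fam hp hA hk (by omega) hn hc (fun _ _ h => dIter_mono h d)
    (fun W => le_normalizer_dIter le_normalizer d) (fun _ => le_rfl) (dIter_le G d)
    (le_normalizer_dIter hn d) (h2 d) (h1 d) (h3 d) hd h

theorem lcs_lcs_eq_bot {p k c : ℕ} (hp : p.Prime) (hA : IsElementaryAbelian p A)
    (hk : Nat.card A = p ^ k) (hd : 3 ≤ k) (hn : A ≤ N[G]) (hc : (Nat.card G).Coprime p)
    (h : ∀ a ∈ A, a ≠ 1 →
      ((G ⊓ C1[a]).lowerCentralSeries (k - 3)).lowerCentralSeries c = ⊥) :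
    (G.lowerCentralSeries (k - 3)).lowerCentralSeries (specB p k c (k - 3)) = ⊥ := by
  have hc' : (Nat.card A).Coprime (Nat.card G) := hk ▸ hc.symm.pow_left k
  have h1 : ∀ r, Refines (famG A G (r + 1)) (famG A G r) := fun r => by
    induction r with
    | zero => exact refines_famBr_fam0 A G
    | succ r ih => exact ih.famBr Refines.refl'
  have h0 : ∀ r, Refines (famG A G r) (fam0 A G) := fun r => by
    induction r with
    | zero => exact Refines.refl'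
    | succ r ih => exact (h1 r).trans ih
  have h2 : ∀ r, GenFam A (G.lowerCentralSeries r) (famG A G r) := fun r => by
    induction r with
    | zero => exact genFam_fam0 hA.1 hn hc'
    | succ r ih =>
      exact ih.famBr hA.1 hc' (lcs_le_self G r) le_rfl (genFam_fam0 hA.1 hn hc') (h1 r) (h0 (r + 1))
  have h3 : ∀ r, Loc A G (famG A G r) (p ^ (r + 1)) fun W => W.lowerCentralSeries r := fun r => by
    induction r with
    | zero => rw [zero_add, pow_one]; exact loc_fam0 hp hA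
    | succ r ih =>
      rw [pow_succ]
      exact ih.famBr (loc_fam0 hp hA) (fun _ _ h => lowerCentralSeries_mono r h) monotone_id
  exact lcs_eq_bot_of_fam hp hA hk hd hn hc (fun _ _ h => lowerCentralSeries_mono _ h)
    (fun W => le_normalizer_lcs le_normalizer _) (fun W => dIter_le_lcs W _) (lcs_le_self G _)
    (le_normalizer_lcs hn _) (h2 _) ((Refines.refl'.famBr (h0 _)).trans (h1 _)) (h3 _) (by omega) h

theorem L_inf_cent1 {K B : Type*} [Group K] [Group B] (φ : B →* MulAut K) (a : B) :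
    H4.Ext.L φ ⊤ ⊓ C1[(SemidirectProduct.inr a : K ⋊[φ] B)] =
      H4.Ext.L φ ((φ a).toMonoidHom.eqLocus (MonoidHom.id K)) := by
  ext x
  constructor
  · rintro ⟨⟨k, -, rfl⟩, h⟩
    refine mem_map_of_mem _ ?_
    change φ a k = k
    replace h := mem_centralizer_singleton_iff.mp h
    rw [← SemidirectProduct.inl_inj (φ := φ), ← H4.Ext.inr_conj_inl, ← h, mul_inv_cancel_right]
  · rintro ⟨k, hk, rfl⟩
    refine ⟨mem_map_of_mem _ (mem_top _), mem_centralizer_singleton_iff.mpr ?_⟩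
    have h1 : φ a k = k := hk
    rw [eq_comm, ← mul_inv_eq_iff_eq_mul, H4.Ext.inr_conj_inl, h1]

theorem isElementaryAbelian_R {K : Type*} [Group K] {p : ℕ} {A : Subgroup (MulAut K)}
    (hA : IsElementaryAbelian p A) : IsElementaryAbelian p (H4.Ext.R A.subtype ⊤) := by
  have := hA.1
  refine ⟨isMulCommutative_map inferInstance _, ?_⟩
  rintro _ ⟨a, -, rfl⟩
  rw [← map_pow, show a ^ p = 1 from Subtype.ext (hA.2 a a.2), map_one]

end Cfsg.Agent.H88
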