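import Mathlib

/-! An arithmetic lemma on sums of four squares. -/

set_option autoImplicit false

namespace Cfsg.Agent.H88.Ar4

theorem key (x y z q : ℤ) (hq : q = 1 + x ^ 2 + y ^ 2 + z ^ 2)
    (h : ∀ a b c d : ℤ, q ∣ b - a * x → q ∣ c - a * y → q ∣ d - a * z →
      q * a ≤ a ^ 2 + b ^ 2 + c ^ 2 + d ^ 2) (u v w : ℤ) :
    (x * u + y * v + z * w) ^ 2 + (x * u + y * v + z * w) ≤ q * (u ^ 2 + v ^ 2 + w ^ 2) := by
  set s := x * u + y * v + z * w with hs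
  have h0 : 0 < q := by rw [hq]; positivity
  have h1 := h s (s * x - q * u) (s * y - q * v) (s * z - q * w) ⟨-u, by ring⟩ ⟨-v, by ring⟩
    ⟨-w, by ring⟩
  have h2 : s ^ 2 + (s * x - q * u) ^ 2 + (s * y - q * v) ^ 2 + (s * z - q * w) ^ 2 =
      q * (q * (u ^ 2 + v ^ 2 + w ^ 2) - s ^ 2) := by
    have : s ^ 2 + (s * x - q * u) ^ 2 + (s * y - q * v) ^ 2 + (s * z - q * w) ^ 2 =
      s ^ 2 * (1 + x ^ 2 + y ^ 2 + z ^ 2) - 2 * q * s * (x * u + y * v + z * w) +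
        q ^ 2 * (u ^ 2 + v ^ 2 + w ^ 2) := by ring
    rw [this, ← hq, ← hs]; ring
  rw [h2] at h1
  have := le_of_mul_le_mul_left h1 h0
  linarith

theorem bound (x y z k e f g u v w : ℤ) (h1 : 8 * u = k * x + e) (h2 : 8 * v = k * y + f)
    (h3 : 8 * w = k * z + g) (hk : e ^ 2 + f ^ 2 + g ^ 2 < k * (8 - k))
    (h : (x * u + y * v + z * w) ^ 2 + (x * u + y * v + z * w) ≤
      (1 + x ^ 2 + y ^ 2 + z ^ 2) * (u ^ 2 + v ^ 2 + w ^ 2)) : x ^ 2 + y ^ 2 + z ^ 2 ≤ 15 := by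
  set N := x ^ 2 + y ^ 2 + z ^ 2 with hN
  set σ := x * e + y * f + z * g with hσ
  set E := e ^ 2 + f ^ 2 + g ^ 2 with hE
  have a1 : 8 * (x * u + y * v + z * w) = k * N + σ := by
    rw [hN, hσ]; linear_combination x * h1 + y * h2 + z * h3
  have a2 : 64 * (u ^ 2 + v ^ 2 + w ^ 2) = k ^ 2 * N + 2 * k * σ + E := by
    rw [hN, hσ, hE]
    linear_combination (8 * u + k * x + e) * h1 + (8 * v + k * y + f) * h2 + (8 * w + k * z + g) * h3
  have a3 : (k * N + σ) ^ 2 + 8 * (k * N + σ) ≤ (1 + N) * (k ^ 2 * N + 2 * k * σ + E) := by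
    rw [← a1, ← a2]
    have : 1 + x ^ 2 + y ^ 2 + z ^ 2 = 1 + N := by rw [hN]; ring
    rw [this] at h
    nlinarith
  have a4 : N * (k * (8 - k) - E) + (σ + 4 - k) ^ 2 ≤ E + (4 - k) ^ 2 := by nlinarith
  have hN0 : 0 ≤ N := by rw [hN]; positivity
  have a5 : N ≤ N * (k * (8 - k) - E) := le_mul_of_one_le_right hN0 (by omega)
  nlinarith [sq_nonneg (σ + 4 - k)]

theorem res : ∀ r s t : Fin 8, (r.val + s.val + t.val) % 2 = 0 → ∃ k : Fin 5,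
    Int.bmod (k.val * r.val) 8 ^ 2 + Int.bmod (k.val * s.val) 8 ^ 2 + Int.bmod (k.val * t.val) 8 ^ 2 <
      (k.val : ℤ) * (8 - k.val) := by decide +kernel

theorem lift (x k : ℤ) (r : Fin 8) (h : x % 8 = r.val) :
    ∃ u, 8 * u = k * x + -Int.bmod (k * r.val) 8 := by
  obtain ⟨c, hc⟩ : (8 : ℤ) ∣ k * r.val - Int.bmod (k * r.val) 8 := by
    have := Int.dvd_bmod_sub_self (x := k * r.val) (m := 8)
    exact (dvd_sub_comm).1 (by exact_mod_cast this)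
  refine ⟨k * (x / 8) + c, ?_⟩
  have := Int.mul_ediv_add_emod x 8
  rw [h] at this
  linear_combination k * this - hc

theorem ar4 (x y z : ℤ) (hx : x ≠ 0) (hy : y ≠ 0) (hz : z ≠ 0) (p k : ℕ) (hp : p.Prime)
    (hq : (p : ℤ) ^ k = 1 + x ^ 2 + y ^ 2 + z ^ 2)
    (h : ∀ a b c d : ℤ, (p : ℤ) ^ k ∣ b - a * x → (p : ℤ) ^ k ∣ c - a * y → (p : ℤ) ^ k ∣ d - a * z →
      (p : ℤ) ^ k * a ≤ a ^ 2 + b ^ 2 + c ^ 2 + d ^ 2) : p ^ k = 4 ∨ p ^ k = 7 := by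
  have x1 : 0 < x ^ 2 := by positivity
  have y1 : 0 < y ^ 2 := by positivity
  have z1 : 0 < z ^ 2 := by positivity
  have sq8 : ∀ t : ℤ, t ^ 2 % 8 = 0 ∨ t ^ 2 % 8 = 1 ∨ t ^ 2 % 8 = 4 := fun t => by
    have : t % 8 = 0 ∨ t % 8 = 1 ∨ t % 8 = 2 ∨ t % 8 = 3 ∨ t % 8 = 4 ∨ t % 8 = 5 ∨ t % 8 = 6 ∨
      t % 8 = 7 := by omega
    rcases this with e | e | e | e | e | e | e | e <;> simp [pow_two, Int.mul_emod, e]
  have sq2 : ∀ t : ℤ, t ^ 2 % 2 = t % 2 := fun t => by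
    rcases Int.emod_two_eq_zero_or_one t with e | e <;> simp [pow_two, Int.mul_emod, e]
  rcases hp.eq_two_or_odd' with rfl | ho
  · left
    obtain _ | _ | _ | k := k
    · norm_num at hq; omega
    · norm_num at hq; omega
    · rfl
    · have := sq8 x
      have := sq8 y
      have := sq8 z
      have e : ((2 : ℕ) : ℤ) ^ (k + 1 + 1 + 1) = 8 * 2 ^ k := by push_cast; ring
      rw [e] at hq
      omega
  have hodd : (p : ℤ) ^ k % 2 = 1 := Int.odd_iff.1 ((Int.odd_coe_nat p).2 ho).pow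
  have K := key x y z _ hq h
  have fx : ∀ t : ℤ, ∃ r : Fin 8, t % 8 = r.val := fun t =>
    ⟨⟨(t % 8).toNat, by omega⟩, by simp only; omega⟩
  obtain ⟨r, hr⟩ := fx x
  obtain ⟨s, hs⟩ := fx y
  obtain ⟨t, ht⟩ := fx z
  obtain ⟨j, hj⟩ := res r s t (by
    have := sq2 x
    have := sq2 y
    have := sq2 z
    omega)
  obtain ⟨u, hu⟩ := lift x j.val r hr
  obtain ⟨v, hv⟩ := lift y j.val s hs
  obtain ⟨w, hw⟩ := lift z j.val t ht
  have hN := bound x y z j.val _ _ _ u v w hu hv hw (by simpa only [neg_sq] using hj)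
    (hq ▸ K u v w)
  have b3 : ∀ t : ℤ, 0 < t ^ 2 → t ^ 2 ≤ 15 → t ^ 2 = 1 ∨ (t ^ 2 = 4 ∧ ∃ m, t = 2 * m) ∨ t ^ 2 = 9 := by
    intro t h0 h1
    have a : t ≤ 3 := by nlinarith
    have b : -3 ≤ t := by nlinarith
    interval_cases t
    · exact Or.inr (Or.inr (by norm_num))
    · exact Or.inr (Or.inl ⟨by norm_num, -1, by norm_num⟩)
    · exact Or.inl (by norm_num)
    · exact absurd h0 (by norm_num)
    · exact Or.inl (by norm_num)
    · exact Or.inr (Or.inl ⟨by norm_num, 1, by norm_num⟩)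
    · exact Or.inr (Or.inr (by norm_num))
  have n15 : (p : ℤ) ^ k ≠ 15 := fun e => by
    have e' : p ^ k = 15 := by exact_mod_cast e
    have h3 := (Nat.prime_dvd_prime_iff_eq Nat.prime_three hp).1
      (Nat.prime_three.dvd_of_dvd_pow (e' ▸ (by norm_num : 3 ∣ 15)))
    have h5 := (Nat.prime_dvd_prime_iff_eq Nat.prime_five hp).1
      (Nat.prime_five.dvd_of_dvd_pow (e' ▸ (by norm_num : 5 ∣ 15)))
    omega
  have n13 : ¬ ((x ^ 2 = 4 ∧ ∃ m, x = 2 * m) ∧ (y ^ 2 = 4 ∧ ∃ m, y = 2 * m) ∧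
      (z ^ 2 = 4 ∧ ∃ m, z = 2 * m)) := by
    rintro ⟨⟨a, l, rfl⟩, ⟨b, m, rfl⟩, c, n, rfl⟩
    have := K l m n
    rw [hq, a, b, c] at this
    have a' : l ^ 2 = 1 := by linarith [show (2 * l) ^ 2 = 4 * l ^ 2 by ring]
    have b' : m ^ 2 = 1 := by linarith [show (2 * m) ^ 2 = 4 * m ^ 2 by ring]
    have c' : n ^ 2 = 1 := by linarith [show (2 * n) ^ 2 = 4 * n ^ 2 by ring]
    rw [show 2 * l * l + 2 * m * m + 2 * n * n = 2 * (l ^ 2 + m ^ 2 + n ^ 2) by ring, a', b', c'] at this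
    norm_num at this
  right
  suffices e : (p : ℤ) ^ k = 7 by exact_mod_cast e
  rcases b3 x x1 (by omega) with a | a | a <;> rcases b3 y y1 (by omega) with b | b | b <;>
    rcases b3 z z1 (by omega) with c | c | c <;>
    first | omega | exact absurd ⟨a, b, c⟩ n13

end Cfsg.Agent.H88.Ar4
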