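import Cfsg.Agent.H88.FPKit

/-! The elementary abelian core case of project FPF. -/

set_option autoImplicit false
set_option linter.unusedSectionVars false
set_option linter.unusedVariables false

namespace Cfsg.Agent.H88.FP

open Cfsg Cfsg.Agent.H63 Cfsg.Agent.H67 Cfsg.Agent.H69 Cfsg.Agent.H85.FP Subgroup
open scoped IsMulCommutative commutatorElement

universe u

variable {X : Type u} [Group X] [Finite X] {p : ℕ} {A R P N : Subgroup X}

theorem cj_W {g : X} (hg : g ∈ N[R]) (y : X) :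
    cj g ⁅R, zpowers y⁆ = ⁅R, zpowers (g * y * g⁻¹)⁆ := by
  rw [cj_commutator, cj_eq_self hg, cj_zpowers]

theorem card_W_cj {g : X} (hg : g ∈ N[R]) (y : X) :
    Nat.card ↥⁅R, zpowers (g * y * g⁻¹)⁆ = Nat.card ↥⁅R, zpowers y⁆ := by
  rw [← cj_W hg, card_cj]

theorem not_mem_cj {a y : X} (h : a ∉ N[zpowers y]) : a * y * a⁻¹ ∉ zpowers y := fun e =>
  h (mem_normalizer_of_cj_le (by rw [cj_zpowers]; exact zpowers_le.2 e))

section Core

variable (h : H85.FP.Core p A R P N)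
include h

theorem zp_symm {x y : X} (hy : y ^ p = 1) (x1 : x ≠ 1) (hx : x ∈ zpowers y) : y ∈ zpowers x := by
  have y1 : y ≠ 1 := by
    rintro rfl
    exact x1 (by simpa using hx)
  exact (H63.zpowers_eq_of_prime_card' ((card_zp h y1 hy).symm ▸ h.pp) hx x1).ge (mem_zpowers y)

theorem one_of_inv {y : X} (hy : y ∈ P) (h1 : y = y⁻¹) : y = 1 :=
  mem_bot.1 (mem_of_pow_mem_of_coprime (H := ⊥)
    (Tu.ord_cop h.pp h.pP hy (Tu.cpp h.pp Nat.prime_two h.p2))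
    (by rw [pow_two, mem_bot]; nth_rw 1 [h1]; exact inv_mul_cancel y))

theorem W_mod {y : X} (hy : y ∈ P) (yp : y ^ p = 1) (y1 : y ≠ 1) :
    Nat.card ↥⁅R, zpowers y⁆ ≡ 1 [MOD p] ∧ ∃ k, 2 ≤ k ∧ Nat.card ↥⁅R, zpowers y⁆ = 2 ^ k :=
  card_mod h yp (W_le h hy) (fun e => y1 (eq_one_of h hy (e ▸ bot_le)))
    (le_norm_commutator_right _ _ (mem_zpowers y)) (W_ti h hy)

theorem four_le {y : X} (hy : y ^ p = 1) {V : Subgroup X} (hV : V ≤ R) (V1 : V ≠ ⊥) (hn : y ∈ N[V])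
    (h0 : V ⊓ C1[y] = ⊥) : 4 ≤ Nat.card V := by
  obtain ⟨-, k, hk, e⟩ := card_mod h hy hV V1 hn h0
  exact e ▸ Nat.pow_le_pow_right two_pos hk

theorem cent_zp (h35 : p = 3 ∨ p = 5) {a y : X} (ha : a ∈ A) (y1 : y ≠ 1) (yp : y ^ p = 1)
    (hn : a ∈ N[zpowers y]) : a * y = y * a := by
  have hd := card_dvd_of_le' (zpowers_le.2 ha)
  refine (cent_six (zpowers_le.2 hn) ((c2 h).coprime_dvd_left hd) ?_ (mem_zpowers a) y
    (mem_zpowers y)).symm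
  rw [card_zp h y1 yp]
  rcases h35 with rfl | rfl
  · exact Or.inl ⟨(cp h).coprime_dvd_left hd, Or.inr (by norm_num)⟩
  · exact Or.inr ⟨(cp h).coprime_dvd_left hd, rfl⟩

variable (hP : IsElementaryAbelian p P)
include hP

theorem norm_W {y : X} (hy : y ∈ P) : P ≤ N[⁅R, zpowers y⁆] :=
  le_normalizer_commutator h.PR (le_normalizer_of_le_centralizer
    (le_cent_of_comm hP.1 le_rfl (zpowers_le.2 hy)))

theorem norm_C {x y : X} (hx : x ∈ P) (hy : y ∈ P) : P ≤ N[⁅R, zpowers x⁆ ⊓ C1[y]] :=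
  le_normalizer_inf (norm_W h hP hx) (centralizer_zpowers y ▸ le_normalizer_of_le
    (le_cent_of_comm hP.1 le_rfl (zpowers_le.2 hy)))

theorem eq_min {y y' : X} (hy : y ∈ P) (y1 : y ≠ 1)
    (hm : ∀ x ∈ P, x ≠ 1 → Nat.card ↥⁅R, zpowers y⁆ ≤ Nat.card ↥⁅R, zpowers x⁆) (hy' : y' ∈ P)
    (hle : ⁅R, zpowers y'⁆ ≤ ⁅R, zpowers y⁆) : y' ∈ zpowers y := by
  by_contra hn
  obtain ⟨a, ha, c, hc, e1, h1⟩ := two_gen h hy' hy (hP.2 _ hy') (hP.2 _ hy) y1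
    (comm_of_isMulCommutative hP.1 hy' hy) hn (W_le h hy)
    (fun e => y1 (eq_one_of h hy (e ▸ bot_le))) (norm_W h hP hy hy') (norm_W h hP hy hy)
  have h2 : a * c ∈ P := mul_mem (zpowers_le.2 hy' ha) (zpowers_le.2 hy hc)
  have h3 : ⁅R, zpowers (a * c)⁆ ≤ ⁅R, zpowers y⁆ := (commutator_mono le_rfl (zpowers_le.2
    (mul_mem (mem_sup_left ha) (mem_sup_right hc)))).trans (commutator_sup_right_le
      (zpowers_le.2 (norm_W h hP hy hy')) (zpowers_le.2 (norm_W h hP hy hy)) hle le_rfl)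
  exact h1 (eq_of_le_of_card_ge h3 (hm _ h2 e1) ▸ W_ti h h2)

theorem case4 {y : X} (hy : y ∈ P) (y1 : y ≠ 1) (h4 : Nat.card ↥⁅R, zpowers y⁆ = 4) : False := by
  have p3 : p = 3 := eq_three h (h4 ▸ (W_mod h hy (hP.2 _ hy) y1).1)
  have hm : ∀ x ∈ P, x ≠ 1 → 4 ≤ Nat.card ↥⁅R, zpowers x⁆ := fun x hx x1 => by
    obtain ⟨-, k, hk, e⟩ := W_mod h hx (hP.2 _ hx) x1
    exact e ▸ Nat.pow_le_pow_right two_pos hk
  have ind : ∀ x ∈ P, ∀ x' ∈ P, x ≠ 1 → Nat.card ↥⁅R, zpowers x⁆ = 4 →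
      Nat.card ↥⁅R, zpowers x'⁆ = 4 → x' ∉ zpowers x → ⁅R, zpowers x⁆ ≤ C1[x'] := by
    intro x hx x' hx' x1 c1 c2 hn
    have h1 : ⁅R, zpowers x⁆ ⊓ ⁅R, zpowers x'⁆ = ⊥ := by
      by_contra h1
      have h2 := four_le h (hP.2 _ hx) (inf_le_left.trans (W_le h hx)) h1
        (le_normalizer_inf (norm_W h hP hx) (norm_W h hP hx') hx)
        (le_bot_iff.1 (W_ti h hx ▸ inf_le_inf_right _ inf_le_left))
      exact hn (eq_min h hP hx x1 (c1 ▸ hm) hx' ((eq_of_le_of_card_ge inf_le_right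
        (c2 ▸ h2)).ge.trans inf_le_left))
    exact centralizer_zpowers x' ▸ le_cent_of_commutator_eq_bot (le_bot_iff.1 (h1 ▸ le_inf
      (commutator_le_of_norm_left (zpowers_le.2 (norm_W h hP hx hx')))
      (commutator_mono (W_le h hx) le_rfl)))
  obtain ⟨w, hw, w1⟩ := exists_ne_one_of_ne_bot fun e : ⁅R, zpowers y⁆ = ⊥ => by simp [e] at h4
  refine w1 (nt h (le_inf le_rfl (le_cent_of_comm hP.1 le_rfl le_rfl)) h.AP hy hw
    (fun a ha hn => ⟨cent_zp h (Or.inl p3) ha y1 (hP.2 _ hy) hn, ?_⟩) fun a ha hn => ?_)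
  · have hd := card_dvd_of_le' (zpowers_le.2 ha)
    exact (cent_six (le_normalizer_commutator (zpowers_le.2 (h.AR ha)) (zpowers_le.2 hn))
      ((c2 h).coprime_dvd_left hd) (Or.inl ⟨p3 ▸ (cp h).coprime_dvd_left hd, Or.inl h4.dvd⟩)
      (mem_zpowers a) w hw).symm
  have h1 := conj_mem_of_mem_normalizer (h.AP ha) hy
  have h2 := (card_W_cj (h.AR ha) y).trans h4
  exact ⟨mem_centralizer_iff_le.2 (ind y hy _ h1 y1 h4 h2 (not_mem_cj hn)),
    ind _ h1 y hy (by simpa using y1) h2 h4 (fun e => not_mem_cj hn (zp_symm h (hP.2 _ h1) y1 e))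
      (cj_W (h.AR ha) y ▸ conj_mem_cj hw)⟩

variable (hm : ∀ x ∈ P, x ≠ 1 → 16 ≤ Nat.card ↥⁅R, zpowers x⁆)
include hm

theorem refl {b y : X} (hb : b ∈ N) (hs : Small R b) (hy : y ∈ P) (y1 : y ≠ 1)
    (hi : b * y * b⁻¹ = y⁻¹) : Nat.card ↥⁅R, zpowers y⁆ = 16 ∧ ∀ g ∈ P, ⁅g, b⁆ ∈ zpowers y := by
  obtain ⟨h1, h2⟩ := le16 h hs hy hi
  have h3 := le_antisymm h1 (hm y hy y1)
  refine ⟨h3, fun g hg => eq_min h hP hy y1 (h3 ▸ hm) (commutator_le_of_norm_left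
    (zpowers_le.2 (h.NP hb)) (commutator_mem_commutator hg (mem_zpowers b))) ?_⟩
  have bW : zpowers b ≤ N[⁅R, zpowers y⁆] := le_normalizer_commutator (zpowers_le.2 hs.nrm)
    (zpowers_le.2 (cj_eq_self_iff.1 (by rw [cj_zpowers, hi, zpowers_inv])))
  have h4 : zpowers b ≤ stabMod R ⁅R, zpowers y⁆ := le_stabMod_of_le (W_le h hy) (by
    nth_rw 1 [← sup_W h hy]
    exact commutator_sup_left_le le_normalizer (inf_le_left.trans (le_norm_commutator_left _ _))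
      (commutator_le_of_norm_left bW)
      ((commutator_eq_bot_of_cent (centralizer_zpowers b ▸ h2 h3)).le.trans bot_le))
  exact commutator_le_of_le_stabMod (zpowers_le.2 (commutator_le_of_norm_right
    (le_norm_stabMod h.PR (norm_W h hP hy)) (commutator_mem_commutator hg (h4 (mem_zpowers b)))))

theorem tri {y y' v : X} (hy : y ∈ P) (hy' : y' ∈ P) (y1 : y ≠ 1) (hn : y' ∉ zpowers y)
    (c1 : Nat.card ↥⁅R, zpowers y⁆ = 16) (c2 : Nat.card ↥⁅R, zpowers y'⁆ = 16)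
    (hv : v ∈ zpowers y) (v1 : v ≠ 1) (c3 : Nat.card ↥⁅R, zpowers (y' * v)⁆ = 16) :
    p = 3 ∧ ⁅R, zpowers y⁆ ⊓ C1[y'] ⊔ ⁅R, zpowers y'⁆ ⊓ C1[y] = ⁅R, zpowers (y' * v)⁆ := by
  have y1' : y' ≠ 1 := fun e => hn (e ▸ one_mem _)
  have key : ∀ x ∈ P, ∀ x' ∈ P, x' ≠ 1 → x ∉ zpowers x' → Nat.card ↥⁅R, zpowers x'⁆ = 16 →
      Nat.card ↥(⁅R, zpowers x⁆ ⊓ C1[x']) ≡ 1 [MOD p] ∧ 4 ≤ Nat.card ↥(⁅R, zpowers x⁆ ⊓ C1[x']) := by
    intro x hx x' hx' x1 hn c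
    have h1 : ⁅R, zpowers x⁆ ⊓ C1[x'] ≠ ⊥ := fun e => hn (eq_min h hP hx' x1 (c ▸ hm) hx
      ((le_W h hx' (W_le h hx) (norm_W h hP hx hx') e).ge.trans (commutator_mono (W_le h hx) le_rfl)))
    have h2 := le_bot_iff.1 (W_ti h hx ▸ inf_le_inf_right C1[x] (inf_le_left (b := C1[x'])))
    exact ⟨(card_mod h (hP.2 _ hx) (inf_le_left.trans (W_le h hx)) h1 (norm_C h hP hx hx' hx) h2).1,
      four_le h (hP.2 _ hx) (inf_le_left.trans (W_le h hx)) h1 (norm_C h hP hx hx' hx) h2⟩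
  obtain ⟨a1, a2⟩ := key y hy y' hy' y1' (fun e => hn (zp_symm h (hP.2 _ hy') y1 e)) c2
  obtain ⟨-, a3⟩ := key y' hy' y hy y1 hn c1
  have vP := zpowers_le.2 hy hv
  have uP := mul_mem hy' vP
  have h1 : ∀ x ∈ P, ∀ x' ∈ P, ⁅R, zpowers x⁆ ⊓ C1[x'] ⊓ C1[y' * v] ≤ C1[x] →
      ⁅R, zpowers x⁆ ⊓ C1[x'] ≤ ⁅R, zpowers (y' * v)⁆ := fun x hx x' hx' e =>
    (le_W h uP (inf_le_left.trans (W_le h hx)) (norm_C h hP hx hx' uP) (le_bot_iff.1
      (W_ti h hx ▸ le_inf (inf_le_left.trans inf_le_left) e))).ge.trans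
      (commutator_mono (inf_le_left.trans (W_le h hx)) le_rfl)
  have h2 := sup_le (h1 y hy y' hy' fun w hw => mem_centralizer_singleton_comm.1
    (zpowers_le.2 ((mul_mem_cancel_left (mem_centralizer_singleton_comm.1 hw.1.2)).1
      (mem_centralizer_singleton_comm.1 hw.2)) (zp_symm h (hP.2 _ hy) v1 hv)))
    (h1 y' hy' y hy fun w hw => mem_centralizer_singleton_comm.1 ((mul_mem_cancel_right
      (zpowers_le.2 (mem_centralizer_singleton_comm.1 hw.1.2) hv)).1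
      (mem_centralizer_singleton_comm.1 hw.2)))
  have h3 := card_sup_of_inf_eq_bot (H := ⁅R, zpowers y⁆ ⊓ C1[y']) (K := ⁅R, zpowers y'⁆ ⊓ C1[y])
    (Or.inl (le_normalizer_of_le_centralizer (le_cent_of_comm h.ea.1
      (inf_le_left.trans (W_le h hy)) (inf_le_left.trans (W_le h hy')))))
    (le_bot_iff.1 (W_ti h hy ▸ inf_le_inf inf_le_left inf_le_right))
  have h4 := card_le_of_le h2
  rw [h3, c3] at h4
  refine ⟨eq_three h (by rwa [show Nat.card ↥(⁅R, zpowers y⁆ ⊓ C1[y']) = 4 by nlinarith] at a1),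
    eq_of_le_of_card_ge h2 (by rw [h3, c3]; exact Nat.mul_le_mul a2 a3)⟩

theorem refl_comm {b b' y y' : X} (hb : b ∈ N) (hs : Small R b) (hb' : b' ∈ N) (hs' : Small R b')
    (hy : y ∈ P) (hy' : y' ∈ P) (y1 : y ≠ 1) (hi : b * y * b⁻¹ = y⁻¹) (hi' : b' * y' * b'⁻¹ = y'⁻¹)
    (hn : y' ∉ zpowers y) : b * y' * b⁻¹ = y' := by
  by_contra h1
  have y1' : y' ≠ 1 := fun e => hn (e ▸ one_mem _)
  have h2 := (refl h hP hm hb hs hy y1 hi).2 _ (inv_mem hy')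
  have h3 := inv_comm h hb hs (inv_mem hy')
  set x := ⁅y'⁻¹, b⁆ with hx
  have h4 : b * y' * b⁻¹ = y' * x := by rw [hx, commutatorElement_def]; group
  have x1 : x ≠ 1 := fun e => h1 (by rw [h4, e, mul_one])
  have xP := zpowers_le.2 hy h2
  have hn' : y' ∉ zpowers x := fun e => hn (zpowers_le.2 h2 e)
  have c1 := (refl h hP hm hb hs xP x1 h3).1
  obtain ⟨c2, h5⟩ := refl h hP hm hb' hs' hy' y1' hi'
  have c3 : Nat.card ↥⁅R, zpowers (y' * x)⁆ = 16 := by rw [← h4, card_W_cj hs.nrm, c2]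
  obtain ⟨p3, t1⟩ := tri h hP hm xP hy' x1 hn' c1 c2 (mem_zpowers x) x1 c3
  have hc := comm_of_isMulCommutative hP.1 xP hy'
  have t2 : Nat.card ↥⁅R, zpowers (x * y'⁻¹)⁆ ≠ 16 := fun c4 => by
    rw [← zpowers_inv, mul_inv_rev, inv_inv] at c4
    have t3 := (tri h hP hm xP hy' x1 hn' c1 c2 (inv_mem (mem_zpowers x)) (inv_ne_one.2 x1) c4).2
    have uP := mul_mem hy' xP
    have u1 : y' * x ≠ 1 := fun e => hn' (eq_inv_of_mul_eq_one_left e ▸ inv_mem (mem_zpowers x))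
    have t4 := eq_min h hP uP u1 (c3 ▸ hm) (mul_mem hy' (inv_mem xP)) (t3.symm.trans t1).le
    have t5 : x ∈ zpowers (y' * x) := mem_of_pow_mem_of_coprime
      (Tu.ord_cop h.pp h.pP xP (Tu.cpp h.pp Nat.prime_two h.p2)) (by
        have := mul_mem (inv_mem t4) (mem_zpowers (y' * x))
        rwa [show (y' * x⁻¹)⁻¹ * (y' * x) = x ^ 2 by rw [pow_two]; group] at this)
    exact hn' ((mul_mem_cancel_right (mem_zpowers x)).1 (zp_symm h (hP.2 _ uP) x1 t5))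
  obtain ⟨k, hk, e⟩ : ∃ k < 3, y' ^ k = ⁅x⁻¹, b'⁆ := by
    classical
    obtain ⟨k, hk, e⟩ := Finset.mem_image.1 (mem_zpowers_iff_mem_range_orderOf.1 (h5 _ (inv_mem xP)))
    rw [← Nat.card_zpowers, card_zp h y1' (hP.2 _ hy'), p3, Finset.mem_range] at hk
    exact ⟨k, hk, e⟩
  have h6 : b' * x * b'⁻¹ = x * y' ^ k := by rw [e, commutatorElement_def]; group
  interval_cases k
  · refine t2 ?_
    rw [← c3, ← card_W_cj hs'.nrm (y' * x), ← conj_mul, hi', h6, pow_zero, mul_one,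
      (Commute.inv_right hc).eq]
  · have g1 : b * b' * x * (b * b')⁻¹ = y' := by
      rw [show b * b' * x * (b * b')⁻¹ = b * (b' * x * b'⁻¹) * b⁻¹ by group, h6, pow_one, ← conj_mul,
        h3, h4, ← hc, inv_mul_cancel_left]
    have g2 : b * b' * y' * (b * b')⁻¹ = (y' * x)⁻¹ := by
      rw [show b * b' * y' * (b * b')⁻¹ = b * (b' * y' * b'⁻¹) * b⁻¹ by group, hi', ← h4]; group
    set g := b * b'
    have g3 : g ^ 3 * x * (g ^ 3)⁻¹ = x := by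
      rw [show g ^ 3 * x * (g ^ 3)⁻¹ = g * (g * (g * x * g⁻¹) * g⁻¹) * g⁻¹ by
        rw [pow_three]; simp only [mul_inv_rev, mul_assoc], g1, g2, ← conj_inv, ← conj_mul, g1, g2]
      group
    have g4 := mem_of_pow_mem_of_coprime (H := C1[x]) (Tu.ord_cop Nat.prime_two h.pN (mul_mem hb hb')
      (n := 3) (by norm_num)) (mem_centralizer_singleton_iff.2 (mul_inv_eq_iff_eq_mul.1 g3))
    rw [mem_centralizer_singleton_iff.1 g4, mul_inv_cancel_right] at g1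
    exact hn' (g1 ▸ mem_zpowers x)
  · refine t2 ?_
    have : y' ^ 2 = y'⁻¹ := eq_inv_of_mul_eq_one_left (by rw [← pow_succ]; exact (p3 ▸ hP.2 _ hy' : y' ^ 3 = 1))
    rw [← this, ← h6, card_W_cj hs'.nrm, c1]

theorem case16 (h35 : p = 3 ∨ p = 5) {b y : X} (hb : b ∈ N) (hs : Small R b) (hy : y ∈ P)
    (y1 : y ≠ 1) (hi : b * y * b⁻¹ = y⁻¹) : False := by
  classical
  have hc := hP.1
  have h1 : ∀ a ∈ A, a * b * a⁻¹ * (a * y * a⁻¹) * (a * b * a⁻¹)⁻¹ = (a * y * a⁻¹)⁻¹ := fun a ha => by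
    rw [conj_inv (a := y), ← hi]; group
  have h2 : ∀ a ∈ A, a * y * a⁻¹ ∈ P := fun a ha => conj_mem_of_mem_normalizer (h.AP ha) hy
  have h3 : ∀ a ∈ A, a * b * a⁻¹ ∈ N := fun a ha => conj_mem_of_mem_normalizer (h.AN ha) hb
  have h4 : ∀ n x e : X, x ∈ zpowers e → (n * e * n⁻¹ = e → n * x * n⁻¹ = x) ∧
      (n * e * n⁻¹ = e⁻¹ → n * x * n⁻¹ = x⁻¹) := by
    rintro n _ e ⟨k, rfl⟩
    exact ⟨fun h => by rw [← conj_zpow, h], fun h => by rw [← conj_zpow, h, inv_zpow]⟩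
  obtain ⟨n, hn, h5, -⟩ : ∃ n ∈ N, (∀ a ∈ sfin A, a ∈ A → n * (a * y * a⁻¹) * n⁻¹ = (a * y * a⁻¹)⁻¹) ∧
      ∀ a ∈ A, n * (a * y * a⁻¹) * n⁻¹ = (a * y * a⁻¹)⁻¹ ∨ n * (a * y * a⁻¹) * n⁻¹ = a * y * a⁻¹ := by
    induction sfin A using Finset.induction_on with
    | empty => exact ⟨1, one_mem _, by simp, fun a ha => Or.inr (by simp)⟩
    | insert c s _ ih =>
      obtain ⟨n, hn, i1, i2⟩ := ih
      by_cases hc : c ∈ A
      swap
      · exact ⟨n, hn, fun a ha ha' => i1 a ((Finset.mem_insert.1 ha).resolve_left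
          fun e => hc (e ▸ ha')) ha', i2⟩
      rcases i2 c hc with i3 | i3
      · exact ⟨n, hn, fun a ha ha' => (Finset.mem_insert.1 ha).elim (fun e => e ▸ i3)
          fun e => i1 a e ha', i2⟩
      have i4 : ∀ x, n * (c * b * c⁻¹) * x * (n * (c * b * c⁻¹))⁻¹ =
          n * (c * b * c⁻¹ * x * (c * b * c⁻¹)⁻¹) * n⁻¹ := fun x => by group
      have i5 : ∀ a ∈ A, a * y * a⁻¹ ∈ zpowers (c * y * c⁻¹) → n * (c * b * c⁻¹) * (a * y * a⁻¹) *
          (n * (c * b * c⁻¹))⁻¹ = (a * y * a⁻¹)⁻¹ := fun a ha e => by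
        rw [i4, (h4 _ _ _ e).2 (h1 c hc), ← conj_inv (a := a * y * a⁻¹), (h4 _ _ _ e).1 i3]
      have i6 : ∀ a ∈ A, a * y * a⁻¹ ∉ zpowers (c * y * c⁻¹) → n * (c * b * c⁻¹) * (a * y * a⁻¹) *
          (n * (c * b * c⁻¹))⁻¹ = n * (a * y * a⁻¹) * n⁻¹ := fun a ha e => by
        rw [i4, refl_comm h hP hm (h3 c hc) (hs.conj (h.AR hc)) (h3 a ha) (hs.conj (h.AR ha))
          (h2 c hc) (h2 a ha) (by simpa using y1) (h1 c hc) (h1 a ha) e]
      refine ⟨_, mul_mem hn (h3 c hc), fun a ha ha' => ?_, fun a ha => ?_⟩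
      · by_cases e : a * y * a⁻¹ ∈ zpowers (c * y * c⁻¹)
        · exact i5 a ha' e
        · rw [i6 a ha' e]
          exact i1 a ((Finset.mem_insert.1 ha).resolve_left fun e' => e (e' ▸ mem_zpowers _)) ha'
      · by_cases e : a * y * a⁻¹ ∈ zpowers (c * y * c⁻¹)
        · exact Or.inl (i5 a ha e)
        · rw [i6 a ha e]
          exact i2 a ha
  set d := nrm P A ⟨y, hy⟩ with hd
  have dA : (d : X) ∈ C[A] := nrm_mem_cent h.AP _
  have h6 : n * d * n⁻¹ = (d : X)⁻¹ := by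
    rw [← conjOn_apply (h.NP hn), ← coe_inv, hd, nrm_apply, map_prod, ← Finset.prod_inv_distrib]
    refine congrArg Subtype.val (Finset.prod_congr rfl fun a ha => Subtype.ext ?_)
    rw [conjOn_apply (h.NP hn), coe_inv, conjOn_apply (h.AP (mem_sfin.1 ha))]
    exact h5 a ha (mem_sfin.1 ha)
  obtain ⟨e, he, t, ht, rfl⟩ := coprime_exists_mul_cent (A := A) (D := N ⊓ C1[(d : X)]) (x := n)
    (le_normalizer_inf h.AN (le_normalizer_of_le (mem_centralizer_iff_le.1 dA)))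
    (H30.Flav.cop_pn Nat.prime_two (h.pN.to_le inf_le_left) (c2 h).symm).symm
    (Or.inr (sol_p Nat.prime_two (h.pN.to_le inf_le_left))) fun a ha =>
      ⟨commutator_le_of_norm_left h.AN (commutator_mem_commutator hn ha), by
        have h7 : C1[(d : X)] = C1[(d : X)⁻¹] := by
          rw [← centralizer_zpowers, ← centralizer_zpowers, zpowers_inv]
        have := conj_mem_cj (g := n) (mem_centralizer_iff_le.1 dA ha)
        rw [cj_centralizer_singleton, h6, ← h7] at this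
        exact C1[(d : X)].mul_mem this (C1[(d : X)].inv_mem (mem_centralizer_iff_le.1 dA ha))⟩
  have h7 := h.fxN d ⟨d.2, dA⟩ t ⟨(N.mul_mem_cancel_left he.1).1 hn, ht⟩
  have h8 : (d : X) = 1 := one_of_inv h d.2 (by
    rw [← h6, mul_assoc e, ← h7, ← mul_assoc, mem_centralizer_singleton_iff.1 he.2]; group)
  obtain ⟨c, hc', h9⟩ := nrm_mod hc h.AP (T := A ⊓ N[zpowers y]) (U := C1[b]) inf_le_left ⟨y, hy⟩
    (fun a ha => cent_zp h h35 ha.1 y1 (hP.2 _ hy) ha.2) fun a ha hn =>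
      mem_centralizer_singleton_iff.2 (mul_inv_eq_iff_eq_mul.1 (refl_comm h hP hm hb hs (h3 a ha)
        (hs.conj (h.AR ha)) hy (h2 a ha) y1 hi (h1 a ha) (not_mem_cj fun e => hn ⟨ha, e⟩))).symm
  have h10 := mem_of_pow_mem_of_coprime (Tu.ord_cop h.pp h.pP hy ((cp h).coprime_dvd_left
    (card_dvd_of_le' (inf_le_left (b := N[zpowers y])))).symm) ((C1[b].mul_mem_cancel_right hc'.2).1
      (show y ^ _ * c ∈ C1[b] from h9 ▸ h8 ▸ one_mem _))
  exact y1 (one_of_inv h hy (by rw [← hi, ← mem_centralizer_singleton_iff.1 h10]; group))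

end Core

theorem coreAb : CoreAbStmt.{u} := by
  intro X _ _ p A R P N h hP b hb hs g hg
  by_contra hn
  have y1 : ⁅g, b⁆ ≠ 1 := fun e => hn (commutatorElement_eq_one_iff_mul_comm.1 e)
  have hy := commutator_le_of_norm_left (zpowers_le.2 (h.NP hb))
    (commutator_mem_commutator hg (mem_zpowers b))
  have hi := inv_comm h hb hs hg
  have h1 : ∀ x ∈ P, x ≠ 1 → Nat.card ↥⁅R, zpowers x⁆ ≡ 1 [MOD p] ∧
      (Nat.card ↥⁅R, zpowers x⁆ = 8 ∨ 16 ≤ Nat.card ↥⁅R, zpowers x⁆) := fun x hx x1 => by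
    obtain ⟨h1, k, hk, e⟩ := W_mod h hx (hP.2 _ hx) x1
    refine ⟨h1, ?_⟩
    rcases k with _ | _ | _ | _ | k
    · omega
    · omega
    · exact (case4 h hP hx x1 e).elim
    · exact Or.inl e
    · exact Or.inr (e ▸ Nat.pow_le_pow_right two_pos (by omega : 4 ≤ k + 4))
  have h35 : p = 3 ∨ p = 5 := by
    obtain ⟨h2, h3⟩ := h1 _ hy y1
    rw [le_antisymm (le16 h hs hy hi).1 (h3.resolve_left (ne8 h hs hy hi))] at h2
    exact ((Nat.Prime.dvd_mul h.pp (m := 3) (n := 5)).1 ((Nat.modEq_iff_dvd' (by norm_num)).1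
      h2.symm)).imp (Nat.prime_dvd_prime_iff_eq h.pp Nat.prime_three).1
      (Nat.prime_dvd_prime_iff_eq h.pp Nat.prime_five).1
  refine case16 h hP (fun x hx x1 => (h1 x hx x1).2.resolve_left fun e => ?_) h35 hb hs hy y1 hi
  have := (h1 x hx x1).1
  rw [e] at this
  rcases h35 with rfl | rfl <;> exact absurd this (by decide)

end Cfsg.Agent.H88.FP
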