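import Cfsg.Agent.H88.TuGV

/-! The two module lemmas for Turull's theorem. -/

set_option autoImplicit false
set_option linter.unusedSectionVars false

namespace Cfsg.Agent.H88.Tu

open Cfsg Cfsg.Agent.H63 Cfsg.Agent.H67 Cfsg.Agent.H69 Subgroup
open scoped IsMulCommutative commutatorElement

universe u

variable {X : Type u} [Group X] [Finite X]

theorem norm_fix {Y A S : Subgroup X} (hS : S ≤ N[Y]) (h : ⁅A, S⁆ ≤ C[Y]) : S ≤ N[Y ⊓ C[A]] :=
  fun s hs => mem_normalizer_of_cj_le (cj_le_iff.2 fun y hy =>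
    ⟨conj_mem_of_mem_normalizer (hS hs) hy.1, fun a ha => by
      have h1 := h (commutator_mem_commutator (inv_mem ha) (inv_mem hs)) y hy.1
      have h2 := hy.2 a ha
      calc a * (s * y * s⁻¹) = s * a * (⁅a⁻¹, s⁻¹⁆ * y) * s⁻¹ := by
            simp only [commutatorElement_def]; group
        _ = s * (a * y) * ⁅a⁻¹, s⁻¹⁆ * s⁻¹ := by rw [← h1]; group
        _ = s * y * s⁻¹ * a := by rw [h2]; simp only [commutatorElement_def]; group⟩)

theorem norm_comm {Y D E : Subgroup X} (hE : E ≤ N[Y]) (hD : D ≤ N[Y]) (h : ⁅D, E⁆ ≤ C[Y]) :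
    E ≤ N[⁅Y, D⁆] := fun e he => mem_normalizer_of_cj_le (by
  rw [cj_commutator, cj_eq_self (hE he)]
  refine (commutator_mono le_rfl (cj_le_iff.2 fun d hd => ?_ : cj e D ≤ C[Y] ⊔ D)).trans
    (commutator_sup_right_le (le_normalizer_of_le_centralizer
      (centralizer_anti (commutator_le_of_norm_left hD))) (le_norm_commutator_right _ _)
      ((commutator_eq_bot_of_cent' le_rfl).le.trans bot_le) le_rfl)
  rw [show e * d * e⁻¹ = ⁅d, e⁆⁻¹ * d by simp only [commutatorElement_def]; group]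
  exact mul_mem (mem_sup_left (inv_mem (h (commutator_mem_commutator hd he)))) (mem_sup_right hd))

theorem le_stab_of_comm {E R S K : Subgroup X} (ER : ⁅E, R⁆ = E) (ES : E ≤ N[S]) (EK : E ≤ N[K])
    (hK : K ≤ S) (h : ⁅S, R⁆ ≤ K) : ⁅S, E⁆ ≤ K :=
  commutator_le_of_le_stabMod (ER.ge.trans ((commutator_mono le_rfl (le_stabMod_of_le hK h)).trans
    (commutator_le_of_norm_right (le_norm_stabMod ES EK))))

variable {l p q τ r : ℕ}

theorem cpp (hp : p.Prime) (hq : q.Prime) (h : p ≠ q) : p.Coprime q := (Nat.coprime_primes hp hq).2 h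

theorem fix_ab (hl : l.Prime) (hp : p.Prime) (hr : r.Prime) (pl : p ≠ l) (rl : r ≠ l) (pr : p ≠ r)
    {W E R : Subgroup X} (hW : IsElementaryAbelian l W) (pE : IsPGroup p E) (cR : Nat.card R = r)
    (EW : E ≤ N[W]) (RW : R ≤ N[W]) (RE : R ≤ N[E]) (ER : ⁅E, R⁆ = E) (h : ⁅E, E⁆ ≤ C[W])
    (W1 : W ≠ ⊥) (hE : W ⊓ C[E] = ⊥) : W ⊓ C[R] ≠ ⊥ := by
  have pR := H30.Flav.pg_of_card cR
  have pW := isPGroup_of_elemAb hW
  exact frobenius_mod hW.1 EW RW RE (coprime_pp hl hp pl.symm pW pE) (coprime_pp hl hr rl.symm pW pR)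
    (fun a ha ha' x hx hxa => (fpf_mem (M := E ⊓ C[W]) (cR ▸ hr) RE (coprime_pp hr hp pr.symm pR pE)
      (sol_p hp pE) ER (le_inf (commutator_le_of_le le_rfl le_rfl) h) inf_le_left
      (le_normalizer_inf RE (le_normalizer_centralizer RW)) hx ha (fun e => ha' (e ▸ one_mem _))
      ⟨commutator_le_of_norm_left RE (commutator_mem_commutator hx ha), hxa⟩).2)
    fun e => W1 (hE ▸ (inf_eq_left.2 (cent_symm e)).symm)

theorem fix (hl : l.Prime) (hp : p.Prime) (hq : q.Prime) (hr : r.Prime) (pl : p ≠ l) (rl : r ≠ l)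
    (pr : p ≠ r) (qp : q ≠ p) (qr : q ≠ r) {Y E S R : Subgroup X} (hY : IsElementaryAbelian l Y)
    (pE : IsPGroup q E) (pS : IsPGroup p S) (cR : Nat.card R = r) (EY : E ≤ N[Y]) (SY : S ≤ N[Y])
    (RY : R ≤ N[Y]) (RE : R ≤ N[E]) (ES : E ≤ N[S]) (RS : R ≤ N[S]) (ER : ⁅E, R⁆ = E)
    (h : Y ⊓ C[R] = ⊥) : ⁅S, E⁆ ≤ C[Y] := by
  have pY := isPGroup_of_elemAb hY
  by_cases p2 : p = 2
  · subst p2
    exact H30.Flav.core_aux hq hr qp qr pr.symm _ X E R S Y rfl pE ER cR pS RE ES RS hY.1 EY RY SY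
      (H30.Flav.cop_pn hl pY (Nat.Coprime.mul_right (cpp hl hp pl.symm) (cpp hl hr rl.symm))) h
  · exact (le_stab_of_comm ER ES (le_normalizer_inf ES (le_normalizer_centralizer EY)) inf_le_left
      (le_inf (commutator_le_of_norm_left RS) (H30.Flav.comm_cent hl hp hr rl.symm pr pl.symm cR pS
        RS pY RY SY h fun e => absurd e p2))).trans inf_le_right

/-- The generic state. -/
structure Good (q p r : ℕ) (R E S D N : Subgroup X) : Prop where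
  hq : q.Prime
  qp : q ≠ p
  qr : q ≠ r
  pE : IsPGroup q E
  pS : IsPGroup p S
  RE : R ≤ N[E]
  ES : E ≤ N[S]
  RS : R ≤ N[S]
  ER : ⁅E, R⁆ = E
  SE : ⁅S, E⁆ = S
  c1 : ⁅⁅S, S⁆, S⁆ ≤ N
  c2 : ⁅⁅S, S⁆, E⁆ ≤ N
  hD : D ≤ S ⊓ C[R]
  gen : ∀ T, S ⊓ N ≤ T → D ≤ T → E ≤ N[T] → R ≤ N[T] → S ≤ T
  mov : ∀ H, ⁅S, S⁆ ≤ H → S ⊓ N ≤ H → ⁅S, R⁆ ≤ H → ¬ D ≤ H →
    ∃ g ∈ E, ¬ ⁅S, R⁆ ≤ cj g H ∧ ¬ D ≤ cj g H

/-- The intermediate state. -/
structure BS (τ p r : ℕ) (R U D S N : Subgroup X) : Prop where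
  hτ : τ.Prime
  τp : τ ≠ p
  τr : τ ≠ r
  pD : IsPGroup τ D
  pS : IsPGroup p S
  DR : D ≤ C[R]
  UR : U ≤ C[R]
  UD : U ≤ N[D]
  US : U ≤ N[S]
  DS : D ≤ N[S]
  RS : R ≤ N[S]
  SR : ⁅S, R⁆ = S
  SD : ⁅S, D⁆ = S
  c1 : ⁅⁅S, S⁆, S⁆ ≤ N
  c2 : ⁅⁅S, S⁆, D⁆ ≤ N
  ex : ∀ x ∈ S, x ^ p ∈ ⁅S, S⁆ ⊔ S ⊓ N

theorem mlG (hl : l.Prime) (hp : p.Prime) (hr : r.Prime) (pl : p ≠ l) (rl : r ≠ l) (pr : p ≠ r)
    {Y R E S D : Subgroup X} (cR : Nat.card R = r) (h : Good q p r R E S D C[Y])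
    (hY : IsElementaryAbelian l Y) (hmin : MinNormal Y (E ⊔ S ⊔ R)) (hS : Y ⊓ C[S] = ⊥) :
    ∃ A, (A = ⁅S, S⁆ ∨ A = S) ∧ ∃ W, W ≤ Y ∧ ⁅A, R⁆ ≤ N[W] ∧ R ≤ N[W] ∧ D ≤ N[W] ∧
      W ⊓ C[⁅A, R⁆] = ⊥ ∧ W ⊓ C[D] = ⊥ ∧ W ⊓ C[R] ≠ ⊥ := by
  have pR := H30.Flav.pg_of_card cR
  have pY := isPGroup_of_elemAb hY
  have EY : E ≤ N[Y] := (le_sup_left.trans le_sup_left).trans hmin.norm
  have SY : S ≤ N[Y] := (le_sup_right.trans le_sup_left).trans hmin.norm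
  have RY : R ≤ N[Y] := le_sup_right.trans hmin.norm
  have DS : D ≤ S := h.hD.trans inf_le_left
  have DR : D ≤ C[R] := h.hD.trans inf_le_right
  have S' : ⁅S, S⁆ ≤ S := commutator_le_of_le le_rfl le_rfl
  have cSY := coprime_pp hp hl pl h.pS pY
  have cRS := coprime_pp hr hp pr.symm pR h.pS
  have nS : ¬ S ≤ C[Y] := fun e => hmin.ne_bot (hS ▸ (inf_eq_left.2 (cent_symm e)).symm)
  have nD : ¬ D ≤ C[Y] := fun e => nS (h.gen _ inf_le_right e (le_normalizer_centralizer EY)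
    (le_normalizer_centralizer RY))
  have hm : ∀ A, A ≤ ⁅S, S⁆ → R ≤ N[Y ⊓ C[A]] → ¬ A ≤ C[Y] → Y ⊓ C[A] = ⊥ := fun A h1 h2 h3 =>
    (hmin.eq_bot_or_eq inf_le_left (sup_le (sup_le
      (norm_fix EY ((commutator_mono h1 le_rfl).trans h.c2))
      (norm_fix SY ((commutator_mono h1 le_rfl).trans h.c1))) h2)).resolve_right
      fun e => h3 (cent_symm (e.ge.trans inf_le_right))
  have W1 : ⁅Y, D⁆ ≤ Y := commutator_le_of_norm_left (DS.trans SY)
  have W2 : ⁅Y, D⁆ ≠ ⊥ := fun e => nD (cent_symm (le_cent_of_commutator_eq_bot e))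
  have W3 : ⁅Y, D⁆ ⊓ C[D] = ⊥ := coprime_abel_cent_TI (DS.trans SY) (cop_le cSY DS le_rfl) hY.1
  have W4 : R ≤ N[⁅Y, D⁆] := le_normalizer_commutator RY (le_normalizer_of_le_centralizer' DR)
  have W5 : D ≤ N[⁅Y, D⁆] := le_norm_commutator_right _ _
  by_cases ha : ⁅⁅S, S⁆, R⁆ ≤ C[Y]
  swap
  · have RS' := le_normalizer_commutator h.RS h.RS
    have h1 : ⁅⁅S, S⁆, R⁆ ≤ ⁅S, S⁆ := commutator_le_of_norm_left RS'
    have h2 := fpf_mono (hm _ h1 (le_normalizer_inf RY (le_normalizer_centralizer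
      (le_norm_commutator_right _ _))) ha) W1
    have h3 : ⁅⁅S, S⁆, R⁆ ≤ N[⁅Y, D⁆] := norm_comm ((h1.trans S').trans SY) (DS.trans SY)
      ((commutator_comm D _).le.trans ((commutator_mono h1 DS).trans h.c1))
    exact ⟨_, Or.inl rfl, _, W1, h3, W4, W5, h2, W3, fix_ab hl hp hr pl rl pr (elemAb_of_le hY W1)
      (h.pS.to_le (h1.trans S')) cR h3 W4 (le_norm_commutator_right _ _)
      (coprime_commGid RS' (cop_le cRS le_rfl S') (Or.inl (sol_p hr pR)))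
      (((commutator_mono h1 (h1.trans S')).trans h.c1).trans (centralizer_anti W1)) W2 h2⟩
  have h1 : ⁅S, R⁆ ≤ S := commutator_le_of_norm_left h.RS
  have nC : ∀ A, A ≤ N[Y] → A ≤ N[C[Y]] := fun A => le_normalizer_centralizer
  have h2 : ⁅⁅S, R⁆, S ⊓ C[R]⁆ ≤ C[Y] := three_subgroup_le (nC _ RY) (nC _ (inf_le_left.trans SY))
    (nC _ SY) (by rw [commutator_eq_bot_of_cent' inf_le_right, commutator_bot_left]; exact bot_le)
    ((commutator_mono (commutator_mono inf_le_left le_rfl) le_rfl).trans ha)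
  have h3 : ⁅D, ⁅S, R⁆⁆ ≤ C[Y] :=
    (commutator_comm D _).le.trans ((commutator_mono le_rfl h.hD).trans h2)
  have h4 : ⁅S, R⁆ ≤ N[⁅Y, D⁆] := norm_comm (h1.trans SY) (DS.trans SY) h3
  have h5 : R ≤ N[⁅S, R⁆] := le_norm_commutator_right _ _
  have hgid := coprime_commGid h.RS cRS (Or.inl (sol_p hr pR))
  have hprod := (coprime_cent_prod h.RS cRS (Or.inl (sol_p hr pR))).sup
  refine ⟨S, Or.inr rfl, ?_⟩
  by_cases hb : ⁅S, S⁆ ≤ C[Y]
  · have h6 : ⁅⁅Y, D⁆, ⁅S, R⁆⁆ ≤ ⁅Y, D⁆ := commutator_le_of_norm_left h4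
    have h7 := coprime_abel_cent_TI h4 (cop_le cSY h1 W1) (isMulCommutative_of_le hY.1 W1)
    have h8 := le_normalizer_commutator W4 h5
    refine ⟨_, h6.trans W1, le_norm_commutator_right _ _, h8, le_normalizer_commutator W5
      (DS.trans (le_norm_commutator_left _ _)), h7, fpf_mono W3 h6, fix_ab hl hp hr pl rl pr
      (elemAb_of_le hY (h6.trans W1)) (h.pS.to_le h1) cR (le_norm_commutator_right _ _) h8 h5 hgid
      (((commutator_mono h1 h1).trans hb).trans (centralizer_anti (h6.trans W1))) (fun e => ?_) h7⟩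
    have h9 := le_cent_of_commutator_eq_bot e
    have h10 : ⁅D, S⁆ ≤ C[Y] := (commutator_mono DS le_rfl).trans hb
    obtain ⟨Y₁, hY₁, h11⟩ := exists_minNormal W2 (norm_comm SY (DS.trans SY) h10)
    have h12 := centralizer_anti (h11.trans W1)
    obtain ⟨g, hg, g1, g2⟩ := h.mov C[Y₁] (hb.trans h12) (inf_le_right.trans h12)
      (cent_symm (h11.trans h9)) fun e => hY₁.ne_bot (le_bot_iff.1 (W3 ▸ le_inf h11 (cent_symm e)))
    have h13 := hY₁.cj g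
    rw [cj_eq_self (h.ES hg)] at h13
    rw [cj_centralizer] at g1 g2
    have h14 : cj g Y₁ ≤ Y := cj_le_of_mem_normalizer (EY hg) (h11.trans W1)
    have h15 := h13.eq (commutator_le_of_norm_left (DS.trans h13.norm))
      (fun e => g2 (cent_symm (le_cent_of_commutator_eq_bot e)))
      (norm_comm h13.norm (DS.trans h13.norm) (h10.trans (centralizer_anti h14)))
    exact g1 (cent_symm ((h15.ge.trans (commutator_mono h14 le_rfl)).trans h9))
  have hL : ∀ A, A ≤ S → ⁅A, ⁅S, R⁆⁆ ≤ C[Y] → ⁅A, S ⊓ C[R]⁆ ≤ C[Y] → A ≤ stabMod S C[Y] :=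
    fun A hA a b => le_stabMod_iff.2 ⟨nC _ (hA.trans SY), hprod ▸ commutator_sup_right_le
      (nC _ (h1.trans SY)) (nC _ (inf_le_left.trans SY)) a b⟩
  have nL : ¬ S ≤ stabMod S C[Y] := fun e => hb (le_stabMod_iff.1 e).2
  have EL : E ≤ N[stabMod S C[Y]] := le_norm_stabMod h.ES (nC _ EY)
  have hm' : ∀ A, A ≤ ⁅S, S⁆ → ¬ A ≤ C[Y] → Y ⊓ C[A] = ⊥ := fun A hA => hm A hA
    (norm_fix RY ((commutator_mono hA le_rfl).trans ha))
  have h6 := hm' ⁅⁅S, R⁆, ⁅S, R⁆⁆ (commutator_mono h1 h1) fun e => nL (h.SE.ge.trans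
    ((le_stab_of_comm h.ER h.ES (le_normalizer_inf h.ES EL) inf_le_left
      (le_inf h1 (hL _ h1 e h2))).trans inf_le_right))
  have h7 := hm' ⁅D, S ⊓ C[R]⁆ (commutator_mono DS inf_le_left) fun e => nL (h.gen _
    (le_stabMod_iff.2 ⟨inf_le_right.trans le_normalizer, (commutator_mono inf_le_right
      le_rfl).trans (commutator_le_of_norm_left (nC _ SY))⟩) (hL _ DS h3 e) EL
    (le_norm_stabMod h.RS (nC _ RY)))
  refine ⟨_, W1, h4, W4, W5, le_bot_iff.1 (h6 ▸ inf_le_inf W1 (centralizer_anti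
    (commutator_le_of_le le_rfl le_rfl))), W3, fun e => nS (h.SE.ge.trans (fix hl hp h.hq hr pl rl pr
      h.qp h.qr hY h.pE h.pS cR EY SY RY h.RE h.ES h.RS h.ER (le_bot_iff.1 (h7 ▸ le_inf inf_le_left
        (cent_symm ?_)))))⟩
  have h8 : D ≤ C[Y ⊓ C[R]] := cent_symm (le_cent_of_commutator_eq_bot (le_bot_iff.1 (e ▸ le_inf
    (commutator_mono inf_le_left le_rfl) (commutator_le_of_le inf_le_right DR))))
  exact (commutator_mono h8 le_rfl).trans (commutator_le_of_norm_left (le_normalizer_centralizer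
    (le_normalizer_inf (inf_le_left.trans SY) (inf_le_right.trans le_normalizer))))

theorem mlB (hl : l.Prime) (hp : p.Prime) (hr : r.Prime) (pl : p ≠ l) (rl : r ≠ l) (pr : p ≠ r)
    {Y R U D S : Subgroup X} (cR : Nat.card R = r) (h : BS τ p r R U D S C[Y])
    (hY : IsElementaryAbelian l Y) (hmin : MinNormal Y (U ⊔ D ⊔ S ⊔ R)) (hS : Y ⊓ C[S] = ⊥)
    (hD : ⁅Y ⊓ C[R], D⁆ = ⊥) : Y ⊓ C[R] ≠ ⊥ ∧ (⁅D, U⁆ = D → Y ⊓ C[⁅S ⊓ C[R], U⁆] = ⊥) := by
  have pR := H30.Flav.pg_of_card cR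
  have UY : U ≤ N[Y] := ((le_sup_left.trans le_sup_left).trans le_sup_left).trans hmin.norm
  have DY : D ≤ N[Y] := ((le_sup_right.trans le_sup_left).trans le_sup_left).trans hmin.norm
  have SY : S ≤ N[Y] := (le_sup_right.trans le_sup_left).trans hmin.norm
  have RY : R ≤ N[Y] := le_sup_right.trans hmin.norm
  have h1 : S ⊓ C[R] ≤ ⁅S, S⁆ := by
    have := coprime_commutator_inf_cent_le h.RS (coprime_pp hr hp pr.symm pR h.pS)
    rwa [h.SR] at this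
  have h2 : ⁅S ⊓ C[R], D⁆ ≤ C[Y] := (commutator_mono h1 le_rfl).trans h.c2
  have h3 := le_cent_of_commutator_eq_bot hD
  refine ⟨(HF_grp hl hp h.hτ hr pl rl h.τp.symm pr h.τr hY hmin.ne_bot h.pS h.pD cR SY DY RY le_rfl
    le_normalizer h.DS h.DR h.RS h.SR h.SD hS h.c1 h2 h.ex h3).1, fun hU => ?_⟩
  have h4 : ⁅S ⊓ C[R], U⁆ ≤ ⁅S, S⁆ := (commutator_mono h1 le_rfl).trans
    (commutator_le_of_norm_left (le_normalizer_commutator h.US h.US))
  refine (hmin.eq_bot_or_eq inf_le_left (sup_le (sup_le (sup_le (le_normalizer_inf UY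
    (le_normalizer_centralizer (le_norm_commutator_right _ _)))
    (norm_fix DY ((commutator_mono h4 le_rfl).trans h.c2)))
    (norm_fix SY ((commutator_mono h4 le_rfl).trans h.c1))) (le_normalizer_inf RY
      (le_normalizer_centralizer (le_normalizer_of_le_centralizer' (commutator_le_of_le
        inf_le_right h.UR)))))).resolve_right fun e => ?_
  exact (HF_grp hl hp h.hτ hr pl rl h.τp.symm pr h.τr hY hmin.ne_bot h.pS h.pD cR SY (sup_le DY UY)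
    RY le_sup_left (sup_le le_normalizer h.UD) (sup_le h.DS h.US) (sup_le h.DR h.UR) h.RS h.SR h.SD
    hS h.c1 (commutator_sup_right_le (le_normalizer_centralizer DY) (le_normalizer_centralizer UY)
      h2 (cent_symm (e.ge.trans inf_le_right))) h.ex h3).2
    (hU.ge.trans (commutator_mono le_sup_left le_sup_right))

end Cfsg.Agent.H88.Tu
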