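import Cfsg.Agent.H85.FPDefs
import Cfsg.Agent.H88.TuML

/-! Kit for the core cases of the module lemma of project FPF. -/

set_option autoImplicit false
set_option linter.unusedSectionVars false
set_option linter.unusedVariables false

namespace Cfsg.Agent.H88.FP

open Cfsg Cfsg.Agent.H63 Cfsg.Agent.H67 Cfsg.Agent.H69 Cfsg.Agent.H85.FP Subgroup
open scoped IsMulCommutative commutatorElement

universe u

variable {X : Type u} [Group X] [Finite X]

theorem nrm_mod {V A T U : Subgroup X} (hV : IsMulCommutative V) (hAV : A ≤ N[V]) (hT : T ≤ A)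
    (d : V) (h1 : ∀ a ∈ T, a * d = d * a) (h2 : ∀ a ∈ A, a ∉ T → a * d * a⁻¹ ∈ U) :
    ∃ c ∈ V ⊓ U, (nrm V A d : X) = d ^ Nat.card T * c := by
  classical
  have h3 : (sfin A).filter (· ∈ T) = sfin T := by
    ext x
    simp only [Finset.mem_filter, mem_sfin]
    exact ⟨fun h => h.2, fun h => ⟨hT h, h⟩⟩
  refine ⟨_, ⟨(∏ a ∈ (sfin A).filter (· ∉ T), conjOn V a d).2, (U.subgroupOf V).prod_mem
    fun a ha => ?_⟩, ?_⟩
  · obtain ⟨ha, haT⟩ := Finset.mem_filter.1 ha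
    rw [mem_subgroupOf, conjOn_apply (hAV (mem_sfin.1 ha))]
    exact h2 a (mem_sfin.1 ha) haT
  · rw [nrm_apply, ← Finset.prod_filter_mul_prod_filter_not _ (· ∈ T), h3,
      Finset.prod_congr rfl (g := fun _ => d) fun a ha => Subtype.ext (by
        rw [conjOn_apply (hAV (hT (mem_sfin.1 ha))), h1 a (mem_sfin.1 ha), mul_inv_cancel_right]),
      Finset.prod_const, card_sfin]
    rfl

theorem cent_small {B V : Subgroup X} (hB : B ≤ N[V]) (hc : (Nat.card B).Coprime (Nat.card V))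
    (h : ∀ s : ℕ, s.Prime → s ∣ Nat.card B → ∀ m, m ∣ Nat.card V → m ≡ 1 [MOD s] → m = 1) :
    B ≤ C[V] := by
  by_contra hn
  let f := V.normalizerMonoidHom
  obtain ⟨s, hs, hd⟩ := Nat.exists_prime_and_dvd (n := Nat.card (pim f B)) fun e => hn fun b hb v hv => by
    have := congrArg (fun φ : MulAut V => (φ ⟨v, hv⟩ : X))
      (mem_bot.1 (card_eq_one.1 e ▸ mem_pim_of_mem f (hB hb) hb))
    exact (mul_inv_eq_iff_eq_mul.1 this).symm
  have := Fact.mk hs
  obtain ⟨⟨φ, hφ⟩, ho⟩ := exists_prime_orderOf_dvd_card' s hd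
  rw [← orderOf_coe] at ho
  have hsB := hd.trans (card_pim_dvd f B)
  have hp : IsPGroup s (zpowers φ) := IsPGroup.of_card (n := 1) (by
    rw [Nat.card_zpowers, pow_one]; exact ho)
  set F := FixedPoints.subgroup (zpowers φ) V
  have h1 : Nat.card V ≡ Nat.card F [MOD s] := hp.card_modEq_card_fixedPoints V
  rw [← F.card_mul_index] at h1
  have h2 : F.index = 1 := h s hs hsB _ F.index_dvd_card (Nat.ModEq.cancel_left_of_coprime
    ((hc.coprime_dvd_left hsB).coprime_dvd_right F.card_subgroup_dvd_card) (by rwa [mul_one]))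
  refine hs.one_lt.ne' (ho.symm.trans (orderOf_eq_one_iff.2 (MulEquiv.ext fun v => ?_)))
  exact (index_eq_one.1 h2).ge (mem_top v) ⟨φ, mem_zpowers φ⟩

theorem cent_six {B V : Subgroup X} (hB : B ≤ N[V]) (hc : (Nat.card B).Coprime 2)
    (h : ((Nat.card B).Coprime 3 ∧ (Nat.card V ∣ 4 ∨ Nat.card V ∣ 9)) ∨
      ((Nat.card B).Coprime 5 ∧ Nat.card V = 5)) : B ≤ C[V] := by
  have h2 : ∀ s, s.Prime → s ∣ Nat.card B → ∀ q, (Nat.card B).Coprime q → ¬ s ∣ q :=
    fun s hs hd q hq => (Nat.Prime.coprime_iff_not_dvd hs).1 (hq.coprime_dvd_left hd)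
  have h3 : ∀ s m : ℕ, m ≡ 1 [MOD s] → 0 < m → s ∣ m - 1 := fun s m h h' =>
    (Nat.modEq_iff_dvd' h').1 h.symm
  rcases h with ⟨a, b | b⟩ | ⟨a, b⟩
  · refine cent_small hB ((hc.pow_right 2).coprime_dvd_right b) fun s hs hd m hm e => ?_
    have := h3 s m e (Nat.pos_of_dvd_of_pos hm Nat.card_pos)
    have h4 := (Nat.dvd_prime_pow Nat.prime_two (m := 2)).1 (hm.trans b)
    obtain ⟨k, hk, rfl⟩ := h4
    interval_cases k
    · rfl
    · exact absurd (Nat.le_of_dvd one_pos this) hs.one_lt.not_ge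
    · exact absurd this (h2 s hs hd 3 a)
  · refine cent_small hB ((a.pow_right 2).coprime_dvd_right b) fun s hs hd m hm e => ?_
    have := h3 s m e (Nat.pos_of_dvd_of_pos hm Nat.card_pos)
    have h4 := (Nat.dvd_prime_pow Nat.prime_three (m := 2)).1 (hm.trans b)
    obtain ⟨k, hk, rfl⟩ := h4
    interval_cases k
    · rfl
    · exact absurd this (h2 s hs hd 2 hc)
    · exact absurd this (h2 s hs hd (2 ^ 3) (hc.pow_right 3))
  · refine cent_small hB (b ▸ a) fun s hs hd m hm e => ?_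
    have := h3 s m e (Nat.pos_of_dvd_of_pos hm Nat.card_pos)
    rcases (Nat.dvd_prime Nat.prime_five).1 (b ▸ hm) with rfl | rfl
    · rfl
    · exact absurd this (h2 s hs hd (2 ^ 2) (hc.pow_right 2))

theorem _root_.Cfsg.Agent.H85.FP.Small.conj {R : Subgroup X} {b g : X} (h : Small R b)
    (hg : g ∈ N[R]) : Small R (g * b * g⁻¹) := by
  refine ⟨mul_mem (mul_mem hg h.nrm) (inv_mem hg), ?_, ?_⟩
  · have := conj_mem_of_mem_normalizer (normalizer_le_normalizer_centralizer R hg) h.sq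
    rwa [show g * (b * b) * g⁻¹ = g * b * g⁻¹ * (g * b * g⁻¹) by group] at this
  · rw [← cj_centralizer_singleton]
    nth_rw 2 [← cj_eq_self hg]
    rw [← cj_inf, card_cj]
    exact h.card

variable {p : ℕ} {A R P N : Subgroup X}

section Core

variable (h : H85.FP.Core p A R P N)
include h

theorem pR : IsPGroup 2 R := isPGroup_of_elemAb h.ea

theorem cPR : (Nat.card P).Coprime (Nat.card R) := coprime_pp h.pp Nat.prime_two h.p2 h.pP (pR h)

theorem c2 : (Nat.card A).Coprime 2 := h.cop.coprime_mul_right_right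

theorem cp : (Nat.card A).Coprime p := h.cop.coprime_mul_left_right

theorem W_le {y : X} (hy : y ∈ P) : ⁅R, zpowers y⁆ ≤ R :=
  commutator_le_of_norm_left (zpowers_le.2 (h.PR hy))

theorem W_ti {y : X} (hy : y ∈ P) : ⁅R, zpowers y⁆ ⊓ C1[y] = ⊥ :=
  centralizer_zpowers y ▸ coprime_abel_cent_TI (zpowers_le.2 (h.PR hy))
    (cop_le (cPR h) (zpowers_le.2 hy) le_rfl) h.ea.1

theorem card_W {y : X} (hy : y ∈ P) {V : Subgroup X} (hV : V ≤ R) (hn : y ∈ N[V]) :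
    Nat.card V = Nat.card ↥⁅V, zpowers y⁆ * Nat.card ↥(V ⊓ C1[y]) :=
  centralizer_zpowers y ▸ (coprime_abelian_cent_dprod (zpowers_le.2 hn)
    (cop_le (cPR h) (zpowers_le.2 hy) hV) (isMulCommutative_of_le h.ea.1 hV)).card

theorem le_W {y : X} (hy : y ∈ P) {V : Subgroup X} (hV : V ≤ R) (hn : y ∈ N[V])
    (h0 : V ⊓ C1[y] = ⊥) : ⁅V, zpowers y⁆ = V :=
  coprime_commutator_eq_of_cent_eq_bot (zpowers_le.2 hn) (cop_le (cPR h) (zpowers_le.2 hy) hV)
    (Or.inl (isSolvable_of_isCyclic inferInstance)) (by rwa [centralizer_zpowers])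

theorem eq_one_of {y : X} (hy : y ∈ P) (h1 : ⁅R, zpowers y⁆ ≤ C1[y]) : y = 1 := by
  have h2 := W_ti h hy
  rw [inf_eq_left.2 h1] at h2
  exact mem_bot.1 (h.faith ▸ ⟨hy, cent_symm (le_cent_of_commutator_eq_bot h2) (mem_zpowers y)⟩)

theorem sup_W {y : X} (hy : y ∈ P) : ⁅R, zpowers y⁆ ⊔ R ⊓ C1[y] = R :=
  centralizer_zpowers y ▸ (coprime_abelian_cent_dprod (zpowers_le.2 (h.PR hy))
    (cop_le (cPR h) (zpowers_le.2 hy) le_rfl) h.ea.1).sup

theorem card_zp {y : X} (h1 : y ≠ 1) (hy : y ^ p = 1) : Nat.card (zpowers y) = p := by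
  have := Fact.mk h.pp
  rw [Nat.card_zpowers, orderOf_eq_prime hy h1]

theorem card_mod {y : X} (hy : y ^ p = 1) {V : Subgroup X} (hV : V ≤ R) (V1 : V ≠ ⊥) (hn : y ∈ N[V])
    (h0 : V ⊓ C1[y] = ⊥) : Nat.card V ≡ 1 [MOD p] ∧ ∃ k, 2 ≤ k ∧ Nat.card V = 2 ^ k := by
  have := Fact.mk Nat.prime_two
  have y1 : y ≠ 1 := by
    rintro rfl
    exact V1 (h0 ▸ (inf_eq_left.2 fun x _ => mem_centralizer_singleton_iff.2 (by simp)).symm)
  have h1 := semiregular_modEq (zpowers_le.2 hn) (H69.semiregular_of_prime_card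
    ((card_zp h y1 hy).symm ▸ h.pp) (by rwa [centralizer_zpowers]))
  rw [card_zp h y1 hy] at h1
  obtain ⟨k, hk⟩ := ((pR h).to_le hV).exists_card_eq
  refine ⟨h1, k, ?_, hk⟩
  rcases k with _ | _ | k
  · exact absurd (card_eq_one.1 hk) V1
  · rw [hk] at h1
    exact absurd (Nat.le_of_dvd one_pos ((Nat.modEq_iff_dvd' (by norm_num)).1 h1.symm))
      h.pp.one_lt.not_ge
  · omega

theorem eq_three (h1 : 4 ≡ 1 [MOD p]) : p = 3 :=
  (Nat.prime_dvd_prime_iff_eq h.pp Nat.prime_three).1 ((Nat.modEq_iff_dvd' (by norm_num)).1 h1.symm)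

theorem sq_cent {b : X} (hb : b ∈ N) (hs : Small R b) : b * b ∈ C[P] := fun g hg => by
  have h1 : ⁅g, b * b⁆ ∈ P ⊓ C[R] := ⟨commutator_le_of_norm_left (zpowers_le.2 (h.NP (mul_mem hb hb)))
    (commutator_mem_commutator hg (mem_zpowers _)), commutator_le_of_norm_right
      (le_normalizer_centralizer h.PR) (commutator_mem_commutator hg hs.sq)⟩
  exact commutatorElement_eq_one_iff_mul_comm.1 (mem_bot.1 (h.faith ▸ h1))

theorem inv_comm {b g : X} (hb : b ∈ N) (hs : Small R b) (hg : g ∈ P) :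
    b * ⁅g, b⁆ * b⁻¹ = ⁅g, b⁆⁻¹ := by
  have := sq_cent h hb hs g⁻¹ (inv_mem hg)
  calc b * ⁅g, b⁆ * b⁻¹ = b * g * b⁻¹ * (b * b * g⁻¹) * (b * b)⁻¹ := by
        simp only [commutatorElement_def]; group
    _ = _ := by rw [← this]; simp only [commutatorElement_def]; group

theorem cent_of_sq {y : X} (hy : y ∈ P) : C1[y * y] ≤ C1[y] := fun x hx =>
  mem_centralizer_singleton_comm.1 (mem_of_pow_mem_of_coprime
    (Tu.ord_cop h.pp h.pP hy (Tu.cpp h.pp Nat.prime_two h.p2))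
    (pow_two y ▸ mem_centralizer_singleton_comm.1 hx))

theorem cent_inv {b y : X} (hy : y ∈ P) (hi : b * y * b⁻¹ = y⁻¹) :
    C1[b] ⊓ cj y C1[b] ≤ C1[y] := by
  refine le_trans (fun x hx => ?_) (cent_of_sq h hy)
  rw [cj_centralizer_singleton] at hx
  have e : y * y = y * b * y⁻¹ * b⁻¹ := by rw [mul_assoc, mul_assoc, ← mul_assoc b, ← inv_inv
    (b * y⁻¹ * b⁻¹), show (b * y⁻¹ * b⁻¹)⁻¹ = b * y * b⁻¹ by group, hi, inv_inv]
  rw [mem_centralizer_singleton_comm, e]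
  exact mul_mem (mem_centralizer_singleton_comm.1 hx.2)
    (inv_mem (mem_centralizer_singleton_comm.1 hx.1))

theorem le16 {b y : X} (hs : Small R b) (hy : y ∈ P) (hi : b * y * b⁻¹ = y⁻¹) :
    Nat.card ↥⁅R, zpowers y⁆ ≤ 16 ∧ (Nat.card ↥⁅R, zpowers y⁆ = 16 → R ⊓ C1[y] ≤ C1[b]) := by
  have h1 : cj y (R ⊓ C1[b]) ≤ R := cj_le_of_mem_normalizer (h.PR hy) inf_le_left
  have h2 := card_sup_mul_card_inf (H := R ⊓ C1[b]) (K := cj y (R ⊓ C1[b]))
    (le_normalizer_of_le_centralizer (le_cent_of_comm h.ea.1 inf_le_left h1))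
  have h3 := card_le_of_le (sup_le (inf_le_left (b := C1[b])) h1)
  have h4 : R ⊓ C1[b] ⊓ cj y (R ⊓ C1[b]) ≤ R ⊓ C1[y] := le_inf (inf_le_left.trans inf_le_left)
    ((inf_le_inf inf_le_right (cj_mono inf_le_right)).trans (cent_inv h hy hi))
  have h5 := card_le_of_le h4
  have h6 := card_W h hy le_rfl (h.PR hy)
  have h7 := hs.card
  rw [card_cj] at h2
  have h8 : Nat.card R ≤ 16 * Nat.card ↥(R ⊓ C1[b] ⊓ cj y (R ⊓ C1[b])) :=
    Nat.le_of_mul_le_mul_left (by nlinarith [Nat.mul_le_mul h7 h7, Nat.mul_le_mul_right (Nat.card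
      ↥(R ⊓ C1[b] ⊓ cj y (R ⊓ C1[b]))) h3]) (Nat.card_pos (α := R))
  refine ⟨Nat.le_of_mul_le_mul_right (h6 ▸ h8.trans (Nat.mul_le_mul_left _ h5)) Nat.card_pos,
    fun e => (eq_of_le_of_card_ge h4 ?_).ge.trans (inf_le_left.trans inf_le_right)⟩
  rw [e] at h6
  omega

theorem ne8 {b y : X} (hs : Small R b) (hy : y ∈ P) (hi : b * y * b⁻¹ = y⁻¹) :
    Nat.card ↥⁅R, zpowers y⁆ ≠ 8 := by
  intro e
  set W := ⁅R, zpowers y⁆
  have WR := W_le h hy
  have hW := isMulCommutative_of_le h.ea.1 WR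
  have bW : b ∈ N[W] := le_normalizer_commutator (zpowers_le.2 hs.nrm) (zpowers_le.2
    (cj_eq_self_iff.1 (by rw [cj_zpowers, hi, zpowers_inv]))) (mem_zpowers b)
  have h1 : cj y (W ⊓ C1[b]) ≤ W :=
    cj_le_of_mem_normalizer (le_norm_commutator_right _ _ (mem_zpowers y)) inf_le_left
  have h2 := card_sup_of_inf_eq_bot (H := W ⊓ C1[b]) (K := cj y (W ⊓ C1[b])) (Or.inl
    (le_normalizer_of_le_centralizer (le_cent_of_comm hW inf_le_left h1))) (le_bot_iff.1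
      (W_ti h hy ▸ le_inf (inf_le_left.trans inf_le_left)
        ((inf_le_inf inf_le_right (cj_mono inf_le_right)).trans (cent_inv h hy hi))))
  have h3 := card_le_of_le (sup_le (inf_le_left (b := C1[b])) h1)
  rw [h2, card_cj, e] at h3
  let f : W →* W := conjOn W b * MonoidHom.id W
  have hf : ∀ w : W, (f w : X) = b * w * b⁻¹ * w := fun w => by simp [f, conjOn_apply bW]
  have h4 : f.ker ≤ C1[b].subgroupOf W := fun w hw => by
    have h5 := (hf w).symm.trans (congrArg Subtype.val hw)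
    have h6 : (w : X) * w = 1 := by rw [← pow_two]; exact h.ea.2 w (WR w.2)
    exact mem_centralizer_singleton_iff.2 (mul_inv_eq_iff_eq_mul.1
      (mul_right_cancel (h5.trans h6.symm))).symm
  have h5 : f.range ≤ C1[b].subgroupOf W := by
    rintro _ ⟨w, rfl⟩
    rw [mem_subgroupOf, hf, mem_centralizer_singleton_iff, eq_comm, ← mul_inv_eq_iff_eq_mul]
    nth_rw 2 [comm_of_isMulCommutative hW (conj_mem_of_mem_normalizer bW w.2) w.2]
    calc b * (b * w * b⁻¹ * w) * b⁻¹ = b * b * w * (b * b)⁻¹ * (b * w * b⁻¹) := by group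
      _ = _ := by rw [conj_eq_of_mem_centralizer hs.sq (WR w.2)]
  have h6 := f.ker.card_mul_index
  have h7 : Nat.card (C1[b].subgroupOf W) = Nat.card ↥(W ⊓ C1[b]) := by
    rw [← inf_subgroupOf_left, card_subgroupOf inf_le_left]
  rw [index_ker, e] at h6
  have := Nat.mul_le_mul (card_le_of_le h4) (card_le_of_le h5)
  rw [h7, h6] at this
  have h8 : Nat.card ↥(W ⊓ C1[b]) = 2 ∨ 3 ≤ Nat.card ↥(W ⊓ C1[b]) ∨ Nat.card ↥(W ⊓ C1[b]) ≤ 1 := by
    omega
  rcases h8 with h8 | h8 | h8 <;> nlinarith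

theorem two_gen {g z : X} (hg : g ∈ P) (hz : z ∈ P) (g1 : g ^ p = 1) (z1 : z ^ p = 1) (z0 : z ≠ 1)
    (hc : Commute g z) (hn : g ∉ zpowers z) {V : Subgroup X} (hV : V ≤ R) (V1 : V ≠ ⊥)
    (gV : g ∈ N[V]) (zV : z ∈ N[V]) :
    ∃ g' ∈ zpowers g, ∃ z' ∈ zpowers z, g' * z' ≠ 1 ∧ V ⊓ C1[g' * z'] ≠ ⊥ := by
  have h1 : zpowers g ≤ C[zpowers z] :=
    zpowers_le.2 (centralizer_zpowers z ▸ mem_centralizer_singleton_iff.2 hc)
  have h2 := le_normalizer_of_le_centralizer h1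
  obtain ⟨e, he, e1, h3⟩ := exists_cent1_ne_bot (A := zpowers g ⊔ zpowers z) (K := V)
    (isMulCommutative_sup inferInstance inferInstance h1) (fun hcy => hn (by
      have h3 : Nat.card ↥(zpowers g ⊔ zpowers z) ∣ p := by
        rw [← IsCyclic.exponent_eq_card]
        refine Monoid.exponent_dvd_of_forall_pow_eq_one fun x => Subtype.ext ?_
        obtain ⟨_, ⟨i, rfl⟩, _, ⟨j, rfl⟩, e⟩ := (mem_sup_of_le_normalizer h2).1 x.2
        rw [SubgroupClass.coe_pow, ← e, (hc.zpow_zpow i j).mul_pow, ← zpow_natCast, ← zpow_natCast,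
          ← zpow_mul, ← zpow_mul, mul_comm i, mul_comm j, zpow_mul, zpow_mul, zpow_natCast,
          zpow_natCast, g1, z1]
        simp
      exact (eq_of_le_of_card_ge le_sup_right (by
        rw [card_zp h z0 z1]; exact Nat.le_of_dvd h.pp.pos h3)).ge (mem_sup_left (mem_zpowers g))))
    (sup_le (zpowers_le.2 gV) (zpowers_le.2 zV))
    (cop_le (cPR h) (sup_le (zpowers_le.2 hg) (zpowers_le.2 hz)) hV) V1
  obtain ⟨a, ha, c, hc', rfl⟩ := (mem_sup_of_le_normalizer h2).1 he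
  exact ⟨a, ha, c, hc', e1, h3⟩

/-- The norm argument. -/
theorem nt {V : Subgroup X} (hV : V ≤ Z[P]) (AV : A ≤ N[V]) {z w : X} (hz : z ∈ V)
    (hw : w ∈ ⁅R, zpowers z⁆) (h1 : ∀ a ∈ A, a ∈ N[zpowers z] → a * z = z * a ∧ a * w = w * a)
    (h2 : ∀ a ∈ A, a ∉ N[zpowers z] → a * z * a⁻¹ ∈ C[⁅R, zpowers z⁆] ∧ a * w * a⁻¹ ∈ C1[z]) :
    w = 1 := by
  have hV' := isMulCommutative_of_le (isMulCommutative_center P) hV
  have hR := h.ea.1
  have zP := (hV hz).1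
  have wR := W_le h zP hw
  obtain ⟨e, he, hd⟩ := nrm_mod hV' AV (T := A ⊓ N[zpowers z]) inf_le_left ⟨z, hz⟩
    (fun a ha => (h1 a ha.1 ha.2).1) fun a ha hn => (h2 a ha fun e => hn ⟨ha, e⟩).1
  obtain ⟨c, hc, hv⟩ := nrm_mod hR h.AR (T := A ⊓ N[zpowers z]) inf_le_left ⟨w, wR⟩
    (fun a ha => (h1 a ha.1 ha.2).2) fun a ha hn => (h2 a ha fun e => hn ⟨ha, e⟩).2
  have h3 := h.fxR _ ⟨(hV (nrm V A ⟨z, hz⟩).2).1, nrm_mem_cent AV _⟩ _
    ⟨(nrm R A ⟨w, wR⟩).2, nrm_mem_cent h.AR _⟩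
  set n := Nat.card ↥(A ⊓ N[zpowers z])
  have hn : n.Coprime (2 * p) := h.cop.coprime_dvd_left (card_dvd_of_le' inf_le_left)
  have d1 : (nrm V A ⟨z, hz⟩ : X) ∈ Z[P] := hV (nrm V A ⟨z, hz⟩).2
  rw [hd] at d1
  rw [hd, hv] at h3
  simp only at h3 d1
  set d := z ^ n * e
  have h4 : ⁅d, w ^ n⁆ ∈ ⁅R, zpowers z⁆ ⊓ C1[z] := by
    refine ⟨commutator_le_of_norm_right (zpowers_le.2 (le_normalizer_commutator h.PR
      (le_normalizer_of_le_centralizer' (zpowers_le.2 (hV hz).2)) d1.1))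
      (commutator_mem_commutator (mem_zpowers d) (pow_mem hw n)), ?_⟩
    have h5 : ⁅d, w ^ n⁆ = w ^ n * ⁅d, c⁆⁻¹ * (w ^ n)⁻¹ := by
      have := commutatorElement_mul_right' d (w ^ n) c
      rw [commutatorElement_eq_one_iff_mul_comm.2 h3] at this
      rw [eq_inv_of_mul_eq_one_left this.symm]
      group
    have h6 : ⁅d, c⁆ ∈ R ⊓ C1[z] := ⟨commutator_le_of_norm_right h.PR
      (commutator_mem_commutator d1.1 hc.1), commutator_le_of_le le_rfl le_rfl
        (commutator_mem_commutator (centralizer_le_centralizer_singleton zP d1.2) hc.2)⟩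
    rw [h5, comm_of_isMulCommutative hR (pow_mem wR n) (inv_mem h6.1), mul_inv_cancel_right]
    exact Subgroup.inv_mem _ h6.2
  rw [W_ti h zP, mem_bot, commutatorElement_eq_one_iff_mul_comm] at h4
  have h5 : z ^ n ∈ C1[w ^ n] := (mul_mem_cancel_right (centralizer_le_centralizer_singleton
    (pow_mem hw n) he.2)).1 (mem_centralizer_singleton_iff.2 h4)
  have h6 := mem_of_pow_mem_of_coprime (Tu.ord_cop h.pp h.pP zP hn.coprime_mul_left_right.symm) h5
  have h7 := mem_of_pow_mem_of_coprime (Tu.ord_cop Nat.prime_two (pR h) wR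
    hn.coprime_mul_right_right.symm) (mem_centralizer_singleton_comm.1 h6)
  exact mem_bot.1 (W_ti h zP ▸ ⟨hw, h7⟩)

end Core

end Cfsg.Agent.H88.FP
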