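import Cfsg.Agent.H88.FPAb

/-! The class two core case of project FPF. -/

set_option autoImplicit false
set_option linter.unusedSectionVars false
set_option linter.unusedVariables false

namespace Cfsg.Agent.H88.FP

open Cfsg Cfsg.Agent.H63 Cfsg.Agent.H67 Cfsg.Agent.H69 Cfsg.Agent.H85.FP Subgroup
open scoped IsMulCommutative commutatorElement

universe u

variable {X : Type u} [Group X] [Finite X] {p : ℕ} {A R P N : Subgroup X}

section Core

variable (h : H85.FP.Core p A R P N) (he : ∀ x ∈ P, x ^ p = 1) (hc : ⁅P, P⁆ ≤ C[P])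
include h he hc

theorem comm_Z {x y : X} (hx : x ∈ P) (hy : y ∈ P) : ⁅x, y⁆ ∈ Z[P] :=
  ⟨commutator_le_of_le le_rfl le_rfl (commutator_mem_commutator hx hy),
    hc (commutator_mem_commutator hx hy)⟩

theorem exists_comm {x y v : X} (hx : x ∈ P) (hy : y ∈ P) (hv : v ∈ zpowers ⁅y, x⁆) :
    ∃ g ∈ zpowers y, ⁅g, x⁆ = v := by
  obtain ⟨n, rfl⟩ := mem_powers_iff_mem_zpowers.2 hv
  exact ⟨y ^ n, pow_mem (mem_zpowers y) n, H7.comm_pow_left ((comm_Z h he hc hy hx).2 y hy) n⟩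

theorem norm_WZ {z : X} (hz : z ∈ Z[P]) : P ≤ N[⁅R, zpowers z⁆] :=
  le_normalizer_commutator h.PR (le_normalizer_of_le_centralizer' (zpowers_le.2 hz.2))

variable {x y : X} (hx : x ∈ P) (hy : y ∈ P) (z1 : ⁅x, y⁆ ≠ 1) (h16 : Nat.card ↥⁅R, zpowers x⁆ ≤ 16)
include hx hy z1 h16

theorem irr {V : Subgroup X} (hV : V ≤ ⁅R, zpowers ⁅x, y⁆⁆) (V1 : V ≠ ⊥) (xV : x ∈ N[V])
    (yV : y ∈ N[V]) : p = 3 ∧ Nat.card V = 64 ∧ Nat.card ↥(V ⊓ C1[x]) = 4 := by
  have hz := comm_Z h he hc hx hy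
  set z := ⁅x, y⁆ with hz'
  have VR := hV.trans (W_le h hz.1)
  have zV : z ∈ N[V] := commutator_le_of_le le_rfl le_rfl (commutator_mem_commutator xV yV)
  have h0 : V ⊓ C1[z] = ⊥ := le_bot_iff.1 (W_ti h hz.1 ▸ inf_le_inf_right _ hV)
  have h1 : ∀ v ∈ zpowers z, Nat.card ↥(V ⊓ C1[x * v]) = Nat.card ↥(V ⊓ C1[x]) := fun v hv => by
    obtain ⟨g, hg, e⟩ := exists_comm h he hc hx hy (v := v) (by
      rwa [← commutatorElement_inv, zpowers_inv])
    rw [← card_cj g (V ⊓ C1[x]), cj_inf, cj_eq_self (zpowers_le.2 yV hg), cj_centralizer_singleton,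
      (zpowers_le.2 hz hv).2 x hx, ← e, commutatorElement_def, inv_mul_cancel_right]
  have hxz : ∀ v ∈ zpowers z, Commute x v := fun v hv => (zpowers_le.2 hz hv).2 x hx
  have h2 : V ⊓ C1[x] ≠ ⊥ := by
    obtain ⟨a, ha, c, hc', e1, h2⟩ := two_gen h hx hz.1 (he _ hx) (he _ hz.1) z1
      (hxz z (mem_zpowers z)) (fun e => z1 (commutatorElement_eq_one_iff_mul_comm.2
        ((zpowers_le.2 hz e).2 y hy).symm)) VR V1 xV zV
    have a1 : a ≠ 1 := fun e => h2 (by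
      rw [e, one_mul] at e1 ⊢
      exact le_bot_iff.1 (h0 ▸ inf_le_inf_left _ fun w hw => mem_centralizer_singleton_comm.1
        (zpowers_le.2 (mem_centralizer_singleton_comm.1 hw) (zp_symm h (he _ hz.1) e1 hc'))))
    obtain ⟨j, hj⟩ := mem_powers_iff_mem_zpowers.2 (zp_symm h (he _ hx) a1 ha)
    have h3 : (a * c) ^ j = x * c ^ j := by
      rw [Commute.mul_pow ((zpowers_le.2 hz hc').2 a (zpowers_le.2 hx ha)), show a ^ j = x from hj]
    intro e
    have h4 := h1 _ (pow_mem hc' j)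
    rw [e, card_bot, card_eq_one, ← h3] at h4
    exact h2 (le_bot_iff.1 (h4 ▸ inf_le_inf_left _ fun w hw => mem_centralizer_singleton_comm.1
      (pow_mem (mem_centralizer_singleton_comm.1 hw) j)))
  have h3 : z ∈ N[V ⊓ C1[x]] := le_normalizer_inf (zpowers_le.2 zV) (centralizer_zpowers x ▸
    le_normalizer_of_le (zpowers_le.2 (centralizer_anti (zpowers_le.2 hx) hz.2))) (mem_zpowers z)
  have h4 := le_bot_iff.1 (h0 ▸ inf_le_inf_right C1[z] (inf_le_left (b := C1[x])))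
  have h5 := (card_mod h (he _ hz.1) (inf_le_left.trans VR) h2 h3 h4).1
  have h6 := four_le h (he _ hz.1) (inf_le_left.trans VR) h2 h3 h4
  have h7 : ∀ v ∈ zpowers z, v ≠ 1 → V ⊓ C1[x * v] ≤ ⁅V, zpowers x⁆ := fun v hv v1 =>
    (le_W h hx (inf_le_left.trans VR) (le_normalizer_inf (zpowers_le.2 xV)
      (centralizer_zpowers (x * v) ▸ le_normalizer_of_le (zpowers_le.2 (centralizer_zpowers (x * v) ▸
        mem_centralizer_singleton_iff.2 ((Commute.refl x).mul_right (hxz v hv))))) (mem_zpowers x))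
      (le_bot_iff.1 (h0 ▸ fun w hw => ⟨hw.1.1, mem_centralizer_singleton_comm.1 (zpowers_le.2
        ((mul_mem_cancel_left (mem_centralizer_singleton_comm.1 hw.2)).1
          (mem_centralizer_singleton_comm.1 hw.1.2)) (zp_symm h (he _ hz.1) v1 hv))⟩))).ge.trans
      (commutator_mono inf_le_left le_rfl)
  have z2 : z * z ≠ 1 := fun e => z1 (one_of_inv h hz.1 (eq_inv_of_mul_eq_one_left e))
  have zz := mul_mem (mem_zpowers z) (mem_zpowers z)
  have h8 := card_le_of_le (sup_le (h7 z (mem_zpowers z) z1) (h7 _ zz z2))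
  rw [card_sup_of_inf_eq_bot (Or.inl (le_normalizer_of_le_centralizer (le_cent_of_comm h.ea.1
    (inf_le_left.trans VR) (inf_le_left.trans VR)))) (le_bot_iff.1 (h0 ▸ fun w hw => ⟨hw.1.1,
      mem_centralizer_singleton_comm.1 ((mul_mem_cancel_left
        (mem_centralizer_singleton_comm.1 hw.1.2)).1 (mul_assoc x z z ▸
          mem_centralizer_singleton_comm.1 hw.2.2))⟩)), h1 _ (mem_zpowers z), h1 _ zz] at h8
  have h9 := (card_le_of_le (commutator_mono VR le_rfl)).trans h16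
  have h10 : Nat.card ↥(V ⊓ C1[x]) = 4 := by nlinarith
  rw [h10] at h5 h8
  refine ⟨eq_three h h5, ?_, h10⟩
  rw [card_W h hx VR xV, h10, le_antisymm h9 h8]

theorem W_ne : ⁅R, zpowers ⁅x, y⁆⁆ ≠ ⊥ := fun e =>
  z1 (eq_one_of h (comm_Z h he hc hx hy).1 (e ▸ bot_le))

theorem irr_top : p = 3 ∧ Nat.card ↥⁅R, zpowers ⁅x, y⁆⁆ = 64 ∧
    Nat.card ↥(⁅R, zpowers ⁅x, y⁆⁆ ⊓ C1[x]) = 4 :=
  irr h he hc hx hy z1 h16 le_rfl (W_ne h he hc hx hy z1 h16)
    (norm_WZ h he hc (comm_Z h he hc hx hy) hx) (norm_WZ h he hc (comm_Z h he hc hx hy) hy)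

theorem cent_or {g : X} (hg : g ∈ P) (g1 : ⁅g, x⁆ ∈ C[⁅R, zpowers ⁅x, y⁆⁆])
    (g2 : ⁅g, y⁆ ∈ C[⁅R, zpowers ⁅x, y⁆⁆]) (h0 : ⁅R, zpowers ⁅x, y⁆⁆ ⊓ C1[g] ≠ ⊥) :
    g ∈ C[⁅R, zpowers ⁅x, y⁆⁆] := by
  have PW := norm_WZ h he hc (comm_Z h he hc hx hy)
  have h1 : ∀ a ∈ P, ⁅g, a⁆ ∈ C[⁅R, zpowers ⁅x, y⁆⁆] → a ∈ N[⁅R, zpowers ⁅x, y⁆⁆ ⊓ C1[g]] :=
    fun a ha e => centralizer_zpowers g ▸ Tu.norm_fix (zpowers_le.2 (PW ha))
      (commutator_zpowers_zpowers_le (le_normalizer_centralizer PW hg)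
        (le_normalizer_centralizer PW ha) e) (mem_zpowers a)
  exact mem_centralizer_iff_le.2 ((eq_of_le_of_card_ge inf_le_left (by
    rw [(irr h he hc hx hy z1 h16 inf_le_left h0 (h1 x hx g1) (h1 y hy g2)).2.1,
      (irr_top h he hc hx hy z1 h16).2.1])).ge.trans inf_le_right)

theorem rk {g : X} (hg : g ∈ P) (g1 : ⁅g, x⁆ ∈ C[⁅R, zpowers ⁅x, y⁆⁆])
    (g2 : ⁅g, y⁆ ∈ C[⁅R, zpowers ⁅x, y⁆⁆]) :
    g ∈ zpowers ⁅x, y⁆ ⊔ P ⊓ C[⁅R, zpowers ⁅x, y⁆⁆] := by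
  have hz := comm_Z h he hc hx hy
  have PW := norm_WZ h he hc hz
  by_cases hn : g ∈ zpowers ⁅x, y⁆
  · exact mem_sup_left hn
  obtain ⟨a, ha, c, hc', e1, h2⟩ := two_gen h hg hz.1 (he _ hg) (he _ hz.1) z1 (hz.2 g hg) hn
    (W_le h hz.1) (W_ne h he hc hx hy z1 h16) (PW hg) (PW hz.1)
  have h3 : ∀ t ∈ P, ⁅g, t⁆ ∈ C[⁅R, zpowers ⁅x, y⁆⁆] → ⁅a * c, t⁆ ∈ C[⁅R, zpowers ⁅x, y⁆⁆] :=
    fun t ht e => (mul_mem (zpowers_le (H := Tu.cm t _).2 ⟨le_normalizer_centralizer PW hg, e⟩ ha)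
      (zpowers_le (H := Tu.cm t _).2 ⟨le_normalizer_centralizer PW hz.1, by
        rw [commutatorElement_eq_one_iff_mul_comm.2 (hz.2 t ht).symm]; exact one_mem _⟩ hc')).2
  have h4 := mul_mem (zpowers_le.2 hg ha) (zpowers_le.2 hz.1 hc')
  have h5 := cent_or h he hc hx hy z1 h16 h4 (h3 x hx g1) (h3 y hy g2) h2
  have a1 : a ≠ 1 := fun e => h2 (by
    rw [e, one_mul] at e1 ⊢
    exact le_bot_iff.1 (W_ti h hz.1 ▸ inf_le_inf_left _ fun w hw => mem_centralizer_singleton_comm.1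
      (zpowers_le.2 (mem_centralizer_singleton_comm.1 hw) (zp_symm h (he _ hz.1) e1 hc'))))
  exact zpowers_le.2 ((mul_mem_cancel_right (mem_sup_left hc')).1 (mem_sup_right (mem_inf.2 ⟨h4, h5⟩)))
    (zp_symm h (he _ hg) a1 ha)

theorem rkZ {g : X} (hg : g ∈ Z[P]) : g ∈ zpowers ⁅x, y⁆ ⊔ P ⊓ C[⁅R, zpowers ⁅x, y⁆⁆] :=
  rk h he hc hx hy z1 h16 hg.1
    (by rw [commutatorElement_eq_one_iff_mul_comm.2 (hg.2 x hx).symm]; exact one_mem _)
    (by rw [commutatorElement_eq_one_iff_mul_comm.2 (hg.2 y hy).symm]; exact one_mem _)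

theorem indep {z : X} (hz : z ∈ Z[P]) (h64 : Nat.card ↥⁅R, zpowers z⁆ = 64)
    (hn : z ∉ zpowers ⁅x, y⁆) : z ∈ C[⁅R, zpowers ⁅x, y⁆⁆] := by
  have hz' := comm_Z h he hc hx hy
  have PW := norm_WZ h he hc hz'
  refine cent_or h he hc hx hy z1 h16 hz.1
    (by rw [commutatorElement_eq_one_iff_mul_comm.2 (hz.2 x hx).symm]; exact one_mem _)
    (by rw [commutatorElement_eq_one_iff_mul_comm.2 (hz.2 y hy).symm]; exact one_mem _) fun e => ?_
  have h1 := eq_of_le_of_card_ge ((le_W h hz.1 (W_le h hz'.1) (PW hz.1) e).ge.trans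
    (commutator_mono (W_le h hz'.1) le_rfl)) (by rw [h64, (irr_top h he hc hx hy z1 h16).2.1])
  obtain ⟨v, hv, c, hc', rfl⟩ := (mem_sup_of_le_normalizer (zpowers_le.2
    (le_normalizer_inf le_normalizer (le_normalizer_centralizer PW) hz'.1))).1
    (rkZ h he hc hx hy z1 h16 hz)
  have h2 : R ⊓ C1[⁅x, y⁆] ≤ C[zpowers (v * c)] := le_cent_of_commutator_eq_bot (le_bot_iff.1
    (W_ti h hz'.1 ▸ le_inf (h1 ▸ commutator_mono inf_le_left le_rfl) (commutator_le_of_le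
      inf_le_right (zpowers_le.2 (centralizer_le_centralizer_singleton hz'.1 hz.2)))))
  have h3 : c ∈ C[R] := by
    rw [← sup_W h hz'.1, centralizer_sup]
    exact ⟨hc'.2, (mul_mem_cancel_left (zpowers_le.2 (mem_centralizer_iff_le.2 inf_le_right) hv)).1
      (cent_symm h2 (mem_zpowers _))⟩
  rw [mem_bot.1 (h.faith ▸ ⟨hc'.1, h3⟩ : c ∈ ⊥), mul_one] at hn
  exact hn hv

theorem fix_B {B : Subgroup X} (BA : B ≤ A) (hB : B ≤ C1[⁅x, y⁆]) :
    B ≤ C[⁅R, zpowers ⁅x, y⁆⁆ ⊓ C1[x]] := by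
  have hz := comm_Z h he hc hx hy
  have PW := norm_WZ h he hc hz
  obtain ⟨p3, -, c4⟩ := irr_top h he hc hx hy z1 h16
  set W := ⁅R, zpowers ⁅x, y⁆⁆
  have hB' : B ≤ C[zpowers ⁅x, y⁆] := centralizer_zpowers ⁅x, y⁆ ▸ hB
  have BW : B ≤ N[W] := le_normalizer_commutator (BA.trans h.AR) (le_normalizer_of_le_centralizer hB')
  have BP := BA.trans h.AP
  have BC : B ≤ N[P ⊓ C[W]] := le_normalizer_inf BP (le_normalizer_centralizer BW)
  have PC : P ≤ N[P ⊓ C[W]] := le_normalizer_inf le_normalizer (le_normalizer_centralizer PW)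
  set K := zpowers ⁅x, y⁆ ⊔ P ⊓ C[W]
  have KP : K ≤ P := sup_le (zpowers_le.2 hz.1) inf_le_left
  have h1 : ⁅P, P⁆ ≤ K := commutator_le.2 fun a ha b hb =>
    rkZ h he hc hx hy z1 h16 (comm_Z h he hc ha hb)
  have PK : P ≤ N[K] := H67.le_normalizer_of_commutator_le h1 KP
  have BK : B ≤ N[K] := le_normalizer_sup (le_normalizer_of_le_centralizer hB') BC
  have adj : ∀ a ∈ P, ∀ b ∈ P, zpowers ⁅b, a⁆ = zpowers ⁅x, y⁆ → ∀ g ∈ P,
      ∃ t ∈ zpowers b, ⁅g * t, a⁆ ∈ C[W] := fun a ha b hb e g hg => by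
    obtain ⟨v, hv, c, hc', h2⟩ := (mem_sup_of_le_normalizer (zpowers_le.2 (PC hz.1))).1
      (h1 (commutator_mem_commutator hg ha))
    obtain ⟨t, ht, h3⟩ := exists_comm h he hc ha hb (e ▸ inv_mem hv)
    refine ⟨t, ht, ?_⟩
    rw [commutatorElement_mul_left', h3, ← h2, (inv_mem (zpowers_le.2 hz hv)).2 g hg]
    simpa [mul_assoc] using hc'.2
  have h2 : P ≤ K ⊔ (zpowers x ⊔ zpowers y) := fun g hg => by
    obtain ⟨t, ht, h2⟩ := adj x hx y hy (by rw [← commutatorElement_inv, zpowers_inv]) g hg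
    have h3 := mul_mem hg (zpowers_le.2 hy ht)
    obtain ⟨s, hs, h4⟩ := adj y hy x hx rfl _ h3
    have h5 := rk h he hc hx hy z1 h16 (mul_mem h3 (zpowers_le.2 hx hs)) (by
      obtain ⟨k, rfl⟩ := hs
      rw [commutatorElement_mul_left', commutatorElement_eq_one_iff_commute.2
        (Commute.zpow_self x k)]
      simpa using h2) h4
    exact (mul_mem_cancel_right (mem_sup_right (mem_sup_right ht))).1
      ((mul_mem_cancel_right (mem_sup_right (mem_sup_left hs))).1 (mem_sup_left h5))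
  have h3 : Nat.card (P /ᵍ K) ∣ 9 := by
    have xK := zpowers_le.2 (PK hx)
    have yK := zpowers_le.2 (PK hy)
    have h3 := (quo_le_quo_iff PK (sup_le xK yK)).2 h2
    have h4 : ∀ a ∈ P, Nat.card (zpowers a /ᵍ K) ∣ 3 := fun a ha => (card_quo_dvd _ _).trans (by
      rw [Nat.card_zpowers]; exact orderOf_dvd_of_pow_eq_one (p3 ▸ he a ha))
    rw [quo_sup xK yK] at h3
    exact (card_dvd_of_le' h3).trans ((card_sup_dvd (Or.inl (le_normalizer_of_le_centralizer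
      (le_cent_of_comm (quo_isMulCommutative_of_der_le h1) (quo_mono _ (zpowers_le.2 hx))
        (quo_mono _ (zpowers_le.2 hy)))))).trans (Nat.mul_dvd_mul (h4 x hx) (h4 y hy)))
  have d1 := card_dvd_of_le' BA
  have d2 := (card_quo_dvd B K).trans d1
  have h4 : ⁅B, P⁆ ≤ K := (quo_cents_iff BK PK).1 (cent_six (quo_norms K BP)
    ((c2 h).coprime_dvd_left d2) (Or.inl ⟨p3 ▸ (cp h).coprime_dvd_left d2, Or.inr h3⟩))
  have h5 : ⁅B, P⁆ ≤ C[W] := by
    rw [commutator_comm] at h4 ⊢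
    rw [← coprime_commGid BP (H30.Flav.cop_pn h.pp h.pP ((cp h).coprime_dvd_left d1).symm).symm
      (Or.inr (sol_p h.pp h.pP))]
    exact ((commutator_mono h4 le_rfl).trans (commutator_sup_left_le (zpowers_le.2 (PC hz.1))
      le_normalizer ((commutator_eq_bot_of_cent' hB').le.trans bot_le)
      (commutator_le_of_norm_left BC))).trans inf_le_right
  exact cent_six (centralizer_zpowers x ▸ Tu.norm_fix BW ((commutator_comm _ _).le.trans
    ((commutator_mono le_rfl (zpowers_le.2 hx)).trans h5))) ((c2 h).coprime_dvd_left d1)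
    (Or.inl ⟨p3 ▸ (cp h).coprime_dvd_left d1, Or.inl c4.dvd⟩)

theorem sp_false : False := by
  have hz := comm_Z h he hc hx hy
  obtain ⟨p3, c64, c4⟩ := irr_top h he hc hx hy z1 h16
  obtain ⟨w, hw, w1⟩ := exists_ne_one_of_ne_bot fun e : ⁅R, zpowers ⁅x, y⁆⁆ ⊓ C1[x] = ⊥ => by
    simp [e] at c4
  have AZ := h.AP.trans (normalizer_le_normalizer_center P)
  refine w1 (nt h le_rfl AZ hz hw.1 (fun a ha hn => ?_) fun a ha hn => ?_)
  · have h1 := cent_zp h (Or.inl p3) ha z1 (he _ hz.1) hn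
    exact ⟨h1, (fix_B h he hc hx hy z1 h16 (zpowers_le.2 ha)
      (zpowers_le.2 (mem_centralizer_singleton_iff.2 h1)) (mem_zpowers a) w hw).symm⟩
  have h1 := conj_mem_of_mem_normalizer (AZ ha) hz
  refine ⟨indep h he hc hx hy z1 h16 h1 ((card_W_cj (h.AR ha) _).trans c64) (not_mem_cj hn), ?_⟩
  have h2 := indep h he hc (conj_mem_of_mem_normalizer (h.AP ha) hx)
    (conj_mem_of_mem_normalizer (h.AP ha) hy) (by
      rw [← conjugate_commutatorElement]; simpa using z1) ((card_W_cj (h.AR ha) _).le.trans h16) hz c64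
    (by rw [← conjugate_commutatorElement]
        exact fun e => not_mem_cj hn (zp_symm h (he _ h1.1) z1 e))
  rw [← conjugate_commutatorElement, ← cj_W (h.AR ha)] at h2
  exact mem_centralizer_iff_le.1 h2 (conj_mem_cj hw.1)

end Core

theorem coreSp : CoreSpStmt.{u} := by
  intro X _ _ p A R P N h he hc b hb hs hbZ g hg
  by_contra hn
  have hx := commutator_le_of_norm_left (zpowers_le.2 (h.NP hb))
    (commutator_mem_commutator hg (mem_zpowers b))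
  have hi := inv_comm h hb hs hg
  refine hn (commutatorElement_eq_one_iff_mul_comm.1 (one_of_inv h hx ?_))
  rw [← hi, ← hbZ _ ⟨hx, fun y hy => ?_⟩, mul_inv_cancel_right]
  by_contra h1
  exact sp_false h he hc hx hy (fun e => h1 (commutatorElement_eq_one_iff_mul_comm.1 e).symm)
    (le16 h hs hx hi).1

end Cfsg.Agent.H88.FP
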