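import Cfsg.Agent.H37.FkO

/-! Sylow `2`-subgroups of orthogonal groups: generation by involutions, normalisers. -/

set_option autoImplicit false
set_option linter.unusedSectionVars false

namespace Cfsg.Agent.H88.FkO

open Cfsg Subgroup QuadraticMap Module Cfsg.Agent.H30 Cfsg.Agent.H37.FK

variable {F V : Type} [Field F] [AddCommGroup V] [Module F V] {Q : QuadraticForm F V}

theorem mem_pl {x y v : V} : v ∈ pl (F := F) x y ↔ ∃ a b : F, a • x + b • y = v :=
  Submodule.mem_span_pair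

theorem l_mem (x y : V) : x ∈ pl (F := F) x y := mem_pl.2 ⟨1, 0, by simp⟩

theorem r_mem (x y : V) : y ∈ pl (F := F) x y := mem_pl.2 ⟨0, 1, by simp⟩

theorem polar_pl {x y v w : V} (hv : v ∈ pl (F := F) x y) (h1 : polar Q w x = 0)
    (h2 : polar Q w y = 0) : polar Q w v = 0 := by
  obtain ⟨a, b, rfl⟩ := mem_pl.1 hv
  rw [polar_add_right, polar_smul_right', polar_smul_right', h1, h2]; simp

section ind

variable {k : ℕ} {e f : Fin k → V}

theorem orth (h : ONP Q e f) {i j : Fin k} (ne : i ≠ j) {v w : V}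
    (hv : v ∈ pl (F := F) (e i) (f i)) (hw : w ∈ pl (F := F) (e j) (f j)) : polar Q v w = 0 := by
  refine polar_pl hw ?_ ?_ <;> rw [polar_comm] <;> refine polar_pl hv ?_ ?_
  · exact h.ee _ _ ne.symm
  · exact h.ef _ _
  · rw [polar_comm]; exact h.ef _ _
  · exact h.ff _ _ ne.symm

theorem idx_eq (h2 : (2 : F) ≠ 0) (h : ONP Q e f) {i j : Fin k} {v : V} (q : Q v ≠ 0)
    (hv : v ∈ pl (F := F) (e i) (f i)) (hw : v ∈ pl (F := F) (e j) (f j)) : i = j := by
  by_contra ne
  have := orth h ne hv hw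
  rw [polar_self'] at this
  exact mul_ne_zero h2 q this

theorem ind_one : OInd Q e f 1 1 := fun _ _ => Iff.rfl

theorem ind_mul {g h : O Q} {π σ : Equiv.Perm (Fin k)} (hg : OInd Q e f g π)
    (hh : OInd Q e f h σ) : OInd Q e f (g * h) (π * σ) :=
  fun i v => (hh i v).trans (hg (σ i) (h.1 v))

theorem ind_inv {g : O Q} {π : Equiv.Perm (Fin k)} (hg : OInd Q e f g π) :
    OInd Q e f g⁻¹ π⁻¹ := fun i v => by
  have := hg (π⁻¹ i) ((g⁻¹).1 v)
  rw [O_apply_inv, show π (π⁻¹ i) = i by simp] at this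
  exact this.symm

theorem ind_pow {g : O Q} {π : Equiv.Perm (Fin k)} (hg : OInd Q e f g π) (n : ℕ) :
    OInd Q e f (g ^ n) (π ^ n) := by
  induction n with
  | zero => simpa using ind_one
  | succ n ih => rw [pow_succ, pow_succ]; exact ind_mul ih hg

theorem ind_uniq (h2 : (2 : F) ≠ 0) (h : ONP Q e f) {g : O Q} {π σ : Equiv.Perm (Fin k)}
    (hg : OInd Q e f g π) (hh : OInd Q e f g σ) : π = σ :=
  Equiv.ext fun i => idx_eq h2 h (v := g.1 (e i)) (by rw [O_map, h.qe]; exact one_ne_zero)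
    ((hg i _).1 (l_mem _ _)) ((hh i _).1 (l_mem _ _))

theorem sylIn (P : Sylow 2 (Equiv.Perm (Fin k))) :
    H98.SylIn 2 (P : Subgroup (Equiv.Perm (Fin k))) (colStab fun _ : Fin k => ()) :=
  ⟨fun _ _ _ => rfl, P.isPGroup', fun _ _ hU le => P.is_maximal' hU le⟩

end ind

theorem refl_comm {x y : V} (h : polar Q y x = 0) : Commute (refl Q x) (refl Q y) := by
  rw [Commute, SemiconjBy, mul_refl, refl_apply_of_orth h]

section o3

variable [Fintype F] [FiniteDimensional F V] {S : Subgroup (O Q)}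

/-- the subgroup generated by the involutions of `S ∩ Ω` -/
abbrev LL (S : Subgroup (O Q)) : Subgroup (O Q) :=
  closure {x | x ∈ S ⊓ commutator (O Q) ∧ x * x = 1}

theorem LL_le : LL S ≤ S ⊓ commutator (O Q) := (closure_le _).2 fun _ h => h.1

theorem LL_conj {s l : O Q} (hs : s ∈ S) (hl : l ∈ LL S) : s * l * s⁻¹ ∈ LL S := by
  induction hl using closure_induction with
  | mem x hx =>
    refine subset_closure ⟨⟨S.mul_mem (S.mul_mem hs hx.1.1) (S.inv_mem hs),
      (inferInstance : (commutator (O Q)).Normal).conj_mem _ hx.1.2 _⟩, ?_⟩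
    calc s * x * s⁻¹ * (s * x * s⁻¹) = s * (x * x) * s⁻¹ := by group
      _ = 1 := by rw [hx.2]; group
  | one => simp
  | mul x y _ _ hx hy =>
    have := (LL S).mul_mem hx hy
    rwa [show s * x * s⁻¹ * (s * y * s⁻¹) = s * (x * y) * s⁻¹ by group] at this
  | inv x _ hx =>
    have := (LL S).inv_mem hx
    rwa [show (s * x * s⁻¹)⁻¹ = s * x⁻¹ * s⁻¹ by group] at this

theorem pair_mem (hQ : (polarBilin Q).Nondegenerate) {x y : V} (hx : Q x ≠ 0) (hy : Q y ≠ 0)
    (sx : refl Q x ∈ S) (sy : refl Q y ∈ S) (sq : IsSquare (Q x * Q y)) (o : polar Q x y = 0) :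
    refl Q x * refl Q y ∈ LL S := by
  refine subset_closure ⟨⟨S.mul_mem sx sy, ?_⟩, ?_⟩
  · obtain ⟨y', h1, h3⟩ := exists_refl_eq_of_isSquare hx hy sq
    exact h3 ▸ refl_mul_refl_mem_commutator hQ (h1 ▸ hy) h1
  · have c := (refl_comm (Q := Q) o).eq
    calc refl Q x * refl Q y * (refl Q x * refl Q y)
        = refl Q x * (refl Q y * refl Q x) * refl Q y := by group
      _ = 1 := by rw [c, ← mul_assoc, refl_mul_self, one_mul, refl_mul_self]

theorem third {k : ℕ} (h : 3 ≤ k) (i j : Fin k) : ∃ l, l ≠ i ∧ l ≠ j := by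
  by_contra hc
  push Not at hc
  have : (Finset.univ : Finset (Fin k)) ⊆ {i, j} := fun l _ => by
    by_cases e : l = i
    · simp [e]
    · simp [hc l e]
  have h1 := Finset.card_le_card this
  have h3 := Finset.card_le_two (a := i) (b := j)
  rw [Finset.card_univ, Fintype.card_fin] at h1
  omega

theorem cq (D : ODec Q S) (i : Fin D.k) : Q (D.c i) ≠ 0 := fun h => D.cns i (h ▸ ⟨0, by simp⟩)

theorem refl_step (hQ : (polarBilin Q).Nondegenerate) (D : ODec Q S) (hk : 3 ≤ D.k)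
    (z : Fin D.k → V) (zm : ∀ i, z i ∈ pl (F := F) (D.e i) (D.f i)) (zq : ∀ i, Q (z i) ≠ 0)
    (zs : ∀ i, refl Q (z i) ∈ S) (zz : ∀ i j, IsSquare (Q (z i) * Q (z j))) {x : V}
    (hx : Q x ≠ 0) (sx : refl Q x ∈ S) (xz : ∀ i, IsSquare (Q x * Q (z i)))
    (w : (∃ i, x ∈ pl (F := F) (D.e i) (D.f i)) ∨ ∃ j, x = D.v j) (i0 : Fin D.k) :
    refl Q x * refl Q (z i0) ∈ LL S := by
  obtain ⟨l, hl, o⟩ : ∃ l, l ≠ i0 ∧ polar Q x (z l) = 0 := by
    rcases w with ⟨i, hi⟩ | ⟨j, rfl⟩
    · obtain ⟨l, h1, h3⟩ := third hk i i0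
      exact ⟨l, h3, orth D.on h1.symm hi (zm l)⟩
    · obtain ⟨l, h1, -⟩ := third hk i0 i0
      exact ⟨l, h1, polar_pl (zm l) (D.ve _ _) (D.vf _ _)⟩
  have := (LL S).mul_mem (pair_mem hQ hx (zq l) sx (zs l) (xz l) o)
    (pair_mem hQ (zq l) (zq i0) (zs l) (zs i0) (zz _ _) (orth D.on hl (zm l) (zm i0)))
  rwa [mul_assoc, ← mul_assoc (refl Q (z l)), refl_mul_self, one_mul] at this

theorem o3_main (sym : SymStmt.{0, 0}) (hQ : (polarBilin Q).Nondegenerate) (D : ODec Q S)
    (hk : 3 ≤ D.k) : S ⊓ commutator (O Q) ≤ LL S := by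
  intro s hs
  have lift : ∀ π ∈ (D.P : Subgroup (Equiv.Perm (Fin D.k))), ∃ l ∈ LL S, OInd Q D.e D.f l π := by
    intro π hπ
    have := (sym _ _ _ _ (sylIn D.P)).1 hπ
    clear hπ
    induction this using closure_induction with
    | mem x hx =>
      obtain ⟨t, h1, h3, h4, h5, -⟩ := D.lift x hx.1 hx.2
      exact ⟨t, subset_closure ⟨⟨h1, h3⟩, h4⟩, h5⟩
    | one => exact ⟨1, one_mem _, ind_one⟩
    | mul x y _ _ hx hy =>
      obtain ⟨a, h1, h3⟩ := hx
      obtain ⟨b, h4, h5⟩ := hy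
      exact ⟨a * b, mul_mem h1 h4, ind_mul h3 h5⟩
    | inv x _ hx =>
      obtain ⟨a, h1, h3⟩ := hx
      exact ⟨a⁻¹, inv_mem h1, ind_inv h3⟩
  obtain ⟨π, hπ, iπ⟩ := D.perm s hs.1
  obtain ⟨l, hl, il⟩ := lift π hπ
  have hs' : l⁻¹ * s ∈ S ⊓ commutator (O Q) := mul_mem (inv_mem (LL_le hl)) hs
  have b0 := D.base _ hs'.1 (by simpa using ind_mul (ind_inv il) iπ)
  let i0 : Fin D.k := ⟨0, by omega⟩
  let i1 : Fin D.k := ⟨1, by omega⟩
  set a := refl Q (D.e i0) with ha
  set b := refl Q (D.c i1) with hb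
  have cab : Commute a b := refl_comm (orth D.on (by simp [i0, i1]) (D.cmem i1) (l_mem _ _))
  have uS : ∀ i j : ℕ, a ^ i * b ^ j ∈ S := fun i j =>
    mul_mem (pow_mem (D.re _) _) (pow_mem (D.rc _) _)
  have uu : ∀ i j : ℕ, a ^ i * b ^ j * (a ^ i * b ^ j) = 1 := fun i j => by
    rw [(cab.symm.pow_pow j i).mul_mul_mul_comm, ← (Commute.refl a).mul_pow,
      ← (Commute.refl b).mul_pow, refl_mul_self, refl_mul_self]
    simp
  have key : ∀ x ∈ closure {r | r ∈ S ∧ ∃ x, Q x ≠ 0 ∧ r = refl Q x ∧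
      ((∃ i, x ∈ pl (F := F) (D.e i) (D.f i)) ∨ ∃ j, x = D.v j)},
      ∃ i j : ℕ, x * (a ^ i * b ^ j) ∈ LL S := by
    intro x hx
    induction hx using closure_induction with
    | mem x hx =>
      obtain ⟨sx, y, hy, rfl, w⟩ := hx
      by_cases sq : IsSquare (Q y)
      · refine ⟨1, 0, ?_⟩
        simpa using refl_step hQ D hk D.e (fun _ => l_mem _ _)
          (fun i => by rw [D.on.qe]; exact one_ne_zero) D.re
          (fun i j => by simp [D.on.qe]) hy sx (fun i => by simpa [D.on.qe] using sq) w i0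
      · refine ⟨0, 1, ?_⟩
        simpa using refl_step hQ D hk D.c D.cmem (cq D) D.rc
          (fun i j => isSquare_mul_of_not (D.cns i) (D.cns j)) hy sx
          (fun i => isSquare_mul_of_not sq (D.cns i)) w i1
    | one => exact ⟨0, 0, by simp⟩
    | mul x y _ _ hx hy =>
      obtain ⟨i, j, h1⟩ := hx
      obtain ⟨i', j', h3⟩ := hy
      refine ⟨i' + i, j' + j, ?_⟩
      have := mul_mem h1 (LL_conj (inv_mem (uS i j)) h3)
      rw [pow_add, pow_add, ← (cab.symm.pow_pow j' i).mul_mul_mul_comm]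
      convert this using 1
      group
    | inv x _ hx =>
      obtain ⟨i, j, h1⟩ := hx
      have xS : x ∈ S := by
        have := S.mul_mem (LL_le h1).1 (S.inv_mem (uS i j))
        rwa [mul_inv_cancel_right] at this
      refine ⟨i, j, ?_⟩
      have := LL_conj (inv_mem xS) ((LL S).inv_mem h1)
      rw [mul_inv_rev, inv_eq_of_mul_eq_one_right (uu i j)] at this
      convert this using 1
      group
  obtain ⟨i, j, h⟩ := key _ b0
  have h1 : a ^ i * b ^ j ∈ LL S := by
    refine subset_closure ⟨?_, uu i j⟩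
    have := mul_mem (inv_mem hs') (LL_le h)
    rwa [inv_mul_cancel_left] at this
  have := mul_mem hl (mul_mem h (inv_mem h1))
  rwa [mul_inv_cancel_right, mul_inv_cancel_left] at this

theorem o3 (sym : SymStmt.{0, 0}) : O3Stmt :=
  fun _ _ _ _ _ _ _ _ _ hQ _ D hk => o3_main sym hQ D hk

end o3

section o5

theorem fix_of_odd {g : O Q} (ho : Odd (orderOf g)) {v : V} (n : ℕ)
    (h : (g ^ 2 ^ n).1 v = v) : g.1 v = v := by
  obtain ⟨m, hm⟩ := exists_pow_eq_self_of_coprime (x := g) (n := 2 ^ n)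
    (Nat.Coprime.pow_left _ (Nat.coprime_two_left.2 ho))
  have : g ^ 2 ^ n ∈ MulAction.stabilizer (O Q) v := h
  have h1 := pow_mem this m
  rwa [hm] at h1

variable {S : Subgroup (O Q)}

theorem refl_loc (h2 : (2 : F) ≠ 0) (D : ODec Q S) {x : V} (hx : Q x ≠ 0) (sx : refl Q x ∈ S) :
    (∃ i, x ∈ pl (F := F) (D.e i) (D.f i)) ∨ ∃ j, ∃ t : F, x = t • D.v j := by
  obtain ⟨π, -, iπ⟩ := D.perm _ sx
  have fx : ∀ i, π i = i := fun i => by
    by_contra ne
    have he := (iπ i _).1 (l_mem _ _)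
    have hf := (iπ i _).1 (r_mem _ _)
    have h1 := orth D.on ne he (l_mem _ _)
    have h3 := orth D.on ne he (r_mem _ _)
    have h4 := orth D.on ne hf (r_mem _ _)
    rw [refl_apply, polar_sub_left, polar_smul_left'] at h1 h3 h4
    rw [polar_self', D.on.qe] at h1
    rw [D.on.ef, zero_sub, neg_eq_zero] at h3
    rw [polar_self', D.on.qf] at h4
    rcases mul_eq_zero.1 h3 with h5 | h5
    · rw [h5] at h1; exact h2 (by simpa using h1)
    · rw [h5] at h4; exact h2 (by simpa using h4)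
  by_contra hc
  push Not at hc
  have pl0 : ∀ i, ∀ u ∈ pl (F := F) (D.e i) (D.f i), polar Q u x = 0 := fun i u hu => by
    by_contra ne
    have h1 := (iπ i _).1 hu
    rw [fx, refl_apply] at h1
    have h3 := Submodule.sub_mem _ hu h1
    rw [sub_sub_cancel] at h3
    exact hc.1 i ((Submodule.smul_mem_iff _ (mul_ne_zero (inv_ne_zero hx) ne)).1 h3)
  have v0 : ∀ j, polar Q (D.v j) x = 0 := fun j => by
    by_contra ne
    have c0 := mul_ne_zero (inv_ne_zero hx) ne
    rcases D.fix _ sx j with h | h <;> rw [refl_apply] at h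
    · rw [sub_eq_self, smul_eq_zero] at h
      exact h.elim c0 (ne_zero_of_Q_ne_zero hx)
    · refine hc.2 j (((Q x)⁻¹ * polar Q (D.v j) x)⁻¹ * 2) ?_
      rw [mul_smul, eq_inv_smul_iff₀ c0, two_smul, ← sub_neg_eq_add, ← h, sub_sub_cancel]
  have : x ∈ perp Q ⊤ := by
    rw [← D.top, mem_perp_span]
    rintro w ((⟨i, rfl⟩ | ⟨i, rfl⟩) | ⟨j, rfl⟩)
    exacts [pl0 i _ (l_mem _ _), pl0 i _ (r_mem _ _), v0 j]
  have h1 := mem_perp.1 this x trivial
  rw [polar_self'] at h1
  exact mul_ne_zero h2 hx h1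

theorem plane_into (h2 : (2 : F) ≠ 0) (D : ODec Q S) {g : O Q}
    (hg : ∀ x ∈ S, g * x * g⁻¹ ∈ S) (i : Fin D.k) :
    ∃ j, ∀ u ∈ pl (F := F) (D.e i) (D.f i), g.1 u ∈ pl (F := F) (D.e j) (D.f j) := by
  have q1 : Q (g.1 (D.e i)) = 1 := by rw [O_map, D.on.qe]
  have q3 : Q (g.1 (D.f i)) = 1 := by rw [O_map, D.on.qf]
  have q2 : Q (g.1 (D.e i - D.f i)) = 2 := by
    rw [O_map, Q_sub, D.on.qe, D.on.qf, D.on.ef]; norm_num
  have po : polar Q (g.1 (D.e i)) (g.1 (D.e i - D.f i)) = 2 := by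
    rw [O_polar, polar_sub_right, polar_self', D.on.qe, D.on.ef]; norm_num
  have l1 := refl_loc h2 D (q1 ▸ one_ne_zero) (refl_conj g _ ▸ hg _ (D.re i))
  have l2 := refl_loc h2 D (q2 ▸ h2) (refl_conj g _ ▸ hg _ (D.ref i))
  rcases l1 with ⟨j, hj⟩ | ⟨j, t, hj⟩ <;> rcases l2 with ⟨j', hj'⟩ | ⟨j', t', hj'⟩
  · obtain rfl : j = j' := by
      by_contra ne
      exact h2 (po ▸ orth D.on ne hj hj')
    have hf : g.1 (D.f i) ∈ pl (F := F) (D.e j) (D.f j) := by
      have := Submodule.sub_mem _ hj hj'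
      rwa [map_sub, sub_sub_cancel] at this
    refine ⟨j, fun u hu => ?_⟩
    obtain ⟨a, b, rfl⟩ := mem_pl.1 hu
    rw [map_add, map_smul, map_smul]
    exact Submodule.add_mem _ (Submodule.smul_mem _ _ hj) (Submodule.smul_mem _ _ hf)
  · refine absurd ?_ h2
    rw [← po, hj', polar_smul_right', polar_comm, polar_pl hj (D.ve _ _) (D.vf _ _), mul_zero]
  · refine absurd ?_ h2
    rw [← po, hj, polar_smul_left', polar_pl hj' (D.ve _ _) (D.vf _ _), mul_zero]
  · exfalso
    obtain rfl : j = j' := by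
      by_contra ne
      rw [hj, hj', polar_smul_left', polar_smul_right', (D.vv _ _ ne).1] at po
      exact h2 (by simpa using po.symm)
    have hf : g.1 (D.f i) = (t - t') • D.v j := by
      rw [sub_smul, ← hj, ← hj', map_sub, sub_sub_cancel]
    have p0 : polar Q (g.1 (D.e i)) (g.1 (D.f i)) = 0 := by rw [O_polar, D.on.ef]
    rw [hj, hf, polar_smul_left', polar_smul_right', polar_self'] at p0
    rw [hj, Q_smul] at q1
    rw [hf, Q_smul] at q3
    have : (2 : F) * 2 = 0 := by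
      linear_combination (t * ((t - t') * (2 * Q (D.v j)))) * p0
        - 4 * ((t - t') * (t - t') * Q (D.v j)) * q1 - 4 * q3
    exact mul_ne_zero h2 h2 this

theorem fix_plane (h2 : (2 : F) ≠ 0) (hS : IsPGroup 2 S) {g : O Q} (ho : Odd (orderOf g))
    (hg : ∀ x ∈ S, g * x * g⁻¹ ∈ S) {e f : V} (qe : Q e = 1) (qf : Q f = 1)
    (ef : polar Q e f = 0) (re : refl Q e ∈ S)
    (m : ∀ u, u ∈ pl (F := F) e f ↔ g.1 u ∈ pl (F := F) e f) :
    ∀ u ∈ pl (F := F) e f, g.1 u = u := by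
  obtain ⟨a, b, ge⟩ := mem_pl.1 ((m _).1 (l_mem e f))
  obtain ⟨c, d, gf⟩ := mem_pl.1 ((m _).1 (r_mem e f))
  have fe : polar Q f e = 0 := by rw [polar_comm, ef]
  have h1 : a * a + b * b = 1 := by
    have := O_map g e
    rw [← ge, Q_add, Q_smul, Q_smul, polar_smul_left', polar_smul_right', ef, qe, qf] at this
    linear_combination this
  have h3 : c * c + d * d = 1 := by
    have := O_map g f
    rw [← gf, Q_add, Q_smul, Q_smul, polar_smul_left', polar_smul_right', ef, qe, qf] at this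
    linear_combination this
  have h4 : a * c + b * d = 0 := by
    have := O_polar g e f
    rw [← ge, ← gf] at this
    simp only [polar_add_left, polar_add_right, polar_smul_left', polar_smul_right', polar_self',
      ef, fe, qe, qf] at this
    exact mul_left_cancel₀ h2 (by linear_combination this)
  have ext : ∀ h : O Q, h.1 e = e → h.1 f = f → ∀ u ∈ pl (F := F) e f, h.1 u = u := by
    intro h k1 k2 u hu
    obtain ⟨x, y, rfl⟩ := mem_pl.1 hu
    rw [map_add, map_smul, map_smul, k1, k2]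
  have hc : c = -(a * d - b * c) * b := by linear_combination (-c) * h1 + a * h4
  have hd : d = (a * d - b * c) * a := by linear_combination (-d) * h1 + b * h4
  have he : (a * d - b * c) * (a * d - b * c) = 1 := by
    linear_combination (c * c + d * d) * h1 + h3 - (a * c + b * d) * h4
  have ge' := ge.symm
  have gf' := gf.symm
  rcases mul_self_eq_one_iff.1 he with e1 | e1 <;> rw [e1] at hc hd <;> subst hc hd
  · have r1 : (refl Q e).1 e = -e := refl_apply_self (qe ▸ one_ne_zero)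
    have r2 : (refl Q e).1 f = f := refl_apply_of_orth fe
    have w := ext (refl Q e * g * refl Q e * g) (by
      simp only [O_mul_apply, ge', map_add, map_smul, r1, r2, map_neg, gf']
      linear_combination (norm := module) h1 • e) (by
      simp only [O_mul_apply, ge', map_add, map_smul, r1, r2, map_neg, gf']
      linear_combination (norm := module) h1 • f)
    have hh : refl Q e * (g * refl Q e * g⁻¹) ∈ S := mul_mem re (hg _ re)
    obtain ⟨n, hn⟩ := hS ⟨_, hh⟩
    have hn' : (refl Q e * (g * refl Q e * g⁻¹)) ^ 2 ^ n = 1 := congrArg Subtype.val hn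
    have mp : ∀ k : ℕ, ∀ u ∈ pl (F := F) e f, (g ^ k).1 u ∈ pl (F := F) e f := by
      intro k
      induction k with
      | zero => exact fun u hu => hu
      | succ k ih => exact fun u hu => by rw [pow_succ]; exact ih _ ((m u).1 hu)
    have st : ∀ k : ℕ, ∀ u ∈ pl (F := F) e f,
        ((refl Q e * (g * refl Q e * g⁻¹)) ^ k).1 ((g ^ (2 * k)).1 u) = u := by
      intro k
      induction k with
      | zero => exact fun u _ => rfl
      | succ k ih =>
        intro u hu
        rw [← O_mul_apply, show (refl Q e * (g * refl Q e * g⁻¹)) ^ (k + 1) * g ^ (2 * (k + 1)) =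
          (refl Q e * (g * refl Q e * g⁻¹)) ^ k * ((refl Q e * g * refl Q e * g) * g ^ (2 * k)) by
            rw [pow_succ]; group, O_mul_apply, O_mul_apply, w _ (mp _ u hu), ih u hu]
    intro u hu
    refine fix_of_odd ho (n + 1) ?_
    have := st (2 ^ n) u hu
    rwa [hn', ← pow_succ'] at this
  · have w := ext (g * g) (by
      simp only [O_mul_apply, ge', map_add, map_smul, gf']
      linear_combination (norm := module) h1 • e) (by
      simp only [O_mul_apply, ge', map_add, map_smul, gf']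
      linear_combination (norm := module) h1 • f)
    exact fun u hu => fix_of_odd ho 1 (by rw [pow_one, pow_two]; exact w u hu)

theorem o5_main (sym : SymStmt.{0, 0}) (h2 : (2 : F) ≠ 0) (hS : IsPGroup 2 S) (D : ODec Q S)
    {g : O Q} (hg : ∀ x ∈ S, g * x * g⁻¹ ∈ S) (ho : Odd (orderOf g)) : g = 1 := by
  have hp : ∀ n : ℕ, ∀ x ∈ S, g ^ n * x * (g ^ n)⁻¹ ∈ S := by
    intro n
    induction n with
    | zero => simp
    | succ n ih =>
      intro x hx
      have := hg _ (ih x hx)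
      rwa [show g * (g ^ n * x * (g ^ n)⁻¹) * g⁻¹ = g ^ (n + 1) * x * (g ^ (n + 1))⁻¹ by
        rw [pow_succ']; group] at this
  have hi : ∀ x ∈ S, g⁻¹ * x * g⁻¹⁻¹ ∈ S := by
    have : g⁻¹ = g ^ (orderOf g - 1) := by
      refine inv_eq_of_mul_eq_one_right ?_
      rw [← pow_succ', Nat.sub_add_cancel ho.pos, pow_orderOf_eq_one]
    rw [this]
    exact hp _
  choose φ hφ using plane_into h2 D hg
  choose ψ hψ using plane_into h2 D hi
  have q1 : ∀ i, Q (D.e i) ≠ 0 := fun i => D.on.qe i ▸ one_ne_zero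
  have l1 : ∀ i, ψ (φ i) = i := fun i => by
    have := hψ _ _ (hφ i _ (l_mem _ _))
    rw [O_inv_apply] at this
    exact idx_eq h2 D.on (q1 i) this (l_mem _ _)
  have l2 : ∀ i, φ (ψ i) = i := fun i => by
    have := hφ _ _ (hψ i _ (l_mem _ _))
    rw [O_apply_inv] at this
    exact idx_eq h2 D.on (q1 i) this (l_mem _ _)
  let π : Equiv.Perm (Fin D.k) := ⟨φ, ψ, l1, l2⟩
  have iπ : OInd Q D.e D.f g π := fun i v => ⟨hφ i v, fun h => by
    have := hψ _ _ h
    rwa [O_inv_apply, show ψ (π i) = i from l1 i] at this⟩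
  have p1 : π = 1 := by
    refine (sym _ _ _ _ (sylIn D.P)).2.1 π ?_ (fun x hx => ?_) fun _ => rfl
    · have := ind_pow iπ (orderOf g)
      rw [pow_orderOf_eq_one] at this
      exact ho.of_dvd_nat (orderOf_dvd_of_pow_eq_one (ind_uniq h2 D.on this ind_one))
    · obtain ⟨s, hs, is⟩ := D.onto x hx
      obtain ⟨σ, hσ, iσ⟩ := D.perm _ (hg s hs)
      exact ind_uniq h2 D.on iσ (ind_mul (ind_mul iπ is) (ind_inv iπ)) ▸ hσ
  rw [p1] at iπ
  have fp := fun i => fix_plane h2 hS ho hg (D.on.qe i) (D.on.qf i) (D.on.ef i i) (D.re i) (iπ i)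
  have fv : ∀ j, g.1 (D.v j) = D.v j := fun j => by
    rcases refl_loc h2 D (by rw [O_map]; exact D.vq j) (refl_conj g _ ▸ hg _ (D.rv j)) with
      ⟨i, hi⟩ | ⟨j', t, ht⟩
    · exact g.1.injective (fp i _ hi)
    · have q := O_map g (D.v j)
      rw [ht, Q_smul] at q
      obtain rfl : j = j' := by
        by_contra ne
        exact (D.vv _ _ ne).2 ⟨t * Q (D.v j'), by rw [← q]; ring⟩
      have tt : t * t = 1 := mul_right_cancel₀ (D.vq j) (by rw [q, one_mul])
      refine fix_of_odd ho 1 ?_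
      rw [pow_one, pow_two, O_mul_apply, ht, map_smul, ht, smul_smul, tt, one_smul]
  refine O_ext fun v => ?_
  have hv : v ∈ Submodule.span F (Set.range D.e ∪ Set.range D.f ∪ Set.range D.v) :=
    D.top ▸ Submodule.mem_top
  rw [O_one_apply]
  induction hv using Submodule.span_induction with
  | mem x hx =>
    rcases hx with (⟨i, rfl⟩ | ⟨i, rfl⟩) | ⟨j, rfl⟩
    exacts [fp i _ (l_mem _ _), fp i _ (r_mem _ _), fv j]
  | zero => simp
  | add x y _ _ hx hy => rw [map_add, hx, hy]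
  | smul a x _ hx => rw [map_smul, hx]

theorem o5 (sym : SymStmt.{0, 0}) (o2 : O2Stmt) : O5Stmt := by
  intro F V _ _ _ _ _ Q h2 hQ S g hg ho
  obtain ⟨D⟩ := o2 F V Q h2 hQ S
  exact o5_main sym h2 S.isPGroup' D hg ho

end o5

end Cfsg.Agent.H88.FkO
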