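import Cfsg.Agent.H88.FkO35

/-! The involutions of `Ω`. -/

set_option autoImplicit false
set_option linter.unusedSectionVars false

namespace Cfsg.Agent.H88.FkO

open Cfsg Subgroup QuadraticMap Module Cfsg.Agent.H30 Cfsg.Agent.H37.FK

variable {F V : Type} [Field F] [Fintype F] [AddCommGroup V] [Module F V] [FiniteDimensional F V]
  {Q : QuadraticForm F V}

theorem nd_pl (h2 : (2 : F) ≠ 0) {x y : V} (hx : Q x ≠ 0) (hy : Q y ≠ 0) (o : polar Q x y = 0) :
    NondegOn Q (pl x y) := by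
  intro v hv h
  obtain ⟨a, b, rfl⟩ := mem_pl.1 hv
  have h1 := h x (l_mem _ _)
  have h3 := h y (r_mem _ _)
  rw [polar_add_left, polar_smul_left', polar_smul_left', polar_self'] at h1 h3
  rw [polar_comm Q y x, o] at h1
  rw [o] at h3
  have ha : a = 0 := by simpa [h2, hx] using h1
  have hb : b = 0 := by simpa [h2, hy] using h3
  simp [ha, hb]

theorem rk_pl (x y : V) : finrank F (pl (F := F) x y) ≤ 2 := by
  classical
  exact (finrank_span_le_card ({x, y} : Set V)).trans (by simpa using Finset.card_le_two)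

theorem rr_apply {x y : V} (o : polar Q x y = 0) (v : V) : (refl Q x * refl Q y).1 v =
    v - ((Q x)⁻¹ * polar Q v x) • x - ((Q y)⁻¹ * polar Q v y) • y := by
  rw [O_mul_apply, refl_apply, refl_apply, polar_sub_left, polar_smul_left', polar_comm Q y x, o]
  module

theorem onb (h2 : (2 : F) ≠ 0) {x y : V} (hx : Q x ≠ 0) (hy : Q y ≠ 0) (o : polar Q x y = 0)
    (sq : IsSquare (Q x * Q y)) : ∃ x' y', Q x' = 1 ∧ Q y' = 1 ∧ polar Q x' y' = 0 ∧
      refl Q x * refl Q y = refl Q x' * refl Q y' := by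
  obtain ⟨s, hs⟩ := sq
  have s0 : s ≠ 0 := by rintro rfl; simp [hx, hy] at hs
  wlog e : Q x = Q y generalizing x s
  · have e' : Q ((s / Q x) • x) = Q y := by
      rw [Q_smul]; field_simp; linear_combination -hs
    rw [← refl_smul (div_ne_zero s0 hx) x]
    exact this (e' ▸ hy) (by rw [polar_smul_left', o, mul_zero]) (Q y) (by rw [e']) hy e'
  have li : LinearIndependent F ![x, y] := by
    rw [LinearIndependent.pair_iff]
    intro a b h
    have h1 := congrArg (fun v => polar Q v x) h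
    have h3 := congrArg (fun v => polar Q v y) h
    simp only [polar_add_left, polar_smul_left', polar_self', polar_comm Q y x, o,
      polar_zero_left] at h1 h3
    exact ⟨by simpa [h2, hx] using h1, by simpa [h2, hy] using h3⟩
  have rk : 2 ≤ finrank F (pl (F := F) x y) := by
    have := finrank_span_eq_card li
    rw [Matrix.range_cons, Matrix.range_cons, Matrix.range_empty, Set.union_empty,
      Set.singleton_union, Fintype.card_fin] at this
    exact this.ge
  obtain ⟨v, hv, q⟩ := (nd_pl h2 hx hy o).exists_Q_eq rk 1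
  obtain ⟨a, b, rfl⟩ := mem_pl.1 hv
  have o' : polar Q y x = 0 := by rw [polar_comm, o]
  rw [Q_add, Q_smul, Q_smul, polar_smul_left', polar_smul_right', o, e] at q
  have p0 : polar Q (a • x + b • y) ((-b) • x + a • y) = 0 := by
    simp only [polar_add_left, polar_add_right, polar_smul_left', polar_smul_right', polar_self',
      o, o', e]
    ring
  have q1 : Q (a • x + b • y) = 1 := by
    rw [Q_add, Q_smul, Q_smul, polar_smul_left', polar_smul_right', o, e, q]
  have q2 : Q ((-b) • x + a • y) = 1 := by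
    rw [Q_add, Q_smul, Q_smul, polar_smul_left', polar_smul_right', o, e, ← q]; ring
  refine ⟨_, _, q1, q2, p0, O_ext fun w => ?_⟩
  have i : (Q y)⁻¹ = a * a + b * b := inv_eq_of_mul_eq_one_right (by linear_combination q)
  rw [rr_apply o, rr_apply p0, q1, q2, e, i]
  simp only [polar_add_right, polar_smul_right']
  module

theorem li_on (h2 : (2 : F) ≠ 0) {x y : V} (hx : Q x = 1) (hy : Q y = 1) (o : polar Q x y = 0) :
    LinearIndependent F ![x, y] := by
  rw [LinearIndependent.pair_iff]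
  intro a b h
  have h1 := congrArg (fun v => polar Q v x) h
  have h3 := congrArg (fun v => polar Q v y) h
  simp only [polar_add_left, polar_smul_left', polar_self', polar_comm Q y x, o,
    polar_zero_left] at h1 h3
  exact ⟨by simpa [h2, hx] using h1, by simpa [h2, hy] using h3⟩

/-- eigenspaces -/
def Eig (t : O Q) (ε : F) : Submodule F V where
  carrier := {v | t.1 v = ε • v}
  add_mem' {a b} ha hb := by
    change t.1 _ = _
    rw [map_add, ha, hb, smul_add]
  zero_mem' := by simp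
  smul_mem' c v hv := by
    change t.1 _ = _
    rw [map_smul, hv, smul_comm]

theorem mem_eig {t : O Q} {ε : F} {v : V} : v ∈ Eig t ε ↔ t.1 v = ε • v := Iff.rfl

theorem eig_dec (h2 : (2 : F) ≠ 0) {t : O Q} (tt : t * t = 1) {ε : F} (e : ε * ε = 1) (v : V) :
    ∃ a ∈ Eig t ε, ∃ b ∈ Eig t (-ε), a + b = v := by
  have h : t.1 (t.1 v) = v := by rw [← O_mul_apply, tt, O_one_apply]
  refine ⟨(2 : F)⁻¹ • (v + ε • t.1 v), ?_, (2 : F)⁻¹ • (v - ε • t.1 v), ?_, ?_⟩
  · rw [mem_eig, map_smul, map_add, map_smul, h]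
    linear_combination (norm := module) (-(2 : F)⁻¹ * e) • t.1 v
  · rw [mem_eig, map_smul, map_sub, map_smul, h]
    linear_combination (norm := module) (-(2 : F)⁻¹ * e) • t.1 v
  · linear_combination (norm := module) (mul_inv_cancel₀ h2) • v

theorem eig_orth (h2 : (2 : F) ≠ 0) {t : O Q} {ε : F} (e : ε * ε = 1) {a b : V}
    (ha : a ∈ Eig t ε) (hb : b ∈ Eig t (-ε)) : polar Q a b = 0 := by
  have := O_polar t a b
  rw [ha, hb, polar_smul_left', polar_smul_right'] at this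
  exact mul_left_cancel₀ h2 (by linear_combination -(polar Q a b) * e - this)

theorem eig_nd (h2 : (2 : F) ≠ 0) (hQ : (polarBilin Q).Nondegenerate) {t : O Q} (tt : t * t = 1)
    {ε : F} (e : ε * ε = 1) : NondegOn Q (Eig t ε) := fun x hx h =>
  eq_zero_of_polar hQ fun y => by
    obtain ⟨a, ha, b, hb, rfl⟩ := eig_dec h2 tt e y
    rw [polar_add_right, h a ha, eig_orth h2 e hx hb, add_zero]

theorem eig_bot (h2 : (2 : F) ≠ 0) {t : O Q} (tt : t * t = 1) {ε : F} (e : ε * ε = 1)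
    (h : Eig t (-ε) = ⊥) (v : V) : t.1 v = ε • v := by
  obtain ⟨a, ha, b, hb, rfl⟩ := eig_dec h2 tt e v
  rw [h, Submodule.mem_bot] at hb
  rw [hb, add_zero]
  exact ha

theorem cj_eig {t : O Q} {ε : F} (e : ε * ε = 1) {c : V} (hc : c ∈ Eig t ε) :
    t * refl Q c = refl Q c * t := by
  rw [mul_refl, hc, refl_smul (left_ne_zero_of_mul_eq_one e)]

theorem peel (h2 : (2 : F) ≠ 0) {s : O Q} (ss : s * s = 1) {x : V} (hx : x ∈ Eig s (-1))
    (q : Q x ≠ 0) : s * refl Q x * (s * refl Q x) = 1 ∧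
      finrank F (Eig (s * refl Q x) (-1)) < finrank F (Eig s (-1)) ∧
      ∀ v ∈ Eig (s * refl Q x) (-1), v ∈ Eig s (-1) ∧ polar Q v x = 0 := by
  have key : ∀ v ∈ Eig (s * refl Q x) (-1), v ∈ Eig s (-1) ∧ polar Q v x = 0 := by
    intro v hv
    rw [mem_eig, O_mul_apply, refl_apply, map_sub, map_smul, hx] at hv
    have h1 := congrArg (fun w => polar Q w x) hv
    have h3 : polar Q (s.1 v) x = -polar Q v x := by
      have := O_polar s (s.1 v) x
      rw [← O_mul_apply, ss, O_one_apply, hx, polar_smul_right'] at this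
      linear_combination -this
    simp only [polar_sub_left, polar_smul_left', polar_self', h3] at h1
    have p0 : polar Q v x = 0 :=
      mul_left_cancel₀ h2 (by linear_combination h1 - 2 * polar Q v x * inv_mul_cancel₀ q)
    rw [p0] at hv
    exact ⟨by simpa [mem_eig] using hv, p0⟩
  refine ⟨?_, Submodule.finrank_lt_finrank_of_lt (lt_of_le_of_ne (fun v hv => (key v hv).1)
    fun h => ?_), key⟩
  · rw [mul_assoc, ← mul_assoc (refl Q x), ← cj_eig (by simp) hx, mul_assoc, refl_mul_self,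
      mul_one, ss]
  · have := (key x (h ▸ hx)).2
    rw [polar_self'] at this
    exact mul_ne_zero h2 q this

variable {X : Set (O Q)}

theorem pairs (h2 : (2 : F) ≠ 0) (hQ : (polarBilin Q).Nondegenerate) (h7 : 7 ≤ finrank F V)
    (hX : XC (commutator (O Q)) X) {x y x' y' : V} (hx : Q x ≠ 0) (hy : Q y ≠ 0)
    (o : polar Q x y = 0) (sq : IsSquare (Q x * Q y)) (hx' : Q x' ≠ 0) (hy' : Q y' ≠ 0)
    (o' : polar Q x' y' = 0) (sq' : IsSquare (Q x' * Q y')) (h : refl Q x * refl Q y ∈ X) :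
    refl Q x' * refl Q y' ∈ X := by
  obtain ⟨a, b, qa, qb, ab, e⟩ := onb h2 hx hy o sq
  obtain ⟨c, d, qc, qd, cd, e'⟩ := onb h2 hx' hy' o' sq'
  obtain ⟨g, ga, gb⟩ := witt_two hQ (li_on h2 qa qb ab) (li_on h2 qc qd cd) (qa.trans qc.symm)
    (qb.trans qd.symm) (ab.trans cd.symm)
  have rk := finrank_add_finrank_perp hQ (pl (F := F) a b)
  have := rk_pl (F := F) a b
  obtain ⟨k, hk, ek⟩ := exists_kerDS_eq_on_of_nondegOn hQ {a, b}
    ((nd_pl h2 (qa ▸ one_ne_zero) (qb ▸ one_ne_zero) ab).perp hQ) (by omega)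
    (fun z hz w hw => mem_perp.1 hw z (Submodule.subset_span hz)) g
  rw [← commutator_eq_kerDS hQ (not_isExc_of_two h2)] at hk
  have h1 := hX.conj _ (e ▸ h) k hk
  rwa [show k * (refl Q a * refl Q b) * k⁻¹ = (k * refl Q a * k⁻¹) * (k * refl Q b * k⁻¹) by group,
    refl_conj, refl_conj, ek a (by simp), ek b (by simp), ga, gb, ← e'] at h1

theorem of_inv (h2 : (2 : F) ≠ 0) (hQ : (polarBilin Q).Nondegenerate)
    (hX : XC (commutator (O Q)) X) {t : O Q} (ht : t ∈ X) (tt : t * t = 1) {ε : F}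
    (e : ε * ε = 1) (big : 2 ≤ finrank F (Eig t ε)) (ne : Eig t (-ε) ≠ ⊥) :
    ∃ x y, Q x ≠ 0 ∧ Q x = Q y ∧ polar Q x y = 0 ∧ refl Q x * refl Q y ∈ X := by
  obtain ⟨b, hb, qb⟩ := (eig_nd h2 hQ tt (by rwa [neg_mul_neg])).exists_Q_ne_zero ne
  obtain ⟨a, ha, qa⟩ := (eig_nd h2 hQ tt e).exists_Q_eq big (Q b)
  obtain ⟨c, hc, qc⟩ := (eig_nd h2 hQ tt e).exists_Q_eq big (Q (a - b))
  have o := eig_orth h2 e ha hb
  have q1 : Q (a - b) = 2 * Q b := by rw [Q_sub, o, qa]; ring
  have q2 : Q (a + b) = 2 * Q b := by rw [Q_add, o, qa]; ring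
  have q0 : Q (a - b) ≠ 0 := q1 ▸ mul_ne_zero h2 qb
  have p0 : polar Q (a + b) (a - b) = 0 := by
    simp only [polar_add_left, polar_sub_right, polar_self', polar_comm Q b a, qa]
    ring
  have h1 := hX.conj t ht _ (refl_mul_refl_mem_commutator hQ q0 qc.symm)
  have e1 : refl Q (a - b) * refl Q c * t * (refl Q (a - b) * refl Q c)⁻¹ =
      refl Q (a - b) * t * refl Q (a - b) := by
    rw [mul_inv_rev, refl_inv, refl_inv, mul_assoc (refl Q (a - b)), ← cj_eig e hc, mul_assoc,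
      mul_assoc, ← mul_assoc (refl Q c), refl_mul_self, one_mul, mul_assoc]
  have e2 : t * (refl Q (a - b) * t * refl Q (a - b)) = refl Q (a + b) * refl Q (a - b) := by
    rw [← mul_assoc, ← mul_assoc, mul_refl t, mul_assoc _ t t, tt, mul_one, map_sub, ha, hb,
      neg_smul, sub_neg_eq_add, ← smul_add, refl_smul (left_ne_zero_of_mul_eq_one e)]
  rw [e1] at h1
  refine ⟨a + b, a - b, q2 ▸ mul_ne_zero h2 qb, q2.trans q1.symm, p0, e2 ▸ hX.mul_comm ht h1 ?_⟩
  have c1 := (refl_comm (Q := Q) p0).eq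
  have i1 := congrArg (·⁻¹) e2
  simp only [mul_inv_rev, refl_inv, inv_eq_of_mul_eq_one_right tt] at i1
  rw [Commute, SemiconjBy, e2, ← c1, ← i1]
  group

theorem of_neg (h2 : (2 : F) ≠ 0) (hQ : (polarBilin Q).Nondegenerate) (h7 : 7 ≤ finrank F V)
    (hX : XC (commutator (O Q)) X) {t : O Q} (ht : t ∈ X) (tt : t * t = negOne Q) :
    ∃ z ∈ X, z * z = 1 ∧ z ≠ 1 ∧ z ≠ negOne Q := by
  have t2 : ∀ v, t.1 (t.1 v) = -v := fun v => by rw [← O_mul_apply, tt, negOne_apply]
  have ot : ∀ u w, polar Q (t.1 u) w = -polar Q u (t.1 w) := fun u w => by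
    rw [← O_polar t u (t.1 w), t2, polar_neg_right, neg_neg]
  have o0 : ∀ u, polar Q u (t.1 u) = 0 := fun u =>
    mul_left_cancel₀ h2 (by linear_combination ot u u - polar_comm Q (t.1 u) u)
  obtain ⟨u, qu⟩ := exists_Q_eq hQ (by omega) 1
  have q1 : Q u ≠ 0 := qu ▸ one_ne_zero
  have qt : Q (t.1 u) ≠ 0 := by rwa [O_map]
  have rk := finrank_add_finrank_perp hQ (pl (F := F) u (t.1 u))
  have r1 := rk_pl (F := F) u (t.1 u)
  obtain ⟨w, hw, qw⟩ := ((nd_pl h2 q1 qt (o0 u)).perp hQ).exists_Q_eq (by omega) (Q u)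
  have a1 : polar Q u w = 0 := mem_perp.1 hw _ (l_mem _ _)
  have a2 : polar Q (t.1 u) w = 0 := mem_perp.1 hw _ (r_mem _ _)
  have a3 : polar Q u (t.1 w) = 0 := by rw [← neg_eq_zero, ← ot, a2]
  have a4 : polar Q (t.1 u) (t.1 w) = 0 := by rw [O_polar, a1]
  have c1 := refl_comm a1
  have c2 := refl_comm a2
  have c3 := refl_comm a3
  have c4 := refl_comm a4
  have c5 := refl_comm (o0 u)
  have c6 := refl_comm (o0 w)
  set z := refl Q u * refl Q w * (refl Q (t.1 w) * refl Q (t.1 u)) with hz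
  have cc : Commute (refl Q u * refl Q w) (refl Q (t.1 w) * refl Q (t.1 u)) :=
    (c3.symm.mul_right c5.symm).mul_left (c6.symm.mul_right c2)
  have h1 := hX.conj t ht _ (refl_mul_refl_mem_commutator hQ q1 qw.symm)
  have e1 : refl Q u * refl Q w * t * (refl Q u * refl Q w)⁻¹ = z * t := by
    rw [hz, ← refl_conj, ← refl_conj, mul_inv_rev, refl_inv, refl_inv]; group
  have e2 : Commute z t := by
    rw [Commute, SemiconjBy, eq_comm, ← mul_inv_eq_iff_eq_mul,
      show t * z * t⁻¹ = (t * refl Q u * t⁻¹) * (t * refl Q w * t⁻¹) *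
        ((t * refl Q (t.1 w) * t⁻¹) * (t * refl Q (t.1 u) * t⁻¹)) by rw [hz]; group]
    simp only [refl_conj, t2, refl_neg]
    rw [hz, cc.eq, c4.eq, c1.eq]
  have h3 := hX.mul_comm (e1 ▸ h1) (hX.inv ht) (e2.mul_left (Commute.refl t)).inv_right
  rw [mul_inv_cancel_right] at h3
  refine ⟨z, h3, ?_, fun h => ?_, fun h => ?_⟩
  · rw [hz, cc.symm.mul_mul_mul_comm, c1.mul_mul_mul_comm, c4.symm.mul_mul_mul_comm]
    simp [refl_mul_self]
  · have := congrArg (fun g : O Q => g.1 u) h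
    simp only [hz, O_mul_apply, refl_apply_of_orth (o0 u), refl_apply_of_orth a3,
      refl_apply_of_orth a1, refl_apply_self q1, O_one_apply] at this
    have h4 : (2 : F) • u = 0 := by rw [two_smul]; exact add_eq_zero_iff_neg_eq.2 this
    exact (smul_eq_zero.1 h4).elim h2 (ne_zero_of_Q_ne_zero q1)
  · have rk' := finrank_add_finrank_perp hQ (pl (F := F) u (t.1 u) ⊔ pl w (t.1 w))
    have r2 := rk_pl (F := F) w (t.1 w)
    have r3 := Submodule.finrank_add_le_finrank_add_finrank (pl (F := F) u (t.1 u)) (pl w (t.1 w))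
    obtain ⟨v, hv, v0⟩ := (Submodule.ne_bot_iff _).1 (ne_bot_of_finrank_pos
      (W := perp Q (pl (F := F) u (t.1 u) ⊔ pl w (t.1 w))) (by omega))
    have b := mem_perp'.1 hv
    have := congrArg (fun g : O Q => g.1 v) h
    simp only [hz, O_mul_apply, negOne_apply,
      refl_apply_of_orth (b _ (Submodule.mem_sup_left (l_mem _ _))),
      refl_apply_of_orth (b _ (Submodule.mem_sup_left (r_mem _ _))),
      refl_apply_of_orth (b _ (Submodule.mem_sup_right (l_mem _ _))),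
      refl_apply_of_orth (b _ (Submodule.mem_sup_right (r_mem _ _)))] at this
    have h4 : (2 : F) • v = 0 := by rw [two_smul]; exact add_eq_zero_iff_eq_neg.2 this
    exact (smul_eq_zero.1 h4).elim h2 v0

theorem ex_inv (h2 : (2 : F) ≠ 0) (hQ : (polarBilin Q).Nondegenerate) (h7 : 7 ≤ finrank F V)
    (hX : XC (commutator (O Q)) X) (n : ℕ) : ∀ t ∈ X, t ^ 2 ^ n = 1 → t ≠ 1 → t ≠ negOne Q →
      ∃ z ∈ X, z * z = 1 ∧ z ≠ 1 ∧ z ≠ negOne Q := by
  induction n with
  | zero => exact fun t _ h h1 _ => absurd (by simpa using h) h1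
  | succ n ih =>
    intro t ht h h1 h3
    by_cases e1 : t * t = 1
    · exact ⟨t, ht, e1, h1, h3⟩
    by_cases e2 : t * t = negOne Q
    · exact of_neg h2 hQ h7 hX ht e2
    exact ih _ (hX.mul_comm ht ht (Commute.refl t)) (by rwa [← pow_two, ← pow_mul, ← pow_succ'])
      e1 e2

theorem all_inv (h2 : (2 : F) ≠ 0) (hQ : (polarBilin Q).Nondegenerate)
    (hX : XC (commutator (O Q)) X) (hp : ∀ x y, Q x ≠ 0 → Q y ≠ 0 → polar Q x y = 0 →
      IsSquare (Q x * Q y) → refl Q x * refl Q y ∈ X) (n : ℕ) :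
    ∀ s ∈ commutator (O Q), s * s = 1 → finrank F (Eig s (-1)) ≤ n → s ∈ X := by
  have one : ∀ s : O Q, s * s = 1 → Eig s (-1) = ⊥ → s = 1 := fun s ss h =>
    O_ext fun v => by simpa using eig_bot h2 ss (mul_one 1) h v
  have nd : ∀ s : O Q, s * s = 1 → NondegOn Q (Eig s (-1)) := fun s ss =>
    eig_nd h2 hQ ss (by simp)
  induction n with
  | zero =>
    intro s _ ss h
    rw [one s ss (Submodule.finrank_eq_zero.1 (by omega))]
    exact hX.one
  | succ n ih =>
    intro s hs ss h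
    by_cases b0 : Eig s (-1) = ⊥
    · rw [one s ss b0]; exact hX.one
    obtain ⟨x, hx, qx⟩ := (nd s ss).exists_Q_ne_zero b0
    obtain ⟨s1, l1, k1⟩ := peel h2 ss hx qx
    have b1 : Eig (s * refl Q x) (-1) ≠ ⊥ := fun e => by
      have := mul_eq_one_iff_eq_inv.1 (one _ s1 e)
      rw [refl_inv] at this
      exact refl_notMem_kerDS hQ qx (this ▸ commutator_le_kerDS hQ hs)
    obtain ⟨y, hy, qy, sq⟩ : ∃ y ∈ Eig (s * refl Q x) (-1), Q y ≠ 0 ∧ IsSquare (Q x * Q y) := by
      by_cases r : 2 ≤ finrank F (Eig (s * refl Q x) (-1))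
      · obtain ⟨y, hy, q⟩ := (nd _ s1).exists_Q_eq r (Q x)
        exact ⟨y, hy, q ▸ qx, q ▸ ⟨_, rfl⟩⟩
      obtain ⟨y, hy, qy⟩ := (nd _ s1).exists_Q_ne_zero b1
      obtain ⟨s2, l2, -⟩ := peel h2 s1 hy qy
      have := one _ s2 (Submodule.finrank_eq_zero.1 (by omega))
      rw [mul_assoc, mul_eq_one_iff_inv_eq] at this
      exact ⟨y, hy, qy, (refl_mul_refl_mem_kerDS_iff hQ qx qy).1
        (this ▸ commutator_le_kerDS hQ (inv_mem hs))⟩
    obtain ⟨s2, l2, -⟩ := peel h2 s1 hy qy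
    have m := hp x y qx qy (by rw [polar_comm]; exact (k1 y hy).2) sq
    have h1 := ih _ (by rw [mul_assoc]; exact mul_mem hs (hX.sub _ m)) s2 (by omega)
    have c : Commute s (refl Q x * refl Q y) :=
      Commute.mul_right (cj_eig (by simp) hx) (cj_eig (by simp) (k1 y hy).1)
    rw [mul_assoc] at h1
    have h3 := hX.mul_comm h1 (hX.inv m) (c.mul_left (Commute.refl _)).inv_right
    rwa [mul_inv_cancel_right] at h3

theorem o4 : O4Stmt := by
  rintro F V _ _ _ _ _ Q h2 hQ h7 X hX ⟨t, ht, t1, t2⟩ s hs ss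
  obtain ⟨n, hn⟩ := hX.two t ht
  obtain ⟨z, hz, zz, z1, z2⟩ := ex_inv h2 hQ h7 hX n t ht hn t1 t2
  have n1 : Eig z (-1) ≠ ⊥ := fun h =>
    z1 (O_ext fun v => by simpa using eig_bot h2 zz (mul_one 1) h v)
  have n2 : Eig z (- -1) ≠ ⊥ := fun h =>
    z2 (O_ext fun v => by simpa [negOne_apply] using eig_bot h2 zz (ε := -1) (by simp) h v)
  have r := Submodule.finrank_add_le_finrank_add_finrank (Eig z 1) (Eig z (-1))
  rw [show Eig z 1 ⊔ Eig z (-1) = ⊤ from eq_top_iff.2 fun v _ =>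
    Submodule.mem_sup.2 (eig_dec h2 zz (mul_one 1) v), finrank_top] at r
  obtain ⟨x, y, qx, e, o, m⟩ : ∃ x y, Q x ≠ 0 ∧ Q x = Q y ∧ polar Q x y = 0 ∧
      refl Q x * refl Q y ∈ X := by
    by_cases b : 2 ≤ finrank F (Eig z 1)
    · exact of_inv h2 hQ hX hz zz (mul_one 1) b n1
    · exact of_inv h2 hQ hX hz zz (ε := -1) (by simp) (by omega) n2
  exact all_inv h2 hQ hX (fun x' y' h1 h3 h4 h5 =>
    pairs h2 hQ h7 hX qx (e ▸ qx) o (e ▸ ⟨_, rfl⟩) h1 h3 h4 h5 m) _ s hs ss le_rfl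

end Cfsg.Agent.H88.FkO
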