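import Cfsg.Agent.H88.FkO35

/-! Normalisers of Sylow `2`-subgroups of `Ω`. -/

set_option autoImplicit false
set_option linter.unusedSectionVars false

namespace Cfsg.Agent.H88.FkO

open Cfsg Subgroup QuadraticMap Module Cfsg.Agent.H30 Cfsg.Agent.H37.FK Equiv

section perm

variable {k : ℕ} {P : Subgroup (Perm (Fin k))}

theorem par_uniq (hP : IsPGroup 2 P) {a b c : Fin k} (h1 : a ≠ b) (h3 : a ≠ c)
    (hb : swap a b ∈ P) (hc : swap a c ∈ P) : b = c := by
  by_contra ne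
  obtain ⟨n, hn⟩ := hP ⟨_, mul_mem hb hc⟩
  have := orderOf_dvd_of_pow_eq_one (congrArg Subtype.val hn : (swap a b * swap a c) ^ 2 ^ n = 1)
  rw [(Perm.isThreeCycle_swap_mul_swap_same h1 h3 ne).orderOf] at this
  exact absurd (Nat.prime_three.dvd_of_dvd_pow this) (by decide)

open Classical in
/-- the partner of a point -/
noncomputable def par (P : Subgroup (Perm (Fin k))) (a : Fin k) : Fin k :=
  if h : ∃ b, a ≠ b ∧ swap a b ∈ P then h.choose else a

theorem par_mem (a : Fin k) : swap a (par P a) ∈ P := by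
  unfold par
  split_ifs with h
  exacts [h.choose_spec.2, by simp [← Perm.one_def]]

theorem par_eq (hP : IsPGroup 2 P) {a b : Fin k} (ne : a ≠ b) (h : swap a b ∈ P) :
    par P a = b := by
  have e : ∃ b, a ≠ b ∧ swap a b ∈ P := ⟨b, ne, h⟩
  rw [par, dif_pos e]
  exact par_uniq hP e.choose_spec.1 ne e.choose_spec.2 h

theorem par_par (hP : IsPGroup 2 P) (a : Fin k) : par P (par P a) = a := by
  by_cases h : par P a = a
  · rw [h, h]
  · exact par_eq hP h (swap_comm a _ ▸ par_mem a)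

theorem par_map (hP : IsPGroup 2 P) {x : Perm (Fin k)} (hx : x ∈ P) {a : Fin k}
    (h : par P a ≠ a) : par P (x a) = x (par P a) :=
  par_eq hP (x.injective.ne h.symm)
    (swap_apply_apply x a _ ▸ mul_mem (mul_mem hx (par_mem a)) (inv_mem hx))

theorem mem_of_par (hP : IsPGroup 2 P) (n : ℕ) : ∀ u : Perm (Fin k), u.support.card ≤ n →
    (∀ a, u a = a ∨ u a = par P a) → u ∈ P := by
  induction n with
  | zero =>
    intro u h _
    rw [Perm.support_eq_empty_iff.1 (Finset.card_eq_zero.1 (by omega) : u.support = ∅)]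
    exact one_mem _
  | succ n ih =>
    intro u h hu
    by_cases e : u = 1
    · exact e ▸ one_mem _
    obtain ⟨a, ha⟩ : ∃ a, u a ≠ a := by
      by_contra hc
      push Not at hc
      exact e (Perm.ext hc)
    have e1 := (hu a).resolve_left ha
    have := ih (swap a (u a) * u) (by
      have := Perm.card_support_swap_mul ha
      omega) fun b => by
      rw [Perm.mul_apply, swap_apply_def]
      split_ifs with h1 h3
      · left
        rcases hu b with h4 | h4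
        · exact absurd (h4.symm.trans h1 ▸ h4) ha
        · rw [e1, ← h1, h4, par_par hP]
      · exact Or.inl (u.injective h3).symm
      · exact hu b
    have h1 := mul_mem (e1 ▸ par_mem a : swap a (u a) ∈ P) this
    rwa [swap_mul_self_mul] at h1

end perm

variable {F V : Type} [Field F] [AddCommGroup V] [Module F V] {Q : QuadraticForm F V}

theorem omaps_iff {g : O Q} {U W : Submodule F V} :
    OMaps Q g U W ↔ U.map (g.1 : V →ₗ[F] V) = W := by
  constructor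
  · intro h
    ext w
    exact ⟨by rintro ⟨v, hv, rfl⟩; exact (h v).1 hv,
      fun hw => ⟨(g⁻¹).1 w, (h _).2 (by rwa [O_apply_inv]), O_apply_inv g w⟩⟩
  · rintro rfl v
    exact ⟨fun hv => ⟨v, hv, rfl⟩, fun ⟨v', hv', e⟩ => g.1.injective e ▸ hv'⟩

theorem qsup_map {T : Subgroup (O Q)} {g : O Q} (hg : ∀ x ∈ T, g * x * g⁻¹ ∈ T)
    {W : Submodule F V} (h : QSup Q T W) : QSup Q T (W.map (g.1 : V →ₗ[F] V)) := by
  obtain ⟨h1, h3, x, hx, y, hy, ne, h4, h5⟩ := h
  refine ⟨(LinearEquiv.finrank_map_eq _ _).trans h1, ?_, _, hg x hx, _, hg y hy, fun e => ne ?_,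
    ?_, ?_⟩
  · rintro _ ⟨v, hv, rfl⟩ o
    rw [h3 v hv fun w hw => (O_polar g v w).symm.trans (o _ ⟨w, hw, rfl⟩), map_zero]
  · calc x * y = g⁻¹ * (g * x * g⁻¹ * (g * y * g⁻¹)) * g := by group
      _ = y * x := by rw [e]; group
  · rintro _ ⟨v, hv, rfl⟩
    simp only [O_mul_apply, LinearEquiv.coe_coe, O_inv_apply, (h4 v hv).1, (h4 v hv).2, map_neg,
      and_self]
  · rw [← map_perp]
    rintro _ ⟨v, hv, rfl⟩
    simp only [O_mul_apply, LinearEquiv.coe_coe, O_inv_apply, (h5 v hv).1, (h5 v hv).2, and_self]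

variable {S : Subgroup (O Q)}

/-- the block of a point -/
noncomputable def WW (D : ODec Q S) (a : Fin D.k) : Submodule F V :=
  pl (D.e a) (D.f a) ⊔ pl (D.e (par D.P a)) (D.f (par D.P a))

theorem WW_par (D : ODec Q S) (a : Fin D.k) : WW D (par D.P a) = WW D a := by
  rw [WW, par_par D.P.isPGroup', sup_comm, WW]

theorem WW_perp (D : ODec Q S) {a i : Fin D.k} (h1 : i ≠ a) (h3 : i ≠ par D.P a) :
    pl (D.e i) (D.f i) ≤ perp Q (WW D a) := by
  rw [WW, perp_sup]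
  exact fun v hv => ⟨mem_perp'.2 fun w hw => orth D.on h1 hv hw,
    mem_perp'.2 fun w hw => orth D.on h3 hv hw⟩

theorem WW_perp_v (D : ODec Q S) (a : Fin D.k) (j : Fin D.m) : D.v j ∈ perp Q (WW D a) := by
  rw [WW, perp_sup]
  exact ⟨mem_perp'.2 fun w hw => polar_pl hw (D.ve _ _) (D.vf _ _),
    mem_perp'.2 fun w hw => polar_pl hw (D.ve _ _) (D.vf _ _)⟩

theorem WW_split (D : ODec Q S) (a i : Fin D.k) :
    pl (D.e i) (D.f i) ≤ WW D a ∨ pl (D.e i) (D.f i) ≤ perp Q (WW D a) := by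
  by_cases h1 : i = a
  · exact Or.inl (h1 ▸ le_sup_left)
  by_cases h3 : i = par D.P a
  · exact Or.inl (h3 ▸ le_sup_right)
  exact Or.inr (WW_perp D h1 h3)

theorem WW_eq (h2 : (2 : F) ≠ 0) (D : ODec Q S) {a b : Fin D.k} (h : WW D b = WW D a) :
    b = a ∨ b = par D.P a := by
  by_contra hc
  push Not at hc
  have := mem_perp.1 (WW_perp D hc.1 hc.2 (l_mem _ _)) (D.e b)
    (h ▸ Submodule.mem_sup_left (l_mem _ _))
  rw [polar_self', D.on.qe, mul_one] at this
  exact h2 this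

/-- `g` permutes the blocks like `π` -/
def Ind (D : ODec Q S) (g : O Q) (π : Perm (Fin D.k)) : Prop :=
  (∀ a, par D.P a = a → π a = a) ∧ ∀ a, par D.P a ≠ a → OMaps Q g (WW D a) (WW D (π a))

variable {D : ODec Q S} {g h : O Q} {π σ : Perm (Fin D.k)}

theorem Ind.ne (hg : Ind D g π) {a : Fin D.k} (ha : par D.P a ≠ a) : par D.P (π a) ≠ π a :=
  fun e => ha (by have := π.injective (hg.1 _ e); rwa [this] at e)

theorem Ind.mul (hg : Ind D g π) (hh : Ind D h σ) : Ind D (g * h) (π * σ) :=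
  ⟨fun a ha => by rw [Perm.mul_apply, hh.1 a ha, hg.1 a ha],
    fun a ha v => (hh.2 a ha v).trans (hg.2 _ (hh.ne ha) (h.1 v))⟩

theorem Ind.inv (hg : Ind D g π) : Ind D g⁻¹ π⁻¹ := by
  refine ⟨fun a ha => by rw [Perm.inv_eq_iff_eq, hg.1 a ha], fun a ha v => ?_⟩
  have e : π (π⁻¹ a) = a := by simp
  have := hg.2 (π⁻¹ a) (fun e' => ha (by have := hg.1 _ e'; rw [e] at this; rwa [← this] at e'))
    ((g⁻¹).1 v)
  rw [O_apply_inv, e] at this
  exact this.symm

theorem Ind.pow (hg : Ind D g π) (n : ℕ) : Ind D (g ^ n) (π ^ n) := by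
  induction n with
  | zero => exact ⟨fun _ _ => rfl, fun _ _ _ => Iff.rfl⟩
  | succ n ih => rw [pow_succ, pow_succ]; exact ih.mul hg

theorem Ind.mem (h2 : (2 : F) ≠ 0) (hg : Ind D 1 π) :
    π ∈ (D.P : Subgroup (Perm (Fin D.k))) :=
  mem_of_par D.P.isPGroup' _ π le_rfl fun a => by
    by_cases ha : par D.P a = a
    · exact Or.inl (hg.1 a ha)
    · exact WW_eq h2 D (Submodule.ext fun v => (hg.2 a ha v).symm)

theorem ind_of (sym : SymStmt.{0, 0}) (hπ : π ∈ (D.P : Subgroup (Perm (Fin D.k))))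
    (hg : OInd Q D.e D.f g π) : Ind D g π := by
  refine ⟨fun a ha => ?_, fun a ha => ?_⟩
  · by_contra ne
    obtain ⟨j, h1, h3⟩ := (sym _ _ _ _ (sylIn D.P)).2.2.2 a ⟨π, hπ, ne⟩
    exact h1 ((par_eq D.P.isPGroup' h1.symm h3).symm.trans ha)
  · rw [omaps_iff, WW, WW, Submodule.map_sup, omaps_iff.1 (hg _), omaps_iff.1 (hg _),
      par_map D.P.isPGroup' hπ ha]

theorem ex_ind (h2 : (2 : F) ≠ 0)
    (h : ∀ a, par D.P a ≠ a → ∃ c, par D.P c ≠ c ∧ OMaps Q g (WW D a) (WW D c)) :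
    ∃ π, Ind D g π := by
  classical
  choose! c hc using h
  have pp := par_par D.P.isPGroup'
  let φ : Fin D.k → Fin D.k := fun a => if par D.P a = a then a else
    if a < par D.P a then min (c a) (par D.P (c a)) else max (c a) (par D.P (c a))
  have f1 : ∀ a, par D.P a = a → φ a = a := fun a ha => if_pos ha
  have f2 : ∀ a, par D.P a ≠ a → φ a = c a ∨ φ a = par D.P (c a) := fun a ha => by
    simp only [φ, if_neg ha]
    split_ifs
    exacts [min_choice _ _, max_choice _ _]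
  have f3 : ∀ a, par D.P a ≠ a → WW D (φ a) = WW D (c a) := fun a ha => by
    rcases f2 a ha with e | e <;> rw [e]
    exact WW_par D _
  have f4 : ∀ a, par D.P a ≠ a → par D.P (φ a) ≠ φ a := fun a ha => by
    rcases f2 a ha with e | e <;> rw [e]
    exacts [(hc a ha).1, by rw [pp]; exact (hc a ha).1.symm]
  have inj : Function.Injective φ := by
    intro a b e
    by_cases ha : par D.P a = a <;> by_cases hb : par D.P b = b
    · rwa [f1 a ha, f1 b hb] at e
    · exact absurd (by rw [← e, f1 a ha, ha]) (f4 b hb)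
    · exact absurd (by rw [e, f1 b hb, hb]) (f4 a ha)
    have e1 : WW D (c b) = WW D (c a) := by rw [← f3 a ha, ← f3 b hb, e]
    have e2 : WW D b = WW D a := Submodule.ext fun v => by
      rw [(hc a ha).2 v, (hc b hb).2 v, e1]
    rcases WW_eq h2 D e2 with e3 | e3
    · exact e3.symm
    exfalso
    have e4 : par D.P b = a := by rw [e3, pp]
    have n1 := (hc a ha).1
    simp only [φ, if_neg ha, if_neg hb, e4, ← e3] at e
    have e5 : min (c b) (par D.P (c b)) = min (c a) (par D.P (c a)) ∧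
        max (c b) (par D.P (c b)) = max (c a) (par D.P (c a)) := by
      rcases WW_eq h2 D e1 with e5 | e5 <;> rw [e5]
      · exact ⟨rfl, rfl⟩
      · rw [pp]; exact ⟨min_comm _ _, max_comm _ _⟩
    rw [e5.1, e5.2] at e
    have ab : a ≠ b := fun e6 => ha (e3.symm.trans e6.symm)
    have mm : min (c a) (par D.P (c a)) ≠ max (c a) (par D.P (c a)) := (min_lt_max.2 n1.symm).ne
    split_ifs at e with k1 k2 k2
    exacts [lt_asymm k1 k2, mm e, mm e.symm, ab (le_antisymm (not_lt.1 k2) (not_lt.1 k1))]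
  exact ⟨Equiv.ofBijective φ (Finite.injective_iff_bijective.1 inj), f1,
    fun a ha => (f3 a ha).symm ▸ (hc a ha).2⟩

theorem nomove (h2 : (2 : F) ≠ 0) {k : ℕ} {e f : Fin k → V} (on : ONP Q e f) {x : V}
    {i j : Fin k} (he : (refl Q x).1 (e i) ∈ pl (F := F) (e j) (f j))
    (hf : (refl Q x).1 (f i) ∈ pl (F := F) (e j) (f j)) : j = i := by
  by_contra ne
  have h1 := orth on ne he (l_mem _ _)
  have h3 := orth on ne he (r_mem _ _)
  have h4 := orth on ne hf (r_mem _ _)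
  rw [H30.refl_apply, polar_sub_left, polar_smul_left'] at h1 h3 h4
  rw [polar_self', on.qe] at h1
  rw [on.ef, zero_sub, neg_eq_zero] at h3
  rw [polar_self', on.qf] at h4
  rcases mul_eq_zero.1 h3 with h5 | h5
  · rw [h5] at h1; exact h2 (by simpa using h1)
  · rw [h5] at h4; exact h2 (by simpa using h4)

theorem refl_mem {W : Submodule F V} {u w : V} (hu : u ∈ W) (hw : w ∈ W) : (refl Q u).1 w ∈ W := by
  rw [H30.refl_apply]
  exact W.sub_mem hw (W.smul_mem _ hu)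

variable [Fintype F] [FiniteDimensional F V]

theorem proj (h2 : (2 : F) ≠ 0) (D : ODec Q S) (a : Fin D.k) (nd : NondegOn Q (WW D a)) {x z : V}
    (hx : x ∈ WW D a) (hz : z ∈ perp Q (WW D a)) (hs : refl Q x * refl Q z ∈ S) :
    refl Q x ∈ S := by
  obtain ⟨π, -, iπ⟩ := D.perm _ hs
  have c := refl_comm (mem_perp'.1 hz x hx)
  have p1 : π = 1 := Perm.ext fun i => by
    have he := (iπ i _).1 (l_mem _ _)
    have hf := (iπ i _).1 (r_mem _ _)
    rcases WW_split D a i with h | h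
    · rw [O_mul_apply, refl_apply_of_orth (mem_perp.1 hz _ (h (l_mem _ _)))] at he
      rw [O_mul_apply, refl_apply_of_orth (mem_perp.1 hz _ (h (r_mem _ _)))] at hf
      exact nomove h2 D.on he hf
    · rw [c.eq, O_mul_apply, refl_apply_of_orth (mem_perp'.1 (h (l_mem _ _)) x hx)] at he
      rw [c.eq, O_mul_apply, refl_apply_of_orth (mem_perp'.1 (h (r_mem _ _)) x hx)] at hf
      exact nomove h2 D.on he hf
  have key : ∀ s ∈ closure {r | r ∈ S ∧ ∃ x, Q x ≠ 0 ∧ r = refl Q x ∧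
      ((∃ i, x ∈ pl (F := F) (D.e i) (D.f i)) ∨ ∃ j, x = D.v j)},
      (∀ w ∈ WW D a, s.1 w ∈ WW D a) ∧ ∃ y ∈ S, (∀ w ∈ WW D a, y.1 w = s.1 w) ∧
        ∀ w ∈ perp Q (WW D a), y.1 w = w := by
    intro s hs
    induction hs using closure_induction with
    | mem s hs =>
      obtain ⟨sS, u, -, rfl, hu⟩ := hs
      have : u ∈ WW D a ∨ u ∈ perp Q (WW D a) := by
        rcases hu with ⟨i, hi⟩ | ⟨j, rfl⟩
        · exact (WW_split D a i).imp (fun h => h hi) fun h => h hi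
        · exact Or.inr (WW_perp_v D a j)
      rcases this with h | h
      · exact ⟨fun w hw => refl_mem h hw, _, sS, fun _ _ => rfl,
          fun w hw => refl_apply_of_orth (mem_perp'.1 hw u h)⟩
      · have e : ∀ w ∈ WW D a, (refl Q u).1 w = w := fun w hw =>
          refl_apply_of_orth (mem_perp.1 h w hw)
        exact ⟨fun w hw => (e w hw).symm ▸ hw, 1, one_mem _, fun w hw => (e w hw).symm,
          fun _ _ => rfl⟩
    | one => exact ⟨fun _ h => h, 1, one_mem _, fun _ _ => rfl, fun _ _ => rfl⟩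
    | mul s t _ _ hs ht =>
      obtain ⟨s1, y, hy, s2, s3⟩ := hs
      obtain ⟨t1, y', hy', t2, t3⟩ := ht
      exact ⟨fun w hw => s1 _ (t1 w hw), y * y', mul_mem hy hy',
        fun w hw => by rw [O_mul_apply, O_mul_apply, t2 w hw, s2 _ (t1 w hw)],
        fun w hw => by rw [O_mul_apply, t3 w hw, s3 w hw]⟩
    | inv s _ hs =>
      obtain ⟨s1, y, hy, s2, s3⟩ := hs
      have i1 := inv_mem_of_forall_mem s _ s1
      exact ⟨i1, y⁻¹, inv_mem hy,
        fun w hw => O_inv_apply_eq.2 (by rw [s2 _ (i1 w hw), O_apply_inv]),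
        fun w hw => O_inv_apply_eq.2 (s3 w hw).symm⟩
  obtain ⟨-, y, hy, y1, y2⟩ := key _ (D.base _ hs (p1 ▸ iπ))
  rwa [O_ext_orthDec nd.orthDec (g := refl Q x) (k := y) (fun w hw => by
      rw [y1 w hw, O_mul_apply, refl_apply_of_orth (mem_perp.1 hz w hw)])
    fun w hw => by rw [y2 w hw, refl_apply_of_orth (mem_perp'.1 hw x hx)]]

theorem lift_T (sym : SymStmt.{0, 0}) (D : ODec Q S) :
    ∀ π ∈ (D.P : Subgroup (Perm (Fin D.k))), ∃ l ∈ S ⊓ commutator (O Q), OInd Q D.e D.f l π := by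
  intro π hπ
  have := (sym _ _ _ _ (sylIn D.P)).1 hπ
  clear hπ
  induction this using closure_induction with
  | mem x hx =>
    obtain ⟨t, h1, h3, -, h5, -⟩ := D.lift x hx.1 hx.2
    exact ⟨t, ⟨h1, h3⟩, h5⟩
  | one => exact ⟨1, one_mem _, ind_one⟩
  | mul x y _ _ hx hy =>
    obtain ⟨a, h1, h3⟩ := hx
    obtain ⟨b, h4, h5⟩ := hy
    exact ⟨a * b, mul_mem h1 h4, ind_mul h3 h5⟩
  | inv x _ hx =>
    obtain ⟨a, h1, h3⟩ := hx
    exact ⟨a⁻¹, inv_mem h1, ind_inv h3⟩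

theorem o7_main (sym : SymStmt.{0, 0}) (o6 : O6Stmt) (h2 : (2 : F) ≠ 0)
    (hQ : (polarBilin Q).Nondegenerate) (hS : IsPGroup 2 S) (D : ODec Q S) (hk : 3 ≤ D.k)
    (hg : ∀ x ∈ S ⊓ commutator (O Q), g * x * g⁻¹ ∈ S ⊓ commutator (O Q))
    (ho : Odd (orderOf g)) : g = 1 := by
  have h6 := o6 F V Q h2 hQ S D hk
  have qs : ∀ a, par D.P a ≠ a → QSup Q (S ⊓ commutator (O Q)) (WW D a) := fun a ha =>
    (h6 _).2 ⟨a, _, ha.symm, par_mem a, rfl⟩
  obtain ⟨π, iπ⟩ : ∃ π, Ind D g π := ex_ind h2 fun a ha => by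
    obtain ⟨c, d, ne, h1, h3⟩ := (h6 _).1 (qsup_map hg (qs a ha))
    have e := par_eq D.P.isPGroup' ne h1
    exact ⟨c, e ▸ ne.symm, omaps_iff.2 (by rw [h3, WW, e])⟩
  have nP : ∀ x ∈ (D.P : Subgroup (Perm (Fin D.k))),
      π * x * π⁻¹ ∈ (D.P : Subgroup (Perm (Fin D.k))) := fun x hx => by
    obtain ⟨s, hs, is⟩ := lift_T sym D x hx
    obtain ⟨y, hy, iy⟩ := D.perm _ (hg s hs).1
    have := (ind_of sym hy iy).inv.mul ((iπ.mul (ind_of sym hx is)).mul iπ.inv)
    rw [inv_mul_cancel] at this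
    have h1 := mul_mem hy (this.mem h2)
    rwa [mul_inv_cancel_left] at h1
  have nP' : ∀ n : ℕ, ∀ x ∈ (D.P : Subgroup (Perm (Fin D.k))),
      π ^ n * x * (π ^ n)⁻¹ ∈ (D.P : Subgroup (Perm (Fin D.k))) := by
    intro n
    induction n with
    | zero => simp
    | succ n ih =>
      intro x hx
      have := nP _ (ih x hx)
      rwa [show π * (π ^ n * x * (π ^ n)⁻¹) * π⁻¹ = π ^ (n + 1) * x * (π ^ (n + 1))⁻¹ by
        rw [pow_succ']; group] at this
  obtain ⟨n, m, hm, e⟩ := Nat.exists_eq_two_pow_mul_odd (orderOf_pos π).ne'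
  have p1 : π ^ 2 ^ n = 1 := (sym _ _ _ _ (sylIn D.P)).2.1 _
    (hm.of_dvd_nat (orderOf_dvd_of_pow_eq_one (by rw [← pow_mul, ← e, pow_orderOf_eq_one])))
    (nP' _) fun _ => rfl
  have i1 : Ind D g 1 := by
    obtain ⟨j, hj⟩ := exists_pow_eq_self_of_coprime (x := g) (n := 2 ^ n)
      (Nat.Coprime.pow_left _ (Nat.coprime_two_left.2 ho))
    have := (iπ.pow (2 ^ n)).pow j
    rwa [p1, one_pow, hj] at this
  have R1 : ∀ a, par D.P a ≠ a → ∀ x ∈ WW D a, ∀ z ∈ perp Q (WW D a), Q x ≠ 0 → Q z ≠ 0 →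
      refl Q x ∈ S → refl Q z ∈ S → IsSquare (Q x * Q z) →
      refl Q (g.1 x) ∈ S ∧ refl Q (g.1 z) ∈ S := by
    intro a ha x hx z hz qx qz sx sz sq
    have m := (hg _ (LL_le (pair_mem hQ qx qz sx sz sq (mem_perp.1 hz x hx)))).1
    rw [show g * (refl Q x * refl Q z) * g⁻¹ = (g * refl Q x * g⁻¹) * (g * refl Q z * g⁻¹) by group,
      refl_conj, refl_conj] at m
    have gW : ∀ w ∈ WW D a, g.1 w ∈ WW D a := fun w hw => (i1.2 a ha w).1 hw
    have h1 := proj h2 D a (qs a ha).2.1 (gW x hx) (perp_mem_of_forall_mem g _ gW z hz) m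
    exact ⟨h1, (mul_mem_cancel_left h1).1 m⟩
  have cls : ∀ x, Q x ≠ 0 → ∀ l, ∃ z ∈ pl (F := F) (D.e l) (D.f l), Q z ≠ 0 ∧ refl Q z ∈ S ∧
      IsSquare (Q x * Q z) := fun x _ l => by
    by_cases sq : IsSquare (Q x)
    · exact ⟨_, l_mem _ _, D.on.qe l ▸ one_ne_zero, D.re l, by simpa [D.on.qe] using sq⟩
    · exact ⟨_, D.cmem l, cq D l, D.rc l, isSquare_mul_of_not sq (D.cns l)⟩
  obtain ⟨a, b, ab, -, sab⟩ := (sym _ _ _ _ (sylIn D.P)).2.2.1 ⟨0, by omega⟩ ⟨1, by omega⟩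
    (by simp) rfl
  have ha : par D.P a ≠ a := par_eq D.P.isPGroup' ab sab ▸ ab.symm
  have R : ∀ x, Q x ≠ 0 → refl Q x ∈ S → x ∈ WW D a ∨ x ∈ perp Q (WW D a) →
      refl Q (g.1 x) ∈ S := by
    rintro x qx sx (h | h)
    · obtain ⟨l, l1, l2⟩ := third hk a (par D.P a)
      obtain ⟨z, hz, qz, sz, sq⟩ := cls x qx l
      exact (R1 a ha x h z (WW_perp D l1 l2 hz) qx qz sx sz sq).1
    · obtain ⟨z, hz, qz, sz, sq⟩ := cls x qx a
      exact (R1 a ha z (Submodule.mem_sup_left hz) x h qz qx sz sx (mul_comm (Q x) _ ▸ sq)).2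
  refine o5_main sym h2 hS D (fun s hs => ?_) ho
  obtain ⟨σ, hσ, iσ⟩ := D.perm s hs
  obtain ⟨l, hl, il⟩ := lift_T sym D σ hσ
  have b0 := D.base _ (mul_mem (inv_mem hl.1) hs) (by simpa using ind_mul (ind_inv il) iσ)
  have b1 : g * (l⁻¹ * s) * g⁻¹ ∈ S := by
    generalize l⁻¹ * s = y at b0
    induction b0 using closure_induction with
    | mem y hy =>
      obtain ⟨sS, u, qu, rfl, hu⟩ := hy
      rw [refl_conj]
      refine R u qu sS ?_
      rcases hu with ⟨i, hi⟩ | ⟨j, rfl⟩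
      · exact (WW_split D a i).imp (fun h => h hi) fun h => h hi
      · exact Or.inr (WW_perp_v D a j)
    | one => simp
    | mul x y _ _ hx hy =>
      have := S.mul_mem hx hy
      rwa [show g * x * g⁻¹ * (g * y * g⁻¹) = g * (x * y) * g⁻¹ by group] at this
    | inv x _ hx =>
      have := S.inv_mem hx
      rwa [show (g * x * g⁻¹)⁻¹ = g * x⁻¹ * g⁻¹ by group] at this
  have := S.mul_mem (hg l hl).1 b1
  rwa [show g * l * g⁻¹ * (g * (l⁻¹ * s) * g⁻¹) = g * s * g⁻¹ by group] at this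

theorem o7 (sym : SymStmt.{0, 0}) (o2 : O2Stmt) (o6 : O6Stmt) : O7Stmt := by
  intro F V _ _ _ _ _ Q h2 hQ h7 S g hg ho
  obtain ⟨D⟩ := o2 F V Q h2 hQ S
  have h1 := D.dim
  have h3 := D.m2
  exact o7_main sym o6 h2 hQ S.isPGroup' D (by omega) hg ho

end Cfsg.Agent.H88.FkO
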