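import Cfsg.Agent.H44.K5Defs

/-! Hermite's bound. -/

set_option autoImplicit false

namespace Cfsg.Agent.H88.K5Herm

open Matrix Cfsg.Agent.H44.K5

theorem diag {m : ℕ} (B W : Matrix (Fin m) (Fin m) ℤ) (j : Fin m) :
    (Wᵀ * B * W) j j = (fun i => W i j) ⬝ᵥ B *ᵥ (fun i => W i j) := by
  rw [Matrix.mul_assoc]
  simp [Matrix.mul_apply, dotProduct, mulVec]

theorem quad {m : ℕ} (B : Matrix (Fin (m + 1)) (Fin (m + 1)) ℤ) (hB : Bᵀ = B) (k : ℤ)
    (y : Fin m → ℤ) : B 0 0 * ((Fin.cons k y : Fin (m + 1) → ℤ) ⬝ᵥ B *ᵥ (Fin.cons k y)) =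
      (B 0 0 * k + ∑ i, B 0 i.succ * y i) ^ 2 +
        y ⬝ᵥ (Matrix.of fun i j : Fin m => B 0 0 * B i.succ j.succ - B 0 i.succ * B 0 j.succ) *ᵥ y := by
  have hs : ∀ i : Fin m, B i.succ 0 = B 0 i.succ := fun i => by
    rw [← hB, transpose_apply, hB]
  have e1 : ∑ i, y i * (B 0 i.succ * k + ∑ j, B i.succ j.succ * y j) =
      k * (∑ i, B 0 i.succ * y i) + ∑ i, y i * ∑ j, B i.succ j.succ * y j := by
    rw [Finset.mul_sum, ← Finset.sum_add_distrib]
    exact Finset.sum_congr rfl fun i _ => by ring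
  have e2 : ∑ i, y i * ∑ j, (B 0 0 * B i.succ j.succ - B 0 i.succ * B 0 j.succ) * y j =
      B 0 0 * (∑ i, y i * ∑ j, B i.succ j.succ * y j) -
        (∑ i, B 0 i.succ * y i) * (∑ i, B 0 i.succ * y i) := by
    rw [Finset.mul_sum, Finset.sum_mul, ← Finset.sum_sub_distrib]
    refine Finset.sum_congr rfl fun i _ => ?_
    simp only [Finset.mul_sum, ← Finset.sum_sub_distrib]
    exact Finset.sum_congr rfl fun j _ => by ring
  simp only [dotProduct, mulVec, Fin.sum_univ_succ, Fin.cons_zero, Fin.cons_succ, of_apply, hs]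
  rw [e1, e2]
  ring

theorem dets {m : ℕ} (B : Matrix (Fin (m + 1)) (Fin (m + 1)) ℤ) (hB : Bᵀ = B) :
    B 0 0 ^ m * B.det = B 0 0 * (Matrix.of fun i j : Fin m =>
      B 0 0 * B i.succ j.succ - B 0 i.succ * B 0 j.succ).det := by
  have hs : ∀ i : Fin m, B i.succ 0 = B 0 i.succ := fun i => by
    rw [← hB, transpose_apply, hB]
  let E : Matrix (Fin (m + 1)) (Fin (m + 1)) ℤ := Matrix.of (Fin.cons (Fin.cons 1 0)
    fun i => Fin.cons (-B 0 i.succ) fun j => if i = j then B 0 0 else 0)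
  have h1 : E.det = B 0 0 ^ m := by
    rw [det_succ_row_zero, Fin.sum_univ_succ]
    have : E.submatrix Fin.succ Fin.succ = diagonal fun _ => B 0 0 := by
      ext i j
      simp [E, diagonal_apply]
    rw [Fin.succAbove_zero, this, Finset.sum_eq_zero fun i _ => by simp [E]]
    simp [E]
  have h2 : ∀ (i : Fin m) j, (E * B) i.succ j = -B 0 i.succ * B 0 j + B 0 0 * B i.succ j := by
    intro i j
    simp [E, Matrix.mul_apply, Fin.sum_univ_succ]
  have h3 : (E * B) 0 0 = B 0 0 := by simp [E, Matrix.mul_apply, Fin.sum_univ_succ]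
  rw [← h1, ← det_mul, det_succ_column_zero, Fin.sum_univ_succ, Finset.sum_eq_zero, h3]
  · simp only [Fin.val_zero, pow_zero, one_mul, add_zero, Fin.succAbove_zero]
    congr 2
    ext i j
    rw [submatrix_apply, h2, of_apply]
    ring
  · intro i _
    rw [h2, hs]
    ring

theorem herm : HermStmt := by
  intro n
  induction n with
  | zero => exact fun A _ _ => ⟨1, by simp, by simp⟩
  | succ n ih =>
    intro A hA hp
    have pos : ∀ U : Matrix (Fin (n + 2)) (Fin (n + 2)) ℤ, IsUnit U.det → ∀ x, x ≠ 0 →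
        0 < x ⬝ᵥ (Uᵀ * A * U) *ᵥ x := by
      intro U hU x hx
      rw [← mulVec_mulVec, ← mulVec_mulVec, dotProduct_mulVec, vecMul_transpose]
      exact hp _ fun e => hx (eq_zero_of_mulVec_eq_zero hU.ne_zero e)
    have pos0 : ∀ U : Matrix (Fin (n + 2)) (Fin (n + 2)) ℤ, IsUnit U.det → 0 < (Uᵀ * A * U) 0 0 := by
      intro U hU
      have := pos U hU (Pi.single 0 1) (by simp)
      simpa using this
    obtain ⟨a, ⟨U, hU, ha⟩, hmin⟩ := Int.exists_least_of_bdd
      (P := fun a => ∃ U : Matrix (Fin (n + 2)) (Fin (n + 2)) ℤ, IsUnit U.det ∧ (Uᵀ * A * U) 0 0 = a)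
      ⟨0, fun z ⟨U, hU, e⟩ => e ▸ (pos0 U hU).le⟩ ⟨_, 1, by simp, rfl⟩
    refine ⟨U, hU, ?_⟩
    have a0 : 0 < a := ha ▸ pos0 U hU
    have hpB := pos U hU
    have hmB : ∀ W : Matrix (Fin (n + 2)) (Fin (n + 2)) ℤ, IsUnit W.det →
        a ≤ (Wᵀ * (Uᵀ * A * U) * W) 0 0 := fun W hW =>
      hmin _ ⟨U * W, by rw [det_mul]; exact hU.mul hW, by simp [Matrix.mul_assoc]⟩
    have hd : (Uᵀ * A * U).det = A.det := by
      rw [det_mul, det_mul, det_transpose]
      rcases Int.isUnit_iff.1 hU with e | e <;> simp [e]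
    have hB : (Uᵀ * A * U)ᵀ = Uᵀ * A * U := by simp [hA, Matrix.mul_assoc]
    generalize Uᵀ * A * U = B at *
    have hs : ∀ i j, B i j = B j i := fun i j => by rw [← hB, transpose_apply, hB]
    have hdet := dets B hB
    have hq := quad B hB
    rw [ha] at hdet hq ⊢
    set S : Matrix (Fin (n + 1)) (Fin (n + 1)) ℤ := Matrix.of fun i j : Fin (n + 1) =>
      a * B i.succ j.succ - B 0 i.succ * B 0 j.succ with hS
    obtain ⟨V, hV, hv⟩ := ih S (by ext i j; simp only [hS, transpose_apply, of_apply, hs j.succ i.succ]; ring) (by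
      intro y hy
      have h1 := hq (-∑ i, B 0 i.succ * y i) (a • y)
      have h2 := hpB (Fin.cons (-∑ i, B 0 i.succ * y i) (a • y)) (fun e => hy (by
        funext i
        have := congrFun e i.succ
        simpa [a0.ne'] using this))
      have h3 : ∑ i, B 0 i.succ * (a • y) i = a * ∑ i, B 0 i.succ * y i := by
        rw [Finset.mul_sum]
        exact Finset.sum_congr rfl fun i _ => by simp; ring
      rw [h3, mulVec_smul, smul_dotProduct, dotProduct_smul, smul_eq_mul, smul_eq_mul] at h1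
      have h4 : 0 < a * (a * (y ⬝ᵥ S *ᵥ y)) := by nlinarith [mul_pos a0 h2]
      exact (mul_pos_iff_of_pos_left a0).1 ((mul_pos_iff_of_pos_left a0).1 h4))
    rw [diag] at hv
    set y : Fin (n + 1) → ℤ := fun i => V i 0 with hy
    set β := ∑ i, B 0 i.succ * y i with hβ
    obtain ⟨k, hk⟩ : ∃ k, 4 * (a * k + β) ^ 2 ≤ a ^ 2 := by
      refine ⟨-((2 * β + a) / (2 * a)), ?_⟩
      have h1 := Int.mul_ediv_add_emod (2 * β + a) (2 * a)
      have h2 := Int.emod_nonneg (2 * β + a) (show 2 * a ≠ 0 by omega)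
      have h3 := Int.emod_lt_of_pos (2 * β + a) (show 0 < 2 * a by omega)
      have h4 : 2 * (a * -((2 * β + a) / (2 * a)) + β) = (2 * β + a) % (2 * a) - a := by linarith
      nlinarith
    let W : Matrix (Fin (n + 2)) (Fin (n + 2)) ℤ := Matrix.of (Fin.cons (Fin.cons 1 fun _ => k)
      fun i => Fin.cons 0 fun j => V i j)
    have hW : W.det = V.det := by
      rw [det_succ_column_zero, Fin.sum_univ_succ]
      have : W.submatrix Fin.succ Fin.succ = V := by ext i j; simp [W]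
      rw [Fin.succAbove_zero, this, Finset.sum_eq_zero fun i _ => by simp [W]]
      simp [W]
    have h1 := hmB (W.submatrix id (Equiv.swap 0 1)) (by
      rw [det_permute', hW]
      exact (Units.isUnit _).mul hV)
    have h2 : (fun i => (W.submatrix id (Equiv.swap 0 1)) i 0) = Fin.cons k y := by
      funext i
      refine Fin.cases ?_ (fun i => ?_) i <;> simp [W, hy] <;> rfl
    rw [diag, h2] at h1
    have h3 := hq k y
    have h4 : 3 * a ^ 2 ≤ 4 * (y ⬝ᵥ S *ᵥ y) := by nlinarith [mul_le_mul_of_nonneg_left h1 a0.le]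
    have h5 := pow_le_pow_left₀ (by positivity) h4 (n + 1)
    have h6 : (n + 1) * (n + 1 + 1) / 2 = n * (n + 1) / 2 + (n + 1) := by
      rw [show (n + 1) * (n + 1 + 1) = n * (n + 1) + 2 * (n + 1) by ring, Nat.add_mul_div_left _ _ two_pos]
    rw [h6, ← hd]
    refine le_of_mul_le_mul_left ?_ (pow_pos a0 (n + 1))
    calc a ^ (n + 1) * (a ^ (n + 1 + 1) * 3 ^ (n * (n + 1) / 2 + (n + 1)))
        = a * 3 ^ (n * (n + 1) / 2) * (3 * a ^ 2) ^ (n + 1) := by ring
      _ ≤ a * 3 ^ (n * (n + 1) / 2) * (4 * (y ⬝ᵥ S *ᵥ y)) ^ (n + 1) := by gcongr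
      _ = a * 4 ^ (n + 1) * ((y ⬝ᵥ S *ᵥ y) ^ (n + 1) * 3 ^ (n * (n + 1) / 2)) := by ring
      _ ≤ a * 4 ^ (n + 1) * (4 ^ (n * (n + 1) / 2) * S.det) := by gcongr
      _ = 4 ^ (n * (n + 1) / 2 + (n + 1)) * (a * S.det) := by ring
      _ = _ := by rw [← hdet]; ring

end Cfsg.Agent.H88.K5Herm
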