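import Cfsg.Agent.H48.M2Defs

/-! A subgroup of index at most two of a singular subgroup of an ark. -/

set_option autoImplicit false

namespace Cfsg.Agent.H88.M2Idx

open Cfsg Subgroup Cfsg.Agent.H48 Cfsg.Agent.H48.Rec Cfsg.Agent.H49 Cfsg.Agent.H95.Par
open Cfsg.Agent.H97.Gr (DD ZZ)
open Cfsg.Agent.H97.Yt (M)
open Cfsg.Agent.H48.M2

theorem out {A : Subgroup M} {ν : (Fin 10 → ZMod 2) → M}
    {q : QuadraticForm (ZMod 2) (Fin 10 → ZMod 2)} (h : Frm A ν q) {u u' : M} (hu : u ∈ A)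
    (hu' : u' ∈ A) (z : u ∈ ZZ) (z' : u' ∈ ZZ) (zz : u * u' ∈ ZZ) :
    ∃ a ∈ A, a ∉ Qz u ∧ a ∉ Qz u' ∧ a ∈ Qz (u * u') := by
  obtain ⟨x, rfl⟩ := (h.mem u).1 hu
  obtain ⟨x', rfl⟩ := (h.mem u').1 hu'
  have e : ∀ x, ν x ∈ ZZ → ∃ b, QuadraticMap.polar q x b ≠ 0 := fun x hx => by
    by_contra hc
    push Not at hc
    have h0 := h.add 0 0
    rw [h.nd.1 x hc] at hx
    exact ZZ_ne hx (by simpa using h0)
  obtain ⟨b, h1, h2⟩ : ∃ b, QuadraticMap.polar q x b ≠ 0 ∧ QuadraticMap.polar q x' b ≠ 0 := by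
    obtain ⟨b, hb⟩ := e x z
    obtain ⟨b', hb'⟩ := e x' z'
    by_cases c : QuadraticMap.polar q x' b = 0
    · by_cases c' : QuadraticMap.polar q x b' = 0
      · exact ⟨b + b', by simpa [QuadraticMap.polar_add_right, c'] using hb,
          by simpa [QuadraticMap.polar_add_right, c] using hb'⟩
      · exact ⟨b', c', hb'⟩
    · exact ⟨b, hb, c⟩
  rw [← h.add] at zz ⊢
  refine ⟨ν b, (h.mem _).2 ⟨b, rfl⟩, mt (h.perp x z b).1 h1, mt (h.perp x' z' b).1 h2,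
    (h.perp _ zz b).2 ?_⟩
  rw [QuadraticMap.polar_add_left]
  revert h1 h2
  generalize QuadraticMap.polar q x b = s
  generalize QuadraticMap.polar q x' b = t
  revert s t
  decide

theorem idx_of (hF : FormStmt) (hP : PfStmt) : IdxStmt := by
  intro A N hA le hN p hp
  obtain ⟨ν, q, h⟩ := hF A hA
  have F := hP A hA
  have sq : ∀ u ∈ N, u * u = 1 := fun u hu => F.el u (le hu)
  have pe : ∀ u ∈ N, ∀ u' ∈ N, u ≠ 1 → u' ≠ 1 → u' ≠ u →
      u * u' ∈ ZZ ∧ Qz u ⊓ Qz u' ≤ Qz (u * u') := fun u hu u' hu' a b c =>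
    perp (hN u hu a).1 (hN u' hu' b).1 ((hN u hu a).2 hu') c
  let N' : Subgroup M :=
    { carrier := {u | u ∈ N ∧ (u = 1 ∨ p ∈ Qz u)}
      one_mem' := ⟨one_mem _, Or.inl rfl⟩
      inv_mem' := fun {u} hu => by rwa [inv_eq_of_mul_eq_one_right (sq u hu.1)]
      mul_mem' := fun {u u'} hu hu' => by
        by_cases a : u = 1
        · rwa [a, one_mul]
        by_cases b : u' = 1
        · rwa [b, mul_one]
        refine ⟨mul_mem hu.1 hu'.1, ?_⟩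
        by_cases c : u' = u
        · exact Or.inl (c ▸ sq _ hu'.1)
        · exact Or.inr ((pe u hu.1 u' hu'.1 a b c).2 ⟨hu.2.resolve_left a, hu'.2.resolve_left b⟩) }
  have ix : ∀ u ∈ N, ∀ u' ∈ N, u ∉ N' → u' ∉ N' → u * u' ∈ N' := fun u hu u' hu' n n' => by
    have a : u ≠ 1 := fun e => n ⟨hu, Or.inl e⟩
    have b : u' ≠ 1 := fun e => n' ⟨hu', Or.inl e⟩
    refine ⟨mul_mem hu hu', ?_⟩
    by_cases c : u' = u
    · exact Or.inl (c ▸ sq _ hu')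
    obtain ⟨zz, l⟩ := pe u hu u' hu' a b c
    obtain ⟨x, hx, x1, x2, x3⟩ := out h (le hu) (le hu') (hN u hu a).1 (hN u' hu' b).1 zz
    exact Or.inr ((mul_mem_cancel_right x3).1 (l
      ⟨F.ix u (le hu) (hN u hu a).1 p (hp u hu a) x (mem_sup_right hx)
        (fun e => n ⟨hu, Or.inr e⟩) x1,
      F.ix u' (le hu') (hN u' hu' b).1 p (hp u' hu' b) x (mem_sup_right hx)
        (fun e => n' ⟨hu', Or.inr e⟩) x2⟩))
  refine ⟨N', fun _ => Iff.rfl, ix, ?_⟩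
  obtain ⟨v, hv⟩ : ∃ v : M, ∀ u ∈ N, u ∉ N' → v⁻¹ * u ∈ N' := by
    by_cases c : ∃ v ∈ N, v ∉ N'
    · obtain ⟨v, v1, v2⟩ := c
      exact ⟨v⁻¹, fun u hu n => by rw [inv_inv]; exact ix v v1 u hu v2 n⟩
    · exact ⟨1, fun u hu n => (c ⟨u, hu, n⟩).elim⟩
  have s : (N : Set M) ⊆ N' ∪ (v * ·) '' N' := fun u hu =>
    (em (u ∈ N')).imp id fun n => ⟨_, hv u hu n, mul_inv_cancel_left v u⟩
  have := (Set.ncard_le_ncard s (Set.toFinite _)).trans (Set.ncard_union_le _ _)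
  rw [Set.ncard_image_of_injective _ (mul_right_injective v)] at this
  exact this.trans_eq (two_mul _).symm

end Cfsg.Agent.H88.M2Idx
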