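import Cfsg.Agent.H86.OlCh
import Cfsg.Agent.H5.FPFSolvable
import Cfsg.Agent.H4.CoprimeAction

/-!
# Groups of order 32 whose commutator subgroup is a noncentral four-group
-/

set_option autoImplicit false
set_option linter.unusedSectionVars false

namespace Cfsg.Agent.H88.Ol

open Subgroup Cfsg.Agent.H18 Cfsg.Agent.H17 Cfsg.Agent.H26.K64 Cfsg.Agent.H89.Ol
open scoped commutatorElement Classical

universe u

section

variable {G : Type u} [Group G] [Finite G] {P : Subgroup G} {z : G}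

/-- The setting. -/
structure S (P : Subgroup G) (z : G) : Prop where
  card : Nat.card P = 32
  four : Nat.card (⁅P, P⁆ : Subgroup G) = 4
  sq : ∀ c ∈ ⁅P, P⁆, c * c = 1
  mem : z ∈ ⁅P, P⁆
  ne : z ≠ 1
  cen : ∀ a ∈ P, a * z = z * a

theorem dle (P : Subgroup G) : ⁅P, P⁆ ≤ P := commutator_le.2 fun a ha b hb => by
  rw [commutatorElement_def]
  exact mul_mem (mul_mem (mul_mem ha hb) (inv_mem ha)) (inv_mem hb)

theorem nzd (P : Subgroup G) : Nz P ≤ Nz ⁅P, P⁆ := H4.le_normalizer_commutator le_rfl le_rfl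

theorem S.two (s : S P z) : IsPGroup 2 P := IsPGroup.of_card (n := 5) s.card

theorem S.ord (s : S P z) : orderOf z = 2 :=
  haveI : Fact (Nat.Prime 2) := ⟨Nat.prime_two⟩
  orderOf_eq_prime (by rw [pow_two]; exact s.sq z s.mem) s.ne

theorem S.cz (s : S P z) : Nat.card (zpowers z) = 2 := by rw [Nat.card_zpowers, s.ord]

theorem S.memz (s : S P z) {c : G} (h : c ∈ zpowers z) : c = 1 ∨ c = z := by
  obtain ⟨n, hn, rfl⟩ := Finset.mem_image.1 (mem_zpowers_iff_mem_range_orderOf.1 h)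
  rw [s.ord, Finset.mem_range] at hn
  interval_cases n <;> simp

theorem S.cenz (s : S P z) {c a : G} (h : c ∈ zpowers z) (ha : a ∈ P) : a * c = c * a := by
  rcases s.memz h with rfl | rfl
  · simp
  · exact s.cen a ha

theorem S.conjz (s : S P z) {c a : G} (h : c ∈ zpowers z) (ha : a ∈ P) : a * c * a⁻¹ = c := by
  rw [s.cenz h ha, mul_inv_cancel_right]

theorem conjd {c a : G} (h : c ∈ ⁅P, P⁆) (ha : a ∈ P) : a * c * a⁻¹ ∈ ⁅P, P⁆ :=
  conj_mem_of_mem_Nz' (nzd P (le_normalizer ha)) h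

theorem S.idx (s : S P z) {a b : G} (ha : a ∈ ⁅P, P⁆) (hb : b ∈ ⁅P, P⁆) (ha' : a ∉ zpowers z)
    (hb' : b ∉ zpowers z) : a⁻¹ * b ∈ zpowers z :=
  inv_mul_mem_of_card_le (zpowers_le.2 s.mem) (by rw [s.four, s.cz]) ha hb ha' hb'

theorem S.one_or (s : S P z) {c a : G} (h : c ∈ ⁅P, P⁆) (ha : a ∈ P) :
    a * c * a⁻¹ = c ∨ a * c * a⁻¹ = c * z := by
  by_cases hc : c ∈ zpowers z
  · exact Or.inl (s.conjz hc ha)
  have h1 : a * c * a⁻¹ ∉ zpowers z := fun h1 => hc (by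
    have h2 := s.conjz h1 (inv_mem ha)
    rw [show a⁻¹ * (a * c * a⁻¹) * a⁻¹⁻¹ = c by group] at h2
    exact h2 ▸ h1)
  rcases s.memz (s.idx h (conjd h ha) hc h1) with h2 | h2
  · exact Or.inl (inv_mul_eq_one.1 h2).symm
  · exact Or.inr (inv_mul_eq_iff_eq_mul.1 h2)

/-- The action of an element outside the centralizer of the commutator subgroup. -/
theorem S.act (s : S P z) {w c : G} (hw : w ∈ P) (hn : w ∉ Cz ⁅P, P⁆) (h : c ∈ ⁅P, P⁆)
    (hc : c ∉ zpowers z) : w * c * w⁻¹ = c * z := by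
  refine (s.one_or h hw).resolve_left fun h1 => hn (mem_Cz.2 fun d hd => ?_)
  by_cases h2 : d ∈ zpowers z
  · exact (s.cenz h2 hw).symm
  have h3 := s.cenz (s.idx h hd hc h2) hw
  have h4 : c * w = w * c := (mul_inv_eq_iff_eq_mul.1 h1).symm
  calc d * w = c * (c⁻¹ * d * w) := by group
    _ = c * w * (c⁻¹ * d) := by rw [← h3]; group
    _ = w * d := by rw [h4]; group

theorem S.out (s : S P z) {w v : G} (hw : w ∈ P) (hn : w ∉ Cz ⁅P, P⁆) (hv : v ∈ P)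
    (hn' : v ∉ Cz ⁅P, P⁆) : w⁻¹ * v ∈ Cz ⁅P, P⁆ := mem_Cz.2 fun d hd => by
  by_cases h2 : d ∈ zpowers z
  · exact (s.cenz h2 (mul_mem (inv_mem hw) hv)).symm
  have h3 := (s.act hw hn hd h2).trans (s.act hv hn' hd h2).symm
  calc d * (w⁻¹ * v) = w⁻¹ * (w * d * w⁻¹) * v := by group
    _ = w⁻¹ * v * d := by rw [h3]; group

theorem cm_left {c a x : G} (h1 : Commute c a) (h2 : Commute c x) : ⁅c * a, x⁆ = ⁅a, x⁆ := by
  have h3 : Commute c (a * x * a⁻¹) := (h1.mul_right h2).mul_right h1.inv_right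
  calc ⁅c * a, x⁆ = c * (a * x * a⁻¹) * c⁻¹ * x⁻¹ := by simp only [commutatorElement_def]; group
    _ = ⁅a, x⁆ := by rw [h3.eq, mul_inv_cancel_right, commutatorElement_def]

theorem S.dd (s : S P z) : ⁅P, P⁆ ≤ Cz ⁅P, P⁆ := fun c hc => mem_Cz.2 fun d hd =>
  congrArg Subtype.val (comm_of_sq (A := (⁅P, P⁆ : Subgroup G))
    (fun a => Subtype.ext (s.sq a a.2)) ⟨d, hd⟩ ⟨c, hc⟩)

theorem S.mm (s : S P z) {w a b : G} (hw : w ∈ P) (hn : w ∉ Cz ⁅P, P⁆) (ha : a ∈ P)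
    (ha' : a ∈ Cz ⁅P, P⁆) (hb : b ∈ P) (hb' : b ∈ Cz ⁅P, P⁆) : ⁅a, b⁆ ∈ zpowers z := by
  by_contra h
  have h1 := s.act hw hn (commutator_mem_commutator ha hb) h
  have h2 := commutator_mem_commutator hw ha
  have h3 := commutator_mem_commutator hw hb
  have h4 : w * ⁅a, b⁆ * w⁻¹ = ⁅⁅w, a⁆ * a, ⁅w, b⁆ * b⁆ := by
    simp only [commutatorElement_def]; group
  rw [cm_left (mem_Cz.1 ha' _ h2) (mem_Cz.1 (mul_mem (s.dd h3) hb') _ h2),
    ← commutatorElement_inv (_ * b), cm_left (mem_Cz.1 hb' _ h3) (mem_Cz.1 ha' _ h3),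
    commutatorElement_inv] at h4
  rw [h4, left_eq_mul] at h1
  exact s.ne h1

theorem S.exK (s : S P z) (h : G) :
    ∃ K : Subgroup G, ∀ g, g ∈ K ↔ g ∈ P ∧ ⁅g, h⁆ ∈ zpowers z :=
  ⟨{ carrier := {g | g ∈ P ∧ ⁅g, h⁆ ∈ zpowers z}
     one_mem' := ⟨P.one_mem, by simp⟩
     mul_mem' := fun {a b} ha hb => ⟨P.mul_mem ha.1 hb.1, by
       have h1 : ⁅a * b, h⁆ = a * ⁅b, h⁆ * a⁻¹ * ⁅a, h⁆ := by
         simp only [commutatorElement_def]; group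
       rw [h1, s.conjz hb.2 ha.1]
       exact mul_mem hb.2 ha.2⟩
     inv_mem' := fun {a} ha => ⟨P.inv_mem ha.1, by
       have h1 : ⁅a⁻¹, h⁆ = a⁻¹ * ⁅a, h⁆⁻¹ * a⁻¹⁻¹ := by
         simp only [commutatorElement_def]; group
       rw [h1, s.conjz (inv_mem ha.2) (inv_mem ha.1)]
       exact inv_mem ha.2⟩ }, fun _ => Iff.rfl⟩

theorem S.all (s : S P z) {w h : G} (hw : w ∈ P) (hn : w ∉ Cz ⁅P, P⁆)
    (h1 : ⁅w, h⁆ ∈ zpowers z) (h2 : ∀ m ∈ P, m ∈ Cz ⁅P, P⁆ → ⁅m, h⁆ ∈ zpowers z) :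
    ∀ g ∈ P, ⁅g, h⁆ ∈ zpowers z := fun g hg => by
  by_cases h3 : g ∈ Cz ⁅P, P⁆
  · exact h2 g hg h3
  obtain ⟨K, hK⟩ := s.exK h
  have h4 := mul_mem (inv_mem hw) hg
  have h5 := mul_mem ((hK w).2 ⟨hw, h1⟩) ((hK _).2 ⟨h4, h2 _ h4 (s.out hw hn hg h3)⟩)
  rw [mul_inv_cancel_left] at h5
  exact ((hK g).1 h5).2

theorem sym {a b : G} (h : ⁅a, b⁆ ∈ zpowers z) : ⁅b, a⁆ ∈ zpowers z :=
  commutatorElement_inv a b ▸ inv_mem h

theorem S.exy (s : S P z) {w : G} (hw : w ∈ P) (hn : w ∉ Cz ⁅P, P⁆) :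
    ∃ y ∈ P, y ∈ Cz ⁅P, P⁆ ∧ ⁅y, w⁆ ∉ zpowers z := by
  by_contra! h
  have h1 := s.all hw hn (h := w) (by simp) h
  have h2 : ∀ m ∈ P, m ∈ Cz ⁅P, P⁆ → ∀ g ∈ P, ⁅g, m⁆ ∈ zpowers z := fun m hm hm' =>
    s.all hw hn (sym (h m hm hm')) fun a ha ha' => s.mm hw hn ha ha' hm hm'
  have h3 : ⁅P, P⁆ ≤ zpowers z := commutator_le.2 fun a ha b hb =>
    s.all hw hn (sym (h1 b hb)) (fun m hm hm' => sym (h2 m hm hm' b hb)) a ha
  have h4 := card_le_of_le h3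
  rw [s.four, s.cz] at h4
  omega

theorem S.nsq (s : S P z) {w : G} (hw : w ∈ P) (hn : w ∉ Cz ⁅P, P⁆) : w * w ∉ ⁅P, P⁆ := by
  intro h
  obtain ⟨y, hy, h1, h2⟩ := s.exy hw hn
  have h3 := commutator_mem_commutator hy hw
  have h4 := s.act hw hn h3 h2
  have h5 : y * (w * w) * y⁻¹ = ⁅y, w⁆ * (w * ⁅y, w⁆ * w⁻¹) * (w * w) := by
    simp only [commutatorElement_def]; group
  rw [h4, ← mul_assoc ⁅y, w⁆, s.sq _ h3, one_mul, ← mem_Cz.1 h1 _ h, mul_inv_cancel_right,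
    right_eq_mul] at h5
  exact s.ne h5

theorem S.cp (s : S P z) {w : G} (hw : w ∈ P) (hn : w ∉ Cz ⁅P, P⁆) : CP P w ≤ 8 := by
  obtain ⟨y, hy, -, h2⟩ := s.exy hw hn
  obtain ⟨K, hK⟩ := s.exK w
  have h3 := commutator_mem_commutator hy hw
  have h4 := s.act hw hn h3 h2
  have h5 : K < P := lt_of_le_of_ne (fun g hg => ((hK g).1 hg).1) fun h =>
    h2 ((hK y).1 (h ▸ hy)).2
  have h6 : P ⊓ Cz (zpowers w) < K := by
    refine lt_of_le_of_ne (fun g hg => (hK g).2 ⟨hg.1, ?_⟩) fun h => ?_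
    · rw [commutatorElement_eq_one_iff_mul_comm.2 (mem_Cz_zpowers.1 hg.2).symm]
      exact one_mem _
    have h7 : ⁅y, w⁆ ∈ K := (hK _).2 ⟨dle P h3, sym (by
      rw [commutatorElement_def w, h4, mul_assoc, s.cen _ (inv_mem (dle P h3)) |>.symm,
        mul_inv_cancel_left]
      exact mem_zpowers z)⟩
    rw [← h] at h7
    rw [mem_Cz_zpowers.1 h7.2, mul_inv_cancel_right, left_eq_mul] at h4
    exact s.ne h4
  have h7 := card_le_half h5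
  have h8 := card_le_half h6
  rw [s.card] at h7
  change Nat.card (P ⊓ Cz (zpowers w) : Subgroup G) ≤ 8
  omega

theorem S.odd (s : S P z) {Q : Subgroup G} {x t : G} (hQ : Q ≤ P) (hx : x ∈ Q)
    (hn : x ∉ Cz ⁅P, P⁆) (ht : t ∈ Nz Q) (ho : ¬ 2 ∣ orderOf t) : t ∈ Cz Q := by
  have h2 := s.two.to_le hQ
  have hD : ⁅Q, Q⁆ ≤ ⁅P, P⁆ := commutator_mono hQ hQ
  have ht' := nzd Q ht
  have h3 : Nat.card Q ≤ Nat.card (⁅Q, Q⁆ : Subgroup G) * 8 := by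
    by_cases h : Q = P
    · rw [h, s.card, s.four]
    have h3 := card_le_half (lt_of_le_of_ne hQ h)
    rw [s.card] at h3
    by_cases h4 : ⁅Q, Q⁆ = ⊥
    · have h5 : Q ≤ P ⊓ Cz (zpowers x) := fun a ha => ⟨hQ ha, mem_Cz_zpowers.2
        (commutatorElement_eq_one_iff_mul_comm.1 (mem_bot.1 (h4 ▸ commutator_mem_commutator hx ha)))⟩
      rw [h4, card_bot]
      exact (card_le_of_le h5).trans (s.cp (hQ hx) hn)
    · have := (one_lt_card_iff_ne_bot _).2 h4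
      omega
  have := H18.normal_subgroupOf_of_le_Nz (le_normalizer.trans (nzd Q))
  have h4 : Nat.card (⁅Q, Q⁆ : Subgroup G) * (⁅Q, Q⁆ : Subgroup G).relIndex Q = Nat.card Q := by
    rw [← H4.card_subgroupOf_of_le (dle Q)]; exact (Subgroup.subgroupOf _ Q).card_mul_index
  have h5 : SA Q ⁅Q, Q⁆ ⟨t, ht, ht'⟩ = 1 := by
    by_contra h
    refine s.nsq (hQ hx) hn (hD ((mk_eq_one_iff (H := Q) (M := ⁅Q, Q⁆) ⟨x * x, mul_mem hx hx⟩).1
      (sq_eq_one_of_card_le (h2.to_quotient _) (fun a b => ?_) ?_ (SA_odd _ ho) h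
        ((⟨x, hx⟩ : Q) : Q ⧸ (⁅Q, Q⁆ : Subgroup G).subgroupOf Q))))
    · obtain ⟨a, rfl⟩ := QuotientGroup.mk_surjective a
      obtain ⟨b, rfl⟩ := QuotientGroup.mk_surjective b
      exact commutatorElement_eq_one_iff_mul_comm.1
        ((mk_eq_one_iff ⁅a, b⁆).2 (commutator_mem_commutator a.2 b.2))
    · rw [card_sec]
      exact Nat.le_of_mul_le_mul_left (h4 ▸ h3) Nat.card_pos
  have h6 : t ∈ Cz ⁅Q, Q⁆ := by
    by_cases h : z ∈ ⁅Q, Q⁆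
    · refine mem_Cz_of_card_le (h2.to_le (dle Q)) ho ht' (zpowers_le.2 h) (mem_Cz_zpowers.2 ?_)
        (by rw [s.cz]; exact (card_le_of_le hD).trans s.four.le)
      have h6 := hD (conj_mem_of_mem_Nz' ht' h)
      have h7 : t * z * t⁻¹ ∈ zpowers z := by
        by_contra h7
        have h8 := s.act (hQ hx) hn h6 h7
        have h9 := s.cen _ (hQ (conj_mem_of_mem_Nz ht hx))
        have h10 : x * (t * z * t⁻¹) * x⁻¹ = t * (t⁻¹ * x * t * z) * t⁻¹ * x⁻¹ := by group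
        rw [h10, h9, show t * (z * (t⁻¹ * x * t)) * t⁻¹ * x⁻¹ = t * z * t⁻¹ by group,
          left_eq_mul] at h8
        exact s.ne h8
      rcases s.memz h7 with h8 | h8
      · exact (s.ne (by simpa using h8)).elim
      · exact (mul_inv_eq_iff_eq_mul.1 h8).symm
    · have h6 := card_le_half (lt_of_le_of_ne hD fun h1 => h (h1 ▸ s.mem))
      refine mem_Cz_of_card_le (h2.to_le (dle Q)) ho ht' bot_le (mem_Cz.2 fun q hq => ?_) ?_
      · rw [mem_bot.1 hq]; simp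
      · rw [s.four] at h6
        rw [card_bot]; omega
  exact mem_Cz.2 fun a ha => (comm_of_comm h2 ho ht ha
    (mem_Cz.1 h6 _ ((SA_eq_one_iff _).1 h5 a ha)).symm).symm

end

theorem gc2 : GC2Stmt.{u} := by
  intro G _ _ P h32 h4 h2 hn
  have : Fact (Nat.Prime 2) := ⟨Nat.prime_two⟩
  have hP : IsPGroup 2 P := IsPGroup.of_card (n := 5) h32
  obtain ⟨z, hz, h1, hc⟩ := H5.exists_ne_one_mem_centralizer_of_isPGroup hP (hP.to_le (dle P))
    (fun h => by rw [h, card_bot] at h4; omega) (le_normalizer.trans (nzd P))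
  have s : S P z := ⟨h32, h4, h2, hz, h1, hc⟩
  obtain ⟨w, hw, hw'⟩ := SetLike.not_le_iff_exists.1 hn
  obtain ⟨u, ⟨hu, hu'⟩, hm⟩ := Set.exists_max_image {w | w ∈ P ∧ w ∉ Cz ⁅P, P⁆} (CP P)
    (Set.toFinite _) ⟨w, hw, hw'⟩
  have h8 := s.cp hu hu'
  have h9 : 2 ≤ orderOf u := by
    have h9 : orderOf u ≠ 1 := fun h => hu' (orderOf_eq_one_iff.1 h ▸ one_mem _)
    have := orderOf_pos u
    omega
  refine ⟨{w | w ∈ P ∧ w ∉ Cz ⁅P, P⁆}, u, hu, ⟨hu, hu'⟩, fun v _ hv => hm v hv, by omega,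
    by rw [h4, h32]; omega, fun Q N hE => ?_⟩
  obtain ⟨n, hn, x, hx, ⟨hxP, hxC⟩, hb⟩ := hE.bad
  have h3 := H86.Ol.le_sup_of_odd hE le_rfl hE.sN hE.cN
    (fun t ht ho => s.odd hE.le hx hxC (hE.nz ht) ho) hn
  obtain ⟨a, ha, k, hk, rfl⟩ := (mem_sup_iff_of_le_Nz (inf_le_right.trans (Nz_le_Nz_Cz Q))).1 h3
  have h5 : a * k * x * (a * k)⁻¹ = a * x * a⁻¹ := by
    rw [mul_assoc a k, ← mem_Cz.1 hk x hx]; group
  refine hb ⟨h5 ▸ mul_mem (mul_mem ha.1 hxP) (inv_mem ha.1), fun h => hxC ?_⟩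
  have h6 := (conj_mem_Cz (nzd P (le_normalizer ha.1))).2 (h5 ▸ h)
  rwa [show a⁻¹ * (a * x * a⁻¹) * a = x by group] at h6

end Cfsg.Agent.H88.Ol
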