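import Mathlib
import Cfsg.Agent.H88.Tower
import Cfsg.Agent.H8.Residual
import Cfsg.Agent.H53.PSolv
import Cfsg.Agent.H51.Constraint
import Cfsg.Agent.H2.SchurZassenhaus
import Cfsg.Agent.H3.Frattini

/-! `p`-soluble groups whose maximal subgroups are `p`-nilpotent or of prime index. -/

set_option autoImplicit false

namespace Cfsg.Agent.H88

open Cfsg.Agent.H63 Cfsg.Agent.H67 Cfsg.Agent.H69 Subgroup
open scoped IsMulCommutative commutatorElement Pointwise

variable {p : ℕ} [hp : Fact p.Prime] {G : Type*} [Group G] [Finite G]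

theorem pPrimeCore_quotient_eq_bot_of_le_frattini {N : Subgroup G} [hN : N.Normal]
    (hNp : IsPGroup p N) (hNF : N ≤ frattini G) (h0 : pPrimeCore p G = ⊥) :
    pPrimeCore p (G ⧸ N) = ⊥ := by
  set U := (pPrimeCore p (G ⧸ N)).comap (QuotientGroup.mk' N) with hU
  have := H3.pPrimeCore_characteristic p (G ⧸ N)
  have hUn : U.Normal := inferInstance
  have hNU : N ≤ U := fun x hx => by
    rw [hU, mem_comap, QuotientGroup.mk'_apply, (QuotientGroup.eq_one_iff x).2 hx]
    exact one_mem _
  have hidx : (N.subgroupOf U).index = Nat.card (pPrimeCore p (G ⧸ N)) := by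
    change N.relIndex U = _
    conv_lhs => rw [← QuotientGroup.ker_mk' N, hU]
    rw [Subgroup.relIndex_ker, Subgroup.map_comap_eq_self_of_surjective (QuotientGroup.mk'_surjective N)]
  have hNp' : IsPGroup p (N.subgroupOf U) := hNp.comap_subtype
  have hcop : (Nat.card (N.subgroupOf U)).Coprime (N.subgroupOf U).index := by
    obtain ⟨k, hk⟩ := hNp'.exists_card_eq
    rw [hk, hidx]
    exact (H3.pPrimeCore_coprime p _).symm.pow_left k
  obtain ⟨H, hH⟩ := Subgroup.exists_right_complement'_of_coprime hcop
  have hsol : Group.IsSolvable (N.subgroupOf U) := by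
    have := hNp'.isNilpotent
    infer_instance
  have hnorm : N ⊔ N[H.map U.subtype] = ⊤ := by
    rw [eq_top_iff]
    intro g _
    have hinj : Function.Injective (MulAut.conjNormal (H := U) g).toMonoidHom :=
      (MulAut.conjNormal (H := U) g).injective
    have hH' : (N.subgroupOf U).IsComplement' (H.map (MulAut.conjNormal g).toMonoidHom) := by
      have e : (N.subgroupOf U).map (MulAut.conjNormal (H := U) g).toMonoidHom = N.subgroupOf U := by
        apply Subgroup.eq_of_le_of_card_ge
        · rintro _ ⟨x, hx, rfl⟩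
          exact hN.conj_mem _ hx g
        · rw [Subgroup.card_map_of_injective hinj]
      rw [← e]
      apply Subgroup.isComplement'_of_card_mul_and_disjoint
      · rw [Subgroup.card_map_of_injective hinj,
          Subgroup.card_map_of_injective hinj, hH.card_mul_card]
      · rw [disjoint_iff, ← Subgroup.map_inf _ _ _ hinj,
          disjoint_iff.1 hH.disjoint, Subgroup.map_bot]
    obtain ⟨n, hn, hnH⟩ := H2.schurZassenhaus_conj' _ hcop _ _ (Or.inl hsol) hH hH'
    have hm : (n : G)⁻¹ * g ∈ N[H.map U.subtype] := by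
      apply Subgroup.mem_normalizer_fintype
      rintro _ ⟨h, hh, rfl⟩
      have h1 : (MulAut.conjNormal (H := U) g) h ∈ MulAut.conj n • H := hnH ▸ ⟨h, hh, rfl⟩
      rw [Subgroup.mem_pointwise_smul_iff_inv_smul_mem] at h1
      refine ⟨_, h1, ?_⟩
      simp [mul_assoc]
    have e : g = n * ((n : G)⁻¹ * g) := by group
    rw [e]
    exact mul_mem (mem_sup_left hn) (mem_sup_right hm)
  have hHn : (H.map U.subtype).Normal := by
    rw [← Subgroup.normalizer_eq_top_iff]
    apply frattini_nongenerating
    rw [eq_top_iff, ← hnorm, sup_comm]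
    exact sup_le_sup_left hNF _
  have hcard : Nat.card (H.map U.subtype) = Nat.card (pPrimeCore p (G ⧸ N)) := by
    rw [Subgroup.card_map_of_injective U.subtype_injective, ← hidx, hH.symm.index_eq_card]
  have := (H3.pPrimeCore_eq_bot_iff.1 h0) _ hHn (hcard ▸ H3.pPrimeCore_coprime p _)
  rw [this, Subgroup.card_bot] at hcard
  exact Subgroup.card_eq_one.1 hcard.symm

/-- every maximal subgroup is `p`-nilpotent or has prime index -/
def MaxPN (p : ℕ) (G : Type*) [Group G] : Prop :=
  ∀ M : Subgroup G, IsCoatom M → HasNormalPComplement p M ∨ M.index.Prime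

theorem MaxPN.of_surjective {A : Type*} [Group A] (h : MaxPN p G) {f : G →* A}
    (hf : Function.Surjective f) : MaxPN p A := by
  intro M hM
  rcases h _ (Subgroup.isCoatom_comap_of_surjective hf hM) with h1 | h1
  · left
    have := H8.HasNormalPComplement.map h1 f
    rwa [Subgroup.map_comap_eq_self_of_surjective hf] at this
  · right
    rwa [Subgroup.index_comap_of_surjective _ hf] at h1

theorem MaxPN.core (h : MaxPN p G) (hF : frattini G = ⊥)
    (hC : C[pCore p G] ≤ pCore p G) : HasNormalPComplement p (G ⧸ pCore p G) := by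
  set P := pCore p G with hP
  have hPp : IsPGroup p P := H3.pCore_isPGroup p G
  have hPab : P ≤ C[P] := le_cent_of_commutator_eq_bot (eq_bot_iff.2
    ((H3.commutator_le_map_frattini hPp).trans ((H3.map_frattini_le_frattini P).trans hF.le)))
  set m := ordCompl[p] (Nat.card G) with hm
  have hmc : m.Coprime p := (Nat.coprime_ordCompl hp.out Nat.card_pos.ne').symm
  have key : ∀ k ∈ pResidual p G, k ^ m ∈ P := by
    intro k hk
    apply hC
    rw [mem_centralizer_iff]
    intro v hv
    suffices k ^ m * v * (k ^ m)⁻¹ * v⁻¹ ∈ frattini G by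
      rw [hF, mem_bot, mul_inv_eq_one, mul_inv_eq_iff_eq_mul] at this
      exact this.symm
    rw [H3.mem_frattini_iff]
    intro M hM
    by_cases hPM : P ≤ M
    · exact hPM (mul_mem ((inferInstance : P.Normal).conj_mem _ hv _) (inv_mem hv))
    have htop : M ⊔ P = ⊤ := hM.2 _ (lt_of_le_of_ne le_sup_left fun e => hPM (e ▸ le_sup_right))
    have hYn : (P ⊓ M).Normal := by
      rw [← Subgroup.normalizer_eq_top_iff, eq_top_iff, ← htop]
      refine sup_le (le_normalizer_inf (le_top.trans (Subgroup.normalizer_eq_top P).ge)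
        Subgroup.le_normalizer) (le_normalizer_of_le_centralizer (hPab.trans (centralizer_anti inf_le_left)))
    set π := QuotientGroup.mk' (P ⊓ M) with hπ
    have hπs : Function.Surjective π := QuotientGroup.mk'_surjective _
    have hXn : (P.map π).Normal := Subgroup.Normal.map inferInstance π hπs
    set D := C[P.map π].comap π with hD
    have hDn : D.Normal := inferInstance
    have hPD : P ≤ D := by
      intro x hx
      rw [hD, mem_comap, mem_centralizer_iff]
      rintro _ ⟨y, hy, rfl⟩
      rw [← map_mul, ← map_mul, hPab hx y hy]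
    have hQ : HasNormalPComplement p (G ⧸ D) := by
      rcases h M hM with h1 | h1
      · refine H8.HasNormalPComplement.of_surjective h1 ((QuotientGroup.mk' D).comp M.subtype) ?_
        intro x
        obtain ⟨x, rfl⟩ := QuotientGroup.mk_surjective x
        have hx : x ∈ M ⊔ P := htop ▸ mem_top x
        obtain ⟨a, ha, b, hb, rfl⟩ := (mem_sup_of_le_normalizer
          (le_top.trans (Subgroup.normalizer_eq_top P).ge)).1 hx
        refine ⟨⟨a, ha⟩, ?_⟩
        change (a : G ⧸ D) = _
        rw [QuotientGroup.mk_mul, (QuotientGroup.eq_one_iff b).2 (hPD hb), mul_one]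
      · apply H8.hasNormalPComplement_of_not_dvd
        have e1 : Nat.card (P.map π) = M.index := by
          rw [H3.index_eq_relIndex_of_sup_eq_top htop, ← Subgroup.relIndex_ker, hπ,
            QuotientGroup.ker_mk', inf_comm, Subgroup.inf_relIndex_right]
        obtain ⟨j, hj⟩ := (hPp.map π).exists_card_eq
        have e2 : Nat.card (P.map π) = p := by
          rw [← e1, hj] at h1
          rw [hj, h1.eq_one_of_pow, pow_one]
        have e3 := relIndex_cent_dvd_pred_of_prime_card (X := P.map π) (A := ⊤) (e2 ▸ hp.out)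
          (Subgroup.normalizer_eq_top _).ge
        rw [e2, Subgroup.relIndex_top_right] at e3
        rw [← Subgroup.index_eq_card, hD, Subgroup.index_comap_of_surjective _ hπs]
        intro hd
        have h2 := hp.out.two_le
        have := Nat.le_of_dvd (by omega) (hd.trans e3)
        omega
    have h3 := H8.hasNormalPComplement_iff_forall_coprime.1 hQ (QuotientGroup.mk' D k)
      (H8.map_pResidual_le p (QuotientGroup.mk' D) ⟨k, hk, rfl⟩)
    have h4 : orderOf (QuotientGroup.mk' D k) ∣ m := by
      have a1 : orderOf (QuotientGroup.mk' D k) ∣ Nat.card G :=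
        (orderOf_map_dvd _ k).trans (orderOf_dvd_natCard k)
      rw [← Nat.ordProj_mul_ordCompl_eq_self (Nat.card G) p] at a1
      exact (h3.pow_right _).dvd_of_dvd_mul_left a1
    have h5 : k ^ m ∈ D := by
      rw [← QuotientGroup.eq_one_iff]
      exact (map_pow (QuotientGroup.mk' D) k m).trans (orderOf_dvd_iff_pow_eq_one.1 h4)
    have h6 := h5 (π v) ⟨v, hv, rfl⟩
    have h7 : π (k ^ m * v * (k ^ m)⁻¹ * v⁻¹) = 1 := by
      rw [map_mul, map_mul, map_mul, ← h6, map_inv, map_inv]; group
    exact ((QuotientGroup.eq_one_iff _).1 h7).2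
  rw [H8.hasNormalPComplement_iff_forall_coprime]
  intro x hx
  rw [← H8.map_pResidual_of_surjective (QuotientGroup.mk'_surjective P)] at hx
  obtain ⟨k, hk, rfl⟩ := hx
  refine Nat.Coprime.coprime_dvd_left (orderOf_dvd_iff_pow_eq_one.2 ?_) hmc
  rw [← map_pow]
  exact (QuotientGroup.eq_one_iff _).2 (key k hk)

theorem MaxPN.chain (h : MaxPN p G) (hG : IsPSolvable p G) :
    ∃ A B C : Subgroup G, A.Normal ∧ B.Normal ∧ C.Normal ∧ A ≤ B ∧ B ≤ C ∧ ¬ p ∣ Nat.card A ∧
      (∃ k : ℕ, A.relIndex B = p ^ k) ∧ ¬ p ∣ B.relIndex C ∧ ∃ k : ℕ, C.index = p ^ k := by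
  have := H3.pPrimeCore_characteristic p G
  let G₁ := G ⧸ pPrimeCore p G
  have h01 : pPrimeCore p G₁ = ⊥ := H3.pPrimeCore_quotient_pPrimeCore p G
  have hΦ : IsPGroup p (frattini G₁) := by
    have : frattini G₁ ≤ pCore p G₁ := H3.fitting_eq_pCore h01 ▸ H3.le_fitting frattini_nilpotent
    exact (H3.pCore_isPGroup p G₁).to_le this
  let G₂ := G₁ ⧸ frattini G₁
  have h02 : pPrimeCore p G₂ = ⊥ := pPrimeCore_quotient_eq_bot_of_le_frattini hΦ le_rfl h01
  have s1 := QuotientGroup.mk'_surjective (pPrimeCore p G)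
  have s2 := QuotientGroup.mk'_surjective (frattini G₁)
  have hc := ((h.of_surjective s1).of_surjective s2).core (H3.frattini_quotient_frattini G₁)
    (H53.centralizer_pCore_le (H53.isPSolvable_quotient (H53.isPSolvable_quotient hG _) _) h02)
  let f : G →* G₂ ⧸ pCore p G₂ :=
    (QuotientGroup.mk' _).comp ((QuotientGroup.mk' _).comp (QuotientGroup.mk' _))
  have hf : Function.Surjective f := (QuotientGroup.mk'_surjective _).comp (s2.comp s1)
  have hk : f.ker = (pCore p G₁).comap (QuotientGroup.mk' (pPrimeCore p G)) := by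
    rw [← MonoidHom.comap_ker, QuotientGroup.ker_mk', ← Subgroup.comap_comap,
      H3.comap_pCore_eq s2 (by rw [QuotientGroup.ker_mk']; exact hΦ)]
  have := H8.pResidual_normal (G := G₂ ⧸ pCore p G₂) p
  refine ⟨pPrimeCore p G, f.ker, (pResidual p _).comap f, inferInstance, inferInstance, inferInstance,
    ?_, Subgroup.ker_le_comap _ _, H3.not_dvd_card_pPrimeCore p G, ?_, ?_, ?_⟩
  · rw [hk]
    conv_lhs => rw [← QuotientGroup.ker_mk' (pPrimeCore p G)]
    exact Subgroup.ker_le_comap _ _
  · obtain ⟨k, hk'⟩ := (H3.pCore_isPGroup p G₁).exists_card_eq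
    refine ⟨k, ?_⟩
    have e := Subgroup.relIndex_ker (f := QuotientGroup.mk' (pPrimeCore p G))
      ((pCore p G₁).comap (QuotientGroup.mk' (pPrimeCore p G)))
    rw [QuotientGroup.ker_mk', Subgroup.map_comap_eq_self_of_surjective s1, hk'] at e
    rw [hk, e]
  · rw [Subgroup.relIndex_ker, Subgroup.map_comap_eq_self_of_surjective hf]
    exact H8.hasNormalPComplement_iff_not_dvd.1 hc
  · rw [Subgroup.index_comap_of_surjective _ hf]
    exact H8.exists_index_pResidual_eq p

theorem maxPN_of (hmax : ∀ M : Subgroup G, IsCoatom M → (∃ K : Subgroup ↥M, K.Normal ∧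
    ¬ p ∣ Nat.card K ∧ ∃ k : ℕ, K.index = p ^ k) ∨ (M.index).Prime) : MaxPN p G := by
  intro M hM
  refine (hmax M hM).imp_left ?_
  rintro ⟨K, hK, h1, k, hk⟩
  exact H8.hasNormalPComplement_of_normal h1 (IsPGroup.of_card hk)

end Cfsg.Agent.H88
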