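import Mathlib
import Cfsg.Agent.H4.HHLinear

/-! Lower bounds for the dimension of the centralizer of an operator. -/

set_option autoImplicit false
set_option linter.unusedSectionVars false

namespace Cfsg.Agent.H88.Tu

open Module Polynomial

universe u

variable {K : Type*} [Field K] {U : Type u} [AddCommGroup U] [Module K U] [FiniteDimensional K U]

/-- The space of operators commuting with `T`. -/
noncomputable def cen (T : End K U) : Submodule K (End K U) :=
  LinearMap.ker (LinearMap.mulLeft K T - LinearMap.mulRight K T)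

theorem mem_cen {T φ : End K U} : φ ∈ cen T ↔ T * φ = φ * T := by
  simp [cen, sub_eq_zero]

/-- `(dim U)² ≤ k · dim C(T)`. -/
def Bd (T : End K U) (k : ℕ) : Prop := finrank K U ^ 2 ≤ k * finrank K (cen T)

theorem Bd.mono {T : End K U} {k l : ℕ} (h : Bd T k) (hkl : k ≤ l) : Bd T l :=
  le_trans h (Nat.mul_le_mul_right _ hkl)

theorem bd_zero [Subsingleton U] (T : End K U) (k : ℕ) : Bd T k := by
  simp [Bd, finrank_zero_of_subsingleton]

theorem bd_scalar {T : End K U} {c : K} (h : ∀ u, T u = c • u) : Bd T 1 := by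
  have : cen T = ⊤ := eq_top_iff.2 fun φ _ => mem_cen.2 (by ext u; simp [h])
  rw [Bd, this, finrank_top, Module.finrank_linearMap, one_mul, pow_two]

theorem bd_sum {ι : Type*} [Fintype ι] (W : ι → Submodule K U) (hi : iSupIndep W)
    (hs : iSup W = ⊤) {T : End K U} (hT : ∀ i, ∀ x ∈ W i, T x ∈ W i) (k : ι → ℕ)
    (h : ∀ i, Bd (T.restrict (hT i)) (k i)) : Bd T (∑ i, k i) := by
  classical
  let e : (∀ i, W i) ≃ₗ[K] U := (DirectSum.linearEquivFunOnFintype K ι (fun i => W i)).symm.trans
    (LinearEquiv.ofBijective (DirectSum.coeLinearMap W)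
      (DirectSum.isInternal_submodule_of_iSupIndep_of_iSup_eq_top hi hs))
  have he : ∀ i (x : W i), e (Pi.single i x) = x := by
    intro i x
    simp only [e, LinearEquiv.trans_apply, DirectSum.linearEquivFunOnFintype_symm_single,
      LinearEquiv.ofBijective_apply]
    exact DirectSum.coeLinearMap_of W i x
  have hTe : ∀ x, T (e x) = e (fun i => T.restrict (hT i) (x i)) := by
    have : T ∘ₗ e.toLinearMap = e.toLinearMap ∘ₗ LinearMap.piMap (fun i => T.restrict (hT i)) := by
      refine LinearMap.pi_ext fun i x => ?_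
      have : LinearMap.piMap (fun i => T.restrict (hT i)) (Pi.single i x) =
          Pi.single i (T.restrict (hT i) x) := by
        funext j
        by_cases hj : j = i
        · subst hj; simp
        · simp [Pi.single_eq_of_ne hj]
      simp only [LinearMap.comp_apply, LinearEquiv.coe_coe, this, he]
      rfl
    intro x
    exact LinearMap.congr_fun this x
  let Φ : (∀ i, cen (T.restrict (hT i))) →ₗ[K] cen T :=
    { toFun := fun φ => ⟨e.toLinearMap ∘ₗ LinearMap.piMap (fun i => (φ i : End K (W i))) ∘ₗ
          e.symm.toLinearMap, mem_cen.2 (by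
        ext u
        obtain ⟨x, rfl⟩ := e.surjective u
        simp only [End.mul_apply, LinearMap.comp_apply, LinearEquiv.coe_coe, hTe,
          LinearEquiv.symm_apply_apply]
        congr 1
        funext i
        exact LinearMap.congr_fun (mem_cen.1 (φ i).2) (x i))⟩
      map_add' := fun φ ψ => by
        ext u
        simp only [LinearMap.comp_apply, LinearEquiv.coe_coe, Submodule.coe_add,
          LinearMap.add_apply, ← map_add]
        rfl
      map_smul' := fun c φ => by
        ext u
        simp only [LinearMap.comp_apply, LinearEquiv.coe_coe, Submodule.coe_smul,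
          LinearMap.smul_apply, RingHom.id_apply]
        rw [← map_smul]
        rfl }
  have hΦ : Function.Injective Φ := by
    rw [injective_iff_map_eq_zero]
    intro φ hφ
    funext i
    ext x
    have h1 := LinearMap.congr_fun (congrArg Subtype.val hφ) (e (Pi.single i x))
    simp only [Φ, LinearMap.coe_mk, AddHom.coe_mk, LinearMap.comp_apply, LinearEquiv.coe_coe,
      LinearEquiv.symm_apply_apply, ZeroMemClass.coe_zero, LinearMap.zero_apply,
      map_eq_zero_iff _ e.injective] at h1
    have := congrFun h1 i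
    simpa using this
  have h1 := LinearMap.finrank_le_finrank_of_injective hΦ
  rw [Module.finrank_pi_fintype] at h1
  rw [Bd, ← e.finrank_eq, Module.finrank_pi_fintype]
  exact le_trans (Finset.sum_sq_le_sum_mul_sum_of_sq_le_mul Finset.univ (fun _ _ => Nat.zero_le _)
    (fun _ _ => Nat.zero_le _) fun i _ => h i) (Nat.mul_le_mul_left _ h1)

theorem eig_inv {s T : End K U} (h : s * T = T * s) (μ : K) :
    ∀ x ∈ s.eigenspace μ, T x ∈ s.eigenspace μ := fun x hx => by
  rw [End.mem_eigenspace_iff] at hx ⊢
  rw [← End.mul_apply, h, End.mul_apply, hx, map_smul]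

theorem pow_apply_eig {s : End K U} {μ : K} {x : U} (hx : s x = μ • x) (m : ℕ) :
    (s ^ m) x = μ ^ m • x := by
  induction m with
  | zero => simp
  | succ m ih => rw [pow_succ, End.mul_apply, hx, map_smul, ih, smul_smul, pow_succ']

theorem bd_eig [IsAlgClosed K] {s T : End K U} {m : ℕ} {c : K} (hm : (m : K) ≠ 0) (hc : c ≠ 0)
    (hs : ∀ u, (s ^ m) u = c • u) (h : s * T = T * s) (k : K → ℕ)
    (hk : ∀ μ, μ ^ m = c → Bd (T.restrict (eig_inv h μ)) (k μ)) :
    Bd T (∑ μ ∈ nthRootsFinset m c, k μ) := by
  have m0 : 0 < m := Nat.pos_of_ne_zero (by rintro rfl; exact hm Nat.cast_zero)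
  rw [← Finset.sum_coe_sort]
  refine bd_sum (fun μ : nthRootsFinset m c => s.eigenspace μ)
    (s.eigenspaces_iSupIndep.comp Subtype.val_injective) ?_ (fun μ => eig_inv h μ) _
    fun μ => hk μ ((mem_nthRootsFinset m0 c).1 μ.2)
  have h1 : s.IsSemisimple := End.isSemisimple_of_squarefree_aeval_eq_zero
    (separable_X_pow_sub_C c hm hc).squarefree (by ext u; simp [hs, Algebra.algebraMap_eq_smul_one])
  rw [eq_top_iff, ← h1.iSup_eigenspace_eq_top]
  refine iSup_le fun μ => ?_
  by_cases hμ : μ ^ m = c
  · exact le_iSup_of_le ⟨μ, (mem_nthRootsFinset m0 c).2 hμ⟩ le_rfl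
  · intro x hx
    have h2 := pow_apply_eig (End.mem_eigenspace_iff.1 hx) m
    rw [hs, ← sub_eq_zero, ← sub_smul, smul_eq_zero, sub_eq_zero] at h2
    rw [h2.resolve_left (Ne.symm hμ)]
    exact zero_mem _

theorem card_roots_le (m : ℕ) (c : K) : (nthRootsFinset m c).card ≤ m := by
  classical
  rw [nthRootsFinset_def]
  exact (Multiset.toFinset_card_le _).trans (card_nthRoots m c)

theorem bd_pow [IsAlgClosed K] {T : End K U} {τ : ℕ} (hτ : τ.Prime) {c : K} (hc : c ≠ 0)
    (hT : ∀ u, (T ^ τ) u = c • u) : Bd T τ := by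
  by_cases hm : (τ : K) = 0
  · rcases subsingleton_or_nontrivial U with _ | _
    · exact bd_zero _ _
    have := Fact.mk hτ
    have : CharP K τ := (CharP.charP_iff_prime_eq_zero hτ).2 hm
    have : CharP (End K (End K U)) τ := charP_of_injective_algebraMap' K τ
    have h1 : (LinearMap.mulLeft K T - LinearMap.mulRight K T : End K (End K U)) ^ τ = 0 := by
      rw [sub_pow_char_of_commute _ (LinearMap.commute_mulLeft_right T T), LinearMap.pow_mulLeft,
        LinearMap.pow_mulRight]
      ext φ u
      simp [hT]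
    have h2 := H4.HH.finrank_ker_pow_le
      (LinearMap.mulLeft K T - LinearMap.mulRight K T : End K (End K U)) τ
    rwa [h1, LinearMap.ker_zero, finrank_top, Module.finrank_linearMap, ← pow_two] at h2
  · refine (bd_eig hm hc hT rfl (fun _ => 1) fun μ _ => bd_scalar (c := μ) fun u =>
      Subtype.ext (End.mem_eigenspace_iff.1 u.2)).mono ?_
    simpa using card_roots_le τ c

theorem bd_main [IsAlgClosed K] {s d : End K U} {r τ ε : ℕ} (hr : (r : K) ≠ 0) (hτ : τ.Prime)
    {c : K} (hc : c ≠ 0) (hs : s ^ r = 1) (hd : ∀ u, (d ^ τ) u = c • u) (hsd : s * d = d * s)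
    (h : (∀ u, s u = u → u = 0) ∨ (ε = 1 ∧ ∀ u, s u = u → d u = u)) :
    Bd (s * d) ((r - 1) * τ + ε) := by
  classical
  have r0 : 0 < r := Nat.pos_of_ne_zero (by rintro rfl; exact hr Nat.cast_zero)
  have h1 : s * (s * d) = s * d * s := by rw [mul_assoc, ← hsd]
  refine (bd_eig hr one_ne_zero (fun u => by rw [hs]; simp) h1 (fun μ => if μ = 1 then ε else τ)
    fun μ hμ => ?_).mono ?_
  · split_ifs with h2
    · subst h2
      rcases h with h | ⟨rfl, h⟩
      · have : Subsingleton (s.eigenspace 1) := ⟨fun a b => Subtype.ext (by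
          rw [h a (by simpa using End.mem_eigenspace_iff.1 a.2),
            h b (by simpa using End.mem_eigenspace_iff.1 b.2)])⟩
        exact bd_zero _ _
      · refine bd_scalar (c := 1) fun u => Subtype.ext ?_
        have h3 : s u = u := by simpa using End.mem_eigenspace_iff.1 u.2
        simp [h u h3, h3]
    · have μ0 : μ ≠ 0 := by
        rintro rfl
        rw [zero_pow r0.ne'] at hμ
        exact zero_ne_one hμ
      refine bd_pow hτ (c := c * μ ^ τ) (mul_ne_zero hc (pow_ne_zero _ μ0)) fun u =>
        Subtype.ext ?_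
      rw [Module.End.pow_restrict, LinearMap.coe_restrict_apply, Commute.mul_pow hsd,
        End.mul_apply, hd, map_smul, pow_apply_eig (End.mem_eigenspace_iff.1 u.2), smul_smul]
      rfl
  · have h2 : (1 : K) ∈ nthRootsFinset r (1 : K) := (mem_nthRootsFinset r0 1).2 (one_pow r)
    rw [← Finset.add_sum_erase _ _ h2, if_pos rfl, add_comm, Finset.sum_congr rfl
      (fun μ hμ => if_neg (Finset.ne_of_mem_erase hμ)), Finset.sum_const, smul_eq_mul,
      Finset.card_erase_of_mem h2]
    exact Nat.add_le_add_right (Nat.mul_le_mul_right _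
      (Nat.sub_le_sub_right (card_roots_le r 1) 1)) _

end Cfsg.Agent.H88.Tu
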