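import Cfsg.Agent.H88.TuBd
import Cfsg.Agent.H88.FrobFree

/-! Irreducible representations over algebraically closed fields: the two linear lemmas. -/

set_option autoImplicit false
set_option linter.unusedSectionVars false

namespace Cfsg.Agent.H88.Tu

open Module Subgroup
open scoped commutatorElement

universe u

variable {K : Type*} [Field K] [IsAlgClosed K] {U : Type u} [AddCommGroup U] [Module K U]
  [FiniteDimensional K U] {Γ : Type*} [Group Γ] [Finite Γ]

/-- Irreducibility. -/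
def Irr (ρ : Representation K Γ U) : Prop :=
  ∀ W : Submodule K U, (∀ g, ∀ x ∈ W, ρ g x ∈ W) → W = ⊥ ∨ W = ⊤

theorem Irr.schur [Nontrivial U] {ρ : Representation K Γ U} (h : Irr ρ) (B : End K U)
    (hB : ∀ g, B * ρ g = ρ g * B) : ∃ c : K, B = c • 1 := by
  obtain ⟨c, hc⟩ := End.exists_eigenvalue B
  refine ⟨c, ?_⟩
  have := (h (B.eigenspace c) fun g => eig_inv (hB g) c).resolve_left hc
  ext u
  simpa using End.mem_eigenspace_iff.1 (this.ge (Submodule.mem_top (x := u)))

theorem card_orbits {W : Type*} [Finite W] (β : Equiv.Perm W) (w : W) {n : ℕ}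
    (hn : orderOf β = n) (hw : β w = w) (h : ∀ k : ℕ, ¬ n ∣ k → ∀ x, (β ^ k) x = x → x = w) :
    Nat.card (MulAction.orbitRel.Quotient (zpowers β) W) * n = n - 1 + Nat.card W := by
  classical
  have := Fintype.ofFinite W
  have := Fintype.ofFinite (MulAction.orbitRel.Quotient (zpowers β) W)
  have h1 := MulAction.sum_card_fixedBy_eq_card_orbits_mul_card_group (zpowers β) W
  rw [Fintype.card_zpowers, hn, ← Finset.add_sum_erase _ _ (Finset.mem_univ 1),
    Finset.sum_congr rfl (g := fun _ => 1)] at h1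
  · rw [Nat.card_eq_fintype_card, ← h1, Finset.sum_const, Finset.card_erase_of_mem
      (Finset.mem_univ _), Finset.card_univ, Fintype.card_zpowers, hn]
    simp [add_comm]
  · intro g hg
    obtain ⟨k, hk⟩ := (mem_powers_iff_mem_zpowers.2 g.2)
    have hk' : β ^ k = g := hk
    have h2 : ¬ n ∣ k := fun hd => Finset.ne_of_mem_erase hg
      (Subtype.ext (by rw [← hk', orderOf_dvd_iff_pow_eq_one.1 (hn ▸ hd)]; rfl))
    rw [Fintype.card_eq_one_iff]
    refine ⟨⟨w, ?_⟩, fun x => Subtype.ext (h k h2 x ?_)⟩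
    · change (g : Equiv.Perm W) w = w
      rw [← hk']
      exact Equiv.Perm.pow_apply_eq_self_of_apply_eq_self hw k
    · rw [hk']
      exact x.2

theorem hfx0 [Nontrivial U] (ρ : Representation K Γ U) (hirr : Irr ρ) (E Z : Subgroup Γ) [E.Normal]
    (a : Γ) (hgen : E ⊔ zpowers a = ⊤) (hZE : Z ≤ E) (hZ : Z ≤ center Γ) (hEE : ⁅E, E⁆ ≤ Z)
    (hZc : ∀ x ∈ E, (∀ y ∈ E, y * x = x * y) → x ∈ Z) (hf : ∀ z ∈ Z, ρ z = 1 → z = 1)
    (hq : (Nat.card E : K) ≠ 0) (hne : ¬ E ≤ Z) {n : ℕ} (hn : 1 < n)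
    (han : ∀ x ∈ E, a ^ n * x = x * a ^ n) (hreg : ∀ k : ℕ, ¬ n ∣ k → ∀ x ∈ E, ⁅a ^ k, x⁆ ∈ Z → x ∈ Z)
    {k : ℕ} (hB : Bd (ρ a) k) : Z.relIndex E * n ≤ k * (n - 1 + Z.relIndex E) := by
  classical
  have := Fintype.ofFinite E
  let Z' := Z.subgroupOf E
  have hZn : Z.Normal := ⟨fun z hz g => by
    rw [mem_center_iff.1 (hZ hz) g, mul_inv_cancel_right]; exact hz⟩
  let W := E ⧸ Z'
  have : Fintype W := Fintype.ofFinite _
  have hs : ∀ z ∈ Z, ∃ c : K, ρ z = c • 1 := fun z hz => hirr.schur _ fun g => by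
    rw [← map_mul, ← map_mul, mem_center_iff.1 (hZ hz) g]
  choose! lam hlam using hs
  let b : W → End K U := fun x => ρ (x.out : E)
  have hb : ∀ t : E, ∃ c : K, ρ t = c • b (QuotientGroup.mk t) := fun t => by
    have h1 : ((((QuotientGroup.mk t : W).out)⁻¹ * t : E) : Γ) ∈ Z :=
      (QuotientGroup.eq (s := Z')).1 (QuotientGroup.out_eq' (QuotientGroup.mk t : W))
    refine ⟨lam (((QuotientGroup.mk t : W).out⁻¹ * t : E) : Γ), ?_⟩
    rw [← mul_one (b _), ← mul_smul_comm, ← hlam _ h1, ← map_mul]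
    simp
  have hcm : ∀ h g : E, (h : Γ) * g * (h : Γ)⁻¹ * (g : Γ)⁻¹ ∈ Z := fun h g =>
    hEE (commutator_mem_commutator h.2 g.2)
  have hli : LinearIndependent K b := by
    refine li_of_simul (H := E)
      (fun h => (LinearMap.mulLeft K (ρ h)).comp (LinearMap.mulRight K (ρ (h : Γ)⁻¹))) b
      (fun x h => lam ((h : Γ) * (x.out : E) * (h : Γ)⁻¹ * ((x.out : E) : Γ)⁻¹)) ?_ ?_ ?_
    · intro x y hxy
      have h1 : ∀ h : E, (h : Γ) * (x.out : E) * (h : Γ)⁻¹ * ((x.out : E) : Γ)⁻¹ =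
          h * (y.out : E) * (h : Γ)⁻¹ * ((y.out : E) : Γ)⁻¹ := by
        intro h
        have h2 : ρ ((h : Γ) * (x.out : E) * (h : Γ)⁻¹ * ((x.out : E) : Γ)⁻¹) =
            ρ (h * (y.out : E) * (h : Γ)⁻¹ * ((y.out : E) : Γ)⁻¹) := by
          rw [hlam _ (hcm _ _), hlam _ (hcm _ _)]
          exact congrArg (· • (1 : End K U)) (congrFun hxy h)
        exact mul_inv_eq_one.mp (hf _ (mul_mem (hcm _ _) (inv_mem (hcm _ _)))
          (by rw [map_mul, h2, ← map_mul]; simp))
      rw [← x.out_eq, ← y.out_eq, QuotientGroup.eq]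
      refine hZc _ (x.out⁻¹ * y.out).2 fun h hh => ?_
      have h2 := h1 ⟨h, hh⟩⁻¹
      have h3 : ((x.out : E) : Γ) * h * ((x.out : E) : Γ)⁻¹ = (y.out : E) * h * ((y.out : E) : Γ)⁻¹ := by
        have := congrArg (h * ·) h2
        simpa [mul_assoc] using this
      calc h * (((x.out : E) : Γ)⁻¹ * (y.out : E)) =
          ((x.out : E) : Γ)⁻¹ * ((x.out : E) * h * ((x.out : E) : Γ)⁻¹) * (y.out : E) := by group
        _ = ((x.out : E) : Γ)⁻¹ * (y.out : E) * h := by rw [h3]; group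
    · intro x hx
      have h1 := H4.HH.rep_mul_inv ρ ((x.out : E) : Γ)
      rw [show ρ ((x.out : E) : Γ) = 0 from hx, zero_mul] at h1
      exact zero_ne_one h1
    · intro h x
      simp only [b, LinearMap.comp_apply, LinearMap.mulLeft_apply, LinearMap.mulRight_apply,
        ← map_mul]
      rw [← one_mul (ρ ((x.out : E) : Γ)), ← smul_mul_assoc, ← hlam _ (hcm _ _), ← map_mul]
      congr 1; group
  -- the operator `ρ a` lies in the span of `ρ E`
  obtain ⟨c, hc⟩ := hirr.schur (∑ t : E, ρ t * ρ a * ρ (t : Γ)⁻¹) fun g => by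
    have : g ∈ E ⊔ zpowers a := hgen ▸ mem_top g
    rw [sup_eq_closure] at this
    induction this using closure_induction with
    | mem x hx =>
      rcases hx with hx | ⟨m, rfl⟩
      · exact H4.HH.avg_commute ρ E _ x hx
      · rw [Finset.sum_mul, Finset.mul_sum]
        refine Fintype.sum_equiv (MulAut.conjNormal (H := E) (a ^ m)⁻¹).toEquiv _ _ fun t => ?_
        simp only [← map_mul]
        congr 1
        change _ = a ^ m * ((a ^ m)⁻¹ * t * (a ^ m)⁻¹⁻¹ * a * ((a ^ m)⁻¹ * t * (a ^ m)⁻¹⁻¹)⁻¹)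
        group
    | one => simp
    | mul x y _ _ hx hy => rw [map_mul, ← mul_assoc, hx, mul_assoc, hy, mul_assoc]
    | inv x _ hx =>
      rw [← one_mul (_ * ρ x⁻¹), ← H4.HH.rep_inv_mul ρ x, mul_assoc, ← mul_assoc (ρ x), ← hx,
        mul_assoc _ (ρ x), H4.HH.rep_mul_inv, mul_one]
  have hca : ∀ t : E, ⁅(t : Γ), a⁆ ∈ E := fun t => by
    rw [commutatorElement_def, mul_assoc, mul_assoc, ← mul_assoc a]
    exact mul_mem t.2 (Normal.conj_mem inferInstance _ (inv_mem t.2) a)
  have hsum : ∑ t : E, ρ ⁅(t : Γ), a⁆ = c • ρ a⁻¹ := by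
    rw [← one_mul (ρ a⁻¹), ← smul_mul_assoc, ← hc, Finset.sum_mul]
    exact Finset.sum_congr rfl fun t _ => by simp only [← map_mul, commutatorElement_def]
  have c0 : c ≠ 0 := by
    rintro rfl
    rw [zero_smul, ← Finset.sum_filter_add_sum_filter_not _ (fun t : E => (t : Γ) ∈ Z),
      Finset.sum_congr rfl (g := fun _ => 1), Finset.sum_const, add_eq_zero_iff_eq_neg] at hsum
    · obtain ⟨c1, h1⟩ := hb 1
      have h2 : ((Finset.univ.filter fun t : E => (t : Γ) ∈ Z).card : K) ≠ 0 := by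
        have : (Finset.univ.filter fun t : E => (t : Γ) ∈ Z).card = Nat.card Z' := by
          rw [Nat.card_eq_fintype_card, Fintype.card_subtype]; rfl
        rw [this]
        intro h0
        obtain ⟨m, hm⟩ := card_subgroup_dvd_card Z'
        rw [hm, Nat.cast_mul, h0, zero_mul] at hq
        exact hq rfl
      have h3 : (1 : End K U) ∈ Submodule.span K (b '' {(1 : W)}ᶜ) := by
        rw [← Submodule.smul_mem_iff _ h2, Nat.cast_smul_eq_nsmul, hsum]
        refine neg_mem (Submodule.sum_mem _ fun t ht => ?_)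
        obtain ⟨c2, h4⟩ := hb ⟨_, hca t⟩
        rw [show ρ ⁅(t : Γ), a⁆ = _ from h4]
        refine Submodule.smul_mem _ _ (Submodule.subset_span ⟨_, fun h5 => ?_, rfl⟩)
        refine (Finset.mem_filter.1 ht).2 (hreg 1 (fun h => by
          have := Nat.le_of_dvd one_pos h; omega) t t.2 ?_)
        rw [pow_one, ← commutatorElement_inv]
        exact inv_mem ((QuotientGroup.eq_one_iff (N := Z') ⟨_, hca t⟩).1 h5)
      have h4 : (1 : End K U) = c1 • b 1 := by simpa using h1
      have c10 : c1 ≠ 0 := by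
        rintro rfl
        rw [zero_smul] at h4
        exact one_ne_zero h4
      rw [h4, Submodule.smul_mem_iff _ c10] at h3
      exact hli.notMem_span_image (by simp) h3
    · intro t ht
      rw [commutatorElement_eq_one_iff_mul_comm.2
        (mem_center_iff.1 (hZ (Finset.mem_filter.1 ht).2) a).symm, map_one]
  have hS : ∀ B : End K U, (∀ t ∈ E, B * ρ t = ρ t * B) → ∃ c : K, B = c • 1 := by
    intro B hBE
    have h1 : B * ρ a⁻¹ = ρ a⁻¹ * B := by
      refine smul_right_injective _ c0 ?_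
      simp only
      rw [← mul_smul_comm, ← smul_mul_assoc, ← hsum, Finset.sum_mul, Finset.mul_sum]
      exact Finset.sum_congr rfl fun t _ => hBE _ (hca t)
    refine hirr.schur B fun g => ?_
    have : g ∈ E ⊔ zpowers a⁻¹ := by rw [zpowers_inv, hgen]; exact mem_top g
    rw [zpowers_eq_closure, ← closure_eq E, ← Subgroup.closure_union] at this
    induction this using closure_induction with
    | mem x hx =>
      rcases hx with hx | rfl
      · exact hBE x hx
      · exact h1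
    | one => simp
    | mul x y _ _ hx hy => rw [map_mul, ← mul_assoc, hx, mul_assoc, hy, mul_assoc]
    | inv x _ hx =>
      rw [← one_mul (_ * ρ x⁻¹), ← H4.HH.rep_inv_mul ρ x, mul_assoc, ← mul_assoc (ρ x), ← hx,
        mul_assoc _ (ρ x), H4.HH.rep_mul_inv, mul_one]
  obtain ⟨c', hc'⟩ := H4.HH.exists_fourier ρ E hq hS
  have hsp : ⊤ ≤ Submodule.span K (Set.range b) := fun B _ => by
    rw [hc' B]
    refine Submodule.smul_mem _ _ (Submodule.sum_mem _ fun t _ => Submodule.smul_mem _ _ ?_)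
    obtain ⟨c1, h1⟩ := hb t
    rw [h1]
    exact Submodule.smul_mem _ _ (Submodule.subset_span ⟨_, rfl⟩)
  let B := Basis.mk hli hsp
  have hBb : ∀ x, B x = b x := Basis.mk_apply hli hsp
  -- the action on `E / Z`
  have hZ' : ∀ g : Γ, Z' ≤ Z'.comap (MulAut.conjNormal (H := E) g).toMonoidHom := fun g z hz =>
    hZn.conj_mem _ hz g
  let : MulAction Γ W :=
    { smul := fun g x => QuotientGroup.map Z' Z' (MulAut.conjNormal (H := E) g).toMonoidHom (hZ' g) x
      one_smul := fun x => by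
        induction x using QuotientGroup.induction_on with
        | H z => exact congrArg QuotientGroup.mk (Subtype.ext (by simp))
      mul_smul := fun g h x => by
        induction x using QuotientGroup.induction_on with
        | H z => exact congrArg QuotientGroup.mk (Subtype.ext (by simp [mul_assoc])) }
  have hsm : ∀ (g : Γ) (t : E), g • (QuotientGroup.mk t : W) =
    QuotientGroup.mk (MulAut.conjNormal g t) := fun g t => rfl
  let β : Equiv.Perm W := MulAction.toPermHom Γ W a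
  have hβ : ∀ (k : ℕ) (x : W), (β ^ k) x = a ^ k • x := fun k x => by
    rw [← map_pow]; rfl
  have hfix : ∀ k : ℕ, ¬ n ∣ k → ∀ x, (β ^ k) x = x → x = 1 := by
    intro k hk x hx
    induction x using QuotientGroup.induction_on with
    | H z =>
      rw [hβ, hsm, eq_comm, ← mul_inv_eq_one, ← QuotientGroup.mk_inv, ← QuotientGroup.mk_mul,
        QuotientGroup.eq_one_iff] at hx
      refine (QuotientGroup.eq_one_iff _).2 (hreg k hk z z.2 ?_)
      rw [← inv_mem_iff, commutatorElement_inv]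
      have : ((z * (MulAut.conjNormal (a ^ k) z)⁻¹ : E) : Γ) ∈ Z := hx
      rw [coe_mul, coe_inv, MulAut.conjNormal_apply] at this
      simpa [commutatorElement_def, mul_assoc] using this
  have hord : orderOf β = n := by
    refine Nat.dvd_antisymm (orderOf_dvd_of_pow_eq_one (Equiv.ext fun x => ?_)) ?_
    · induction x using QuotientGroup.induction_on with
      | H z =>
        rw [hβ, hsm]
        exact congrArg QuotientGroup.mk (Subtype.ext (by
          rw [MulAut.conjNormal_apply, han z z.2, mul_inv_cancel_right]))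
    · by_contra hd
      refine hne fun x hx => (QuotientGroup.eq_one_iff (N := Z') ⟨x, hx⟩).1 (hfix _ hd _ ?_)
      rw [pow_orderOf_eq_one]; rfl
  have hcount := card_orbits β 1 hord (by
    change a • (QuotientGroup.mk 1 : W) = _
    rw [hsm, map_one]; rfl) hfix
  have hco : ∀ (g : Γ) (φ : End K U), ρ g * φ = φ * ρ g → ∀ y, B.repr φ y = 0 →
      B.repr φ (g • y) = 0 := by
    intro g φ hg y hy
    have h1 : ∀ x : W, ∃ μ : K, ρ g * b x * ρ g⁻¹ = μ • b (g • x) := fun x => by
      obtain ⟨μ, hμ⟩ := hb (MulAut.conjNormal g x.out)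
      rw [← hsm, QuotientGroup.out_eq'] at hμ
      exact ⟨μ, by rw [← hμ]; simp [b]⟩
    choose μ hμ using h1
    have h2 : (B.coord (g • y)) ∘ₗ ((LinearMap.mulLeft K (ρ g)).comp (LinearMap.mulRight K (ρ g⁻¹)))
        = μ y • B.coord y := B.ext fun x => by
      simp only [LinearMap.comp_apply, LinearMap.mulLeft_apply, LinearMap.mulRight_apply,
        LinearMap.smul_apply, Basis.coord_apply, Basis.repr_self]
      rw [hBb, ← mul_assoc, hμ, ← hBb, map_smul B.repr, Basis.repr_self]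
      by_cases hxy : x = y
      · subst hxy; simp
      · simp [hxy]
    have h3 := LinearMap.congr_fun h2 φ
    simp only [LinearMap.comp_apply, LinearMap.mulLeft_apply, LinearMap.mulRight_apply,
      LinearMap.smul_apply, Basis.coord_apply, hy, smul_zero] at h3
    rwa [← mul_assoc, hg, mul_assoc, H4.HH.rep_mul_inv, mul_one] at h3
  let Ω := MulAction.orbitRel.Quotient (zpowers β) W
  have : Fintype Ω := Fintype.ofFinite _
  let Ψ : cen (ρ a) →ₗ[K] (Ω → K) := LinearMap.pi fun ω => B.coord ω.out ∘ₗ (cen (ρ a)).subtype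
  have hΨ : Function.Injective Ψ := by
    rw [injective_iff_map_eq_zero]
    intro φ hφ
    refine Subtype.ext (B.repr.injective (Finsupp.ext fun y => ?_))
    obtain ⟨g, hg⟩ : y ∈ MulAction.orbit (zpowers β) (Quotient.out (Quotient.mk'' y : Ω)) :=
      MulAction.orbitRel_apply.1 ((MulAction.orbitRel (zpowers β) W).symm
        (Quotient.exact (Quotient.out_eq (Quotient.mk'' y : Ω))))
    obtain ⟨m, hm⟩ := (mem_powers_iff_mem_zpowers.2 g.2)
    have hm' : β ^ m = g := hm
    have h1 : (β ^ m) (Quotient.out (Quotient.mk'' y : Ω)) = y := by rw [hm']; exact hg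
    rw [← h1, hβ, ZeroMemClass.coe_zero, map_zero, Finsupp.zero_apply]
    refine hco _ _ ?_ _ (congrFun hφ _)
    rw [map_pow]
    exact (Commute.pow_left (mem_cen.1 φ.2) m)
  have h1 := LinearMap.finrank_le_finrank_of_injective hΨ
  rw [Module.finrank_fintype_fun_eq_card, ← Nat.card_eq_fintype_card] at h1
  have h2 := hli.fintype_card_le_finrank
  rw [Module.finrank_linearMap, ← Nat.card_eq_fintype_card, ← pow_two] at h2
  change Nat.card W * n ≤ k * (n - 1 + Nat.card W)
  rw [← hcount, ← mul_assoc]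
  exact Nat.mul_le_mul_right _ (h2.trans (le_trans hB (Nat.mul_le_mul_left _ h1)))

theorem exists_irr_sub [Nontrivial U] (ρ : Representation K Γ U) :
    ∃ W : Submodule K U, W ≠ ⊥ ∧ ∃ ρ₁ : Representation K Γ W, (∀ g w, (ρ₁ g w : U) = ρ g w) ∧
      Irr ρ₁ := by
  obtain ⟨W, ⟨hW0, hWi⟩, hmin⟩ := exists_minimal_of_wellFoundedLT
    (fun W : Submodule K U => W ≠ ⊥ ∧ ∀ g, ∀ x ∈ W, ρ g x ∈ W) ⟨⊤, top_ne_bot, fun _ _ _ => trivial⟩
  refine ⟨W, hW0, ρ.subrepresentation W hWi, fun _ _ => rfl, fun W₁ h1 => ?_⟩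
  by_cases h2 : W₁ = ⊥
  · exact Or.inl h2
  refine Or.inr (eq_top_iff.2 fun x _ => ?_)
  obtain ⟨y, hy, e⟩ := hmin (y := W₁.map W.subtype) ⟨fun h => h2
    (eq_bot_iff.2 fun y hy => (Submodule.mem_bot K).2 (Subtype.ext
      ((Submodule.mem_bot K).1 (h ▸ Submodule.mem_map_of_mem hy)))), by
      rintro g _ ⟨y, hy, rfl⟩
      exact ⟨_, h1 g y hy, rfl⟩⟩ (Submodule.map_subtype_le _ _) x.2
  exact (Subtype.ext e : y = x) ▸ hy

omit [Finite Γ] in
theorem mem_zp_mul {x y : Γ} (hc : Commute x y) (h : (orderOf x).Coprime (orderOf y)) :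
    x ∈ zpowers (x * y) := by
  have h1 : (x * y) ^ orderOf y = x ^ orderOf y := by rw [hc.mul_pow, pow_orderOf_eq_one, mul_one]
  have h2 : x ∈ zpowers (x ^ orderOf y) := mem_zpowers_pow_iff.2 h.symm
  rw [← h1] at h2
  exact zpowers_le.2 (pow_mem (mem_zpowers _) _) h2

theorem hfx [Nontrivial U] (ρ : Representation K Γ U) (E Z : Subgroup Γ) {σ d : Γ} {r τ ε : ℕ}
    (hr : r.Prime) (hτ : τ.Prime) (hrK : (r : K) ≠ 0) (hσ : orderOf σ = r)
    (hc : (orderOf σ).Coprime (orderOf d)) (hσd : Commute σ d) (hσE : σ ∈ normalizer (E : Set Γ))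
    (hdE : d ∈ normalizer (E : Set Γ)) (hZE : Z ≤ E) (hZ : Z ≤ centralizer (E : Set Γ))
    (hZσ : ∀ z ∈ Z, σ * z = z * σ) (hZd : ∀ z ∈ Z, d * z = z * d) (hEE : ⁅E, E⁆ ≤ Z)
    (hZc : ∀ x ∈ E, (∀ y ∈ E, y * x = x * y) → x ∈ Z)
    (hf : ∀ z ∈ Z, ∀ u, u ≠ 0 → ρ z u = u → z = 1) (hq : (Nat.card E : K) ≠ 0) (hne : ¬ E ≤ Z)
    (hdτ : ∀ x ∈ E, d ^ τ * x = x * d ^ τ)
    (hreg : ∀ k : ℕ, ¬ r * τ ∣ k → ∀ x ∈ E, ⁅(σ * d) ^ k, x⁆ ∈ Z → x ∈ Z)
    (h : (∀ u, ρ σ u = u → u = 0) ∨ (ε = 1 ∧ ∀ u, ρ σ u = u → ρ d u = u)) :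
    Z.relIndex E * (r * τ) ≤ ((r - 1) * τ + ε) * (r * τ - 1 + Z.relIndex E) := by
  let M := E ⊔ zpowers (σ * d)
  have hEM : E ≤ M := le_sup_left
  have haM : σ * d ∈ M := mem_sup_right (mem_zpowers _)
  have hσM : σ ∈ M := mem_sup_right (mem_zp_mul hσd hc)
  have hdM : d ∈ M := mem_sup_right (hσd.eq ▸ mem_zp_mul hσd.symm hc.symm)
  have hcen : ∀ z, (∀ x ∈ E, z * x = x * z) → σ * z = z * σ → d * z = z * d → ∀ g ∈ M,
      g * z = z * g := by
    intro z h1 h2 h3 g hg
    refine mem_centralizer_singleton_iff.1 ((sup_le (fun x hx => ?_) (zpowers_le.2 ?_) :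
      M ≤ centralizer {z}) hg)
    · exact mem_centralizer_singleton_iff.2 (h1 x hx).symm
    · exact mul_mem (mem_centralizer_singleton_iff.2 h2) (mem_centralizer_singleton_iff.2 h3)
  obtain ⟨W, hW, ρ₁, hρ, hirr⟩ := exists_irr_sub (ρ.comp M.subtype)
  have hρ' : ∀ (g : M) (w : W), (ρ₁ g w : U) = ρ g w := hρ
  have : Nontrivial W := Submodule.nontrivial_iff_ne_bot.mpr hW
  have : (E.subgroupOf M).Normal := (normal_subgroupOf_iff_le_normalizer hEM).2
    (sup_le le_normalizer (zpowers_le.2 (mul_mem hσE hdE)))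
  obtain ⟨c, hc⟩ := hirr.schur (ρ₁ (⟨d, hdM⟩ ^ τ)) fun g => by
    rw [← map_mul, ← map_mul]
    congr 1
    exact Subtype.ext (hcen _ hdτ (hσd.pow_right τ) ((Commute.refl d).pow_right τ) g g.2).symm
  have c0 : c ≠ 0 := by
    rintro rfl
    have h1 := H4.HH.rep_mul_inv ρ₁ (⟨d, hdM⟩ ^ τ)
    rw [hc, zero_smul, zero_mul] at h1
    exact zero_ne_one h1
  have hB := bd_main (s := ρ₁ ⟨σ, hσM⟩) (d := ρ₁ ⟨d, hdM⟩) (ε := ε) hrK hτ c0
    (by rw [← map_pow, ← map_one ρ₁]; congr 1; exact Subtype.ext (hσ ▸ pow_orderOf_eq_one σ))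
    (fun u => by rw [← map_pow, hc]; rfl)
    (by rw [← map_mul, ← map_mul]; congr 1; exact Subtype.ext hσd)
    (h.imp (fun h u hu => Subtype.ext (h u ((hρ' ⟨σ, hσM⟩ u).symm.trans (congrArg Subtype.val hu))))
      fun h => ⟨h.1, fun u hu => Subtype.ext ((hρ' _ u).trans
        (h.2 u ((hρ' ⟨σ, hσM⟩ u).symm.trans (congrArg Subtype.val hu))))⟩)
  rw [← map_mul] at hB
  have := hfx0 ρ₁ hirr (E.subgroupOf M) (Z.subgroupOf M) (⟨σ, hσM⟩ * ⟨d, hdM⟩) ?_
    (fun x hx => hZE hx) (fun z hz => mem_center_iff.2 fun g => Subtype.ext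
      (hcen z (fun x hx => (hZ hz x hx).symm) (hZσ z hz) (hZd z hz) g g.2))
    (commutator_le.2 fun x hx y hy => hEE (commutator_mem_commutator hx hy))
    (fun x hx hy => hZc x hx fun y hy' => congrArg Subtype.val (hy ⟨y, hEM hy'⟩ hy'))
    (fun z hz h1 => by
      obtain ⟨w, hw⟩ := exists_ne (0 : W)
      exact Subtype.ext (hf z hz w (fun e => hw (Subtype.ext e)) (by rw [← hρ', h1]; rfl)))
    (by rwa [Nat.card_congr (subgroupOfEquivOfLe hEM).toEquiv])
    (fun h1 => hne fun x hx => h1 (show (⟨x, hEM hx⟩ : M) ∈ E.subgroupOf M from hx))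
    (n := r * τ) (by nlinarith [hr.two_le, hτ.two_le])
    (fun x hx => Subtype.ext (by
      change (σ * d) ^ (r * τ) * x = x * (σ * d) ^ (r * τ)
      rw [hσd.mul_pow, pow_mul, ← hσ, pow_orderOf_eq_one, one_pow, one_mul, mul_comm, pow_mul]
      exact Commute.pow_left (hdτ x hx) _))
    (fun k hk x hx h1 => hreg k hk x hx h1) hB
  · rwa [relIndex_subgroupOf hEM] at this
  · apply map_injective M.subtype_injective
    rw [Subgroup.map_sup, subgroupOf_map_subtype, MonoidHom.map_zpowers, inf_eq_left.2 hEM,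
      ← MonoidHom.range_eq_map, range_subtype]
    rfl

theorem abk [Nontrivial U] (ρ : Representation K Γ U) (hirr : Irr ρ) (A R : Subgroup Γ) [A.Normal]
    (hA : ∀ x ∈ A, ∀ y ∈ A, ρ x * ρ y = ρ y * ρ x) (hAR : ⁅A, R⁆ = A) (hR : (Nat.card R).Prime)
    (hnt : ∃ x ∈ A, ρ x ≠ 1) {d : Γ} (hd : d ∈ centralizer (R : Set Γ))
    (hc : (orderOf d).Coprime (Nat.card R)) (h : ∀ u, (∀ a ∈ R, ρ a u = u) → ρ d u = u) :
    ρ d = 1 := by
  classical
  have := Fintype.ofFinite R
  have hwt : ∀ (v : U) (χ : A → K), (∀ x : A, ρ x v = χ x • v) → ∀ (g : Γ) (x : A),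
      ρ x (ρ g v) = χ (MulAut.conjNormal g⁻¹ x) • ρ g v := by
    intro v χ hv g x
    rw [← map_smul, ← hv, ← End.mul_apply, ← End.mul_apply, ← map_mul, ← map_mul]
    simp [mul_assoc]
  have key : ∀ (v : U) (χ : A → K), (∀ x : A, ρ x v = χ x • v) → ρ d v = v := by
    intro v χ hv
    by_cases v0 : v = 0
    · rw [v0, map_zero]
    let St : Subgroup Γ :=
      { carrier := {g | ∀ x : A, χ (MulAut.conjNormal g x) = χ x}
        one_mem' := fun x => by simp
        mul_mem' := fun {a b} ha hb x => by rw [map_mul, MulAut.mul_apply, ha, hb]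
        inv_mem' := fun {a} ha x => by rw [← ha]; simp }
    have hRS : ∀ a ∈ R, a ∈ St → a = 1 := by
      intro a ha haS
      by_contra a1
      have h1 : R ≤ St := by
        have h2 := (Nat.dvd_prime hR).1 (card_dvd_of_le (inf_le_left : R ⊓ St ≤ R))
        rcases h2 with h2 | h2
        · exact absurd (mem_bot.1 (card_eq_one.1 h2 ▸ (⟨ha, haS⟩ : a ∈ R ⊓ St))) a1
        · exact (eq_of_le_of_card_ge inf_le_left h2.ge).ge.trans inf_le_right
      let F : Subgroup Γ :=
        { carrier := {g | ρ g v = v}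
          one_mem' := by simp
          mul_mem' := fun {a b} ha hb => by
            change ρ (a * b) v = v
            rw [map_mul, End.mul_apply, hb, ha]
          inv_mem' := fun {a} ha => by
            change ρ a⁻¹ v = v
            conv_lhs => rw [← ha]
            rw [← End.mul_apply, H4.HH.rep_inv_mul, End.one_apply] }
      have h2 : A ≤ F := hAR.ge.trans (commutator_le.2 fun x hx b hb => by
        change ρ ⁅x, b⁆ v = v
        have h3 := hv (MulAut.conjNormal b ⟨x, hx⟩⁻¹)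
        rw [h1 hb, ← hv, MulAut.conjNormal_apply] at h3
        rw [commutatorElement_def, mul_assoc, mul_assoc, ← mul_assoc b, map_mul, End.mul_apply]
        erw [h3]
        rw [← End.mul_apply]
        exact congrArg (· v) (H4.HH.rep_mul_inv ρ x))
      let W : Submodule K U :=
        { carrier := {u | ∀ x ∈ A, ρ x u = u}
          zero_mem' := fun x _ => map_zero _
          add_mem' := fun {a b} ha hb x hx => by rw [map_add, ha x hx, hb x hx]
          smul_mem' := fun c a ha x hx => by rw [map_smul, ha x hx] }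
      rcases hirr W (fun g u hu x hx => by
        have := hwt u (fun _ => 1) (fun x => by rw [one_smul]; exact hu x x.2) g ⟨x, hx⟩
        rwa [one_smul] at this) with h3 | h3
      · exact v0 ((Submodule.mem_bot K).1 (h3 ▸ (fun x hx => h2 hx : v ∈ W)))
      · obtain ⟨x, hx, h4⟩ := hnt
        exact h4 (LinearMap.ext fun u => h3.ge (Submodule.mem_top (x := u)) x hx)
    have hli : ∀ (ι : Type _) (g : ι → Γ) (w : U), w ≠ 0 → (∀ x : A, ρ x w = χ x • w) →
        (∀ i j, (g i)⁻¹ * g j ∈ St → i = j) → LinearIndependent K fun i => ρ (g i) w := by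
      intro ι g w w0 hw hg
      refine li_of_simul (H := A) (fun x => ρ x) _ (fun i x => χ (MulAut.conjNormal (g i)⁻¹ x))
        (fun i j hij => hg i j fun x => ?_)
        (fun i e => w0 (H4.HH.rep_injective ρ (g i) (by rw [e, map_zero]))) fun x i => hwt w χ hw _ x
      rw [map_mul, MulAut.mul_apply]
      exact (congrFun hij _).trans (by simp)
    have hda : ∀ a : R, d * a = a * d := fun a => (hd a a.2).symm
    have hu : ∑ a : R, ρ (a * d) v = ∑ a : R, ρ a v := by
      rw [← h (∑ a : R, ρ a v) fun b hb => ?_, map_sum]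
      · exact Finset.sum_congr rfl fun a _ => by rw [← hda, map_mul, End.mul_apply]
      · rw [map_sum]
        exact Fintype.sum_equiv (Equiv.mulLeft ⟨b, hb⟩) _ _ fun a => by
          rw [← End.mul_apply, ← map_mul]; rfl
    by_cases hdS : d ∈ St
    · by_contra hne
      have h1 := hli R (fun a => a) (ρ d v - v) (sub_ne_zero.2 hne)
        (fun x => by rw [map_sub, hwt v χ hv, St.inv_mem hdS, hv, smul_sub])
        fun a b hab => Subtype.ext (inv_mul_eq_one.1 (hRS _ (mul_mem (inv_mem a.2) b.2) hab))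
      refine one_ne_zero (Fintype.linearIndependent_iff.1 h1 (fun _ => (1 : K)) ?_ 1)
      simp only [one_smul, map_sub, Finset.sum_sub_distrib, ← End.mul_apply, ← map_mul]
      exact sub_eq_zero.2 hu
    · have h0 : ∀ b ∈ R, b * d ∉ St := fun b hb hbd => hdS (by
        have h1 := St.pow_mem hbd (orderOf d)
        rw [Commute.mul_pow (hd b hb), pow_orderOf_eq_one, mul_one] at h1
        have h2 := orderOf_dvd_of_pow_eq_one (hRS _ (pow_mem hb _) h1)
        have h3 := Nat.eq_one_of_dvd_coprimes hc h2 (R.orderOf_dvd_natCard hb)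
        rwa [orderOf_eq_one_iff.1 h3, one_mul] at hbd)
      have h1 := hli (R ⊕ R) (Sum.elim (fun a => a) fun a => a * d) v v0 hv (by
        rintro (a | a) (b | b) hab
        · exact congrArg _ (Subtype.ext (inv_mul_eq_one.1 (hRS _ (mul_mem (inv_mem a.2) b.2) hab)))
        · exact absurd (by simpa [mul_assoc] using hab) (h0 _ (mul_mem (inv_mem a.2) b.2))
        · exact absurd (by simpa [mul_assoc] using St.inv_mem hab)
            (h0 _ (mul_mem (inv_mem b.2) a.2))
        · refine congrArg _ (Subtype.ext (inv_mul_eq_one.1 (hRS _ (mul_mem (inv_mem a.2) b.2) ?_)))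
          have : ((a : Γ) * d)⁻¹ * (b * d) = (a : Γ)⁻¹ * b := by
            rw [mul_inv_rev, mul_assoc, ← mul_assoc _ (b : Γ), hd _ (mul_mem (inv_mem a.2) b.2),
              inv_mul_cancel_left]
          exact this ▸ hab)
      refine absurd (Fintype.linearIndependent_iff.1 h1
        (Sum.elim (fun _ => (1 : K)) fun _ => -1) ?_ (Sum.inl 1)) one_ne_zero
      rw [Fintype.sum_sum_type]
      simp only [Sum.elim_inl, Sum.elim_inr, one_smul, neg_smul, Finset.sum_neg_distrib, hu,
        add_neg_cancel]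
  obtain ⟨v, v0, χ, hχ⟩ := exists_common_eigen (fun x : A => ρ x) fun x y => hA x x.2 y y.2
  have h1 := (hirr (Submodule.span K {v | ∃ χ : A → K, ∀ x : A, ρ x v = χ x • v}) fun g x hx => by
    refine Submodule.span_induction (p := fun x _ => ρ g x ∈ _) ?_ (by simp)
      (fun a b _ _ ha hb => by rw [map_add]; exact add_mem ha hb)
      (fun c a _ ha => by rw [map_smul]; exact Submodule.smul_mem _ _ ha) hx
    rintro w ⟨ψ, hw⟩
    exact Submodule.subset_span ⟨_, hwt w ψ hw g⟩).resolve_left fun e =>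
      v0 ((Submodule.mem_bot K).1 (e ▸ Submodule.subset_span ⟨χ, hχ⟩))
  exact LinearMap.ext_on h1 fun w ⟨ψ, hw⟩ => key w ψ hw

end Cfsg.Agent.H88.Tu
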