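import Cfsg.Agent.H88.TuMod

/-! Turull's bound on the Fitting height for a coprime operator group of prime order. -/

set_option autoImplicit false
set_option linter.unusedSectionVars false
set_option linter.unusedVariables false

namespace Cfsg.Agent.H88.Tu

open Cfsg Cfsg.Agent.H63 Cfsg.Agent.H67 Cfsg.Agent.H69 Subgroup
open scoped IsMulCommutative commutatorElement

universe u

variable {X : Type u} [Group X] [Finite X] {l p q τ r n : ℕ}

/-- A tower inside `C` of length at least `n` whose bottom term contains `D`. -/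
def CT (C : Subgroup X) (n p : ℕ) (D : Subgroup X) : Prop :=
  ∃ B L, Tower ((p, B) :: L) ∧ n ≤ L.length + 1 ∧ D ≤ B ∧ ∀ x ∈ (p, B) :: L, x.2 ≤ C

namespace CT

variable {C C' D D' F : Subgroup X}

theorem single (hp : p.Prime) (pD : IsPGroup p D) (h : D ≤ C) (hn : n ≤ 1) : CT C n p D :=
  ⟨D, [], .single _ _ hp pD, hn, le_rfl, by simpa using h⟩

theorem mono {m : ℕ} (h : CT C n p D) (hC : C ≤ C') (hn : m ≤ n) (hD : D' ≤ D) : CT C' m p D' := by
  obtain ⟨B, L, h1, h2, h3, h4⟩ := h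
  exact ⟨B, L, h1, hn.trans h2, hD.trans h3, fun x hx => (h4 x hx).trans hC⟩

theorem ext_ne (h : CT C n p D) (hl : l.Prime) (lp : l ≠ p) (pF : IsPGroup l F) (CF : C ≤ N[F])
    (hC : C ≤ C') (hF : F ≤ C') : CT C' (n + 1) l ⁅F, D⁆ := by
  obtain ⟨B, L, h1, h2, h3, h4⟩ := h
  have BF := (h4 _ List.mem_cons_self).trans CF
  have h5 := commutator_le_of_norm_left BF
  refine ⟨⁅F, B⁆, (p, B) :: L, .cons _ _ _ _ _ h1 hl lp (pF.to_le h5)
    (fun x hx => le_normalizer_commutator ((h4 x hx).trans CF) (h1.norm x hx))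
    (coprime_commGid BF (coprime_pp h1.prime.1 hl lp.symm h1.prime.2 pF) (Or.inr (sol_p hl pF))),
    by simpa using h2, commutator_mono le_rfl h3, fun x hx => ?_⟩
  rcases List.mem_cons.1 hx with rfl | hx
  · exact h5.trans hF
  · exact (h4 x hx).trans hC

theorem ext (h : CT C n p D) (hl : l.Prime) (pF : IsPGroup l F) (CF : C ≤ N[F])
    (hC : C ≤ C') (hF : F ≤ C') : CT C' n l ⁅F, D⁆ := by
  by_cases lp : l = p
  swap
  · exact (h.ext_ne hl lp pF CF hC hF).mono le_rfl n.le_succ le_rfl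
  subst lp
  obtain ⟨B, L, h1, h2, h3, h4⟩ := h
  have BC := h4 _ List.mem_cons_self
  have pB : IsPGroup l ↥(B ⊔ F) := IsPGroup.to_sup_of_normal_right' h1.prime.2 pF (BC.trans CF)
  have h5 : B ⊔ F ≤ C' := sup_le (BC.trans hC) hF
  cases h1 with
  | single _ _ a b =>
    exact ⟨B ⊔ F, [], .single _ _ a pB, h2, commutator_le_of_le le_sup_right
      (h3.trans le_sup_left), by simpa using h5⟩
  | cons _ _ p' P L' a b c d e f =>
    have h6 : ∀ x ∈ (p', P) :: L', x.2 ≤ N[B ⊔ F] := fun x hx =>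
      le_normalizer_sup (e x hx) ((h4 x (List.mem_cons_of_mem _ hx)).trans CF)
    have h7 := h6 _ List.mem_cons_self
    have h8 := commutator_le_of_norm_left h7
    refine ⟨⁅B ⊔ F, P⁆, (p', P) :: L', .cons _ _ _ _ _ a b c (pB.to_le h8)
      (fun x hx => le_normalizer_commutator (h6 x hx) (a.norm x hx))
      (coprime_commGid h7 (coprime_pp a.prime.1 hl c.symm a.prime.2 pB) (Or.inr (sol_p hl pB))), h2,
      (commutator_mono le_sup_right (h3.trans (f.ge.trans (commutator_mono le_sup_left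
        le_rfl)))).trans (commutator_le_of_norm_right (le_norm_commutator_left _ _)), fun x hx => ?_⟩
    rcases List.mem_cons.1 hx with rfl | hx
    · exact h8.trans h5
    · exact (h4 x (List.mem_cons_of_mem _ hx)).trans hC

end CT

/-- The five possible states at level `t` of a tower. -/
inductive St (r : ℕ) (R H : Subgroup X) (t p : ℕ) (P N : Subgroup X) : Prop
  | a (D U : Subgroup X) (u : ℕ) : D ≤ P → D ≤ C[R] → ¬ D ≤ N → U ≤ H ⊓ C[R] → U ≤ N[D] →
      CT (H ⊓ C[R]) t p D → (t ≤ 1 ∨ (CT (H ⊓ C[R]) (t - 1) u U ∧ ⁅D, U⁆ = D)) → St r R H t p P N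
  | b (τ : ℕ) (U D S : Subgroup X) : BS τ p r R U D S N → S ≤ P → ¬ S ≤ N → U ≤ H → D ≤ H →
      CT (H ⊓ C[R]) (t - 1) τ D → (t ≤ 2 ∨ (⁅D, U⁆ = D ∧
        CT (H ⊓ C[R]) (t - 2) p ⁅S ⊓ C[R], U⁆)) → St r R H t p P N
  | z (S : Subgroup X) : t ≤ 1 → S ≤ P → R ≤ N[S] → ⁅S, R⁆ = S → ¬ S ≤ N → St r R H t p P N
  | y (q : ℕ) (E S : Subgroup X) : t ≤ 2 → q.Prime → q ≠ p → q ≠ r → IsPGroup q E → E ≤ H → S ≤ P →
      R ≤ N[E] → E ≤ N[S] → R ≤ N[S] → ⁅E, R⁆ = E → ⁅S, E⁆ = S → S ≤ ⁅S, R⁆ ⊔ S ⊓ N → ¬ S ≤ N →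
      St r R H t p P N
  | g (q : ℕ) (E S D : Subgroup X) : Good q p r R E S D N → E ≤ H → S ≤ P → ¬ S ≤ N →
      CT (H ⊓ C[R]) (t - 2) p D → St r R H t p P N

theorem St.step {R H P Q N : Subgroup X} {t : ℕ} (hl : l.Prime) (hp : p.Prime) (hr : r.Prime)
    (pl : p ≠ l) (rl : r ≠ l) (pr : p ≠ r) (cR : Nat.card R = r) (pP : IsPGroup p P)
    (pQ : IsPGroup l Q) (NQ : N ≤ Q) (QN : Q ≤ N[N]) (RQ : R ≤ N[Q]) (RN : R ≤ N[N]) (QH : Q ≤ H)
    (PH : P ≤ H ⊓ N[Q] ⊓ N[N]) (h : St r R (H ⊓ N[Q] ⊓ N[N]) t p P (P ⊓ stabMod Q N)) :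
    St r R H (t + 1) l Q N := by
  set H' := H ⊓ N[Q] ⊓ N[N]
  have a1 : H' ≤ H := inf_le_left.trans inf_le_left
  have a2 : H' ≤ N[Q] := inf_le_left.trans inf_le_right
  have a3 : H' ≤ N[N] := inf_le_right
  have pF : IsPGroup l ↥(Q ⊓ C[R]) := pQ.to_le inf_le_left
  have CF : H' ⊓ C[R] ≤ N[Q ⊓ C[R]] := le_normalizer_inf (inf_le_left.trans a2)
    (inf_le_right.trans le_normalizer)
  have hC : H' ⊓ C[R] ≤ H ⊓ C[R] := inf_le_inf_right _ a1
  have hF : Q ⊓ C[R] ≤ H ⊓ C[R] := inf_le_inf_right _ QH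
  have hS : ∀ S, S ≤ P → ¬ S ≤ P ⊓ stabMod Q N → ¬ ⁅Q, S⁆ ≤ N := fun S a b e =>
    b (le_inf a (le_stabMod_of_le NQ e))
  have hT : ∀ T D : Subgroup X, T ≤ Q → ⁅T ⊓ C[R], D⁆ ≤ ⁅Q ⊓ C[R], D⁆ := fun T D a =>
    commutator_mono (inf_le_inf_right _ a) le_rfl
  have h1 : ∀ T, T ≤ Q → t ≤ 2 → CT (H ⊓ C[R]) (t + 1 - 2) l (T ⊓ C[R]) := fun T a b =>
    CT.single hl (pQ.to_le (inf_le_left.trans a)) (inf_le_inf_right _ (a.trans QH)) (by omega)
  cases h with
  | a D U u DP DR DN UH UD c1 c2 =>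
    have DH := DP.trans PH
    have pD := pP.to_le DP
    by_cases h : ⁅Q ⊓ C[R], D⁆ ≤ N
    · obtain ⟨T, TQ, TN, hB⟩ := stepA hl hp hr pl rl pr cR pQ NQ QN pD DR (UH.trans inf_le_right) UD
        (sup_le (sup_le ((UH.trans inf_le_left).trans a2) (DH.trans a2)) RQ)
        (sup_le (sup_le ((UH.trans inf_le_left).trans a3) (DH.trans a3)) RN) (hS D DP DN) h
      exact .b p U D T hB TQ TN ((UH.trans inf_le_left).trans a1) (DH.trans a1)
        (c1.mono hC (by omega) le_rfl) (c2.imp (by omega) fun c => ⟨c.2,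
          (c.1.ext hl pF CF hC hF).mono le_rfl (by omega) (hT T U TQ)⟩)
    · have h2 := (le_inf DH DR).trans CF
      have h3 := commutator_le_of_norm_left h2
      exact .a _ D p (h3.trans inf_le_left) (h3.trans inf_le_right) h (le_inf (DH.trans a1) DR)
        (le_norm_commutator_right _ _) (c1.ext_ne hl pl.symm pF CF hC hF) (Or.inr
          ⟨c1.mono hC (by omega) le_rfl, coprime_commGid h2 (coprime_pp hp hl pl pD pF)
            (Or.inr (sol_p hl pF))⟩)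
  | b τ U D S hB SP SN UH DH c1 c2 =>
    have SH := SP.trans PH
    obtain ⟨T, TQ, TN, h | ⟨h, h'⟩⟩ := stepB hl hp hr pl rl pr cR pQ NQ QN hB inf_le_right
      (sup_le (sup_le (sup_le (UH.trans a2) (DH.trans a2)) (SH.trans a2)) RQ)
      (sup_le (sup_le (sup_le (UH.trans a3) (DH.trans a3)) (SH.trans a3)) RN) (hS S SP SN)
    · exact .g p S T _ h (SH.trans a1) TQ TN
        ((c1.ext hl pF CF hC hF).mono le_rfl (by omega) (hT T D TQ))
    · rcases c2 with c | c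
      · exact .g p S T _ h (SH.trans a1) TQ TN (h1 T TQ c)
      · exact .g p S T _ (h' c.1) (SH.trans a1) TQ TN
          ((c.2.ext_ne hl pl.symm pF CF hC hF).mono le_rfl (by omega) (hT T _ TQ))
  | z S ht SP RS SR SN =>
    have SH := SP.trans PH
    obtain ⟨T, TQ, TN, h | ⟨b1, b2, b3, b4⟩⟩ := stepZ hl hp hr pl rl pr cR pQ NQ QN (pP.to_le SP) RS
      SR (sup_le (SH.trans a2) RQ) (sup_le (SH.trans a3) RN) (hS S SP SN)
    · exact .g p S T _ h (SH.trans a1) TQ TN (h1 T TQ (by omega))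
    · exact .y p S T (by omega) hp pl pr (pP.to_le SP) (SH.trans a1) TQ RS b1 b2 SR b3 b4 TN
  | y q E S ht hq qp qr pE EH SP RE ES RS ER SE SR SN =>
    have SH := SP.trans PH
    obtain ⟨T, TQ, TN, h⟩ := stepY hl hp hq hr pl rl pr qp qr cR pQ NQ QN pE (pP.to_le SP) RE ES RS
      ER SE SR inf_le_right (sup_le (sup_le (EH.trans a2) (SH.trans a2)) RQ)
      (sup_le (sup_le (EH.trans a3) (SH.trans a3)) RN) (hS S SP SN)
    exact .g p _ T _ h (((commutator_le_of_norm_left RS).trans SH).trans a1) TQ TN (h1 T TQ ht)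
  | g q E S D hG EH SP SN c =>
    have SH := SP.trans PH
    obtain ⟨E', T, ES, TQ, TN, h⟩ := stepG hl hp hr pl rl pr cR pQ NQ QN hG inf_le_right
      (sup_le (sup_le (EH.trans a2) (SH.trans a2)) RQ)
      (sup_le (sup_le (EH.trans a3) (SH.trans a3)) RN) (hS S SP SN)
    exact .g p E' T _ h ((ES.trans SH).trans a1) TQ TN
      ((c.ext_ne hl pl.symm pF CF hC hF).mono le_rfl (by omega) (hT T D TQ))

theorem ne_of_cop {R P N : Subgroup X} (hp : p.Prime) (cR : Nat.card R = r) (pP : IsPGroup p P)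
    (h : ¬ P ≤ N) (hc : (Nat.card R).Coprime (Nat.card P)) : p ≠ r := fun e =>
  hp.one_lt.ne' ((Nat.coprime_self p).1 <| by
    have := coprime_prime_of_ne_bot hp pP (fun e => h (e ▸ bot_le)) hc
    rwa [cR, ← e] at this)

theorem state (hr : r.Prime) {R : Subgroup X} (cR : Nat.card R = r)
    {L : List (ℕ × Subgroup X)} (hL : Tower L) : ∀ y ∈ L.head?, ∀ H N : Subgroup X,
      (∀ x ∈ L, x.2 ≤ H ∧ R ≤ N[x.2] ∧ (Nat.card R).Coprime (Nat.card x.2) ∧ x.2 ≤ N[N]) →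
      R ≤ N[N] → N ≤ y.2 → ¬ y.2 ≤ N → St r R H L.length y.1 y.2 N := by
  induction hL with
  | single p P hp pP =>
    rintro _ ⟨⟩ H N h RN NP PN
    obtain ⟨PH, RP, hc, h1⟩ := h _ List.mem_cons_self
    by_cases h2 : ⁅P, R⁆ ≤ N
    · exact .a (P ⊓ C[R]) ⊥ 0 inf_le_left inf_le_right (fun e => PN ((coprime_cent_prod RP hc
        (Or.inr (sol_p hp pP))).le_of_le h2 e)) bot_le bot_le (CT.single hp (pP.to_le inf_le_left)
        (inf_le_inf_right _ PH) le_rfl) (Or.inl le_rfl)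
    · exact .z _ le_rfl (commutator_le_of_norm_left RP) (le_norm_commutator_right _ _)
        (coprime_commGid RP hc (Or.inr (sol_p hp pP))) h2
  | cons l Q p P L hT hl lp pQ hn QP ih =>
    rintro _ ⟨⟩ H N h RN NQ QN
    obtain ⟨QH, RQ, hc, h1⟩ := h _ List.mem_cons_self
    have h2 := fun x hx => h x (List.mem_cons_of_mem _ hx)
    have h3 := h2 _ List.mem_cons_self
    have h4 : ¬ P ≤ P ⊓ stabMod Q N := fun e =>
      QN (QP.ge.trans (commutator_le_of_le_stabMod (e.trans inf_le_right)))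
    exact St.step hl hT.prime.1 hr lp.symm (ne_of_cop hl cR pQ QN hc).symm
      (ne_of_cop hT.prime.1 cR hT.prime.2 h4 h3.2.2.1) cR hT.prime.2 pQ NQ h1 RQ RN QH
      (le_inf (le_inf h3.1 (hn _ List.mem_cons_self)) h3.2.2.2)
      (ih (p, P) rfl _ _ (fun x hx => ⟨le_inf (le_inf (h2 x hx).1 (hn x hx)) (h2 x hx).2.2.2,
        (h2 x hx).2.1, (h2 x hx).2.2.1, le_normalizer_inf (hT.norm x hx)
          (le_norm_stabMod (hn x hx) (h2 x hx).2.2.2)⟩)
        (le_normalizer_inf h3.2.1 (le_norm_stabMod RQ RN)) inf_le_left h4)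

theorem turull {R K : Subgroup X} (hR : (Nat.card R).Prime) (RK : R ≤ N[K])
    (hc : (Nat.card R).Coprime (Nat.card K)) (hs : Group.IsSolvable K) (h : Ch n ↥(K ⊓ C[R])) :
    Ch (n + 2) K := by
  by_contra hn
  obtain ⟨q, Q, L, hT, hl, Q1, -, hL⟩ := exists_tower (n + 2) X R K RK hc hs hn
  have key : ∀ m p D, n + 1 ≤ m → CT (K ⊓ C[R]) m p D → D = ⊥ := by
    rintro m p D hm ⟨B, L', h1, h2, h3, h4⟩
    exact le_bot_iff.1 (h3.trans (h1.head_eq_bot (h.mono (by omega)) h4 rfl).le)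
  have h1 := state hR rfl hT (q, Q) rfl K ⊥ (fun x hx => ⟨(hL x hx).1, (hL x hx).2,
    cop_le hc le_rfl (hL x hx).1, le_normalizer_bot _⟩) (le_normalizer_bot _) bot_le
    fun e => Q1 (le_bot_iff.1 e)
  rw [List.length_cons, hl] at h1
  cases h1 with
  | a D U u DP DR DN UH UD c1 c2 => exact DN (key _ _ _ (by omega) c1).le
  | b τ U D S hB SP SN UH DH c1 c2 =>
    exact SN (by rw [← hB.SD, key _ _ _ (by omega) c1, commutator_bot_right])
  | z S ht => omega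
  | y q E S ht => omega
  | g q E S D hG EH SP SN c =>
    exact SN (hG.gen ⊥ inf_le_right (key _ _ _ (by omega) c).le (le_normalizer_bot _)
      (le_normalizer_bot _))

end Cfsg.Agent.H88.Tu
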