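import Cfsg.Agent.H88.TuML

/-! The transition lemmas for Turull's theorem. -/

set_option autoImplicit false
set_option linter.unusedSectionVars false
set_option linter.unusedVariables false

namespace Cfsg.Agent.H88.Tu

open Cfsg Cfsg.Agent.H63 Cfsg.Agent.H67 Cfsg.Agent.H69 Subgroup
open scoped IsMulCommutative commutatorElement

universe u

variable {X : Type u} [Group X] [Finite X] {l p q τ r : ℕ}

theorem le_cj_pre {N A : Subgroup X} {H : Subgroup (Coset N)} {g : X} (hg : g ∈ N[N])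
    (hA : A ≤ N[N]) : A ≤ cj g (cosetpre N H) ↔ A /ᵍ N ≤ cj (coset N g) H := by
  rw [le_cj_iff_cj_inv_le, le_cj_iff_cj_inv_le, ← coset_inv hg, ← quo_cj (inv_mem hg),
    quo_le_iff (cj_le_of_mem_normalizer (le_normalizer (inv_mem hg)) hA)]

theorem norm_sup_comm (A E : Subgroup X) : E ≤ N[A ⊔ ⁅A, E⁆] :=
  le_norm_of_commutator_le_left (commutator_sup_left_le (le_normalizer_of_le le_sup_left)
    (le_normalizer_of_le le_sup_right) le_sup_right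
    ((commutator_le_of_norm_left (le_norm_commutator_right _ _)).trans le_sup_right))

theorem Good.quo {R E S D N K : Subgroup X} (h : Good q p r R E S D N) (RK : R ≤ N[K])
    (EK : E ≤ N[K]) (SK : S ≤ N[K]) {N' : Subgroup (Coset K)} (hN : (S ⊓ N) /ᵍ K ≤ N') :
    Good q p r (R /ᵍ K) (E /ᵍ K) (S /ᵍ K) (D /ᵍ K) N' := by
  have S' : ⁅S, S⁆ ≤ S := commutator_le_of_le le_rfl le_rfl
  have DK := (h.hD.trans inf_le_left).trans SK
  have h1 : ∀ T, S /ᵍ K ⊓ N' ≤ T → S ⊓ N ≤ cosetpre K T := fun T hT =>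
    (quo_le_iff (inf_le_left.trans SK)).1 ((le_inf (quo_mono _ inf_le_left) hN).trans hT)
  refine ⟨h.hq, h.qp, h.qr, quo_isPGroup _ h.pE, quo_isPGroup _ h.pS, quo_norms _ h.RE,
    quo_norms _ h.ES, quo_norms _ h.RS, by rw [← quo_commutator EK RK, h.ER],
    by rw [← quo_commutator SK EK, h.SE], ?_, ?_, (quo_mono _ h.hD).trans (quo_subcent _ _ _),
    fun T a b c d => (quo_le_iff SK).2 (h.gen _ (h1 T a) ((quo_le_iff DK).1 b)
      (le_norm_cosetpre EK c) (le_norm_cosetpre RK d)), fun H a b c d => ?_⟩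
  · rw [← quo_commutator SK SK, ← quo_commutator (S'.trans SK) SK]
    exact (quo_mono _ (le_inf (commutator_le_of_le S' le_rfl) h.c1)).trans hN
  · rw [← quo_commutator SK SK, ← quo_commutator (S'.trans SK) EK]
    exact (quo_mono _ (le_inf ((commutator_le_of_norm_left
      (le_normalizer_commutator h.ES h.ES)).trans S') h.c2)).trans hN
  rw [← quo_commutator SK SK, quo_le_iff (S'.trans SK)] at a
  rw [← quo_commutator SK RK] at c ⊢
  have h2 := commutator_le_of_le SK RK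
  obtain ⟨g, hg, g1, g2⟩ := h.mov _ a (h1 H b) ((quo_le_iff h2).1 c)
    fun e => d ((quo_le_iff DK).2 e)
  exact ⟨_, coset_mem_quo (EK hg) hg, fun e => g1 ((le_cj_pre (EK hg) h2).2 e),
    fun e => g2 ((le_cj_pre (EK hg) DK).2 e)⟩

theorem BS.quo {R U D S N K : Subgroup X} (h : BS τ p r R U D S N) (RK : R ≤ N[K])
    (DK : D ≤ N[K]) (SK : S ≤ N[K]) {N' : Subgroup (Coset K)} (hN : (S ⊓ N) /ᵍ K ≤ N') :
    BS τ p r (R /ᵍ K) (U /ᵍ K) (D /ᵍ K) (S /ᵍ K) N' := by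
  have S' : ⁅S, S⁆ ≤ S := commutator_le_of_le le_rfl le_rfl
  refine ⟨h.hτ, h.τp, h.τr, quo_isPGroup _ h.pD, quo_isPGroup _ h.pS, quo_cents _ h.DR,
    quo_cents _ h.UR, quo_norms _ h.UD, quo_norms _ h.US, quo_norms _ h.DS, quo_norms _ h.RS,
    by rw [← quo_commutator SK RK, h.SR], by rw [← quo_commutator SK DK, h.SD], ?_, ?_,
    fun y hy => ?_⟩
  · rw [← quo_commutator SK SK, ← quo_commutator (S'.trans SK) SK]
    exact (quo_mono _ (le_inf (commutator_le_of_le S' le_rfl) h.c1)).trans hN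
  · rw [← quo_commutator SK SK, ← quo_commutator (S'.trans SK) DK]
    exact (quo_mono _ (le_inf ((commutator_le_of_norm_left
      (le_normalizer_commutator h.DS h.DS)).trans S') h.c2)).trans hN
  obtain ⟨x, hx, hxK, rfl⟩ := mem_quo.1 hy
  have := coset_mem_quo (pow_mem hxK p) (h.ex x hx)
  rw [quo_sup (S'.trans SK) (inf_le_left.trans SK), quo_commutator SK SK, coset_pow hxK] at this
  exact sup_le_sup_left (le_inf (quo_mono _ inf_le_left) hN) _ this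

/-- A minimal section on which `S` acts nontrivially modulo `N`. -/
structure MM (l p : ℕ) (M S N V K : Subgroup X) : Prop where
  hl : l.Prime
  hp : p.Prime
  pl : p ≠ l
  pV : IsPGroup l V
  pK : IsPGroup l K
  pS : IsPGroup p S
  hK : K = ⁅V, V⁆ ⊔ N
  SM : S ≤ M
  MV : M ≤ N[V]
  MN : M ≤ N[N]
  VN : V ≤ N[N]
  MK : M ≤ N[K]
  VK : V ≤ N[K]
  VS : ⁅V, S⁆ = V
  c1 : ⁅⁅V, V⁆, V⁆ ≤ N
  c2 : ⁅⁅V, V⁆, S⁆ ≤ N
  min : ∀ U, U ≤ V → M ≤ N[U] → ¬ ⁅U, S⁆ ≤ N → U = V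
  el : IsElementaryAbelian l (V /ᵍ K)
  mn : MinNormal (V /ᵍ K) (M /ᵍ K)
  fS : V /ᵍ K ⊓ C[S /ᵍ K] = ⊥

theorem min_mod (hl : l.Prime) (hp : p.Prime) (pl : p ≠ l) {Q M S N : Subgroup X}
    (pQ : IsPGroup l Q) (pS : IsPGroup p S) (NQ : N ≤ Q) (QN : Q ≤ N[N]) (MQ : M ≤ N[Q])
    (MN : M ≤ N[N]) (SM : S ≤ M) (MS : M ≤ N[S]) (h : ¬ ⁅Q, S⁆ ≤ N) :
    ∃ V K, V ≤ Q ∧ MM l p M S N V K := by
  have := Fact.mk hl
  obtain ⟨V, VQ, ⟨MV, h1⟩, hm⟩ := exists_minimal_le (fun V => M ≤ N[V] ∧ ¬ ⁅V, S⁆ ≤ N) ⟨MQ, h⟩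
  have min : ∀ U, U ≤ V → M ≤ N[U] → ¬ ⁅U, S⁆ ≤ N → U = V := fun U a b c => hm U ⟨b, c⟩ a
  have pV := pQ.to_le VQ
  have SV := SM.trans MV
  have cSV := coprime_pp hp hl pl pS pV
  have VN := VQ.trans QN
  have VS : ⁅V, S⁆ = V := min _ (commutator_le_of_norm_left SV) (le_normalizer_commutator MV MS)
    (by rwa [coprime_commGid SV cSV (Or.inl (sol_p hp pS))])
  have V1 : V ≠ ⊥ := fun e => h1 (by simp [e])
  have hlt : ∀ U, U < V → M ≤ N[U] → ⁅U, S⁆ ≤ N := fun U a b => by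
    by_contra c
    exact a.ne (min U a.le b c)
  have V' : ⁅V, V⁆ ≤ V := commutator_le_of_le le_rfl le_rfl
  have MV' := le_normalizer_commutator MV MV
  have c2 := hlt _ (commutator_lt_of_isSolvable (sol_p hl pV) V1) MV'
  have c1 : ⁅⁅V, V⁆, V⁆ ≤ N := by
    have := three_subgroup_le (X := V) (Y := ⁅V, V⁆) (Z := S) VN (V'.trans VN) (SM.trans MN)
      ((commutator_mono (commutator_le_of_norm_right (le_normalizer_derived V)) le_rfl).trans c2)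
      ((commutator_mono c2 le_rfl).trans (commutator_le_of_norm_left VN))
    rwa [commutator_comm S, VS, commutator_comm] at this
  set K := ⁅V, V⁆ ⊔ N with hK
  have MK : M ≤ N[K] := le_normalizer_sup MV' MN
  have VK : V ≤ N[K] := le_normalizer_sup (le_normalizer_derived V) VN
  have SK := SM.trans MK
  have hab : IsMulCommutative (V /ᵍ K) := quo_isMulCommutative_of_der_le le_sup_left
  have fS : V /ᵍ K ⊓ C[S /ᵍ K] = ⊥ := by
    have := coprime_abel_cent_TI (quo_norms K SV) (coprime_quo K cSV) hab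
    rwa [← quo_commutator VK SK, VS] at this
  have h2 : ∀ U, U ≤ V → ⁅U, S⁆ ≤ N → U /ᵍ K = ⊥ := fun U a b => le_bot_iff.1
    (fS ▸ le_inf (quo_mono _ a) (quo_cents_of_commutator_le (b.trans le_sup_right)))
  refine ⟨V, K, VQ, hl, hp, pl, pV, pQ.to_le (sup_le (V'.trans VQ) NQ), pS, rfl, SM, MV, MN, VN, MK,
    VK, VS, c1, c2, min, (quo_elemAb_iff pV VK).2 ((quo_eq_bot_iff ((frattiniOf_le V).trans VK)).1
      (h2 _ (frattiniOf_le V) (hlt _ (frattiniOf_lt V1) (MV.trans (norm_le_norm_frattiniOf V))))),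
    ⟨fun e => h1 ?_, quo_norms _ MV, fun B hB B1 hn => ?_⟩, fS⟩
  · have h3 := inf_sup_of_le_normalizer (Or.inl (V'.trans VN)) V'
    rw [inf_eq_left.2 ((quo_eq_bot_iff VK).1 e), sup_comm] at h3
    exact VS.le.trans ((eq_of_nil_of_sup_derived (isNilpotent_of_isPGroup hl pV) h3.symm).ge.trans
      inf_le_right)
  · have h3 : (V ⊓ cosetpre K B) /ᵍ K = B := by rw [quo_inf_cosetpre, inf_eq_right.2 hB]
    rw [← h3, min _ inf_le_left (le_normalizer_inf MV (le_norm_cosetpre MK hn))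
      fun e => B1 (h3 ▸ h2 _ inf_le_left e)]

namespace MM

variable {M S N V K R : Subgroup X}

theorem NK (h : MM l p M S N V K) : N ≤ K := h.hK ▸ le_sup_right

theorem cent (h : MM l p M S N V K) {A : Subgroup X} (hA : A ≤ stabMod V N) :
    A /ᵍ K ≤ C[V /ᵍ K] :=
  cent_symm (quo_cents_of_commutator_le ((commutator_le_of_le_stabMod hA).trans h.NK))

theorem cardR (h : MM l p M S N V K) (hr : r.Prime) (rl : r ≠ l) (cR : Nat.card R = r)
    (RM : R ≤ M) : Nat.card (R /ᵍ K) = r :=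
  (card_quo_of_disjoint (RM.trans h.MK) (inf_eq_bot_of_coprime'
    (coprime_pp h.hl hr rl.symm h.pK (H30.Flav.pg_of_card cR)))).trans cR

theorem cr (h : MM l p M S N V K) (hr : r.Prime) (rl : r ≠ l) (pr : p ≠ r) (cR : Nat.card R = r)
    (RM : R ≤ M) {E : Subgroup X} (ES : E ≤ S) (RE : R ≤ N[E]) (ER : ⁅E, R⁆ = E)
    {W Δ : Subgroup (Coset K)} (WY : W ≤ V /ᵍ K) (EW : E /ᵍ K ≤ N[W]) (RW : R /ᵍ K ≤ N[W])
    (WE : ⁅W, E /ᵍ K⁆ = W) (hg : ∀ T, Δ ≤ T → E /ᵍ K ≤ N[T] → W ≤ T)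
    (hv : GVP W (E /ᵍ K) (R /ᵍ K) Δ) :
    ∃ T, T ≤ V ∧ T /ᵍ K = W ∧ (T ⊓ C[R]) /ᵍ K = W ⊓ C[R /ᵍ K] ∧
      (∀ A, A ≤ M → A ≤ N[E] → A /ᵍ K ≤ N[W] → A ≤ N[T]) ∧ ∀ D, D ≤ T ⊓ C[R] → D /ᵍ K = Δ → Good p l r R E T D N := by
  have EM := ES.trans h.SM
  have EK := EM.trans h.MK
  have RK := RM.trans h.MK
  have pE := h.pS.to_le ES
  have pR := H30.Flav.pg_of_card cR
  set V₁ := V ⊓ cosetpre K W
  have EV₁ : E ≤ N[V₁] := le_normalizer_inf (EM.trans h.MV) (le_norm_cosetpre EK EW)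
  have RV₁ : R ≤ N[V₁] := le_normalizer_inf (RM.trans h.MV) (le_norm_cosetpre RK RW)
  set T := ⁅V₁, E⁆
  have TV : T ≤ V := (commutator_le_of_norm_left EV₁).trans inf_le_left
  have pT := h.pV.to_le TV
  have TK := TV.trans h.VK
  have hT : T /ᵍ K = W := by
    rw [quo_commutator (inf_le_left.trans h.VK) EK, quo_inf_cosetpre, inf_eq_right.2 WY, WE]
  have ET : E ≤ N[T] := le_norm_commutator_right _ _
  have RT : R ≤ N[T] := le_normalizer_commutator RV₁ RE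
  have cET := coprime_pp h.hp h.hl h.pl pE pT
  have TE : ⁅T, E⁆ = T := coprime_commGid EV₁
    (coprime_pp h.hp h.hl h.pl pE (h.pV.to_le inf_le_left)) (Or.inl (sol_p h.hp pE))
  have T' : ⁅T, T⁆ ≤ T := commutator_le_of_le le_rfl le_rfl
  have EN := EM.trans h.MN
  have h1 : T ⊓ K ≤ ⁅T, T⁆ ⊔ T ⊓ N := by
    set J := ⁅T, T⁆ ⊔ T ⊓ N
    have TJ : T ≤ N[J] := H67.le_normalizer_of_commutator_le le_sup_left (sup_le T' inf_le_left)
    have EJ : E ≤ N[J] := le_normalizer_sup (le_normalizer_commutator ET ET)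
      (le_normalizer_inf ET EN)
    have h2 := coprime_abel_cent_TI (quo_norms J ET) (coprime_quo J cET)
      (quo_isMulCommutative_of_der_le le_sup_left)
    rw [← quo_commutator TJ EJ, TE] at h2
    refine (quo_eq_bot_iff (inf_le_left.trans TJ)).1 (le_bot_iff.1 (h2 ▸ le_inf
      (quo_mono _ inf_le_left) (quo_cents_of_commutator_le (le_sup_of_le_right (le_inf
        ((commutator_mono inf_le_left le_rfl).trans TE.le) ((commutator_mono inf_le_right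
          le_rfl).trans ?_))))))
    rw [h.hK]
    exact commutator_sup_left_le ((commutator_le_of_le le_rfl le_rfl).trans h.VN) le_normalizer
      ((commutator_mono le_rfl ES).trans h.c2) (commutator_le_of_norm_left EN)
  have h2 : ∀ H A, T ⊓ K ≤ H → A ≤ T → A /ᵍ K ≤ (T ⊓ H) /ᵍ K → A ≤ H := fun H A a b c => by
    rw [quo_le_quo_iff (b.trans TK) (inf_le_left.trans TK)] at c
    exact ((le_inf b c).trans (inf_sup_of_le_normalizer' (Or.inr (inf_le_left.trans TK))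
      inf_le_left).le).trans (sup_le a inf_le_right)
  refine ⟨T, TV, hT, by rw [coprime_norm_quo_cent_of_coprime RT RK
    (coprime_pp hr h.hl rl pR pT) (Or.inr (sol_p h.hl pT)), hT],
    fun A a b c => le_normalizer_commutator (le_normalizer_inf (a.trans h.MV)
      (le_norm_cosetpre (a.trans h.MK) c)) b, fun D hD hΔ =>
    ⟨h.hp, h.pl, pr, pE, pT, RE, ET, RT, ER, TE, (commutator_mono (commutator_mono TV TV) TV).trans
      h.c1, (commutator_mono (commutator_mono TV TV) ES).trans h.c2, hD, fun H a b c d => ?_,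
      fun H a b c d => ?_⟩⟩
  · have h3 := h2 (⁅T, T⁆ ⊔ T ⊓ H) T (h1.trans (sup_le_sup_left (le_inf inf_le_left a) _)) le_rfl
      (hT ▸ (hg _ (hΔ ▸ quo_mono _ (le_inf (hD.trans inf_le_left) b))
        (quo_norms _ (le_normalizer_inf ET c))).trans
        (quo_mono _ (le_inf inf_le_left le_sup_right)))
    exact (eq_of_nil_of_sup_derived (isNilpotent_of_isPGroup h.hl pT) (le_antisymm
      (sup_le inf_le_left T') (sup_comm ⁅T, T⁆ _ ▸ h3))).ge.trans inf_le_right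
  · have TR : ⁅T, R⁆ ≤ T := commutator_le_of_norm_left RT
    have h3 : ⁅W, R /ᵍ K⁆ = ⁅T, R⁆ /ᵍ K := by rw [quo_commutator TK RK, hT]
    obtain ⟨y, hy, g1, g2⟩ := hv ((T ⊓ H) /ᵍ K) (h3 ▸ quo_mono _ (le_inf TR c))
      fun e => d (h2 H D (h1.trans (sup_le a b)) (hD.trans inf_le_left) (hΔ ▸ e))
    obtain ⟨g, hg, hgK, rfl⟩ := mem_quo.1 hy
    rw [← quo_cj hgK, cj_inf, cj_eq_self (ET hg)] at g1 g2
    exact ⟨g, hg, fun e => g1 (h3 ▸ quo_mono _ (le_inf TR e)),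
      fun e => g2 (hΔ ▸ quo_mono _ (le_inf (hD.trans inf_le_left) e))⟩

theorem mk1 (h : MM l p M S N V K) (hr : r.Prime) (rl : r ≠ l) (pr : p ≠ r) (cR : Nat.card R = r)
    (RM : R ≤ M) {E : Subgroup X} (ES : E ≤ S) (RE : R ≤ N[E]) (ER : ⁅E, R⁆ = E)
    {W : Subgroup (Coset K)} (WY : W ≤ V /ᵍ K) (EW : E /ᵍ K ≤ N[W]) (RW : R /ᵍ K ≤ N[W])
    (WE : W ⊓ C[E /ᵍ K] = ⊥) (WR : W ⊓ C[R /ᵍ K] ≠ ⊥) :
    ∃ T, T ≤ V ∧ ¬ T ≤ N ∧ Good p l r R E T (T ⊓ C[R]) N ∧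
      ∀ D, D ≤ S → D ≤ C[R] → D ≤ N[E] → D /ᵍ K ≤ N[W] → W ⊓ C[D /ᵍ K] = ⊥ →
        Good p l r R E T ⁅T ⊓ C[R], D⁆ N := by
  set Δ := W ⊓ C[R /ᵍ K] with hΔ
  have EK := (ES.trans h.SM).trans h.MK
  have RK := RM.trans h.MK
  have pY := isPGroup_of_elemAb h.el
  have pE := quo_isPGroup K (h.pS.to_le ES)
  have cR' := h.cardR hr rl cR RM
  have h1 : Δ ⊔ ⁅Δ, E /ᵍ K⁆ ≤ W := sup_le inf_le_left
    ((commutator_mono inf_le_left le_rfl).trans (commutator_le_of_norm_left EW))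
  have h2 := norm_sup_comm Δ (E /ᵍ K)
  have h3 : R /ᵍ K ≤ N[Δ] := le_normalizer_of_le_centralizer' inf_le_right
  have h4 := le_normalizer_sup h3 (le_normalizer_commutator h3 (quo_norms _ RE))
  have h5 := coprime_commutator_eq_of_cent_eq_bot h2 (coprime_pp h.hp h.hl h.pl pE
    (pY.to_le (h1.trans WY))) (Or.inl (sol_p h.hp pE)) (fpf_mono WE h1)
  have h6 : (Δ ⊔ ⁅Δ, E /ᵍ K⁆) ⊓ C[R /ᵍ K] = Δ :=
    le_antisymm (inf_le_inf_right _ h1) (le_inf le_sup_left inf_le_right)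
  obtain ⟨T, TV, hT, t1, t2, t3⟩ := h.cr hr rl pr cR RM ES RE ER (h1.trans WY) h2 h4 h5
    (fun T a b => sup_le a ((commutator_mono a le_rfl).trans (commutator_le_of_norm_left b)))
    (gv (D := ⊥) h.hp (isMulCommutative_of_le h.el.1 (h1.trans WY)) pE (cR' ▸ hr) h2 h4
      (quo_norms _ RE) (coprime_pp hr h.hp pr.symm (H30.Flav.pg_of_card cR') pE) h5
      (by rw [← quo_commutator EK RK, ER]) h6.ge (Or.inl h6.le))
  rw [h6] at t1
  refine ⟨T, TV, fun e => WR (t1 ▸ quo_eq_bot_of_le (inf_le_left.trans (e.trans h.NK))),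
    t3 _ le_rfl t1, fun D DS DR DE DW hD => ?_⟩
  have h7 : D /ᵍ K ≤ N[Δ] := le_normalizer_inf DW
    (le_normalizer_centralizer (le_normalizer_of_le_centralizer (quo_cents _ DR)))
  have pD := quo_isPGroup K (h.pS.to_le DS)
  refine t3 _ (commutator_le_of_norm_left (le_normalizer_inf (t2 D (DS.trans h.SM) DE
    (le_normalizer_sup h7 (le_normalizer_commutator h7 (quo_norms _ DE))))
    (DR.trans le_normalizer))) ?_
  rw [quo_commutator ((inf_le_left.trans TV).trans h.VK) ((DS.trans h.SM).trans h.MK), t1]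
  exact coprime_commutator_eq_of_cent_eq_bot h7 (coprime_pp h.hp h.hl h.pl pD
    (pY.to_le (inf_le_left.trans WY))) (Or.inl (sol_p h.hp pD)) (fpf_mono hD inf_le_left)

end MM

variable {Q N R : Subgroup X}

theorem stab_mono {V Q N : Subgroup X} (h : V ≤ Q) : stabMod Q N ≤ stabMod V N :=
  fun _ hx => ⟨hx.1, fun k hk => hx.2 k (h hk)⟩

theorem not_comm_le {S : Subgroup X} (NQ : N ≤ Q) (h : ¬ S ≤ S ⊓ stabMod Q N) : ¬ ⁅Q, S⁆ ≤ N :=
  fun e => h (le_inf le_rfl (le_stabMod_of_le NQ e))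

theorem stepG (hl : l.Prime) (hp : p.Prime) (hr : r.Prime) (pl : p ≠ l) (rl : r ≠ l) (pr : p ≠ r)
    (cR : Nat.card R = r) (pQ : IsPGroup l Q) (NQ : N ≤ Q) (QN : Q ≤ N[N]) {E S D P : Subgroup X}
    (h : Good q p r R E S D P) (hP : P ≤ stabMod Q N) (MQ : E ⊔ S ⊔ R ≤ N[Q])
    (MN : E ⊔ S ⊔ R ≤ N[N]) (hS : ¬ ⁅Q, S⁆ ≤ N) :
    ∃ E' T, E' ≤ S ∧ T ≤ Q ∧ ¬ T ≤ N ∧ Good p l r R E' T ⁅T ⊓ C[R], D⁆ N := by
  obtain ⟨V, K, VQ, m⟩ := min_mod hl hp pl pQ h.pS NQ QN MQ MN (le_sup_right.trans le_sup_left)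
    (sup_le (sup_le h.ES le_normalizer) h.RS) hS
  have EK := (le_sup_left.trans le_sup_left).trans m.MK
  have SK := m.SM.trans m.MK
  have RK := le_sup_right.trans m.MK
  have mn := m.mn
  rw [quo_sup (sup_le EK SK) RK, quo_sup EK SK] at mn
  obtain ⟨A, hA, W, WY, w1, w2, w3, w4, w5, w6⟩ := mlG hl hp hr pl rl pr
    (m.cardR hr rl cR le_sup_right) (h.quo RK EK SK (m.cent ((inf_le_right.trans hP).trans
      (stab_mono VQ)))) m.el mn m.fS
  obtain ⟨B, hB, BS, RB, DB⟩ : ∃ B, B /ᵍ K = A ∧ B ≤ S ∧ R ≤ N[B] ∧ S ≤ N[B] := by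
    rcases hA with rfl | rfl
    · exact ⟨_, quo_commutator SK SK, commutator_le_of_le le_rfl le_rfl,
        le_normalizer_commutator h.RS h.RS, le_normalizer_derived S⟩
    · exact ⟨S, rfl, le_rfl, h.RS, le_normalizer⟩
  rw [← hB, ← quo_commutator (BS.trans SK) RK] at w1 w4
  have h1 := (commutator_le_of_norm_left RB).trans BS
  have pR := H30.Flav.pg_of_card cR
  obtain ⟨T, TV, t1, -, t2⟩ := m.mk1 hr rl pr cR le_sup_right h1 (le_norm_commutator_right _ _)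
    (coprime_commGid RB (coprime_pp hr hp pr.symm pR (h.pS.to_le BS)) (Or.inl (sol_p hr pR)))
    WY w1 w2 w4 w6
  have DS := h.hD.trans inf_le_left
  have DR := h.hD.trans inf_le_right
  exact ⟨_, T, h1, TV.trans VQ, t1, t2 D DS DR (le_normalizer_commutator (DS.trans DB)
    (le_normalizer_of_le_centralizer DR)) w3 w5⟩

theorem stepB (hl : l.Prime) (hp : p.Prime) (hr : r.Prime) (pl : p ≠ l) (rl : r ≠ l) (pr : p ≠ r)
    (cR : Nat.card R = r) (pQ : IsPGroup l Q) (NQ : N ≤ Q) (QN : Q ≤ N[N]) {U D S P : Subgroup X}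
    (h : BS τ p r R U D S P) (hP : P ≤ stabMod Q N) (MQ : U ⊔ D ⊔ S ⊔ R ≤ N[Q])
    (MN : U ⊔ D ⊔ S ⊔ R ≤ N[N]) (hS : ¬ ⁅Q, S⁆ ≤ N) :
    ∃ T, T ≤ Q ∧ ¬ T ≤ N ∧ (Good p l r R S T ⁅T ⊓ C[R], D⁆ N ∨ (Good p l r R S T (T ⊓ C[R]) N ∧
      (⁅D, U⁆ = D → Good p l r R S T ⁅T ⊓ C[R], ⁅S ⊓ C[R], U⁆⁆ N))) := by
  obtain ⟨V, K, VQ, m⟩ := min_mod hl hp pl pQ h.pS NQ QN MQ MN (le_sup_right.trans le_sup_left)
    (sup_le (sup_le (sup_le h.US h.DS) le_normalizer) h.RS) hS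
  have DM : D ≤ U ⊔ D ⊔ S ⊔ R := (le_sup_right.trans le_sup_left).trans le_sup_left
  have UK := ((le_sup_left.trans le_sup_left).trans le_sup_left).trans m.MK
  have DK := DM.trans m.MK
  have SK := m.SM.trans m.MK
  have RK := le_sup_right.trans m.MK
  have mn := m.mn
  rw [quo_sup (sup_le (sup_le UK DK) SK) RK, quo_sup (sup_le UK DK) SK, quo_sup UK DK] at mn
  have h' := h.quo RK DK SK (m.cent ((inf_le_right.trans hP).trans (stab_mono VQ)))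
  have cR' := m.cardR hr rl cR le_sup_right
  have pR := H30.Flav.pg_of_card cR
  have UY := ((le_sup_left.trans le_sup_left).trans le_sup_left).trans mn.norm
  have DY := ((le_sup_right.trans le_sup_left).trans le_sup_left).trans mn.norm
  have SY := (le_sup_right.trans le_sup_left).trans mn.norm
  have RY := le_sup_right.trans mn.norm
  by_cases hD : ⁅V /ᵍ K ⊓ C[R /ᵍ K], D /ᵍ K⁆ = ⊥
  · obtain ⟨h1, h2⟩ := mlB hl hp hr pl rl pr cR' h' m.el mn m.fS hD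
    obtain ⟨T, TV, t1, t2, t3⟩ := m.mk1 hr rl pr cR le_sup_right le_rfl h.RS h.SR le_rfl SY RY
      m.fS h1
    have h3 : ⁅S ⊓ C[R], U⁆ ≤ S :=
      (commutator_mono inf_le_left le_rfl).trans (commutator_le_of_norm_left h.US)
    refine ⟨T, TV.trans VQ, t1, Or.inr ⟨t2, fun hU => t3 _ h3 (commutator_le_of_le inf_le_right h.UR)
      (h3.trans le_normalizer) ((quo_mono _ h3).trans SY) ?_⟩⟩
    rw [quo_commutator (inf_le_left.trans SK) UK, coprime_norm_quo_cent_of_coprime h.RS RK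
      (coprime_pp hr hp pr.symm pR h.pS) (Or.inl (sol_p hr pR))]
    exact h2 (by rw [← quo_commutator DK UK, hU])
  set Δ := ⁅V /ᵍ K ⊓ C[R /ᵍ K], D /ᵍ K⁆ with hΔ
  have h1 : ∀ A, A ≤ N[V /ᵍ K] → A ≤ C[R /ᵍ K] → A ≤ N[V /ᵍ K ⊓ C[R /ᵍ K]] := fun A a b =>
    le_normalizer_inf a (b.trans le_normalizer)
  have h2 : Δ ≤ V /ᵍ K ⊓ C[R /ᵍ K] := commutator_le_of_norm_left (h1 _ DY h'.DR)
  have h3 : ∀ A, A ≤ N[Δ] → A ≤ N[S /ᵍ K] → A ≤ N[Δ ⊔ ⁅Δ, S /ᵍ K⁆] := fun A a b =>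
    le_normalizer_sup a (le_normalizer_commutator a b)
  have h4 := mn.eq (K := Δ ⊔ ⁅Δ, S /ᵍ K⁆) (sup_le (h2.trans inf_le_left) ((commutator_mono
    (h2.trans inf_le_left) le_rfl).trans (commutator_le_of_norm_left SY))) (ne_bot_mono hD le_sup_left)
    (sup_le (sup_le (sup_le (h3 _ (le_normalizer_commutator (h1 _ UY h'.UR) h'.UD) h'.US)
      (h3 _ (le_norm_commutator_right _ _) h'.DS)) (norm_sup_comm _ _))
      (h3 _ (le_normalizer_of_le_centralizer' (h2.trans inf_le_right)) h'.RS))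
  have h5 : ⁅V /ᵍ K, S /ᵍ K⁆ = V /ᵍ K := by rw [← quo_commutator m.VK SK, m.VS]
  have pR' := H30.Flav.pg_of_card cR'
  obtain ⟨T, TV, hT, t1, t2, t3⟩ := m.cr hr rl pr cR le_sup_right le_rfl h.RS h.SR le_rfl SY RY h5
    (Δ := Δ) (fun T a b => h4.ge.trans (sup_le a ((commutator_mono a le_rfl).trans
      (commutator_le_of_norm_left b)))) (gv hp m.el.1 h'.pS (cR' ▸ hr) SY RY h'.RS
      (coprime_pp hr hp pr.symm pR' h'.pS) h5 h'.SR h2 (Or.inr ⟨h'.SD, h'.DR, DY, h'.DS,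
        coprime_pp h.hτ hr h.τr h'.pD pR', le_rfl⟩))
  refine ⟨T, TV.trans VQ, fun e => mn.ne_bot (hT ▸ quo_eq_bot_of_le (e.trans m.NK)), Or.inl (t3 _
    (commutator_le_of_norm_left (le_normalizer_inf (t2 D DM h.DS DY) (h.DR.trans le_normalizer))) ?_)⟩
  rw [quo_commutator ((inf_le_left.trans TV).trans m.VK) DK, t1]

theorem stepZ (hl : l.Prime) (hp : p.Prime) (hr : r.Prime) (pl : p ≠ l) (rl : r ≠ l) (pr : p ≠ r)
    (cR : Nat.card R = r) (pQ : IsPGroup l Q) (NQ : N ≤ Q) (QN : Q ≤ N[N]) {S : Subgroup X}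
    (pS : IsPGroup p S) (RS : R ≤ N[S]) (SR : ⁅S, R⁆ = S) (MQ : S ⊔ R ≤ N[Q])
    (MN : S ⊔ R ≤ N[N]) (hS : ¬ ⁅Q, S⁆ ≤ N) :
    ∃ T, T ≤ Q ∧ ¬ T ≤ N ∧ (Good p l r R S T (T ⊓ C[R]) N ∨
      (S ≤ N[T] ∧ R ≤ N[T] ∧ ⁅T, S⁆ = T ∧ T ≤ ⁅T, R⁆ ⊔ T ⊓ N)) := by
  obtain ⟨V, K, VQ, m⟩ := min_mod hl hp pl pQ pS NQ QN MQ MN le_sup_left
    (sup_le le_normalizer RS) hS
  have RV := le_sup_right.trans m.MV
  have RK := le_sup_right.trans m.MK
  by_cases h : V /ᵍ K ⊓ C[R /ᵍ K] = ⊥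
  · refine ⟨V, VQ, fun e => m.mn.ne_bot (quo_eq_bot_of_le (e.trans m.NK)), Or.inr
      ⟨le_sup_left.trans m.MV, RV, m.VS, ?_⟩⟩
    have pR := H30.Flav.pg_of_card cR
    have h1 := coprime_commutator_eq_of_cent_eq_bot (quo_norms K RV) (coprime_quo K
      (coprime_pp hr hl rl pR m.pV)) (Or.inr (quo_isSolvable _ (sol_p hl m.pV))) h
    have h2 := commutator_le_of_norm_left RV
    rw [← quo_commutator m.VK RK] at h1
    have h3 := (quo_le_quo_iff m.VK (h2.trans m.VK)).1 h1.ge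
    have V' : ⁅V, V⁆ ≤ V := commutator_le_of_le le_rfl le_rfl
    rw [m.hK, sup_assoc, sup_comm N, ← sup_assoc] at h3
    have h4 := inf_sup_of_le_normalizer (Or.inl ((sup_le V' h2).trans m.VN)) (sup_le V' h2)
    rw [inf_eq_left.2 h3, sup_assoc, sup_comm] at h4
    exact (eq_of_nil_of_sup_derived (isNilpotent_of_isPGroup hl m.pV) h4.symm).ge
  obtain ⟨T, TV, t1, t2, -⟩ := m.mk1 hr rl pr cR le_sup_right le_rfl RS SR le_rfl
    (quo_norms _ (le_sup_left.trans m.MV)) (quo_norms _ RV) m.fS h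
  exact ⟨T, TV.trans VQ, t1, Or.inl t2⟩

theorem stepY (hl : l.Prime) (hp : p.Prime) (hq : q.Prime) (hr : r.Prime) (pl : p ≠ l) (rl : r ≠ l)
    (pr : p ≠ r) (qp : q ≠ p) (qr : q ≠ r) (cR : Nat.card R = r) (pQ : IsPGroup l Q) (NQ : N ≤ Q)
    (QN : Q ≤ N[N]) {E S P : Subgroup X} (pE : IsPGroup q E) (pS : IsPGroup p S) (RE : R ≤ N[E])
    (ES : E ≤ N[S]) (RS : R ≤ N[S]) (ER : ⁅E, R⁆ = E) (SE : ⁅S, E⁆ = S) (SR : S ≤ ⁅S, R⁆ ⊔ S ⊓ P)
    (hP : P ≤ stabMod Q N) (MQ : E ⊔ S ⊔ R ≤ N[Q]) (MN : E ⊔ S ⊔ R ≤ N[N])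
    (hS : ¬ ⁅Q, S⁆ ≤ N) :
    ∃ T, T ≤ Q ∧ ¬ T ≤ N ∧ Good p l r R ⁅S, R⁆ T (T ⊓ C[R]) N := by
  obtain ⟨V, K, VQ, m⟩ := min_mod hl hp pl pQ pS NQ QN MQ MN (le_sup_right.trans le_sup_left)
    (sup_le (sup_le ES le_normalizer) RS) hS
  have EM : E ≤ E ⊔ S ⊔ R := le_sup_left.trans le_sup_left
  have EK := EM.trans m.MK
  have SK := m.SM.trans m.MK
  have RK := le_sup_right.trans m.MK
  have pR := H30.Flav.pg_of_card cR
  have h1 := commutator_le_of_norm_left RS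
  have SY := quo_norms K (m.SM.trans m.MV)
  have RY := quo_norms K (le_sup_right.trans m.MV)
  have h2 := quo_mono K SR
  rw [quo_sup (h1.trans SK) (inf_le_left.trans SK)] at h2
  obtain ⟨T, TV, t1, t2, -⟩ := m.mk1 hr rl pr cR le_sup_right h1 (le_norm_commutator_right _ _)
    (coprime_commGid RS (coprime_pp hr hp pr.symm pR pS) (Or.inl (sol_p hr pR))) le_rfl
    ((quo_mono _ h1).trans SY) RY (le_bot_iff.1 (m.fS ▸ le_inf inf_le_left (cent_symm (h2.trans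
      (sup_le (cent_symm inf_le_right) ((m.cent ((inf_le_right.trans hP).trans
        (stab_mono VQ))).trans (centralizer_anti inf_le_left))))))) fun e => by
      have := fix hl hp hq hr pl rl pr qp qr m.el (quo_isPGroup K pE) (quo_isPGroup K pS)
        (m.cardR hr rl cR le_sup_right) (quo_norms K (EM.trans m.MV)) SY RY (quo_norms _ RE)
        (quo_norms _ ES) (quo_norms _ RS) (by rw [← quo_commutator EK RK, ER]) e
      rw [← quo_commutator SK EK, SE] at this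
      exact m.mn.ne_bot (m.fS ▸ (inf_eq_left.2 (cent_symm this)).symm)
  exact ⟨T, TV.trans VQ, t1, t2⟩

theorem stepA (hl : l.Prime) (hp : p.Prime) (hr : r.Prime) (pl : p ≠ l) (rl : r ≠ l) (pr : p ≠ r)
    (cR : Nat.card R = r) (pQ : IsPGroup l Q) (NQ : N ≤ Q) (QN : Q ≤ N[N]) {U D : Subgroup X}
    (pD : IsPGroup p D) (DR : D ≤ C[R]) (UR : U ≤ C[R]) (UD : U ≤ N[D]) (MQ : U ⊔ D ⊔ R ≤ N[Q])
    (MN : U ⊔ D ⊔ R ≤ N[N]) (hS : ¬ ⁅Q, D⁆ ≤ N) (h : ⁅Q ⊓ C[R], D⁆ ≤ N) :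
    ∃ T, T ≤ Q ∧ ¬ T ≤ N ∧ BS p l r R U D T N := by
  have UM : U ≤ U ⊔ D ⊔ R := le_sup_left.trans le_sup_left
  have DM : D ≤ U ⊔ D ⊔ R := le_sup_right.trans le_sup_left
  obtain ⟨V, K, VQ, m⟩ := min_mod hl hp pl pQ pD NQ QN MQ MN DM
    (sup_le (sup_le UD le_normalizer) (le_normalizer_of_le_centralizer' DR)) hS
  have RV := le_sup_right.trans m.MV
  have pR := H30.Flav.pg_of_card cR
  have h1 := commutator_le_of_norm_left RV
  have h2 : ¬ V ≤ N := fun e => m.mn.ne_bot (quo_eq_bot_of_le (e.trans m.NK))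
  have V' : ⁅V, V⁆ ≤ V := commutator_le_of_le le_rfl le_rfl
  refine ⟨V, VQ, h2, hp, pl, pr, pD, m.pV, DR, UR, UD, UM.trans m.MV, DM.trans m.MV, RV,
    m.min _ h1 (le_normalizer_commutator m.MV (sup_le (sup_le (le_normalizer_of_le_centralizer UR)
      (le_normalizer_of_le_centralizer DR)) le_normalizer)) fun e => h2 ?_, m.VS, m.c1, m.c2,
    fun x hx => ?_⟩
  · rw [← m.VS, ← (coprime_cent_prod RV (coprime_pp hr hl rl pR m.pV) (Or.inl (sol_p hr pR))).sup]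
    exact commutator_sup_left_le (h1.trans m.VN) (inf_le_left.trans m.VN) e
      ((commutator_mono (inf_le_inf_right _ VQ) le_rfl).trans h)
  · have := Fact.mk hl
    rw [← inf_sup_of_le_normalizer (Or.inl (V'.trans m.VN)) V', ← m.hK]
    exact ⟨pow_mem hx _, (quo_elemAb_iff m.pV m.VK).1 m.el (pow_mem_frattiniOf m.pV hx)⟩

end Cfsg.Agent.H88.Tu
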