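import Cfsg.Agent.H88.ZMin
import Cfsg.Agent.H88.ZBG10a
import Cfsg.Agent.H69.BG3
import Cfsg.Agent.H63.BG1

/-! Bender-Glauberman section 10: results 10.2 to 10.6. -/

set_option autoImplicit false
set_option linter.unusedSectionVars false
set_option linter.unusedVariables false

namespace Cfsg.Agent.H88.SZ.H66

open Cfsg.Agent.H66

variable [Om]

open Cfsg Cfsg.Agent.H63 Cfsg.Agent.H67 Cfsg.Agent.H66.Aux Subgroup
open Cfsg.Agent.H88.SZ.H63 Cfsg.Agent.H88.SZ.H67 Cfsg.Agent.H88.SZ.H66.Aux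
open scoped commutatorElement

universe u

variable {G : Type u} [Group G] [Finite G]

/-- An `α(M)'`-subgroup of `M` has rank at most two (no hypothesis on `M`). -/
theorem alpha'_rank2' {M X : Subgroup G} (sXM : X ≤ M) (a'X : IsPiSubgroup (alpha M)ᶜ X) :
    rank X ≤ 2 := by
  refine rank_le_of_forall_dvd fun p hp hd => ?_
  have : Fact p.Prime := ⟨hp⟩
  have ap := a'X p hp hd
  exact (rankP_mono sXM).trans (not_lt.1 fun h => ap (mem_alpha_iff.2 ⟨hp, h⟩))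

section Max

variable (hG : IsMinSimpleOddOrder G) {M : Subgroup G} (maxM : IsCoatom M)
include hG maxM

theorem sigma_Sylow_sub_der1 {p : ℕ} {P : Subgroup G} (sp : p ∈ sigma M) (sylP : IsSyl p P M) :
    P ≤ ⁅M, M⁆ := by
  have : Fact p.Prime := ⟨sp.1⟩
  refine syl_le_of_focal (sigma_Sylow_G sp sylP) (mFT_derived_top hG) fun x hx u hu => ?_
  have sXP : zpowers x ≤ P := zpowers_le.2 hx
  obtain ⟨m, hm, c, hc, rfl⟩ := sigma_group_trans_a hG maxM sp
    ((syl_isPGroup sylP).to_le sXP) (g := u) (sXP.trans sylP.1)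
    (by rw [cj_zpowers]; exact zpowers_le.2 (sylP.1 hu))
  have hc' : c * x⁻¹ * c⁻¹ = x⁻¹ := conj_eq_of_mem_centralizer hc (inv_mem (mem_zpowers x))
  have : ⁅x, m * c⁆ = ⁅x, m⁆ := by
    rw [commutatorElement_def, commutatorElement_def]
    calc x * (m * c) * x⁻¹ * (m * c)⁻¹ = x * m * (c * x⁻¹ * c⁻¹) * m⁻¹ := by group
      _ = x * m * x⁻¹ * m⁻¹ := by rw [hc']
  rw [this]
  exact commutator_mem_commutator (sylP.1 hx) hm

theorem sigma_Hall_sub_der1 {H : Subgroup G} (hallH : IsPiHallOf (sigma M) H M) : H ≤ ⁅M, M⁆ := by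
  refine le_of_forall_syl_le fun q hq hd => ?_
  have : Fact q.Prime := ⟨hq⟩
  obtain ⟨P, sylP⟩ := exists_syl q H
  have sq := hall_isPi hallH q hq hd
  exact ⟨P, sylP, sigma_Sylow_sub_der1 hG maxM sq (syl_of_hall hallH sq sylP)⟩

theorem Malpha_quo_Fitting :
    IsPiSubgroup (alpha M)ᶜ (fittingOf (M /ᵍ alphaCore M)) ∧
      ⁅M, M⁆ /ᵍ alphaCore M ≤ fittingOf (M /ᵍ alphaCore M) := by
  have nMa := Malpha_normal M
  have a'F : IsPiSubgroup (alpha M)ᶜ (fittingOf (M /ᵍ alphaCore M)) := by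
    apply isPi_compl_of_hall_bot
    have h := hall_piCoreOf_of_isNilpotent (alpha M) (fit_nil (M /ᵍ alphaCore M))
    have h0 : O[alpha M](fittingOf (M /ᵍ alphaCore M)) = ⊥ := by
      refine le_bot_iff.1 ((piCoreOf_le_of_normalIn (fit_normal _)).trans ?_)
      exact (piCoreOf_quo_self (alpha M) M).le
    rwa [h0] at h
  refine ⟨a'F, ?_⟩
  rw [quo_commutator nMa.norm nMa.norm]
  refine H71.rank2_der1_sub_Fitting (quo_odd _ (mFT_odd hG M)) (quo_isSolvable _ (mmax_sol hG maxM)) ?_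
  refine rank_le_of_forall_dvd fun p hp hd => ?_
  have : Fact p.Prime := ⟨hp⟩
  have ap := a'F p hp hd
  refine (rankP_mono (fit_le _)).trans ?_
  rw [rankP_quo_of_isPi nMa.norm (Malpha_pi M) ap]
  exact not_lt.1 fun h => ap (mem_alpha_iff.2 ⟨hp, h⟩)

/-- B & G Theorem 10.2(a). -/
theorem Malpha_Hall : IsPiHallOf (alpha M) (alphaCore M) M := by
  have solM := mmax_sol hG maxM
  obtain ⟨a'F, sM'F⟩ := Malpha_quo_Fitting hG maxM
  obtain ⟨A, hallA⟩ := exists_hall (alpha M) solM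
  obtain ⟨H, hallH, sAH⟩ := exists_hall_ge solM hallA.1
    (isPi_mono (hall_isPi hallA) fun _ h => alpha_sub_sigma hG maxM h)
  have h1 : A /ᵍ alphaCore M = ⊥ :=
    isPi_eq_bot (quo_isPiSubgroup _ (hall_isPi hallA))
      (isPi_of_le a'F ((quo_mono _ (sAH.trans (sigma_Hall_sub_der1 hG maxM hallH))).trans sM'F))
  rw [quo_eq_bot_iff (hallA.1.trans (Malpha_normal M).norm)] at h1
  rwa [hall_eq_of_le hallA (Malpha_pi M) h1 (Malpha_normal M).le]

/-- B & G Theorem 10.2(b). -/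
theorem Msigma_Hall : IsPiHallOf (sigma M) (sigmaCore M) M := by
  have solM := mmax_sol hG maxM
  have nMa := Malpha_normal M
  obtain ⟨-, sM'F⟩ := Malpha_quo_Fitting hG maxM
  obtain ⟨H, hallH⟩ := exists_hall (sigma M) solM
  have sMaH : alphaCore M ≤ H := (Malpha_sub_Msigma hG maxM).trans (piCoreOf_le_hall hallH)
  have sHF := (quo_mono _ (sigma_Hall_sub_der1 hG maxM hallH)).trans sM'F
  have h1 := hall_of_le (quo_isPiHallOf nMa.norm hallH) sHF (fit_le _)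
  have h2 : H /ᵍ alphaCore M ⊴ M /ᵍ alphaCore M := by
    rw [eq_piCoreOf_of_isNilpotent (fit_nil _) h1]
    exact (fit_normal _).piCoreOf _
  have h3 : H ⊴ M := normal_of_quo (nMa.of_le sMaH hallH.1) nMa h2
  rwa [sigmaCore_def, piCoreOf_eq_of_normal_hall hallH h3]

omit hG maxM in
theorem hall_G_of_sub_sigma {π : Set ℕ} {H : Subgroup G} (hπ : π ⊆ sigma M)
    (h : IsPiHallOf π H M) : IsPiHallOf π H ⊤ := by
  refine hall_of_relIndex h le_top (piNat_compl_iff.2 fun p hp hpπ hd => ?_)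
  have : Fact p.Prime := ⟨hp⟩
  obtain ⟨P, sylP⟩ := exists_syl p M
  exact syl_not_dvd (sigma_Sylow_G (hπ hpπ) sylP)
    (hd.trans (Dvd.intro_left _ (relIndex_mul_relIndex P M ⊤ sylP.1 le_top)))

theorem Malpha_Hall_G : IsPiHallOf (alpha M) (alphaCore M) ⊤ :=
  hall_G_of_sub_sigma (fun _ h => alpha_sub_sigma hG maxM h) (Malpha_Hall hG maxM)

theorem Msigma_Hall_G : IsPiHallOf (sigma M) (sigmaCore M) ⊤ :=
  hall_G_of_sub_sigma subset_rfl (Msigma_Hall hG maxM)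

theorem pi_Msigma {p : ℕ} : p ∈ sigma M ↔ p.Prime ∧ p ∣ Nat.card (sigmaCore M) :=
  ⟨fun h => ⟨h.1, prime_dvd_card_hall (Msigma_Hall hG maxM) h.1 h (sigma_sub_pi h)⟩,
    fun h => Msigma_pi M p h.1 h.2⟩

theorem pi_Malpha {p : ℕ} : p ∈ alpha M ↔ p.Prime ∧ p ∣ Nat.card (alphaCore M) :=
  ⟨fun h => ⟨h.1, prime_dvd_card_hall (Malpha_Hall hG maxM) h.1 h (alpha_sub_pi h)⟩,
    fun h => Malpha_pi M p h.1 h.2⟩

/-- B & G Theorem 10.2(c). -/
theorem Msigma_der1 : sigmaCore M ≤ ⁅M, M⁆ := sigma_Hall_sub_der1 hG maxM (Msigma_Hall hG maxM)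

theorem Malpha_der1 : alphaCore M ≤ ⁅M, M⁆ :=
  (Malpha_sub_Msigma hG maxM).trans (Msigma_der1 hG maxM)

theorem Malpha_quo_alpha' : IsPiSubgroup (alpha M)ᶜ (M /ᵍ alphaCore M) := by
  rw [isPi_iff, card_quo (Malpha_normal M).norm]
  exact hall_relIndex (Malpha_Hall hG maxM)

/-- B & G Theorem 10.2(d). -/
theorem Malpha_quo_rank2 : rank (M /ᵍ alphaCore M) ≤ 2 := by
  refine rank_le_of_forall_dvd fun p hp hd => ?_
  have : Fact p.Prime := ⟨hp⟩
  have ap := Malpha_quo_alpha' hG maxM p hp hd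
  rw [rankP_quo_of_isPi (Malpha_normal M).norm (Malpha_pi M) ap]
  exact not_lt.1 fun h => ap (mem_alpha_iff.2 ⟨hp, h⟩)

theorem Malpha_quo_nil : Group.IsNilpotent ↥(⁅M, M⁆ /ᵍ alphaCore M) :=
  isNilpotent_of_le (fit_nil _) (Malpha_quo_Fitting hG maxM).2

/-- An `α(M)'`-subgroup of `M` has rank at most two. -/
theorem alpha'_rank2 {X : Subgroup G} (sXM : X ≤ M) (a'X : IsPiSubgroup (alpha M)ᶜ X) :
    rank X ≤ 2 := alpha'_rank2' sXM a'X

/-- B & G Theorem 10.2(e). -/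
theorem Msigma_neq1 : sigmaCore M ≠ ⊥ := by
  intro hs
  have ha : alphaCore M = ⊥ := le_bot_iff.1 ((Malpha_sub_Msigma hG maxM).trans hs.le)
  have a'M : IsPiSubgroup (alpha M)ᶜ M := isPi_compl_of_hall_bot (ha ▸ Malpha_Hall hG maxM)
  have rF : rank (fittingOf M) ≤ 2 :=
    alpha'_rank2' (fit_le M) (isPi_of_le a'M (fit_le M))
  obtain ⟨q, hq, hqd, hmax⟩ := exists_max_prime_dvd_card (mmax_neq1 hG maxM)
  have : Fact q.Prime := ⟨hq⟩
  have sylQ : IsSyl q O[{q}](M) M :=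
    H71.rank2_max_pcore_Sylow (mFT_odd hG M) (mmax_sol hG maxM) rF hmax
  have sq : q ∈ sigma M := mem_sigma_of_Sylow hq maxM.1 sylQ
    (mmax_normal hG maxM (piCoreOf_normalIn _ _) (syl_ne_bot sylQ hqd)).le
    (wp_of_pCore hG maxM hq (syl_ne_bot sylQ hqd))
  have := ((pi_Msigma hG maxM).1 sq).2
  rw [hs, card_bot] at this
  exact hq.not_dvd_one this

/-- B & G Lemma 10.3. -/
theorem cent_alpha'_uniq {X : Subgroup G} (sXM : X ≤ M) (a'X : IsPiSubgroup (alpha M)ᶜ X)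
    (hr : 2 ≤ rank (alphaCore M ⊓ C[X])) : InUniqueMaximal (M ⊓ C[X]) := by
  have prC : Pr (M ⊓ C[X]) := ne_top_mono maxM.1 inf_le_left
  have nMa := Malpha_normal M
  obtain ⟨p, hp, B, sB, abelB, oB⟩ := exists_elemOf_of_le_rank hr
  have : Fact p.Prime := ⟨hp⟩
  have sBMa : B ≤ alphaCore M := sB.trans inf_le_left
  have cXB : B ≤ C[X] := sB.trans inf_le_right
  have sBC : B ≤ M ⊓ C[X] := le_inf (sBMa.trans nMa.le) cXB
  have ap : p ∈ alpha M := Malpha_pi M p hp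
    ((Dvd.intro_left (p ^ 1) (by rw [oB]; ring)).trans (card_dvd_of_le' sBMa))
  by_cases maxB : MaxElemOf p B ⊤
  swap
  · exact uniq_mmaxS sBC prC (nonmaxElem2_Uniqueness hG ⟨le_top, abelB, oB⟩ maxB)
  obtain ⟨P, sylP, nPX, sBP⟩ := coprime_syl_subset (sXM.trans nMa.norm)
    (isPi_coprime' a'X (Malpha_pi M)) (Or.inl (mmax_sub_sol hG maxM sXM)) sBMa
    (elemAb_isPGroup abelB) (le_normalizer_of_le_centralizer' cXB)
  have pP := syl_isPGroup sylP
  have sylPM := syl_of_hall (Malpha_Hall hG maxM) ap sylP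
  have cPX : X ≤ C[P] :=
    coprime_odd_faithful_maxElem pP (mFT_prime_ne_two hG (alpha_sub_pi ap)) (maxB.of_le sBP le_top)
      nPX (isPi_mono a'X fun q hq he => hq (he ▸ ap)) (cent_symm cXB)
  refine uniq_mmaxS (le_inf sylPM.1 (cent_symm cPX)) prC ?_
  refine rank3_Uniqueness hG (mFT_pgroup_proper hG hp pP) ?_
  rw [rank_pgroup pP, rankP_syl sylPM]
  exact (mem_alpha_iff.1 ap).2

/-- B & G Lemma 10.4(a). -/
theorem der1_quo_sigma' {p : ℕ} (h : p ∣ (⁅M, M⁆ : Subgroup G).relIndex M) : p ∉ sigma M := by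
  intro sp
  refine hall_relIndex (Msigma_Hall hG maxM) p sp.1 (h.trans ?_) sp
  exact relIndex_dvd_of_le_left M (Msigma_der1 hG maxM)

/-- B & G Lemma 10.4(b). -/
theorem cent1_sigma'_Zgroup {p : ℕ} [Fact p.Prime] {P : Subgroup G} (sylP : IsSyl p P M)
    (s'p : p ∉ sigma M) (ntP : P ≠ ⊥) :
    ∃ x ∈ omegaOne p Z[P], x ≠ 1 ∧ (p ∈ ϖ → ¬ UniqMax C1[x] M) ∧
      IsZGroup ↥(alphaCore M ⊓ C1[x]) := by
  have hp : p.Prime := Fact.out
  have pP := syl_isPGroup sylP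
  have sTP : omegaOne p Z[P] ≤ P := (omegaOne_le _ _).trans inf_le_left
  by_cases hw : p ∈ ϖ
  swap
  · obtain ⟨y, hy, nty⟩ := exists_ne_one_of_ne_bot (omegaOne_center_ne_bot hp pP ntP)
    refine ⟨y, hy, nty, fun h => absurd h hw, ?_⟩
    rw [inf_cent1_eq_bot_of_w' hG (w_alphaCore hG maxM.1) nty
      (piElt_of_mem (isPi_of_isPGroup_of_mem hp pP hw) (sTP hy))]
    infer_instance
  have wP := w_of_pgroup pP hp hw
  suffices h : ∃ x ∈ omegaOne p Z[P], x ≠ 1 ∧ ¬ UniqMax C1[x] M by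
    obtain ⟨x, hx, ntx, nu⟩ := h
    refine ⟨x, hx, ntx, fun _ => nu, (H71.odd_rank1_Zgroup (mFT_odd hG _)).2 (not_lt.1 fun hr => nu ?_)⟩
    have sXP : zpowers x ≤ P := zpowers_le.2 (sTP hx)
    have hu := cent_alpha'_uniq hG maxM (sXP.trans sylP.1)
      (isPi_of_isPGroup_of_mem hp (pP.to_le sXP) fun ap => s'p (alpha_sub_sigma hG maxM ap))
      (by rwa [centralizer_zpowers])
    rw [centralizer_zpowers] at hu
    exact def_uniq_mmaxS inf_le_right (pr_cent1 ntx (piElt_of_mem wP (sTP hx)))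
      (def_uniq_mmax hu maxM inf_le_left)
  by_contra hc
  push Not at hc
  refine sigma'_Sylow_contra maxM.1 s'p sylP fun u hu => ?_
  obtain ⟨y, hy, nty⟩ := exists_ne_one_of_ne_bot
    (omegaOne_center_ne_bot hp pP ntP)
  have hyu : u * y * u⁻¹ ∈ omegaOne p Z[P] :=
    conj_mem_of_mem_normalizer (normalizer_le_normalizer_omegaOne_center p P hu) hy
  have h1 := (hc y hy nty).cj u
  rw [cj_centralizer_singleton] at h1
  have h2 := hc _ hyu (by simpa using nty)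
  exact (cj_mmax_eq_iff hG maxM).1 (h1.unique h2)

/-- B & G Lemma 10.4(c), part 1. -/
theorem sigma'_rank2_max {p : ℕ} [Fact p.Prime] (s'p : p ∉ sigma M) (rM : rankP p M = 2)
    {A : Subgroup G} (hA : ElemOf p 2 A M) : MaxElemOf p A ⊤ := by
  by_contra nmaxA
  have hw : p ∈ ϖ := by w_tac
  have uA := def_uniq_mmax (nonmaxElem2_Uniqueness hG ⟨le_top, hA.2⟩ nmaxA) maxM hA.1
  obtain ⟨P, sylP, sAP⟩ := exists_syl_ge hA.1 (elemAb_isPGroup hA.2.1)
  exact sigma'_Sylow_contra maxM.1 s'p sylP (uniq_mmax_norm_sub hG (uA.of_le sAP sylP.1))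

/-- B & G Lemma 10.4(c), part 2. -/
theorem sigma'_rank2_beta' {p : ℕ} [Fact p.Prime] (s'p : p ∉ sigma M) (rM : rankP p M = 2) :
    ¬ IsIdealPrime p G := by
  intro h
  obtain ⟨A, hA⟩ := le_rankP_iff.1 rM.ge
  have maxA := sigma'_rank2_max hG maxM s'p rM hA
  obtain ⟨P, sylP, sAP⟩ := exists_syl_ge le_top (elemAb_isPGroup hA.2.1)
  exact (ideal_iff.1 h).2 P sylP fun _ =>
    ⟨A, ⟨sAP, hA.2⟩, sAP, hA.2.1, fun B _ => maxA.2.2 B le_top⟩

/-- B & G Lemma 10.5, part 1 (mathcomp's stronger form). -/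
theorem sigma'_norm_mmax_rank2 {p : ℕ} [Fact p.Prime] (s'p : p ∉ sigma M) {X : Subgroup G}
    (pX : IsPGroup p X) (sNXM : N[X] ≤ M) (hw : p ∈ ϖ := by w_tac) : rankP p M = 2 := by
  obtain ⟨P, sylP, sXP⟩ := exists_syl_ge (le_normalizer.trans sNXM) pX
  refine le_antisymm (not_lt.1 fun h => s'p (alpha_sub_sigma hG maxM
    (mem_alpha_iff.2 ⟨Fact.out, h⟩))) (not_lt.1 fun h => ?_)
  have cycP : IsCyclic P := (H71.odd_pgroup_rank1_cyclic (syl_isPGroup sylP) (mFT_odd hG P)).2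
    (by rw [rankP_syl sylP]; omega)
  exact sigma'_Sylow_contra maxM.1 s'p sylP ((norm_le_norm_of_isCyclic cycP sXP).trans sNXM)

/-- B & G Lemma 10.5, part 2 (the subgroup `A` can be taken in `M`). -/
theorem sigma'1Elem_sub_p2Elem {p : ℕ} [Fact p.Prime] (s'p : p ∉ sigma M) {X : Subgroup G}
    (hX : ElemOf p 1 X ⊤) (sNXM : N[X] ≤ M) (hw : p ∈ ϖ := by w_tac) :
    ∃ A : Subgroup G, ElemOf p 2 A M ∧ X ≤ A := by
  have hp : p.Prime := Fact.out
  have pX := elemAb_isPGroup hX.2.1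
  have oX : Nat.card X = p := by simpa using hX.2.2
  obtain ⟨P, sylP, sXP⟩ := exists_syl_ge (le_normalizer.trans sNXM) pX
  have pP := syl_isPGroup sylP
  have ntP : P ≠ ⊥ := ne_bot_mono (ne_bot_of_card_prime (oX ▸ hp)) sXP
  have ntT : omegaOne p Z[P] ≠ ⊥ :=
    omegaOne_center_ne_bot hp pP ntP
  have nsT : ¬ omegaOne p Z[P] ≤ X := by
    intro h
    refine sigma'_Sylow_contra maxM.1 s'p sylP (le_trans ?_ sNXM)
    rw [← eq_of_le_of_card_prime (oX ▸ hp) h ntT]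
    exact normalizer_le_normalizer_omegaOne_center p P
  obtain ⟨t, ht, htX⟩ := SetLike.not_le_iff_exists.1 nsT
  have htZ := omegaOne_le _ _ ht
  exact ⟨X ⊔ zpowers t, (hX.of_le (sXP.trans sylP.1)).sup_zpowers (sylP.1 htZ.1)
    (centralizer_anti sXP htZ.2) ((elemAb_omegaOne_center p P).2 t ht) htX, le_sup_left⟩

theorem mmax_plength1 (p : ℕ) [Fact p.Prime] : PLen1 p M := by
  have hp : p.Prime := Fact.out
  have solM := mmax_sol hG maxM
  by_cases rM : rankP p M ≤ 2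
  · exact (plen1_iff hp).2 (H71.rank2_der1_complement solM (mFT_odd hG M) rM).2.2
  have ap : p ∈ alpha M := mem_alpha_iff.2 ⟨hp, not_le.1 rM⟩
  have hallMa := Malpha_Hall hG maxM
  have nMa := Malpha_normal M
  refine plen1_of_normal_relIndex nMa ((hall_relIndex hallMa).mono fun q hq he => hq (he ▸ ap)) ?_
  obtain ⟨K, hallK⟩ := exists_hall (alpha M)ᶜ solM
  have defM := isSdp_of_normal_hall hallMa nMa hallK
  rw [← commutator_eq_of_isSdp_le_derived defM (isSolvable_of_le solM nMa.le) (Malpha_der1 hG maxM)]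
  obtain ⟨q, hq, hd⟩ := exists_prime_dvd_relIndex_derived solM (mmax_neq1 hG maxM)
  have : Fact q.Prime := ⟨hq⟩
  have s'q := der1_quo_sigma' hG maxM hd
  obtain ⟨Q, sylQ⟩ := exists_syl q K
  have sylQM := syl_of_hall hallK (fun h => s'q (alpha_sub_sigma hG maxM h)) sylQ
  obtain ⟨x, hx, ntx, -, zg⟩ := cent1_sigma'_Zgroup hG maxM sylQM s'q
    (syl_ne_bot sylQM (hd.trans (relIndex_dvd_card' _ _)))
  refine H69.odd_sdprod_Zgroup_cent_prime_plength1 p (R₀ := zpowers x) solM (mFT_odd hG M) defM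
    (isPi_coprime (Malpha_pi M) (hall_isPi hallK))
    (zpowers_le.2 (sylQ.1 (omegaOne_le _ _ hx).1)) ?_ (by rwa [centralizer_zpowers])
  rw [Nat.card_zpowers,
    orderOf_eq_prime ((elemAb_omegaOne_center q Q).2 x hx) ntx]
  exact hq

end Max

/-- B & G Theorem 10.6. -/
theorem mFT_proper_plength1 (hG : IsMinSimpleOddOrder G) (p : ℕ) [Fact p.Prime] {H : Subgroup G}
    (hH : Pr H) : PLen1 p H := by
  obtain ⟨M, maxM, sHM⟩ := mmax_exists hH
  exact plen1_of_le (mmax_plength1 hG maxM p) sHM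

end Cfsg.Agent.H88.SZ.H66
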