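import Cfsg.Agent.H88.ZMin
import Cfsg.Agent.H88.ZBG10c

/-! Bender-Glauberman section 10: results 10.10 to 10.14. -/

set_option autoImplicit false
set_option linter.unusedSectionVars false
set_option linter.unusedVariables false

namespace Cfsg.Agent.H88.SZ.H66

open Cfsg.Agent.H66

variable [Om]

open Cfsg Cfsg.Agent.H63 Cfsg.Agent.H67 Cfsg.Agent.H66.Aux Subgroup
open Cfsg.Agent.H88.SZ.H63 Cfsg.Agent.H88.SZ.H67 Cfsg.Agent.H88.SZ.H66.Aux

universe u

variable {G : Type u} [Group G] [Finite G]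

/-- B & G Proposition 10.10. -/
theorem max_normed_2Elem_signaliser (hG : IsMinSimpleOddOrder G) {p q : ℕ} [Fact p.Prime]
    [Fact q.Prime] (hpq : p ≠ q) {A Q : Subgroup G} (hA : ElemOf p 2 A ⊤) (maxA : MaxElemOf p A ⊤)
    (maxQ : Q ∈ maxInvSubgroups ⊤ A {q}) (hq : q ∣ Nat.card C[A]) (hw : p ∈ ϖ := by w_tac) :
    ∃ P : Subgroup G, IsSyl p P ⊤ ∧ A ≤ P ∧ IsMul O[{p}ᶜ](C[P]) (N[P] ⊓ N[Q]) N[P] ∧
      P ≤ ⁅N[Q], N[Q]⁆ ∧ (NarrowOf q Q → P ≤ C[Q]) := by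
  have pp : p.Prime := Fact.out
  have pq : q.Prime := Fact.out
  have ncA := plength_1_normed_constrained hG (hA.ne_bot two_ne_zero) maxA
    (fun M hM => mFT_proper_plength1 hG p hM) (hA.not_isCyclic le_rfl)
  have defpi : primesOf (Nat.card A) = {p} := by
    ext r
    rw [hA.card]
    exact ⟨fun h => (Nat.prime_dvd_prime_iff_eq h.1 pp).1 (h.1.dvd_of_dvd_pow h.2),
      fun h => by rw [Set.mem_singleton_iff.1 h]; exact ⟨pp, dvd_pow_self p two_ne_zero⟩⟩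
  have q'A : ¬ q ∣ Nat.card A := fun h => hpq.symm (by
    have : q ∈ primesOf (Nat.card A) := ⟨pq, h⟩
    rwa [defpi] at this)
  have trK := normed_constrained_rank2_trans hG ncA pq q'A hq
    (by rw [inf_eq_left.2 hA.le_centralizer, hA.rank_eq])
  obtain ⟨P₀, sylP₀, sAP₀⟩ := exists_syl_ge le_top hA.isPGroup
  have pP₀ := syl_isPGroup sylP₀
  obtain ⟨-, -, submax, defN⟩ := normed_trans_superset hG ncA pq q'A
    (subnormalIn_of_isNilpotent (isNilpotent_of_isPGroup pp pP₀) sAP₀)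
    (defpi ▸ hall_isPi sylP₀) trK
  rw [defpi] at defN trK
  obtain ⟨Q₀, maxQ₀, -⟩ := max_normed_exists (A := P₀) pq (IsPGroup.of_bot (p := q) (G := G))
    (le_normalizer_bot _)
  obtain ⟨k, hk, rfl⟩ := trK Q₀ (submax maxQ₀) Q maxQ
  have cAk : k ∈ C[A] := piCoreOf_le _ _ hk
  obtain ⟨h1, h2⟩ := defN Q₀ maxQ₀
  rw [inf_eq_left.2 (mFT_Sylow_der1 hG sylP₀ (by w_tac))] at h1
  have h3 : cj k P₀ ≤ ⁅N[cj k Q₀], N[cj k Q₀]⁆ := by
    rw [← cj_normalizer, ← cj_commutator]; exact cj_mono h1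
  refine ⟨cj k P₀, hall_cj_top sylP₀ k, ?_, ?_, h3, fun hn => ?_⟩
  · rw [← cj_eq_self_of_mem_centralizer cAk]; exact cj_mono sAP₀
  · have := h2.cj k
    rwa [cj_piCoreOf, cj_centralizer, cj_inf, cj_normalizer, cj_normalizer] at this
  set Q := cj k Q₀
  by_cases ntQ : Q = ⊥
  · rw [ntQ, centralizer_bot]; exact le_top
  have qQ : IsPGroup q Q := ((mem_maxInv_iff pq).1 maxQ).1
  have wQ := w_of_pgroup qQ pq (ncA.wq pq qQ ntQ (maxInv_norm maxQ))
  have h4 := (H71.norm_narrow qQ (w_odd hG wQ) hn le_rfl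
    (mFT_sol hG (pr_norm ntQ wQ)) (pr_odd hG (pr_norm ntQ wQ))).1
  refine le_of_isPi_of_normal_relIndex (π := {q}ᶜ) h3
    ((commutator_le_of_le le_rfl le_rfl).trans (normalizer_le_normalizer_centralizer Q))
    (isPi_compl_of_isPGroup pp (isPGroup_cj pP₀ k) hpq) (piNat_compl_compl.2 h4)

section Max3

variable (hG : IsMinSimpleOddOrder G) {M : Subgroup G} (maxM : IsCoatom M)
include hG maxM

theorem sigma'_rank2 {K : Subgroup G} (sKM : K ≤ M) (s'K : IsPiSubgroup (sigma M)ᶜ K) :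
    rank K ≤ 2 :=
  alpha'_rank2' sKM (isPi_mono s'K fun _ h h' => h (alpha_sub_sigma hG maxM h'))

/-- B & G Proposition 10.11(a). -/
theorem sigma'_not_uniq {K : Subgroup G} (sKM : K ≤ M) (s'K : IsPiSubgroup (sigma M)ᶜ K)
    (uK : InUniqueMaximal K) (wK : IsPiSubgroup ϖ K := by w_tac) : False := by
  obtain ⟨E, hallE, sKE⟩ := exists_hall_ge (mmax_sol hG maxM) sKM (isPi_inter s'K wK)
  have uE := (def_uniq_mmax uK maxM sKM).of_le sKE hallE.1
  obtain ⟨p, hp, hd, hmax⟩ := exists_max_prime_dvd_card (uniq_mmax_neq1 hG uE.inU)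
  have : Fact p.Prime := ⟨hp⟩
  have s'p' := hall_isPi hallE p hp hd
  have s'p : p ∉ sigma M := s'p'.1
  have hw : p ∈ ϖ := s'p'.2
  have sylP : IsSyl p O[{p}](E) E :=
    H71.rank2_max_pcore_Sylow (mFT_odd hG E) (mmax_sub_sol hG maxM hallE.1)
      ((rank_mono (fit_le E)).trans (sigma'_rank2 hG maxM hallE.1
        (isPi_mono (hall_isPi hallE) Set.inter_subset_left))) hmax
  have sylPM := syl_of_hall hallE s'p' sylP
  exact sigma'_Sylow_contra maxM.1 s'p sylPM (norm_le_of_uniq_norm hG uE (syl_ne_bot sylP hd)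
    (ne_top_mono maxM.1 sylPM.1) (le_normalizer_piCoreOf_self _ _))

/-- B & G Proposition 10.11(b). -/
theorem sub'cent_sigma_rank1 {K : Subgroup G} (sKM : K ≤ M) (s'K : IsPiSubgroup (sigma M)ᶜ K) :
    rank (K ⊓ C[sigmaCore M]) ≤ 1 := by
  by_contra hr
  obtain ⟨p, hp, A, hA⟩ := exists_elemOf_of_le_rank (Nat.succ_le_of_lt (not_le.1 hr))
  have : Fact p.Prime := ⟨hp⟩
  have sAK : A ≤ K := hA.le.trans inf_le_left
  have cAMs : sigmaCore M ≤ C[A] := cent_symm (hA.le.trans inf_le_right)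
  have s'A := isPi_of_le s'K sAK
  have s'p : p ∉ sigma M := s'A p hp (hA.dvd_card two_ne_zero)
  have hw : p ∈ ϖ := by w_tac
  have nuA := fun h => sigma'_not_uniq hG maxM (sAK.trans sKM) s'A h
  have maxA : MaxElemOf p A ⊤ := by
    by_contra h
    exact nuA (nonmaxElem2_Uniqueness hG hA.top h)
  have rC : rank C[A] ≤ 2 := by
    by_contra h
    exact nuA (cent_rank3_Uniqueness hG hA.rank_eq.ge (Nat.succ_le_of_lt (not_le.1 h)))
  have Ma1 : alphaCore M = ⊥ := by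
    by_contra h
    obtain ⟨r, hr, hd⟩ := exists_prime_dvd_card h
    have : Fact r.Prime := ⟨hr⟩
    have ar := Malpha_pi M r hr hd
    have h1 := (mem_alpha_iff.1 ar).2
    rw [← rankP_hall (Malpha_Hall hG maxM) ar] at h1
    exact h1.not_ge ((rankP_mono ((Malpha_sub_Msigma hG maxM).trans cAMs)).trans
      ((rankP_le_rank _).trans rC))
  have sM' : ⁅M, M⁆ ≤ M := commutator_le_of_le le_rfl le_rfl
  have nilM' : Group.IsNilpotent ↥⁅M, M⁆ := by
    refine beta'_der1_nil hG maxM (fun r hr hd br => ?_) le_rfl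
    have := ((pi_Malpha hG maxM).1 (beta_sub_alpha br)).2
    rw [Ma1, card_bot] at this
    exact hr.not_dvd_one this
  obtain ⟨q, hq, hd⟩ := exists_prime_dvd_card (Msigma_neq1 hG maxM)
  have : Fact q.Prime := ⟨hq⟩
  have sq : q ∈ sigma M := Msigma_pi M q hq hd
  have nilMs := isNilpotent_of_le nilM' (Msigma_der1 hG maxM)
  have sylQ : IsSyl q O[{q}](sigmaCore M) (sigmaCore M) := hall_piCoreOf_of_isNilpotent _ nilMs
  have nQ : O[{q}](sigmaCore M) ⊴ M := (Msigma_normal M).piCoreOf _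
  set Q := O[{q}](sigmaCore M)
  have sylQG := syl_of_hall (Msigma_Hall_G hG maxM) sq sylQ
  have maxQ : Q ∈ maxInvSubgroups ⊤ A {q} :=
    (mem_maxInv_iff hq).2 ⟨syl_isPGroup sylQ, (sAK.trans sKM).trans nQ.norm,
      fun R qR _ h => syl_eq_of_le sylQG qR h le_top⟩
  obtain ⟨P, sylP, sAP, -, sPN, -⟩ := max_normed_2Elem_signaliser hG
    (fun he : p = q => s'p (he ▸ sq)) hA.top maxA maxQ (hd.trans (card_dvd_of_le' cAMs))
  rw [mmax_normal hG maxM nQ (syl_ne_bot sylQ hd)] at sPN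
  have nP : P ⊴ M := by
    rw [eq_piCoreOf_of_isNilpotent nilM' (hall_of_le sylP sPN le_top)]
    exact (derived_normalIn M).piCoreOf _
  exact sigma'_Sylow_contra maxM.1 s'p (hall_of_le sylP nP.le le_top)
    (mmax_normal hG maxM nP (ne_bot_mono (hA.ne_bot two_ne_zero) sAP)).le

/-- B & G Proposition 10.11(c). -/
theorem sub'cent_sigma_cyclic {K : Subgroup G} (sKM : K ≤ M) (s'K : IsPiSubgroup (sigma M)ᶜ K) :
    IsCyclic ↥(K ⊓ C[sigmaCore M] ⊓ ⁅M, M⁆) ∧ (K ⊓ C[sigmaCore M] ⊓ ⁅M, M⁆) ⊴ M := by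
  have nZ : O[(sigma M)ᶜ](fittingOf M) ⊴ M := (fit_normal M).piCoreOf _
  have s'Z := isPi_piCoreOf (sigma M)ᶜ (fittingOf M)
  have hallZ := hall_piCoreOf_of_isNilpotent (sigma M)ᶜ (fit_nil M)
  have defF := piCoreOf_sup_compl_of_isNilpotent (sigma M) (fit_nil M)
  have nilZ := isNilpotent_of_le (fit_nil M) hallZ.1
  have nF := hall_normalIn_of_isNilpotent (fit_nil M) hallZ
  set Z := O[(sigma M)ᶜ](fittingOf M)
  have cZ : Z ≤ C[sigmaCore M] :=
    le_centralizer_of_normalIn_of_coprime nZ (Msigma_normal M) (isPi_coprime' s'Z (Msigma_pi M))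
  have rZ := sub'cent_sigma_rank1 hG maxM nZ.le s'Z
  rw [inf_eq_left.2 cZ] at rZ
  have cycZ : IsCyclic Z :=
    isCyclic_of_isZGroup_of_isNilpotent ((H71.odd_rank1_Zgroup (mFT_odd hG Z)).2 rZ) nilZ
  have sYK : K ⊓ C[sigmaCore M] ⊓ ⁅M, M⁆ ≤ K := inf_le_left.trans inf_le_left
  have sYZ : K ⊓ C[sigmaCore M] ⊓ ⁅M, M⁆ ≤ Z := by
    refine le_of_normal_hall hallZ nF (le_trans ?_ (fit_cent_le (mmax_sol hG maxM)))
      (isPi_of_le s'K sYK)
    refine le_inf (sYK.trans sKM) ?_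
    rw [← defF, centralizer_sup]
    exact le_inf ((inf_le_left.trans inf_le_right).trans
      (centralizer_anti (piCoreOf_le_of_normalIn (fit_normal M))))
      (inf_le_right.trans (derived_le_cent_of_isCyclic cycZ nZ.norm))
  exact ⟨isCyclic_of_le' cycZ sYZ, normalIn_of_isCyclic cycZ sYZ nZ⟩

/-- B & G Proposition 10.11(d). -/
theorem commG_sigma'_1Elem_cyclic {K P : Subgroup G} {p : ℕ} [Fact p.Prime] (sKM : K ≤ M)
    (s'K : IsPiSubgroup (sigma M)ᶜ K) (s'p : p ∉ sigma M) (hP : ElemOf p 1 P (M ⊓ N[K]))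
    (regP : sigmaCore M ⊓ C[P] = ⊥) (p'K : IsPiSubgroup {p}ᶜ K) (cKK : IsMulCommutative K) :
    ⁅K, P⁆ ≤ C[sigmaCore M] ∧ IsCyclic ↥⁅K, P⁆ ∧ ⁅K, P⁆ ⊴ M := by
  have hp : p.Prime := Fact.out
  have sPM : P ≤ M := hP.le.trans inf_le_left
  have nKP : P ≤ N[K] := hP.le.trans inf_le_right
  have nMs := Msigma_normal M
  have sK₀K : ⁅K, P⁆ ≤ K := commutator_le_of_norm_left nKP
  have sK₀M := sK₀K.trans sKM
  have s'K₀ := isPi_of_le s'K sK₀K
  have defH : IsSdp (sigmaCore M) ⁅K, P⁆ (sigmaCore M ⊔ ⁅K, P⁆) :=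
    isSdp_sup (sK₀M.trans nMs.norm) (isPi_inf_eq_bot (Msigma_pi M) s'K₀)
  have nK₀P : P ≤ N[⁅K, P⁆] := le_norm_commutator_right K P
  have tiK₀ : ⁅K, P⁆ ⊓ C[P] = ⊥ := by
    rw [inf_comm]
    exact H4.centralizer_inf_commutator_eq_bot nKP
      (isPi_coprime (isPi_of_isPGroup hp hP.isPGroup) p'K)
  have h1 := (defH.inf_cent (sPM.trans nMs.norm) nK₀P).sup
  rw [regP, tiK₀, sup_bot_eq] at h1
  have nilH := H69.prime_regular_sol_nil (le_normalizer_sup (sPM.trans nMs.norm) nK₀P)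
    (mmax_sub_sol hG maxM (sup_le nMs.le sK₀M)) hP.card_prime h1.symm
  have cK₀ : ⁅K, P⁆ ≤ C[sigmaCore M] :=
    le_centralizer_of_isNilpotent_of_coprime nilH le_sup_right le_sup_left
      (isPi_coprime' s'K₀ (Msigma_pi M))
  have h2 := sub'cent_sigma_cyclic hG maxM sK₀M s'K₀
  rw [inf_eq_left.2 cK₀, inf_eq_left.2 (commutator_le_derived sKM sPM)] at h2
  exact ⟨cK₀, h2⟩

/-- B & G Lemma 10.12. -/
theorem sigma_disjoint {H : Subgroup G} (maxH : IsCoatom H) (notjMH : ¬ Conj M H) :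
    alphaCore M ⊓ sigmaCore H = ⊥ ∧ Disjoint (alpha M) (sigma H) ∧
      (Group.IsNilpotent (sigmaCore M) →
        sigmaCore M ⊓ sigmaCore H = ⊥ ∧ Disjoint (sigma M) (sigma H)) := by
  have key : ∀ p, p ∈ sigma M → p ∈ sigma H →
      p ∉ alpha M ∧ ¬ Group.IsNilpotent (sigmaCore M) := by
    intro p sMp sHp
    have : Fact p.Prime := ⟨sMp.1⟩
    obtain ⟨S, sylS⟩ := exists_syl p (sigmaCore M)
    have sylSM := syl_of_hall (Msigma_Hall hG maxM) sMp sylS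
    obtain ⟨T, sylT⟩ := exists_syl p H
    obtain ⟨g, -, rfl⟩ := syl_conj (sigma_Sylow_G sMp sylSM) (sigma_Sylow_G sHp sylT)
    have sNH : N[S] ≤ cj g⁻¹ H := by
      rw [← cj_le_iff_le_cj_inv, cj_normalizer]; exact norm_sigma_Sylow sHp sylT
    have ne : M ≠ cj g⁻¹ H := fun h => notjMH ⟨g, by rw [h, cj_cj_inv]⟩
    refine ⟨fun ap => ne (eq_of_inU (rank3_Uniqueness hG (ne_top_mono maxM.1 sylSM.1) ?_) maxM
      sylSM.1 (isCoatom_cj maxH) (le_normalizer.trans sNH)), fun nil => ne ?_⟩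
    · rw [rank_syl sylSM]; exact (mem_alpha_iff.1 ap).2
    · refine eq_mmax maxM (isCoatom_cj maxH) (le_trans ?_ sNH)
      rw [eq_piCoreOf_of_isNilpotent nil sylS]
      exact ((Msigma_normal M).piCoreOf _).norm
  have a2 : Disjoint (alpha M) (sigma H) :=
    Set.disjoint_left.2 fun p ap sp => (key p (alpha_sub_sigma hG maxM ap) sp).1 ap
  refine ⟨isPi_inf_eq_bot (Malpha_pi M) (isPi_mono (Msigma_pi H) a2.subset_compl_left), a2,
    fun nil => ?_⟩
  have b2 : Disjoint (sigma M) (sigma H) :=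
    Set.disjoint_left.2 fun p sp sp' => (key p sp sp').2 nil
  exact ⟨isPi_inf_eq_bot (Msigma_pi M) (isPi_mono (Msigma_pi H) b2.subset_compl_left), b2⟩

end Max3

/-- The Sylow case of B & G Lemma 10.13(b). -/
theorem basic_p2maxElem_Sylow (hG : IsMinSimpleOddOrder G) {p : ℕ} [Fact p.Prime]
    {A S : Subgroup G} (hA : ElemOf p 2 A ⊤) (maxA : MaxElemOf p A ⊤) (sylS : IsSyl p S ⊤)
    (sAS : A ≤ S) (ncSS : ¬ IsMulCommutative S) (hw : p ∈ ϖ := by w_tac) :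
    Nat.card (omegaOne p Z[S]) = p ∧
      ∃ Y : Subgroup G, IsCyclic Y ∧ omegaOne p Z[S] ≤ Y ∧ A ⊔ Y = S ⊓ C[A] := by
  have hp : p.Prime := Fact.out
  have pS := syl_isPGroup sylS
  have maxAS : MaxElemOf p A S := maxA.of_le sAS le_top
  have sZA : omegaOne p Z[S] ≤ A := maxAS.omegaOne_center_le
  have sAC : A ≤ S ⊓ C[A] := le_inf sAS hA.le_centralizer
  by_cases rS : rank S ≤ 2
  · obtain ⟨T, Y, ncT, -, eT, cycY, defS, hO⟩ := mFT_rank2_Sylow_cprod hG sylS (by w_tac) rS ncSS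
    have cY : IsMulCommutative Y := isMulCommutative_of_isCyclic cycY
    have defZ : Z[S] = Y := by
      rw [← defS.center.sup, ← hO, inf_eq_left.2 (le_cent_of_comm cY le_rfl le_rfl)]
      exact sup_eq_right.2 (omegaOne_le _ _)
    have cYA : Y ≤ C[A] := (defZ ▸ inf_le_right : Y ≤ C[S]).trans (centralizer_anti sAS)
    have ntS : S ≠ ⊥ := ne_bot_mono (hA.ne_bot two_ne_zero) sAS
    refine ⟨?_, Y, cycY, defZ ▸ omegaOne_le _ _, ?_⟩
    · rw [defZ]
      exact card_omegaOne_of_isCyclic cycY (dvd_card_of_isPGroup hp (pS.to_le defS.le_right)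
        (defZ ▸ center_ne_bot_of_isPGroup hp pS ntS))
    · refine le_antisymm (sup_le sAC (le_inf defS.le_right cYA)) ?_
      rw [← (defS.inf_of_le_right cYA).sup]
      refine sup_le_sup_right (fun x hx => maxA.mem_of_cent trivial hx.2 ?_) _
      have := Monoid.pow_exponent_eq_one (⟨x, hx.1⟩ : T)
      rw [eT] at this
      exact congrArg Subtype.val this
  have rS' := not_le.1 rS
  have oZ := (H71.Ohm1_ucn_p2maxElem pS (w_odd hG (w_of_syl sylS hw)) rS' (hA.of_le sAS) maxAS).2.1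
  have hZ : ElemOf p 1 (omegaOne p Z[S]) A := (elemOf_one_iff hp).2 ⟨sZA, oZ⟩
  obtain ⟨A₀, defA⟩ := exists_isDp_of_elemAb hA.elemAb sZA
  have oA₀ : Nat.card A₀ = p := by
    have := defA.card
    rw [hA.card, oZ, sq] at this
    exact (Nat.eq_of_mul_eq_mul_left hp.pos this).symm
  have cZS := omegaOne_center_le_centralizer p S
  have defC : S ⊓ C[A₀] = S ⊓ C[A] := by
    rw [← defA.sup, centralizer_sup, ← inf_assoc, inf_eq_left.2 (cent_symm cZS)]
  obtain ⟨cycY, -, -, defCA⟩ := H71.narrow_cent_dprod pS (w_odd hG (w_of_syl sylS hw)) rS' oA₀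
    (defA.le_right.trans sAS) (by rw [defC, maxAS.rankP_cent, hA.rankP_eq])
  refine ⟨oZ, _, cycY, ?_, ?_⟩
  · refine le_inf (le_inf (omegaOne_center_le p S) (cZS.trans (centralizer_anti ?_)))
      (cZS.trans (centralizer_anti (defA.le_right.trans sAS)))
    exact (omegaOne_le _ _).trans (map_subtype_le _)
  · refine le_antisymm (sup_le sAC (defC ▸ defCA.le_right)) ?_
    rw [← defC, ← defCA.sup]
    exact sup_le_sup_right defA.le_right _

/-- B & G Lemma 10.13. -/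
theorem basic_p2maxElem_structure (hG : IsMinSimpleOddOrder G) {p : ℕ} [Fact p.Prime]
    {A P : Subgroup G} (hA : ElemOf p 2 A ⊤) (maxA : MaxElemOf p A ⊤) (pP : IsPGroup p P)
    (sAP : A ≤ P) (ncPP : ¬ IsMulCommutative P) (hw : p ∈ ϖ := by w_tac) :
    ElemOf p 1 (omegaOne p Z[P]) A ∧
      (∃ Y : Subgroup G, IsCyclic Y ∧ omegaOne p Z[P] ≤ Y ∧
        ∀ A₀ : Subgroup G, ElemOf p 1 A₀ A → A₀ ≠ omegaOne p Z[P] → IsDp A₀ Y (P ⊓ C[A])) ∧
      ∀ A₀ A₁ : Subgroup G, ElemOf p 1 A₀ A → A₀ ≠ omegaOne p Z[P] → ElemOf p 1 A₁ A →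
        A₁ ≠ omegaOne p Z[P] → ∃ x ∈ P ⊓ N[A], A₁ = cj x A₀ := by
  have hp : p.Prime := Fact.out
  obtain ⟨S, sylS, sPS⟩ := exists_syl_ge le_top pP
  have sAS := sAP.trans sPS
  obtain ⟨oZ, Y, cycY, sZY, defC⟩ := basic_p2maxElem_Sylow hG hA maxA sylS sAS
    fun h => ncPP (isMulCommutative_of_le h sPS)
  have sYC : Y ≤ S ⊓ C[A] := defC ▸ le_sup_right
  have cCC : IsMulCommutative ↥(S ⊓ C[A]) := defC ▸ isMulCommutative_sup hA.comm
    (isMulCommutative_of_isCyclic cycY) (cent_symm (sYC.trans inf_le_right))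
  have ncAP : ¬ P ≤ C[A] := fun h => ncPP (isMulCommutative_of_le cCC (le_inf sPS h))
  have maxAP : MaxElemOf p A P := maxA.of_le sAP le_top
  have sZA : omegaOne p Z[S] ≤ A := (maxA.of_le sAS le_top).omegaOne_center_le
  have hZ : ElemOf p 1 (omegaOne p Z[S]) A := (elemOf_one_iff hp).2 ⟨sZA, oZ⟩
  have sZZ₀ : omegaOne p Z[S] ≤ omegaOne p Z[P] :=
    elemAb_le_omegaOne hZ.elemAb (le_inf (sZA.trans sAP)
      ((omegaOne_center_le_centralizer p S).trans (centralizer_anti sPS)))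
  have hZ₀ : ElemOf p 1 (omegaOne p Z[P]) A := by
    refine hA.one_of_lt (lt_of_le_of_ne maxAP.omegaOne_center_le fun h => ncAP ?_)
      (ne_bot_mono (hZ.ne_bot one_ne_zero) sZZ₀)
    rw [← h]; exact cent_symm (omegaOne_center_le_centralizer p P)
  have eZ := hZ.eq_of_le hZ₀ sZZ₀
  rw [eZ] at sZY
  refine ⟨hZ₀, ⟨Y ⊓ P, isCyclic_of_le' cycY inf_le_left, le_inf sZY (omegaOne_center_le p P),
    fun A₀ hA₀ ne => ?_⟩, fun A₀ A₁ hA₀ ne₀ hA₁ ne₁ => ?_⟩
  · have h1 : IsDp A₀ Y (S ⊓ C[A]) := by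
      refine ⟨sYC.trans (inf_le_right.trans (centralizer_anti hA₀.le)), ?_, ?_⟩
      · refine inf_eq_bot_of_not_le_of_card_prime hA₀.card_prime fun h => ne ?_
        exact eq_of_isCyclic_of_card_eq cycY h sZY (hA₀.card.trans hZ₀.card.symm)
      · rw [← defC, ← hA.sup_eq_of_ne hA₀ hZ₀ ne, sup_assoc, sup_eq_right.2 sZY]
    have h2 := h1.inf_of_le_left (hA₀.le.trans sAP)
    rwa [inf_right_comm, inf_eq_right.2 sPS] at h2
  · have hlt : P ⊓ C[A] < P := lt_of_le_of_ne inf_le_left fun h => ncAP (inf_eq_left.1 h)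
    obtain ⟨x, hx, hxC⟩ := SetLike.exists_of_lt
      (lt_inf_normalizer_of_isNilpotent (isNilpotent_of_isPGroup hp pP) hlt)
    have nAx : x ∈ N[A] := by
      have := normalizer_le_normalizer_omegaOne p (P ⊓ C[A]) hx.2
      rwa [maxAP.omegaOne_cent] at this
    obtain ⟨y, hy, e⟩ := p2Elem_trans hA.comm hA.card hZ₀.le hZ₀.card_one
      (pP.to_le (zpowers_le.2 hx.1)) nAx
      (cent_symm (omegaOne_center_le_centralizer p P) hx.1) (fun h => hxC ⟨hx.1, h⟩)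
      hA₀.le hA₀.card_one ne₀ hA₁.le hA₁.card_one ne₁
    exact ⟨y, (zpowers_le.2 (show x ∈ P ⊓ N[A] from ⟨hx.1, nAx⟩)) hy, e⟩

/-- B & G Proposition 10.14(a). -/
theorem beta_not_narrow {p : ℕ} (bp : IsIdealPrime p G) :
    (∀ A : Subgroup G, ElemOf p 2 A ⊤ → ¬ MaxElemOf p A ⊤) ∧
      ∀ P A : Subgroup G, IsSyl p P ⊤ → ElemOf p 2 A P → ¬ MaxElemOf p A P := by
  have : Fact p.Prime := ⟨bp.1⟩
  have key : ∀ P A : Subgroup G, IsSyl p P ⊤ → ElemOf p 2 A P → ¬ MaxElemOf p A P :=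
    fun P A sylP hA maxA => (ideal_iff.1 bp).2 P sylP fun _ => ⟨A, hA, maxA⟩
  refine ⟨fun A hA maxA => ?_, key⟩
  obtain ⟨P, sylP, sAP⟩ := exists_syl_ge le_top hA.isPGroup
  exact key P A sylP (hA.of_le sAP) (maxA.of_le sAP le_top)

/-- B & G Proposition 10.14(b). -/
theorem beta_noncyclic_uniq (hG : IsMinSimpleOddOrder G) {p : ℕ} (bp : IsIdealPrime p G)
    {R : Subgroup G} (pR : IsPGroup p R) (rR : 1 < rank R) (hw : p ∈ ϖ := by w_tac) :
    InUniqueMaximal R := by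
  have : Fact p.Prime := ⟨bp.1⟩
  rw [rank_pgroup pR] at rR
  obtain ⟨A, hA⟩ := exists_elemOf_of_le_rankP (Nat.succ_le_of_lt rR)
  exact uniq_mmaxS hA.le (mFT_pgroup_proper hG bp.1 pR)
    (nonmaxElem2_Uniqueness hG hA.top ((beta_not_narrow bp).1 A hA.top))

/-- B & G Proposition 10.14(c). -/
theorem beta_subnorm_uniq (hG : IsMinSimpleOddOrder G) {p : ℕ} (bp : IsIdealPrime p G)
    {P X : Subgroup G} (sylP : IsSyl p P ⊤) (sXP : X ≤ P) (hw : p ∈ ϖ := by w_tac) :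
    InUniqueMaximal (P ⊓ N[X]) := by
  have : Fact p.Prime := ⟨bp.1⟩
  have pP := syl_isPGroup sylP
  have pQ : IsPGroup p ↥(P ⊓ N[X]) := pP.to_le inf_le_left
  refine beta_noncyclic_uniq hG bp pQ (not_le.1 fun rQ => ?_)
  have cycQ := (H71.odd_pgroup_rank1_cyclic pQ (w_odd hG (w_of_pgroup pQ bp.1 hw))).2 (by rwa [← rank_pgroup pQ])
  have defQ : P ⊓ N[X] = P :=
    eq_of_inf_normalizer_le (isNilpotent_of_isPGroup bp.1 pP) inf_le_left
      (inf_le_inf_left P (norm_le_norm_of_isCyclic cycQ (le_inf sXP le_normalizer)))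
  rw [defQ] at rQ
  exact (ideal_iff.1 bp).2 P sylP fun h => absurd h (by omega)

/-- B & G Proposition 10.14(d). -/
theorem beta_norm_sub_mmax (hG : IsMinSimpleOddOrder G) {M Y : Subgroup G} (maxM : IsCoatom M)
    (sYM : Y ≤ M) (bY : IsPiSubgroup (beta M) Y) (ntY : Y ≠ ⊥) : N[Y] ≤ M := by
  have ntF : fittingOf Y ≠ ⊥ := by
    intro h
    have := fit_cent_le (mmax_sub_sol hG maxM sYM)
    rw [h, centralizer_bot, inf_top_eq] at this
    exact ntY (le_bot_iff.1 this)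
  obtain ⟨q, hq, hd⟩ := exists_prime_dvd_card ntF
  have : Fact q.Prime := ⟨hq⟩
  have sylX : IsSyl q O[{q}](fittingOf Y) (fittingOf Y) :=
    hall_piCoreOf_of_isNilpotent _ (fit_nil Y)
  have bq : q ∈ beta M := bY q hq (hd.trans (card_dvd_of_le' (fit_le Y)))
  have sXM := (sylX.1.trans (fit_le Y)).trans sYM
  obtain ⟨P, sylP, sXP⟩ := exists_syl_ge sXM (syl_isPGroup sylX)
  have u := def_uniq_mmax (beta_subnorm_uniq hG bq.2
    (sigma_Sylow_G (beta_sub_sigma hG maxM bq) sylP) sXP) maxM (inf_le_left.trans sylP.1)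
  exact ((fit_norm Y).trans (normalizer_le_normalizer_piCoreOf _ _)).trans
    (norm_le_of_uniq_norm hG u (syl_ne_bot sylX hd) (ne_top_mono maxM.1 sXM) inf_le_right)

end Cfsg.Agent.H88.SZ.H66
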