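import Cfsg.Agent.H88.ZMin
import Cfsg.Agent.H67.Sol
import Cfsg.Agent.H64.AppAB

/-! Bender-Glauberman section 7 (mathcomp names).
`NormedConstrained A` is Hypothesis 7.1; `maxInvSubgroups ⊤ A {q}` is `|/|*(A; q)`. -/

set_option autoImplicit false
set_option linter.unusedSectionVars false
set_option linter.unusedVariables false

namespace Cfsg.Agent.H88.SZ.H67

open Cfsg.Agent.H67

variable [Om]

open Subgroup Cfsg Cfsg.Agent.H63
open Cfsg.Agent.H88.SZ.H63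

variable {G : Type*} [Group G] [Finite G]

/-- B & G Hypothesis 7.1 (mathcomp `normed_constrained`). -/
structure NormedConstrained (A : Subgroup G) : Prop where
  ne_bot : A ≠ ⊥
  ne_top : Pr A
  le_core : ∀ X Y : Subgroup G, A ≤ X → Pr X → Y ≤ X → IsPiSubgroup (primesOf (Nat.card A))ᶜ Y →
    A ≤ N[Y] → Y ≤ O[(primesOf (Nat.card A))ᶜ](X)
  w : IsPiSubgroup ϖ A
  wq : ∀ {q : ℕ} {Q : Subgroup G}, q.Prime → IsPGroup q Q → Q ≠ ⊥ → A ≤ N[Q] → q ∈ ϖ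

/-- `K` acts transitively by conjugation on `|/|*(A; q)`. -/
def MaxNormTrans (K A : Subgroup G) (q : ℕ) : Prop :=
  ∀ Q₁ ∈ maxInvSubgroups ⊤ A {q}, ∀ Q₂ ∈ maxInvSubgroups ⊤ A {q}, ∃ k ∈ K, Q₂ = cj k Q₁

/-- Membership in `|/|*(A; q)`. -/
theorem mem_maxInv_iff {A Q : Subgroup G} {q : ℕ} (hq : q.Prime) :
    Q ∈ maxInvSubgroups ⊤ A {q} ↔ IsPGroup q Q ∧ A ≤ N[Q] ∧
      ∀ R : Subgroup G, IsPGroup q R → A ≤ N[R] → Q ≤ R → R = Q :=
  ⟨fun h => ⟨isPGroup_of_isPi hq h.1.2.1, h.1.2.2, fun R h₁ h₂ h₃ =>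
      h.2 R ⟨le_top, isPi_of_isPGroup hq h₁, h₂⟩ h₃⟩,
    fun h => ⟨⟨le_top, isPi_of_isPGroup hq h.1, h.2.1⟩, fun R hR h₃ =>
      h.2.2 R (isPGroup_of_isPi hq hR.2.1) hR.2.2 h₃⟩⟩

theorem maxInv_isPGroup {A Q : Subgroup G} {q : ℕ} (hq : q.Prime)
    (h : Q ∈ maxInvSubgroups ⊤ A {q}) : IsPGroup q Q := ((mem_maxInv_iff hq).1 h).1

omit [Finite G] in
theorem maxInv_norm {A Q : Subgroup G} {q : ℕ} (h : Q ∈ maxInvSubgroups ⊤ A {q}) : A ≤ N[Q] :=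
  h.1.2.2

theorem maxInv_eq {A Q R : Subgroup G} {q : ℕ} (hq : q.Prime) (h : Q ∈ maxInvSubgroups ⊤ A {q})
    (hR : IsPGroup q R) (hn : A ≤ N[R]) (hQR : Q ≤ R) : R = Q :=
  ((mem_maxInv_iff hq).1 h).2.2 R hR hn hQR

/-- mathcomp `max_normed_exists`. -/
theorem max_normed_exists {A Q : Subgroup G} {q : ℕ} (hq : q.Prime) (qQ : IsPGroup q Q)
    (nQA : A ≤ N[Q]) : ∃ R ∈ maxInvSubgroups ⊤ A {q}, Q ≤ R := by
  obtain ⟨R, hQR, hR, hmax⟩ := exists_maximal_ge (fun R => IsPGroup q R ∧ A ≤ N[R]) ⟨qQ, nQA⟩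
  exact ⟨R, (mem_maxInv_iff hq).2 ⟨hR.1, hR.2, fun S h₁ h₂ h₃ => hmax S ⟨h₁, h₂⟩ h₃⟩, hQR⟩

theorem maxInv_cj {A Q : Subgroup G} {q : ℕ} (h : Q ∈ maxInvSubgroups ⊤ A {q}) (g : G) :
    cj g Q ∈ maxInvSubgroups ⊤ (cj g A) {q} := by
  have _ := (inferInstance : Finite G)
  refine ⟨⟨le_top, isPi_cj h.1.2.1 g, cj_normalizer g Q ▸ cj_mono h.1.2.2⟩, fun R hR hQR => ?_⟩
  rw [← h.2 (cj g⁻¹ R) ⟨le_top, isPi_cj hR.2.1 g⁻¹, ?_⟩ (cj_le_iff_le_cj_inv.1 hQR), cj_cj_inv]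
  rw [← cj_normalizer]
  exact cj_le_iff_le_cj_inv.1 hR.2.2

theorem maxInv_cj_of_mem_normalizer {A Q : Subgroup G} {q : ℕ} (h : Q ∈ maxInvSubgroups ⊤ A {q})
    {g : G} (hg : g ∈ N[A]) : cj g Q ∈ maxInvSubgroups ⊤ A {q} := by
  have := maxInv_cj h g
  rwa [cj_eq_self hg] at this

/-- A member of `|/|*(A; q)` normalized by an overgroup `B` of `A` is in `|/|*(B; q)`. -/
theorem maxInv_of_le {A B Q : Subgroup G} {q : ℕ} (hq : q.Prime) (h : Q ∈ maxInvSubgroups ⊤ A {q})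
    (hAB : A ≤ B) (hB : B ≤ N[Q]) : Q ∈ maxInvSubgroups ⊤ B {q} :=
  (mem_maxInv_iff hq).2 ⟨maxInv_isPGroup hq h, hB, fun _ h₁ h₂ h₃ =>
    maxInv_eq hq h h₁ (hAB.trans h₂) h₃⟩

theorem maxInv_eq_bot {A Q : Subgroup G} {q : ℕ} (hq : q.Prime) (h : ⊥ ∈ maxInvSubgroups ⊤ A {q})
    (hQ : IsPGroup q Q) (hn : A ≤ N[Q]) : Q = ⊥ := maxInv_eq hq h hQ hn bot_le

omit [Finite G] in
theorem MaxNormTrans.mono {K L A : Subgroup G} {q : ℕ} (h : MaxNormTrans K A q) (hKL : K ≤ L) :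
    MaxNormTrans L A q := fun Q₁ h₁ Q₂ h₂ =>
  let ⟨k, hk, e⟩ := h Q₁ h₁ Q₂ h₂
  ⟨k, hKL hk, e⟩

omit [Finite G] in
theorem MaxNormTrans.eq_of_bot {A Q₁ Q₂ : Subgroup G} {q : ℕ} (h : MaxNormTrans ⊥ A q)
    (h₁ : Q₁ ∈ maxInvSubgroups ⊤ A {q}) (h₂ : Q₂ ∈ maxInvSubgroups ⊤ A {q}) : Q₂ = Q₁ := by
  obtain ⟨k, hk, e⟩ := h Q₁ h₁ Q₂ h₂
  rw [e, mem_bot.1 hk, cj_one]

theorem isPi_compl_primesOf_of_isPGroup {A Q : Subgroup G} {q : ℕ} (hq : q.Prime)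
    (q'A : ¬ q ∣ Nat.card A) (h : IsPGroup q Q) : IsPiSubgroup (primesOf (Nat.card A))ᶜ Q :=
  isPi_of_isPGroup_of_mem hq h fun h' => q'A h'.2

theorem primesOf_eq_of_isPGroup {A : Subgroup G} {p : ℕ} (hp : p.Prime) (h : IsPGroup p A)
    (hne : A ≠ ⊥) : primesOf (Nat.card A) = {p} := by
  ext q
  exact ⟨fun hq => isPi_of_isPGroup hp h q hq.1 hq.2,
    fun hq => hq ▸ ⟨hp, dvd_card_of_isPGroup hp h hne⟩⟩

section

variable (hG : IsMinSimpleOddOrder G)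
include hG

theorem NormedConstrained.le_core_cent {A Y : Subgroup G} (cstrA : NormedConstrained A)
    (hY : Y ≤ C[A]) (hπ : IsPiSubgroup (primesOf (Nat.card A))ᶜ Y) :
    Y ≤ O[(primesOf (Nat.card A))ᶜ](C[A]) := by
  rw [piCoreOf_eq_inf_of_normalIn (centralizer_normalIn_normalizer A)]
  exact le_inf hY (cstrA.le_core _ Y le_normalizer (pr_norm cstrA.ne_bot cstrA.w)
    (hY.trans (centralizer_le_normalizer _)) hπ (le_normalizer_of_le_centralizer' hY))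

theorem normed_constrained_Hall {A : Subgroup G} (cstrA : NormedConstrained A) :
    IsPiHallOf (primesOf (Nat.card A))ᶜ O[(primesOf (Nat.card A))ᶜ](C[A]) C[A] := by
  obtain ⟨H, hH⟩ := exists_hall (primesOf (Nat.card A))ᶜ
    (mFT_sol hG (pr_cent cstrA.ne_bot cstrA.w))
  rwa [hall_eq_of_le hH (isPi_piCoreOf _ _) (cstrA.le_core_cent hG hH.1 (hall_isPi hH))
    (piCoreOf_le _ _)]

theorem NormedConstrained.core_inf_cent {A B : Subgroup G} (cstrA : NormedConstrained A)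
    (hAB : A ≤ B) :
    O[(primesOf (Nat.card A))ᶜ](C[A]) ⊓ C[B] = O[(primesOf (Nat.card A))ᶜ](C[B]) :=
  le_antisymm (by rw [inf_comm]; exact inf_piCoreOf_le (centralizer_anti hAB))
    (le_inf (cstrA.le_core_cent hG ((piCoreOf_le _ _).trans (centralizer_anti hAB))
      (isPi_piCoreOf _ _)) (piCoreOf_le _ _))

/-- B & G Lemma 7.1. -/
theorem normed_constrained_meet_trans {A : Subgroup G} (cstrA : NormedConstrained A) {q : ℕ}
    (hq : q.Prime) (q'A : ¬ q ∣ Nat.card A) {Q₁ Q₂ H : Subgroup G} (sAH : A ≤ H) (prH : Pr H)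
    (h₁ : Q₁ ∈ maxInvSubgroups ⊤ A {q}) (h₂ : Q₂ ∈ maxInvSubgroups ⊤ A {q})
    (ntQ₁ : Q₁ ⊓ H ≠ ⊥) (ntQ₂ : Q₂ ⊓ H ≠ ⊥) :
    ∃ k ∈ O[(primesOf (Nat.card A))ᶜ](C[A]), Q₂ = cj k Q₁ := by
  have : Fact q.Prime := ⟨hq⟩
  induction hn : Nat.card G - Nat.card ↥(Q₁ ⊓ Q₂) using Nat.strong_induction_on
    generalizing Q₁ Q₂ H with
  | _ n ih =>
  by_cases hQ : Q₁ = Q₂
  · exact ⟨1, one_mem _, by rw [cj_one, hQ]⟩
  have qQ₁ := maxInv_isPGroup hq h₁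
  have qQ₂ := maxInv_isPGroup hq h₂
  have qw : q ∈ ϖ := cstrA.wq hq qQ₁ (ne_bot_mono ntQ₁ inf_le_left) (maxInv_norm h₁)
  obtain ⟨H', sAH', prH', lt₁, lt₂⟩ : ∃ H' : Subgroup G, A ≤ H' ∧ Pr H' ∧
      Nat.card ↥(Q₁ ⊓ Q₂) < Nat.card ↥(Q₁ ⊓ H') ∧ Nat.card ↥(Q₁ ⊓ Q₂) < Nat.card ↥(Q₂ ⊓ H') := by
    by_cases h0 : Q₁ ⊓ Q₂ = ⊥
    · exact ⟨H, sAH, prH, card_lt_of_lt (h0 ▸ bot_lt_iff_ne_bot.2 ntQ₁),
        card_lt_of_lt (h0 ▸ bot_lt_iff_ne_bot.2 ntQ₂)⟩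
    · refine ⟨N[Q₁ ⊓ Q₂], le_normalizer_inf (maxInv_norm h₁) (maxInv_norm h₂),
        mFT_norm_proper hG h0 (mFT_pgroup_proper hG hq (qQ₁.to_le inf_le_left)),
        card_lt_of_lt (lt_inf_normalizer_of_isNilpotent (isNilpotent_of_isPGroup hq qQ₁)
          (inf_lt_left.2 fun h => hQ (maxInv_eq hq h₁ qQ₂ (maxInv_norm h₂) h).symm)),
        card_lt_of_lt (lt_inf_normalizer_of_isNilpotent (isNilpotent_of_isPGroup hq qQ₂)
          (inf_lt_right.2 fun h => hQ (maxInv_eq hq h₂ qQ₁ (maxInv_norm h₁) h)))⟩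
  set L := O[(primesOf (Nat.card A))ᶜ](H') with hL
  have nLA : A ≤ N[L] := sAH'.trans (le_normalizer_piCoreOf_self _ _)
  have coAL : (Nat.card A).Coprime (Nat.card L) := isPi_coprime (isPi_primesOf A) (isPi_piCoreOf _ _)
  have solL : Group.IsSolvable L := mFT_sol hG (ne_top_mono prH' (piCoreOf_le _ _))
  have key : ∀ Q ∈ maxInvSubgroups ⊤ A {q}, ∃ R, IsSyl q R L ∧ A ≤ N[R] ∧ Q ⊓ H' ≤ R := by
    intro Q hQ
    have qQ : IsPGroup q ↥(Q ⊓ H') := (maxInv_isPGroup hq hQ).to_le inf_le_left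
    have nQ : A ≤ N[Q ⊓ H'] := le_normalizer_inf (maxInv_norm hQ) (le_normalizer_of_le sAH')
    exact coprime_syl_subset nLA coAL (Or.inr solL) (cstrA.le_core H' _ sAH' prH' inf_le_right
      (isPi_compl_primesOf_of_isPGroup hq q'A qQ) nQ) qQ nQ
  obtain ⟨R₁, sylR₁, nR₁, sQR₁⟩ := key Q₁ h₁
  obtain ⟨R₂, sylR₂, nR₂, sQR₂⟩ := key Q₂ h₂
  obtain ⟨c, hc, rfl⟩ := coprime_syl_trans nLA coAL (Or.inr solL) sylR₁ nR₁ sylR₂ nR₂
  have hcK : c ∈ O[(primesOf (Nat.card A))ᶜ](C[A]) :=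
    cstrA.le_core_cent hG inf_le_right (isPi_of_le (isPi_piCoreOf _ H') inf_le_left) hc
  have hcH : c ∈ H' := piCoreOf_le _ _ hc.1
  obtain ⟨Q₃, h₃, sRQ₃⟩ := max_normed_exists hq (syl_isPGroup sylR₂) nR₂
  have h₁' := maxInv_cj_of_mem_normalizer h₁ (centralizer_le_normalizer _ hc.2)
  have pos : 0 < Nat.card ↥(Q₁ ⊓ Q₂) := Nat.card_pos
  have ne_of : ∀ {X Y : Subgroup G}, Nat.card ↥(Q₁ ⊓ Q₂) < Nat.card X → X ≤ Y → Y ≠ ⊥ :=
    fun h hXY => ne_bot_mono (fun h0 => by rw [h0, card_bot] at h; omega) hXY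
  have lt₁' : Nat.card ↥(Q₁ ⊓ Q₂) < Nat.card (cj c (Q₁ ⊓ H')) := by rwa [card_cj]
  have dec : ∀ {X Y : Subgroup G}, Nat.card ↥(Q₁ ⊓ Q₂) < Nat.card X → X ≤ Y →
      Nat.card G - Nat.card Y < n := fun {X Y} h hXY => by
    have h1 := card_le_of_le hXY
    have h2 : Nat.card Y ≤ Nat.card G := card_le_card_group Y
    omega
  obtain ⟨k₁, hk₁, e₁⟩ := ih _ (dec lt₁' (le_inf (cj_mono inf_le_left)
      ((cj_mono sQR₁).trans sRQ₃))) sAH' prH' h₁' h₃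
    (ne_of lt₁' (le_inf (cj_mono inf_le_left) (cj_le_of_mem hcH inf_le_right)))
    (ne_of lt₂ (le_inf (sQR₂.trans sRQ₃) inf_le_right)) rfl
  obtain ⟨k₂, hk₂, e₂⟩ := ih _ (dec lt₂ (le_inf (sQR₂.trans sRQ₃) inf_le_left)) sAH' prH' h₃ h₂
    (ne_of lt₂ (le_inf (sQR₂.trans sRQ₃) inf_le_right)) (ne_of lt₂ le_rfl) rfl
  exact ⟨k₂ * k₁ * c, mul_mem (mul_mem hk₂ hk₁) hcK, by rw [e₂, e₁, cj_cj, cj_cj]⟩

/-- B & G Theorem 7.2. -/
theorem normed_constrained_rank3_trans {A : Subgroup G} (cstrA : NormedConstrained A) {q : ℕ}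
    (hq : q.Prime) (q'A : ¬ q ∣ Nat.card A) (hr : 3 ≤ rank Z[A]) :
    MaxNormTrans O[(primesOf (Nat.card A))ᶜ](C[A]) A q := by
  intro Q₁ h₁ Q₂ h₂
  have : Fact q.Prime := ⟨hq⟩
  by_cases h0 : Q₁ = ⊥
  · subst h0
    exact ⟨1, one_mem _, by rw [cj_one, maxInv_eq_bot hq h₁ (maxInv_isPGroup hq h₂) (maxInv_norm h₂)]⟩
  have h0' : Q₂ ≠ ⊥ := by
    rintro rfl
    exact h0 (maxInv_eq_bot hq h₂ (maxInv_isPGroup hq h₁) (maxInv_norm h₁))
  obtain ⟨p, hp, B, hB⟩ := exists_elemOf_of_le_rank hr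
  have : Fact p.Prime := ⟨hp⟩
  have sBA : B ≤ A := hB.le.trans inf_le_left
  have co : ∀ {C Q : Subgroup G}, C ≤ A → IsPGroup q Q → (Nat.card C).Coprime (Nat.card Q) :=
    fun hC hQ => Aux.coprime_of_isPGroup_of_not_dvd hQ fun hd => q'A (hd.trans (card_dvd_of_le hC))
  obtain ⟨C, sCB, ncC, ntC⟩ := Aux.exists_noncyclic_cent_ne_bot hB le_rfl
    (sBA.trans (maxInv_norm h₁)) (co sBA (maxInv_isPGroup hq h₁)) h0
  obtain ⟨z, hz, ntz, ntz₂⟩ := exists_cent1_ne_bot (isMulCommutative_of_le hB.comm sCB) ncC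
    ((sCB.trans sBA).trans (maxInv_norm h₂)) (co (sCB.trans sBA) (maxInv_isPGroup hq h₂)) h0'
  exact normed_constrained_meet_trans hG cstrA hq q'A
    (mem_centralizer_iff_le.1 (hB.le (sCB hz)).2)
    (pr_cent1 ntz (piElt_of_mem cstrA.w (sBA (sCB hz)))) h₁ h₂
    (ne_bot_mono ntC (inf_le_inf_left _ (centralizer_le_centralizer_singleton hz))) ntz₂

/-- B & G Theorem 7.3. -/
theorem normed_constrained_rank2_trans {A : Subgroup G} (cstrA : NormedConstrained A) {q : ℕ}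
    (hq : q.Prime) (q'A : ¬ q ∣ Nat.card A) (qC : q ∣ Nat.card C[A]) (hr : 2 ≤ rank Z[A]) :
    MaxNormTrans O[(primesOf (Nat.card A))ᶜ](C[A]) A q := by
  have : Fact q.Prime := ⟨hq⟩
  obtain ⟨p, hp, B, hB⟩ := exists_elemOf_of_le_rank hr
  have : Fact p.Prime := ⟨hp⟩
  have sBA : B ≤ A := hB.le.trans inf_le_left
  obtain ⟨R, hR⟩ := exists_syl (p := q) C[A]
  obtain ⟨Q₀, h₀, sRQ⟩ := max_normed_exists hq (syl_isPGroup hR)
    (le_normalizer_of_le_centralizer' hR.1)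
  have ntR := syl_ne_bot hR qC
  have key : ∀ Q ∈ maxInvSubgroups ⊤ A {q},
      ∃ k ∈ O[(primesOf (Nat.card A))ᶜ](C[A]), Q = cj k Q₀ := by
    intro Q h
    have h0 : Q ≠ ⊥ := by
      rintro rfl
      exact ne_bot_mono ntR sRQ (maxInv_eq_bot hq h (maxInv_isPGroup hq h₀) (maxInv_norm h₀))
    obtain ⟨z, hz, ntz, ntz₂⟩ := exists_cent1_ne_bot hB.comm (hB.not_isCyclic le_rfl)
      (sBA.trans (maxInv_norm h)) (Aux.coprime_of_isPGroup_of_not_dvd (maxInv_isPGroup hq h)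
        fun hd => q'A (hd.trans (card_dvd_of_le sBA))) h0
    exact normed_constrained_meet_trans hG cstrA hq q'A
      (mem_centralizer_iff_le.1 (hB.le hz).2) (pr_cent1 ntz (piElt_of_mem cstrA.w (sBA hz))) h₀ h
      (ne_bot_mono ntR (le_inf sRQ (hR.1.trans (centralizer_le_centralizer_singleton (sBA hz)))))
      ntz₂
  intro Q₁ h₁ Q₂ h₂
  obtain ⟨k₁, hk₁, rfl⟩ := key Q₁ h₁
  obtain ⟨k₂, hk₂, rfl⟩ := key Q₂ h₂
  exact ⟨k₂ * k₁⁻¹, mul_mem hk₂ (inv_mem hk₁), by rw [cj_cj, inv_mul_cancel_right]⟩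

/-- A nontrivial maximal `P`-invariant `q`-subgroup is a maximal `A`-invariant one. -/
theorem NormedConstrained.maxInv_of_ne_bot {A : Subgroup G} (cstrA : NormedConstrained A) {q : ℕ}
    (hq : q.Prime) (q'A : ¬ q ∣ Nat.card A) {P Q : Subgroup G} (sAP : A ≤ P)
    (piP : IsPiSubgroup (primesOf (Nat.card A)) P) (h : Q ∈ maxInvSubgroups ⊤ P {q})
    (ntQ : Q ≠ ⊥) : Q ∈ maxInvSubgroups ⊤ A {q} := by
  have : Fact q.Prime := ⟨hq⟩
  have qQ := maxInv_isPGroup hq h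
  have nQP := maxInv_norm h
  have qw : q ∈ ϖ := cstrA.wq hq qQ ntQ (sAP.trans nQP)
  have prN := mFT_norm_proper hG ntQ (mFT_pgroup_proper hG hq qQ)
  set L := O[(primesOf (Nat.card A))ᶜ](N[Q]) with hL
  have sQL : Q ≤ L :=
    le_piCoreOf (normalIn_normalizer Q) (isPi_compl_primesOf_of_isPGroup hq q'A qQ)
  obtain ⟨R, sylR, nRP, sQR⟩ := coprime_syl_subset (A := P) (K := L)
    (nQP.trans (le_normalizer_piCoreOf_self _ _)) (isPi_coprime piP (isPi_piCoreOf _ _))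
    (Or.inr (mFT_sol hG (ne_top_mono prN (piCoreOf_le _ _)))) sQL qQ nQP
  obtain rfl := maxInv_eq hq h (syl_isPGroup sylR) nRP sQR
  refine (mem_maxInv_iff hq).2 ⟨qQ, sAP.trans nQP, fun S qS nSA sRS => ?_⟩
  have qS' : IsPGroup q ↥(S ⊓ N[R]) := qS.to_le inf_le_left
  refine (eq_of_inf_normalizer_le (isNilpotent_of_isPGroup hq qS) sRS
    (syl_eq_of_le sylR qS' (le_inf sRS le_normalizer) ?_).le).symm
  exact cstrA.le_core _ _ (sAP.trans nQP) prN inf_le_right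
    (isPi_compl_primesOf_of_isPGroup hq q'A qS')
    (le_normalizer_inf nSA (le_normalizer_of_le (sAP.trans nQP)))

theorem normed_trans_superset_aux {A : Subgroup G} (cstrA : NormedConstrained A) {q : ℕ}
    (hq : q.Prime) (q'A : ¬ q ∣ Nat.card A)
    (trK : MaxNormTrans O[(primesOf (Nat.card A))ᶜ](C[A]) A q) (P : Subgroup G) :
    SubnormalIn A P → IsPiSubgroup (primesOf (Nat.card A)) P →
    MaxNormTrans O[(primesOf (Nat.card A))ᶜ](C[P]) P q ∧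
      maxInvSubgroups ⊤ P {q} ⊆ maxInvSubgroups ⊤ A {q} := by
  induction P using subgroup_induction with
  | _ P ih =>
  intro snAP piP
  by_cases hAP : A = P
  · subst hAP
    exact ⟨trK, subset_rfl⟩
  obtain ⟨B, nsBP, ltBP, snAB⟩ := snAP.exists_normalIn hAP
  obtain ⟨trB, subB⟩ := ih B ltBP snAB (isPi_of_le piP nsBP.le)
  set KB := O[(primesOf (Nat.card A))ᶜ](C[B]) with hKB
  have nKP : P ≤ N[KB] := le_normalizer_piCoreOf (le_normalizer_centralizer nsBP.norm)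
  have coPK : (Nat.card P).Coprime (Nat.card KB) := isPi_coprime piP (isPi_piCoreOf _ _)
  have solK : Group.IsSolvable KB := mFT_sol hG (ne_top_mono
    (pr_cent cstrA.ne_bot cstrA.w) ((piCoreOf_le _ _).trans (centralizer_anti snAB.le)))
  have subP : maxInvSubgroups ⊤ P {q} ⊆ maxInvSubgroups ⊤ A {q} := by
    intro Q hQ
    by_cases ntQ : Q = ⊥
    · subst ntQ
      obtain ⟨Q₀, h₀, -⟩ := max_normed_exists (A := B) hq IsPGroup.of_bot (le_normalizer_bot B)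
      obtain ⟨k, hk, nQP⟩ := exists_cj_normalized nKP coPK (Or.inr solK) (P := Q₀) fun a ha =>
        trB _ h₀ _ (maxInv_cj_of_mem_normalizer h₀ (nsBP.norm ha))
      have h₁ := maxInv_cj_of_mem_normalizer h₀ (centralizer_le_normalizer _ (piCoreOf_le _ _ hk))
      rw [← maxInv_eq_bot hq hQ (maxInv_isPGroup hq h₁) nQP]
      exact subB h₁
    · exact cstrA.maxInv_of_ne_bot hG hq q'A snAP.le piP hQ ntQ
  refine ⟨fun Q₁ h₁ Q₂ h₂ => ?_, subP⟩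
  obtain ⟨k, hk, rfl⟩ := trB _ (maxInv_of_le hq (subP h₁) snAB.le (nsBP.le.trans (maxInv_norm h₁)))
    _ (maxInv_of_le hq (subP h₂) snAB.le (nsBP.le.trans (maxInv_norm h₂)))
  obtain ⟨c, hc, e⟩ := exists_centralizer_cj_eq nKP coPK (Or.inr solK) hk (maxInv_norm h₁)
    (maxInv_norm h₂)
  exact ⟨c, inf_piCoreOf_le (centralizer_anti nsBP.le) ⟨hc.2, hc.1⟩, e⟩

omit hG in
/-- The Frattini-type factorization attached to a transitive action on `|/|*(P; q)`. -/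
theorem MaxNormTrans.isMul {K P Q : Subgroup G} {q : ℕ} (h : MaxNormTrans K P q) (hK : K ≤ N[P])
    (hQ : Q ∈ maxInvSubgroups ⊤ P {q}) : IsMul K (N[P] ⊓ N[Q]) N[P] := by
  refine ⟨hK, inf_le_left, fun n hn => ?_⟩
  obtain ⟨k, hk, e⟩ := h _ hQ _ (maxInv_cj_of_mem_normalizer hQ hn)
  exact ⟨k, hk, k⁻¹ * n, ⟨N[P].mul_mem (N[P].inv_mem (hK hk)) hn, cj_eq_cj_iff.1 e⟩, by simp⟩

/-- B & G Theorem 7.4. -/
theorem normed_trans_superset {A : Subgroup G} (cstrA : NormedConstrained A) {q : ℕ}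
    (hq : q.Prime) (q'A : ¬ q ∣ Nat.card A) {P : Subgroup G} (snAP : SubnormalIn A P)
    (piP : IsPiSubgroup (primesOf (Nat.card A)) P)
    (trK : MaxNormTrans O[(primesOf (Nat.card A))ᶜ](C[A]) A q) :
    O[(primesOf (Nat.card A))ᶜ](C[A]) ⊓ C[P] = O[(primesOf (Nat.card A))ᶜ](C[P]) ∧
    MaxNormTrans O[(primesOf (Nat.card A))ᶜ](C[P]) P q ∧
    maxInvSubgroups ⊤ P {q} ⊆ maxInvSubgroups ⊤ A {q} ∧
    ∀ Q ∈ maxInvSubgroups ⊤ P {q}, P ⊓ ⁅N[P], N[P]⁆ ≤ ⁅N[Q], N[Q]⁆ ∧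
      IsMul O[(primesOf (Nat.card A))ᶜ](C[P]) (N[P] ⊓ N[Q]) N[P] := by
  obtain ⟨trP, subP⟩ := normed_trans_superset_aux hG cstrA hq q'A trK P snAP piP
  refine ⟨cstrA.core_inf_cent hG snAP.le, trP, subP, fun Q hQ => ?_⟩
  have hm := trP.isMul ((piCoreOf_le _ _).trans (centralizer_le_normalizer _)) hQ
  refine ⟨?_, hm⟩
  have := Aux.focal_coprime (K := O[(primesOf (Nat.card A))ᶜ](C[P])) (U := N[P] ⊓ N[Q]) (H := P)
    (inf_le_left.trans (le_normalizer_piCoreOf (normalizer_le_normalizer_centralizer P)))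
    (le_inf le_normalizer (maxInv_norm hQ)) (isPi_coprime piP (isPi_piCoreOf _ _))
  rw [hm.sup_eq] at this
  exact this.trans (commutator_mono inf_le_right inf_le_right)

/-- B & G Proposition 7.5(a). -/
theorem plength_1_normed_constrained {p : ℕ} [Fact p.Prime] {A : Subgroup G} (ntA : A ≠ ⊥)
    (maxA : MaxElemOf p A ⊤) (pl1 : ∀ M : Subgroup G, Pr M → PLen1 p M)
    (ncA : ¬ IsCyclic A) (hw : p ∈ ϖ := by w_tac) : NormedConstrained A := by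
  have hp : p.Prime := Fact.out
  have pA := maxA.isPGroup
  have wA := w_of_pgroup pA hp hw
  refine ⟨ntA, mFT_pgroup_proper hG hp pA, ?_, wA,
    fun hq => wp_of_normed hG hq (elemAb_comm maxA.elemAb) ncA wA⟩
  rw [primesOf_eq_of_isPGroup hp pA ntA]
  intro X Y sAX prX sYX p'Y nYA
  exact Aux.plen1_maxElem_le_core (wp_ne_two hG hw)
    (mFT_sol hG prX) (pl1 X prX) (maxA.of_le sAX le_top) sYX p'Y nYA

/-- The central case of B & G 7.5(b). -/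
theorem SCN_le_core_of_syl_le {p : ℕ} [Fact p.Prime] {P A X Y : Subgroup G} (sylP : IsSyl p P ⊤)
    (scnA : IsSCN P A) (sPX : P ≤ X) (prX : Pr X) (sYX : Y ≤ X) (p'Y : IsPiSubgroup {p}ᶜ Y)
    (nYA : A ≤ N[Y]) : Y ≤ O[{p}ᶜ](X) := by
  have hp : p.Prime := Fact.out
  have solX := mFT_sol hG prX
  have sylPX := hall_of_le sylP sPX le_top
  have pA : IsPGroup p A := (syl_isPGroup sylP).to_le scnA.1
  refine (coprime_cent_prod nYA (isPi_coprime (isPi_of_isPGroup hp pA) p'Y)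
    (Or.inr (isSolvable_of_le solX sYX))).le_of_le (Aux.commutator_le_core p'Y sYX
      (H64.odd_p_abelian_constrained (mFT_odd hG X) solX sylPX (scnA.1.trans sPX) (scn_comm scnA)
        scnA.2.1) nYA) ?_
  exact Aux.scn_le_core solX sylPX scnA (inf_le_left.trans sYX) inf_le_right
    (isPi_of_le p'Y inf_le_left)

/-- B & G Proposition 7.5(b). -/
theorem SCN_normed_constrained {p : ℕ} [Fact p.Prime] {P A : Subgroup G} (sylP : IsSyl p P ⊤)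
    (scnA : IsSCNn 2 P A) (hw : p ∈ ϖ := by w_tac) : NormedConstrained A := by
  have hp : p.Prime := Fact.out
  have pP := syl_isPGroup sylP
  have pA : IsPGroup p A := pP.to_le scnA.1.1
  have ntA : A ≠ ⊥ := ne_bot_of_le_rank scnA.2 two_pos
  have cAA := scn_le_centralizer scnA.1
  have wA := w_of_pgroup pA hp hw
  refine ⟨ntA, mFT_pgroup_proper hG hp pA, ?_, wA, fun hq => wp_of_normed hG hq (scn_comm scnA.1)
    (not_isCyclic_of_two_le_rank scnA.2) wA⟩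
  rw [primesOf_eq_of_isPGroup hp pA ntA]
  obtain ⟨B, hB, nsBP⟩ := Aux.exists_normal_elemOf_of_comm pP (scn_normalIn scnA.1)
    (scn_comm scnA.1) (scnA.le_rankP pP)
  -- reduction from an overgroup `X` of `A` to the centralizer of an element of `A`
  have red : ∀ {X Y : Subgroup G} {b : G}, b ∈ A → A ≤ X → Pr X → Y ≤ X →
      Y ⊓ C1[b] ≤ O[{p}ᶜ](C1[b]) → Y ⊓ C1[b] ≤ O[{p}ᶜ](X) := fun {X Y b} hb sAX prX sYX h =>
    Aux.le_core_of_le_core (mFT_sol hG prX) (zpowers_le.2 (sAX hb)) (pA.to_le (zpowers_le.2 hb))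
      (by rw [centralizer_zpowers]; exact inf_le_right) h (inf_le_left.trans sYX)
      (by rw [centralizer_zpowers]; exact inf_le_right)
  have nYb : ∀ {Y : Subgroup G} {b : G}, b ∈ A → A ≤ N[Y] → A ≤ N[Y ⊓ C1[b]] := fun hb h =>
    le_normalizer_inf h (le_normalizer_of_le (cAA.trans (centralizer_le_centralizer_singleton hb)))
  obtain ⟨z, ⟨hzB, hzP⟩, ntz⟩ := exists_ne_one_of_ne_bot
    (inf_centralizer_ne_bot_of_isPGroup hp pP hB.isPGroup nsBP.norm (hB.ne_bot two_ne_zero))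
  have key : ∀ b ∈ B, b ≠ 1 → ∀ Y ≤ C1[b], IsPiSubgroup {p}ᶜ Y → A ≤ N[Y] →
      Y ≤ O[{p}ᶜ](C1[b]) := by
    intro b hb ntb Y sY p'Y nYA
    have prX := pr_cent1 ntb (piElt_of_mem wA (hB.le hb))
    by_cases hbP : P ≤ C1[b]
    · exact SCN_le_core_of_syl_le hG sylP scnA.1 hbP prX sY p'Y nYA
    have solX := mFT_sol hG prX
    have sAX : A ≤ C1[b] := cAA.trans (centralizer_le_centralizer_singleton (hB.le hb))
    set P₁ := P ⊓ C1[b] with hP₁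
    obtain ⟨P₂, sylP₂, sP₁₂⟩ := exists_syl_ge (inf_le_right : P₁ ≤ C1[b]) (pP.to_le inf_le_left)
    have pP₂ := syl_isPGroup sylP₂
    have nsP₁ : P₁ ⊴ P₂ := by
      refine H71.normalIn_of_relIndex_le pP₂ sP₁₂ ?_
      have h1 : P₁.relIndex P ≤ p := by
        rw [hP₁, inf_comm, inf_relIndex_right]
        exact (relIndex_le_of_le_left (centralizer_le_centralizer_singleton hb)
          (relIndex_ne_zero' _ _)).trans
          (H71.relIndex_cent_le_prime pP hB.isPGroup nsBP.norm hB.card.le)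
      have h2 := card_le_syl sylP le_top pP₂
      rw [← card_mul_relIndex sP₁₂, ← card_mul_relIndex (inf_le_left : P₁ ≤ P)] at h2
      exact (Nat.le_of_mul_le_mul_left h2 Nat.card_pos).trans h1
    have sZ : zpowers z ≤ Z[P₁] := zpowers_le.2
      ⟨⟨nsBP.le hzB, sAX (hB.le hzB)⟩, centralizer_anti inf_le_left hzP⟩
    have sZO : zpowers z ≤ piCore2Of {p}ᶜ {p} C1[b] := sZ.trans
      (H64.odd_p_abelian_constrained (mFT_odd hG _) solX sylP₂ (inf_le_left.trans inf_le_right)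
        (isMulCommutative_center P₁) nsP₁.center.norm)
    have sZA : zpowers z ≤ A := zpowers_le.2 (hB.le hzB)
    refine (coprime_cent_prod (sZA.trans nYA) (isPi_coprime (isPi_of_isPGroup hp (pA.to_le sZA)) p'Y)
      (Or.inr (isSolvable_of_le solX sY))).le_of_le
      (Aux.commutator_le_core p'Y sY sZO (sZA.trans nYA)) ?_
    rw [centralizer_zpowers]
    exact red (hB.le hzB) sAX prX sY (SCN_le_core_of_syl_le hG sylP scnA.1
      (mem_centralizer_iff_le.1 hzP) (pr_cent1 ntz (piElt_of_mem wA (hB.le hzB))) inf_le_right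
      (isPi_of_le p'Y inf_le_left) (nYb (hB.le hzB) nYA))
  intro X Y sAX prX sYX p'Y nYA
  refine coprime_abelian_gen_cent1 hB.comm (hB.not_isCyclic le_rfl) (hB.le.trans nYA)
    (isPi_coprime (isPi_of_isPGroup hp hB.isPGroup) p'Y) fun b hb ntb => ?_
  exact red (hB.le hb) sAX prX sYX
    (key b hb ntb _ inf_le_right (isPi_of_le p'Y inf_le_left) (nYb (hB.le hb) nYA))

/-- B & G Theorem 7.6 (Thompson's Transitivity Theorem). -/
theorem Thompson_transitivity {p : ℕ} [Fact p.Prime] {q : ℕ} (hq : q.Prime) (hne : q ≠ p)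
    {A : Subgroup G} (scnA : IsSCNp 3 p A) : MaxNormTrans O[{p}ᶜ](C[A]) A q := by
  have hp : p.Prime := Fact.out
  have pA := scnA.isPGroup
  obtain ⟨hw, P, sylP, hA⟩ := scnA
  have cstrA := SCN_normed_constrained hG sylP (hA.of_le (by norm_num : 2 ≤ 3))
  have := normed_constrained_rank3_trans hG cstrA hq
    (fun hd => hne (isPi_of_isPGroup hp pA q hq hd))
    (by rw [inf_eq_left.2 (scn_le_centralizer hA.1)]; exact hA.2)
  rwa [primesOf_eq_of_isPGroup hp pA cstrA.ne_bot] at this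

end

end Cfsg.Agent.H88.SZ.H67
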