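import Cfsg.Agent.H88.ZMin
import Cfsg.Agent.H88.ZBG10d
import Cfsg.Agent.H88.ZBG7
import Cfsg.Agent.H67.Elem
import Cfsg.Agent.H69.BG3
import Cfsg.Agent.H71.BG4
import Cfsg.Agent.H63.Prod
import Cfsg.Agent.H4.CoprimeGen

/-! Bender-Glauberman section 11 (mathcomp names); proofs by helper2. -/

set_option autoImplicit false
set_option linter.unusedSectionVars false
set_option linter.unusedVariables false
set_option linter.unusedSectionVars false
set_option linter.unusedVariables false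

namespace Cfsg.Agent.H88.SZ.H66

open Cfsg.Agent.H66

variable [Om]

open Cfsg Cfsg.Agent.H63 Cfsg.Agent.H67 Subgroup
open Cfsg.Agent.H88.SZ.H63 Cfsg.Agent.H88.SZ.H67

universe u

variable {G : Type u} [Group G] [Finite G]

theorem bg11_le_rankP {p n : ℕ} [hp : Fact p.Prime] {A X : Subgroup G} (h : ElemOf p n A X) :
    n ≤ rankP p X := by
  refine le_csSup ⟨Nat.card G, ?_⟩ ⟨A, h⟩
  rintro m ⟨B, hB⟩
  have h1 : Nat.card B ≤ Nat.card G := Nat.le_of_dvd Nat.card_pos (card_subgroup_dvd_card B)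
  rw [hB.card] at h1
  exact (Nat.lt_pow_self hp.out.one_lt).le.trans h1

/-- A Sylow subgroup of `G` normalized by `A` is a maximal `A`-invariant `q`-subgroup. -/
theorem bg11_maxInv_of_syl {q : ℕ} [hq : Fact q.Prime] {A Q : Subgroup G} (h : IsSyl q Q ⊤)
    (nQA : A ≤ N[Q]) : Q ∈ maxInvSubgroups ⊤ A {q} :=
  (mem_maxInv_iff hq.out).2 ⟨syl_isPGroup h, nQA, fun _ hR _ hQR => syl_eq_of_le h hR hQR le_top⟩

/-- A noncyclic elementary abelian group acting coprimely on a nontrivial group has a subgroup of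
prime order with nontrivial fixed points. -/
theorem bg11_exists_fix {p : ℕ} [hp : Fact p.Prime] {A Q X : Subgroup G} (hA : ElemOf p 2 A X)
    (ntQ : Q ≠ ⊥) (nQA : A ≤ N[Q]) (co : (Nat.card A).Coprime (Nat.card Q)) :
    ∃ Y, ElemOf p 1 Y A ∧ Q ⊓ C[Y] ≠ ⊥ := by
  by_contra! h
  have := hA.comm
  refine ntQ (le_bot_iff.1 (H4.le_of_centralizer_singleton_le (hA.not_isCyclic le_rfl) nQA co ?_))
  intro a ha h1
  have := h _ (elemOf_one_zpowers_of_elemAb hp.out hA.elemAb ha h1)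
  rw [centralizer_zpowers] at this
  exact this.le

/-- A coprime group acting on a cyclic `q`-group with nontrivial fixed points acts trivially. -/
theorem bg11_cyclic_cent {q : ℕ} [hq : Fact q.Prime] {A Q : Subgroup G} (qQ : IsPGroup q Q)
    (cyc : IsCyclic Q) (nQA : A ≤ N[Q]) (co : (Nat.card A).Coprime (Nat.card Q))
    (nt : Q ⊓ C[A] ≠ ⊥) : Q ≤ C[A] := by
  have cQ : IsMulCommutative Q := cyc.isMulCommutative
  refine H4.le_centralizer_of_prime_order nQA co fun v hv hp => ?_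
  have h1 : orderOf v = q := by
    have := piElt_of_mem (isPi_of_isPGroup hq.out qQ) hv
    exact this _ hp dvd_rfl
  have hO : IsElementaryAbelian q (omegaOne q Q) := elemAb_omegaOne cQ
  have hc : Nat.card (omegaOne q Q) ≤ q :=
    (elemAb_isCyclic_iff hO).1 (isCyclic_of_le' cyc (omegaOne_le _ _))
  have hd : q ∣ Nat.card ↥(Q ⊓ C[A]) := dvd_card_of_isPGroup hq.out (qQ.to_le inf_le_left) nt
  obtain ⟨Y, hY⟩ := exists_elemOf_one hq.out hd
  have h2 : Y = omegaOne q Q :=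
    eq_of_le_of_card_le (elemAb_le_omegaOne hY.elemAb (hY.le.trans inf_le_left))
      (by rw [hY.card_one]; exact hc)
  have h3 : v ∈ Y := h2 ▸ mem_omegaOne hv (h1 ▸ pow_orderOf_eq_one v)
  exact (hY.le h3).2

section Exc

variable (hG : IsMinSimpleOddOrder G) {M : Subgroup G} (maxM : IsCoatom M) {p : ℕ} [Fact p.Prime]
  {A₀ A : Subgroup G} (excM : ExceptionalMax p M A₀ A)
include hG maxM excM

theorem exceptional_w : p ∈ ϖ :=
  wp_of_elem2 hG excM.elemA (sub_mmax_proper maxM excM.elemA.le)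

theorem p_rank_exceptional : rankP p M = 2 :=
  sigma'_norm_mmax_rank2 hG maxM excM.not_sigma excM.elemA₀.isPGroup excM.norm_le
    (exceptional_w hG maxM excM)

theorem exceptional_pmaxElem : MaxElemOf p A ⊤ :=
  sigma'_rank2_max hG maxM excM.not_sigma (p_rank_exceptional hG maxM excM) excM.elemA

omit hG maxM in
theorem exceptional_cent_le : C[A] ≤ M :=
  (centralizer_anti excM.elemA₀.le).trans ((centralizer_le_normalizer _).trans excM.norm_le)

omit hG maxM in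
theorem exceptional_isPi_sigma' {P : Subgroup G} (pP : IsPGroup p P) :
    IsPiSubgroup (sigma M)ᶜ P := isPi_of_isPGroup_of_mem Fact.out pP excM.not_sigma

omit hG maxM in
theorem exceptional_coprime {P : Subgroup G} (pP : IsPGroup p P) :
    (Nat.card P).Coprime (Nat.card (sigmaCore M)) :=
  isPi_coprime' (exceptional_isPi_sigma' excM pP) (Msigma_pi M)

theorem exceptional_exists_norm {P : Subgroup G} (sylP : IsSyl p P M) : ∃ g ∈ N[P], g ∉ M :=
  SetLike.not_le_iff_exists.1 fun h =>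
    sigma'_Sylow_contra maxM.1 excM.not_sigma sylP h (exceptional_w hG maxM excM)

/-- B & G Lemma 11.1. -/
theorem exceptional_TIsigmaJ {g : G} {q : ℕ} [Fact q.Prime] {Q₁ Q₂ : Subgroup G} (notMg : g ∉ M)
    (sAMg : A ≤ cj g M) (sylQ₁ : IsSyl q Q₁ (sigmaCore M)) (nQ₁A : A ≤ N[Q₁])
    (sylQ₂ : IsSyl q Q₂ (cj g (sigmaCore M))) (nQ₂A : A ≤ N[Q₂]) :
    Q₁ ⊓ Q₂ = ⊥ ∧ ∀ X : Subgroup G, ElemOf p 1 X A → Q₁ ⊓ C[X] = ⊥ ∨ Q₂ ⊓ C[X] = ⊥ := by
  have hq : q.Prime := Fact.out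
  have hp : p.Prime := Fact.out
  by_cases ntQ₁ : Q₁ = ⊥
  · subst ntQ₁
    exact ⟨bot_inf_eq _, fun X _ => Or.inl (bot_inf_eq _)⟩
  have sMq : q ∈ sigma M :=
    mem_of_isPi_of_isPGroup hq (syl_isPGroup sylQ₁) ntQ₁ (isPi_of_le (Msigma_pi M) (hall_le sylQ₁))
  have sylQ₁M : IsSyl q Q₁ M := syl_of_hall (Msigma_Hall hG maxM) sMq sylQ₁
  have sylQ₁G : IsSyl q Q₁ ⊤ := sigma_Sylow_G sMq sylQ₁M
  have sylQ₂' : IsSyl q (cj g⁻¹ Q₂) (sigmaCore M) := by
    have := hall_cj sylQ₂ g⁻¹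
    rwa [cj_inv_cj] at this
  have sylQ₂M : IsSyl q (cj g⁻¹ Q₂) M := syl_of_hall (Msigma_Hall hG maxM) sMq sylQ₂'
  have sylQ₂G : IsSyl q Q₂ ⊤ := by
    have := hall_cj_top (sigma_Sylow_G sMq sylQ₂M) g
    rwa [cj_cj_inv] at this
  have hne : q ≠ p := fun h => excM.not_sigma (h ▸ sMq)
  have q'A : ¬ q ∣ Nat.card A := by
    rw [excM.elemA.card]
    exact fun h => hne ((Nat.prime_dvd_prime_iff_eq hq hp).1 (hq.dvd_of_dvd_pow h))
  have cstrA : NormedConstrained A :=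
    plength_1_normed_constrained hG (excM.elemA.ne_bot two_ne_zero)
      (exceptional_pmaxElem hG maxM excM) (fun _ h => mFT_proper_plength1 hG p h)
      (excM.elemA.not_isCyclic le_rfl) (exceptional_w hG maxM excM)
  have key : ∀ H : Subgroup G, A ≤ H → Pr H → Q₁ ⊓ H ≠ ⊥ → Q₂ ⊓ H ≠ ⊥ → False := by
    intro H sAH prH n₁ n₂
    obtain ⟨k, hk, hQ⟩ := normed_constrained_meet_trans hG cstrA hq q'A sAH prH
      (bg11_maxInv_of_syl sylQ₁G nQ₁A) (bg11_maxInv_of_syl sylQ₂G nQ₂A) n₁ n₂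
    have hkM : k ∈ M := exceptional_cent_le excM (piCoreOf_le _ _ hk)
    refine notMg (sigma_Sylow_trans sMq sylQ₂M ?_)
    rw [cj_cj_inv, hQ]
    exact cj_le_of_mem hkM (hall_le sylQ₁M)
  refine ⟨?_, fun X hX => ?_⟩
  · by_contra h
    refine key M excM.elemA.le maxM.1 ?_ ?_
    · rwa [inf_eq_left.2 (hall_le sylQ₁M)]
    · exact ne_bot_mono h (le_inf inf_le_right (inf_le_left.trans (hall_le sylQ₁M)))
  · by_contra! h
    exact key C[X] (le_cent_of_comm excM.elemA.comm le_rfl hX.le)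
      (pr_cent (hX.ne_bot one_ne_zero) (w_of_elem hX hp (exceptional_w hG maxM excM))) h.1 h.2

/-- B & G Corollary 11.2. -/
theorem exceptional_TI_MsigmaJ {g : G} (notMg : g ∉ M) (sAMg : A ≤ cj g M) :
    sigmaCore M ⊓ cj g M = ⊥ ∧ sigmaCore M ⊓ C[cj g A₀] = ⊥ := by
  suffices h : sigmaCore M ⊓ cj g M = ⊥ by
    refine ⟨h, le_bot_iff.1 (h ▸ inf_le_inf_left _ ?_)⟩
    rw [← cj_centralizer]
    exact cj_mono ((centralizer_le_normalizer _).trans excM.norm_le)
  set H := sigmaCore M ⊓ cj g M with hH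
  by_contra ntH
  obtain ⟨q, hq, hqH⟩ := exists_prime_dvd_card ntH
  have := Fact.mk hq
  have nsMs := Msigma_normal M
  have sHMsg : H ≤ cj g (sigmaCore M) :=
    le_of_normal_hall (hall_cj (Msigma_Hall hG maxM) g) (nsMs.cj g) inf_le_right
      (isPi_of_le (Msigma_pi M) inf_le_left)
  have nMsA : A ≤ N[sigmaCore M] := excM.elemA.le.trans nsMs.norm
  have nHA : A ≤ N[H] := le_normalizer_inf nMsA (le_normalizer_of_le sAMg)
  have nMsgA : A ≤ N[cj g (sigmaCore M)] := sAMg.trans (nsMs.cj g).norm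
  have coMs := exceptional_coprime excM excM.elemA.isPGroup
  have coH : (Nat.card A).Coprime (Nat.card H) :=
    Nat.Coprime.coprime_dvd_right (card_dvd_of_le' inf_le_left) coMs
  have coMsg : (Nat.card A).Coprime (Nat.card (cj g (sigmaCore M))) := by rwa [card_cj]
  have solA : Group.IsSolvable A := isSolvable_of_isMulCommutative excM.elemA.comm
  obtain ⟨Q₀, sylQ₀, nQ₀A⟩ := coprime_syl_exists q nHA coH (Or.inl solA)
  obtain ⟨Q₁, sylQ₁, nQ₁A, s₁⟩ := coprime_syl_subset nMsA coMs (Or.inl solA)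
    ((hall_le sylQ₀).trans inf_le_left) (syl_isPGroup sylQ₀) nQ₀A
  obtain ⟨Q₂, sylQ₂, nQ₂A, s₂⟩ := coprime_syl_subset nMsgA coMsg (Or.inl solA)
    ((hall_le sylQ₀).trans sHMsg) (syl_isPGroup sylQ₀) nQ₀A
  have := (exceptional_TIsigmaJ hG maxM excM notMg sAMg sylQ₁ nQ₁A sylQ₂ nQ₂A).1
  exact syl_ne_bot sylQ₀ hqH (le_bot_iff.1 (this ▸ le_inf s₁ s₂))

/-- B & G Theorem 11.3. -/
theorem exceptional_sigma_nil : Group.IsNilpotent (sigmaCore M) := by
  obtain ⟨P, sylP, sAP⟩ := exists_syl_ge excM.elemA.le excM.elemA.isPGroup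
  obtain ⟨g, nPg, notMg⟩ := exceptional_exists_norm hG maxM excM sylP
  have sAMg : A ≤ cj g M := by
    refine sAP.trans ?_
    rw [← cj_eq_self nPg]
    exact cj_mono (hall_le sylP)
  have reg := (exceptional_TI_MsigmaJ hG maxM excM notMg sAMg).2
  have s₀ : cj g A₀ ≤ M :=
    (cj_le_of_mem_normalizer nPg (excM.elemA₀.le.trans sAP)).trans (hall_le sylP)
  exact H69.prime_regular_sol_nil (s₀.trans (Msigma_normal M).norm)
    (mmax_sub_sol hG maxM (Msigma_normal M).le) (by rw [card_cj]; exact excM.elemA₀.card_prime) reg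

/-- B & G Corollary 11.4. -/
theorem exceptional_sigma_uniq {H : Subgroup G} (maxH : IsCoatom H) (sAH : A ≤ H)
    (nt : sigmaCore H ⊓ sigmaCore M ≠ ⊥) : H = M := by
  by_cases hc : Conj M H
  · obtain ⟨g, rfl⟩ := hc
    by_cases hg : g ∈ M
    · exact cj_eq_self_of_mem hg
    · have := (exceptional_TI_MsigmaJ hG maxM excM hg sAH).1
      exact absurd (le_bot_iff.1 (this ▸ le_inf inf_le_right
        (inf_le_left.trans (Msigma_normal _).le))) nt
  · have := ((sigma_disjoint hG maxM maxH hc).2.2 (exceptional_sigma_nil hG maxM excM)).1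
    exact absurd ((inf_comm _ _).trans this) nt

theorem exceptional_Sylow_abelian_aux {P : Subgroup G} (sylP : IsSyl p P M) (sAP : A ≤ P) :
    IsMulCommutative P := by
  by_contra ncPP
  obtain ⟨g, nPg, notMg⟩ := exceptional_exists_norm hG maxM excM sylP
  have pP := syl_isPGroup sylP
  have nMsP : P ≤ N[sigmaCore M] := (hall_le sylP).trans (Msigma_normal M).norm
  have coMs := exceptional_coprime excM pP
  obtain ⟨q, hq, hqM⟩ := exists_prime_dvd_card (Msigma_neq1 hG maxM)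
  have := Fact.mk hq
  obtain ⟨Q₁, sylQ₁, nQ₁P⟩ := coprime_syl_exists q nMsP coMs
    (Or.inl (isSolvable_of_isPGroup Fact.out pP))
  have ntQ₁ : Q₁ ≠ ⊥ := syl_ne_bot sylQ₁ hqM
  have coQ₁ : (Nat.card A).Coprime (Nat.card Q₁) :=
    Nat.Coprime.coprime_dvd_right (card_dvd_of_le' (hall_le sylQ₁))
      (exceptional_coprime excM excM.elemA.isPGroup)
  have nQ₂P : P ≤ N[cj g Q₁] := by
    rw [← cj_normalizer]
    exact (cj_eq_self nPg).ge.trans (cj_mono nQ₁P)
  obtain ⟨X₁, hX₁, n₁⟩ := bg11_exists_fix excM.elemA ntQ₁ (sAP.trans nQ₁P) coQ₁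
  obtain ⟨X₂, hX₂, n₂⟩ := bg11_exists_fix excM.elemA (Q := cj g Q₁) (by rwa [Ne, cj_eq_bot_iff])
    (sAP.trans nQ₂P) (by rwa [card_cj])
  have sAMg : A ≤ cj g M := by
    refine sAP.trans ?_
    rw [← cj_eq_self nPg]
    exact cj_mono (hall_le sylP)
  have reg := (exceptional_TIsigmaJ hG maxM excM notMg sAMg sylQ₁ (sAP.trans nQ₁P)
    (hall_cj sylQ₁ g) (sAP.trans nQ₂P)).2
  have r₂ : Q₁ ⊓ C[X₂] = ⊥ := (reg X₂ hX₂).resolve_right n₂
  have r₁ : cj g Q₁ ⊓ C[X₁] = ⊥ := (reg X₁ hX₁).resolve_left n₁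
  have nZg : cj g (omegaOne p Z[P]) = omegaOne p Z[P] :=
    cj_eq_self (normalizer_le_normalizer_omegaOne_center p P nPg)
  have hZ : cj g Q₁ ⊓ C[omegaOne p Z[P]] = cj g (Q₁ ⊓ C[omegaOne p Z[P]]) := by
    rw [cj_inf, cj_centralizer, nZg]
  have ne₁ : X₁ ≠ omegaOne p Z[P] := by
    intro h
    rw [h, hZ, cj_eq_bot_iff] at r₁
    exact n₁ (h ▸ r₁)
  have ne₂ : X₂ ≠ omegaOne p Z[P] := by
    intro h
    rw [h, hZ, Ne, cj_eq_bot_iff] at n₂
    exact n₂ (h ▸ r₂)
  obtain ⟨x, hx, hx'⟩ := (basic_p2maxElem_structure hG excM.elemA.top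
    (exceptional_pmaxElem hG maxM excM) pP sAP ncPP (exceptional_w hG maxM excM)).2.2 X₁ X₂ hX₁ ne₁ hX₂ ne₂
  rw [hx', ← cj_centralizer, ← cj_eq_self (nQ₁P hx.1), ← cj_inf, cj_eq_bot_iff] at r₂
  exact n₁ r₂

/-- B & G Theorem 11.5. -/
theorem exceptional_Sylow_abelian {P : Subgroup G} (sylP : IsSyl p P M) : IsMulCommutative P := by
  obtain ⟨P₀, sylP₀, sAP⟩ := exists_syl_ge excM.elemA.le excM.elemA.isPGroup
  obtain ⟨g, -, rfl⟩ := syl_conj sylP₀ sylP
  exact isMulCommutative_cj_iff.2 (exceptional_Sylow_abelian_aux hG maxM excM sylP₀ sAP)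

/-- B & G Corollary 11.6. -/
theorem exceptional_structure {P : Subgroup G} (sylP : IsSyl p P M) (sAP : A ≤ P) :
    omegaOne p P = A ∧ sigmaCore M ⊓ C[A] = ⊥ ∧
      ∃ A₁ A₂ : Subgroup G, ElemOf p 1 A₁ A ∧ ElemOf p 1 A₂ A ∧ A₁ ≠ A₂ ∧
        sigmaCore M ⊓ C[A₁] = ⊥ ∧ sigmaCore M ⊓ C[A₂] = ⊥ := by
  have defA : omegaOne p P = A :=
    (exceptional_pmaxElem hG maxM excM).eq le_top
      (elemAb_omegaOne (exceptional_Sylow_abelian hG maxM excM sylP))
      (elemAb_le_omegaOne excM.elemA.elemAb sAP)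
  obtain ⟨g, nPg, notMg⟩ := exceptional_exists_norm hG maxM excM sylP
  have nAg : g ∈ N[A] := defA ▸ normalizer_le_normalizer_omegaOne p P nPg
  have reg : ∀ x ∈ N[A], x ∉ M → sigmaCore M ⊓ C[cj x A₀] = ⊥ := fun x hx hxM =>
    (exceptional_TI_MsigmaJ hG maxM excM hxM
      ((cj_eq_self hx).ge.trans (cj_mono excM.elemA.le))).2
  have r₁ := reg g nAg notMg
  have r₂ := reg g⁻¹ (inv_mem nAg) (by rwa [inv_mem_iff])
  have e₁ := excM.elemA₀.cj_of_mem_normalizer nAg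
  have e₂ := excM.elemA₀.cj_of_mem_normalizer (inv_mem nAg)
  refine ⟨defA, le_bot_iff.1 (r₁ ▸ inf_le_inf_left _ (centralizer_anti e₁.le)),
    _, _, e₁, e₂, fun h => notMg ?_, r₁, r₂⟩
  have h2 : g ^ 2 ∈ M := by
    have := excM.norm_le (cj_eq_cj_iff.1 h)
    rwa [inv_inv, ← sq] at this
  obtain ⟨k, hk⟩ := mFT_odd_orderOf hG g (pr_of_norm (excM.elemA.ne_bot two_ne_zero)
    (w_of_elem excM.elemA Fact.out (exceptional_w hG maxM excM)) (zpowers_le.2 nAg))
  have h3 : g = ((g ^ 2) ^ k)⁻¹ := by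
    rw [eq_inv_iff_mul_eq_one, ← pow_mul, ← pow_succ', ← hk, pow_orderOf_eq_one]
  rw [h3]
  exact inv_mem (pow_mem h2 k)

/-- B & G Theorem 11.7. -/
theorem exceptional_mul_sigma_normal : (sigmaCore M ⊔ A) ⊴ M := by
  have hp : p.Prime := Fact.out
  obtain ⟨P, sylP, sAP⟩ := exists_syl_ge excM.elemA.le excM.elemA.isPGroup
  have pP := syl_isPGroup sylP
  have solM := mmax_sol hG maxM
  obtain ⟨E, hallE, sPE⟩ := exists_hall_ge solM (hall_le sylP) (exceptional_isPi_sigma' excM pP)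
  have sEM := hall_le hallE
  have solE := isSolvable_of_le solM sEM
  have sylPE : IsSyl p P E := hall_of_le sylP sPE sEM
  have defM : sigmaCore M ⊔ E = M := hall_sup_hall_compl (Msigma_Hall hG maxM) hallE
  have nsMs := Msigma_normal M
  have sFE : fittingOf E ≤ E := map_subtype_le _
  have rFE : rank (fittingOf E) ≤ 2 :=
    alpha'_rank2 hG maxM (sFE.trans sEM)
      (isPi_mono (isPi_of_le (hall_isPi hallE) sFE) fun q hq ha => hq (alpha_sub_sigma hG maxM ha))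
  have hallK := H71.rank2_ge_pcore_Hall (mFT_odd hG E) solE rFE (p + 1)
  have hallL := H71.rank2_ge_pcore_Hall (mFT_odd hG E) solE rFE p
  set K := O[{q | p + 1 ≤ q}](E) with hK
  set L := O[{q | p ≤ q}](E) with hL
  have nsK : K ⊴ E := piCoreOf_normalIn _ _
  have nsL : L ⊴ E := piCoreOf_normalIn _ _
  obtain ⟨defA, -, A₁, A₂, e₁, e₂, ne₁₂, r₁, r₂⟩ := exceptional_structure hG maxM excM sylP sAP
  have cPP := exceptional_Sylow_abelian hG maxM excM sylP
  by_cases cKA : K ≤ C[A]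
  · have sPL : P ≤ L := le_of_normal_hall hallL nsL sPE
      (isPi_of_isPGroup_of_mem hp pP (le_refl p))
    have sKL : K ≤ L := piCoreOf_mono_pi (fun q (h : p + 1 ≤ q) => (Nat.le_succ p).trans h) E
    have sylPL : IsSyl p P L := hall_of_le sylPE sPL nsL.le
    have hallPL : IsPiHallOf {q | p + 1 ≤ q}ᶜ P L := by
      refine hall_congr sylPL fun q hq hd => ?_
      have : p ≤ q := hall_isPi hallL q hq hd
      simp only [Set.mem_singleton_iff, Set.mem_compl_iff, Set.mem_ofPred_eq]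
      omega
    have defL : K ⊔ P = L := hall_sup_hall_compl (hall_of_le hallK sKL nsL.le) hallPL
    have nsAL : A ⊴ L := ⟨sAP.trans sPL, defL ▸ sup_le (le_normalizer_of_le_centralizer cKA)
      (le_normalizer_of_le_centralizer (le_cent_of_comm cPP le_rfl sAP))⟩
    have s₁ : A ≤ O[{p}](L) := le_pCoreOf hp nsAL excM.elemA.isPGroup
    have s₂ : O[{p}](L) ≤ P := piCoreOf_le_hall sylPL
    have defA' : omegaOne p O[{p}](L) = A := by
      rw [← defA]
      exact omegaOne_eq_of_le_of_le (defA ▸ s₁) s₂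
    have nAE : E ≤ N[A] := defA' ▸ ((nsL.piCoreOf {p}).omegaOne p).norm
    refine ⟨sup_le nsMs.le excM.elemA.le, defM.ge.trans (sup_le ?_ ?_)⟩
    · exact le_normalizer_of_le le_sup_left
    · exact le_normalizer_sup (sEM.trans nsMs.norm) nAE
  exfalso
  have nKA : A ≤ N[K] := (sAP.trans sPE).trans nsK.norm
  have p'K : IsPiSubgroup {p}ᶜ K := isPi_mono (hall_isPi hallK) fun q (h : p + 1 ≤ q) h' => by
    have : q = p := h'
    omega
  have coKA : (Nat.card A).Coprime (Nat.card K) :=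
    isPi_coprime (isPi_of_isPGroup hp excM.elemA.isPGroup) p'K
  have solA : Group.IsSolvable A := isSolvable_of_isMulCommutative excM.elemA.comm
  obtain ⟨q, hq, hqK, hall⟩ : ∃ q : ℕ, q.Prime ∧ q ∣ Nat.card K ∧
      ∀ Q, IsSyl q Q K → ¬ Q ≤ C[A] := by
    by_contra! h
    exact cKA (le_of_forall_syl_le h)
  have := Fact.mk hq
  obtain ⟨Q, sylQ, nQA⟩ := coprime_syl_exists q nKA coKA (Or.inl solA)
  have ncQA := hall Q sylQ
  have qQ := syl_isPGroup sylQ
  have sQK := hall_le sylQ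
  have ntQ : Q ≠ ⊥ := fun h => ncQA (h ▸ bot_le)
  have s'q : q ∉ sigma M := isPi_of_le (hall_isPi hallE) nsK.le q hq hqK
  have tauq : p + 1 ≤ q := hall_isPi hallK q hq hqK
  have sylQM : IsSyl q Q M := syl_of_hall hallE s'q (syl_of_hall hallK tauq sylQ)
  have coQA : (Nat.card A).Coprime (Nat.card Q) :=
    Nat.Coprime.coprime_dvd_right (card_dvd_of_le' sQK) coKA
  have cstr_w : q.Prime → IsPGroup q Q → Q ≠ ⊥ → A ≤ N[Q] → q ∈ ϖ := fun hq =>
    wp_of_normed hG hq excM.elemA.comm (excM.elemA.not_isCyclic le_rfl)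
      (w_of_elem excM.elemA hp (exceptional_w hG maxM excM))
  by_cases regZ : Z[Q] ⊓ C[A] = ⊥
  · have nZA : A ≤ N[Z[Q]] := nQA.trans (normalizer_le_normalizer_center Q)
    have sZM : Z[Q] ≤ M := inf_le_left.trans (hall_le sylQM)
    have coZA : (Nat.card A).Coprime (Nat.card ↥Z[Q]) :=
      Nat.Coprime.coprime_dvd_right (card_dvd_of_le' inf_le_left) coQA
    have defZ : ⁅Z[Q], A⁆ = Z[Q] := by
      have := H4.commutator_sup_centralizer nZA coZA (Or.inl solA)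
      rwa [regZ, sup_bot_eq] at this
    have hn : ∀ X, ElemOf p 1 X A → sigmaCore M ⊓ C[X] = ⊥ → ⁅Z[Q], X⁆ ⊴ M := fun X hX hr =>
      (commG_sigma'_1Elem_cyclic hG maxM sZM
        (isPi_of_isPGroup_of_mem hq (qQ.to_le inf_le_left) s'q) excM.not_sigma
        (hX.mono (le_inf excM.elemA.le nZA)) hr (isPi_of_le p'K (inf_le_left.trans sQK))
        (isMulCommutative_center Q)).2.2
    have n₁ := hn A₁ e₁ r₁
    have n₂ := hn A₂ e₂ r₂
    have nsZ : Z[Q] ⊴ M := by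
      rw [← defZ, ← excM.elemA.sup_eq_of_ne e₁ e₂ ne₁₂,
        commutator_sup_right ((e₁.le.trans excM.elemA.le).trans n₂.norm)
          ((e₂.le.trans excM.elemA.le).trans n₁.norm)]
      exact n₁.sup n₂
    refine sigma'_Sylow_contra maxM.1 s'q sylQM ?_ (cstr_w hq qQ ntQ nQA)
    rw [← mmax_normal hG maxM nsZ (center_ne_bot_of_isPGroup hq qQ ntQ)]
    exact normalizer_le_normalizer_center Q
  have ntCQ : Q ⊓ C[A] ≠ ⊥ := ne_bot_mono regZ (inf_le_inf_right _ inf_le_left)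
  have ncyc : ¬ IsCyclic Q := fun h => ncQA (bg11_cyclic_cent qQ h nQA coQA ntCQ)
  obtain ⟨B, -, hB⟩ := H71.ex_odd_normal_p2Elem qQ (mFT_odd hG Q) ncyc
  have hBM := hB.mono (hall_le sylQM)
  have rM : rankP q M = 2 := by
    refine le_antisymm ?_ (bg11_le_rankP hBM)
    by_contra h
    exact s'q (alpha_sub_sigma hG maxM (mem_alpha_iff.2 ⟨hq, not_le.1 h⟩))
  have maxB := sigma'_rank2_max hG maxM s'q rM hBM
  obtain ⟨R, maxR, sQR⟩ := max_normed_exists hq qQ nQA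
  have qCA : q ∣ Nat.card C[A] :=
    (dvd_card_of_isPGroup hq (qQ.to_le inf_le_left) ntCQ).trans (card_dvd_of_le' inf_le_right)
  obtain ⟨P', -, sAP', -, -, hc⟩ := max_normed_2Elem_signaliser hG (by omega : p ≠ q)
    excM.elemA.top (exceptional_pmaxElem hG maxM excM) maxR qCA (exceptional_w hG maxM excM)
  have := hc fun _ => ⟨B, hB.mono sQR, maxB.of_le (hB.le.trans sQR) le_top⟩
  exact ncQA (sQR.trans (cent_symm (sAP'.trans this)))

end Exc

end Cfsg.Agent.H88.SZ.H66
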