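import Cfsg.Agent.H88.ZMin
import Cfsg.Agent.H88.ZBG11
import Cfsg.Agent.H64.Rk
import Cfsg.Agent.H67.Elem

/-! Bender-Glauberman section 12: the sets `τᵢ(M)` and Lemma 12.1. -/

set_option autoImplicit false
set_option linter.unusedSectionVars false
set_option linter.unusedVariables false
set_option linter.unusedSectionVars false

namespace Cfsg.Agent.H88.SZ.H64

open Cfsg.Agent.H64

variable [Om]

open Cfsg Cfsg.Agent.H63 Cfsg.Agent.H66 Cfsg.Agent.H67 Subgroup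
open Cfsg.Agent.H88.SZ.H63 Cfsg.Agent.H88.SZ.H66 Cfsg.Agent.H88.SZ.H67

universe u

variable {G : Type u} [Group G] [Finite G]

/-! ### The sets `τᵢ(M)` -/

theorem mem_tau1_iff {M : Subgroup G} {p : ℕ} :
    p ∈ tau1 M ↔ p.Prime ∧ p ∉ sigma M ∧ rankP p M = 1 ∧ ¬ p ∣ Nat.card ↥⁅M, M⁆ := by
  constructor
  · rintro ⟨hp, h1, h2, h3, h4⟩
    have := (pRankLE_iff_rk hp).1 h4
    have := (rk_pos_iff hp).2 h2
    exact ⟨hp, h1, by omega, h3⟩
  · rintro ⟨hp, h1, h2, h3⟩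
    exact ⟨hp, h1, (rk_pos_iff hp).1 (by omega), h3, (pRankLE_iff_rk hp).2 h2.le⟩

theorem mem_tau2_iff {M : Subgroup G} {p : ℕ} :
    p ∈ tau2 M ↔ p.Prime ∧ p ∉ sigma M ∧ rankP p M = 2 := by
  constructor
  · rintro ⟨hp, h1, h2, h3⟩
    rw [pRankLE_iff_rk hp] at h2 h3
    exact ⟨hp, h1, by omega⟩
  · rintro ⟨hp, h1, h2⟩
    refine ⟨hp, h1, (pRankLE_iff_rk hp).2 h2.le, ?_⟩
    rw [pRankLE_iff_rk hp]; omega

theorem mem_tau3_iff {M : Subgroup G} {p : ℕ} :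
    p ∈ tau3 M ↔ p.Prime ∧ p ∉ sigma M ∧ rankP p M = 1 ∧ p ∣ Nat.card ↥⁅M, M⁆ := by
  constructor
  · rintro ⟨hp, h1, h2, h3⟩
    have := (pRankLE_iff_rk hp).1 h3
    have := (rk_pos_iff hp).2 (h2.trans (card_dvd_of_le (derived_normalIn M).1))
    exact ⟨hp, h1, by omega, h2⟩
  · rintro ⟨hp, h1, h2, h3⟩
    exact ⟨hp, h1, h3, (pRankLE_iff_rk hp).2 h2.le⟩

theorem tau1_prime {M : Subgroup G} {p : ℕ} (h : p ∈ tau1 M) : p.Prime := (mem_tau1_iff.1 h).1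
theorem tau2_prime {M : Subgroup G} {p : ℕ} (h : p ∈ tau2 M) : p.Prime := (mem_tau2_iff.1 h).1
theorem tau3_prime {M : Subgroup G} {p : ℕ} (h : p ∈ tau3 M) : p.Prime := (mem_tau3_iff.1 h).1
theorem tau1_not_sigma {M : Subgroup G} {p : ℕ} (h : p ∈ tau1 M) : p ∉ sigma M :=
  (mem_tau1_iff.1 h).2.1
theorem tau2_not_sigma {M : Subgroup G} {p : ℕ} (h : p ∈ tau2 M) : p ∉ sigma M :=
  (mem_tau2_iff.1 h).2.1
theorem tau3_not_sigma {M : Subgroup G} {p : ℕ} (h : p ∈ tau3 M) : p ∉ sigma M :=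
  (mem_tau3_iff.1 h).2.1
theorem tau1_rk {M : Subgroup G} {p : ℕ} (h : p ∈ tau1 M) : rankP p M = 1 :=
  (mem_tau1_iff.1 h).2.2.1
theorem tau2_rk {M : Subgroup G} {p : ℕ} (h : p ∈ tau2 M) : rankP p M = 2 :=
  (mem_tau2_iff.1 h).2.2
theorem tau3_rk {M : Subgroup G} {p : ℕ} (h : p ∈ tau3 M) : rankP p M = 1 :=
  (mem_tau3_iff.1 h).2.2.1
theorem tau1_not_dvd_der {M : Subgroup G} {p : ℕ} (h : p ∈ tau1 M) : ¬ p ∣ Nat.card ↥⁅M, M⁆ :=
  (mem_tau1_iff.1 h).2.2.2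
theorem tau3_dvd_der {M : Subgroup G} {p : ℕ} (h : p ∈ tau3 M) : p ∣ Nat.card ↥⁅M, M⁆ :=
  (mem_tau3_iff.1 h).2.2.2
theorem tau1_sub_pi {M : Subgroup G} {p : ℕ} (h : p ∈ tau1 M) : p ∣ Nat.card M :=
  (rk_pos_iff (tau1_prime h)).1 (by rw [tau1_rk h]; omega)
theorem tau2_sub_pi {M : Subgroup G} {p : ℕ} (h : p ∈ tau2 M) : p ∣ Nat.card M :=
  (rk_pos_iff (tau2_prime h)).1 (by rw [tau2_rk h]; omega)
theorem tau3_sub_pi {M : Subgroup G} {p : ℕ} (h : p ∈ tau3 M) : p ∣ Nat.card M :=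
  (rk_pos_iff (tau3_prime h)).1 (by rw [tau3_rk h]; omega)

theorem tau1J (g : G) (M : Subgroup G) : tau1 (cj g M) = tau1 M := by
  ext p
  rw [mem_tau1_iff, mem_tau1_iff, sigmaJ, ← cj_commutator, card_cj]
  exact and_congr_right fun hp => by rw [rk_cj hp]
theorem tau2J (g : G) (M : Subgroup G) : tau2 (cj g M) = tau2 M := by
  ext p
  rw [mem_tau2_iff, mem_tau2_iff, sigmaJ]
  exact and_congr_right fun hp => by rw [rk_cj hp]
theorem tau3J (g : G) (M : Subgroup G) : tau3 (cj g M) = tau3 M := by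
  ext p
  rw [mem_tau3_iff, mem_tau3_iff, sigmaJ, ← cj_commutator, card_cj]
  exact and_congr_right fun hp => by rw [rk_cj hp]

theorem tau2'1 {M : Subgroup G} {p : ℕ} (h : p ∈ tau1 M) : p ∉ tau2 M := fun h' => by
  have := tau1_rk h; have := tau2_rk h'; omega
theorem tau3'1 {M : Subgroup G} {p : ℕ} (h : p ∈ tau1 M) : p ∉ tau3 M := fun h' =>
  tau1_not_dvd_der h (tau3_dvd_der h')
theorem tau3'2 {M : Subgroup G} {p : ℕ} (h : p ∈ tau2 M) : p ∉ tau3 M := fun h' => by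
  have := tau2_rk h; have := tau3_rk h'; omega

theorem sigmaCompl_cj {M E E₁ E₂ E₃ : Subgroup G} (h : SigmaCompl M E E₁ E₂ E₃) (g : G) :
    SigmaCompl (cj g M) (cj g E) (cj g E₁) (cj g E₂) (cj g E₃) := by
  refine ⟨?_, ?_, ?_, ?_, ?_⟩
  · rw [sigmaJ]; exact hall_cj h.hallE g
  · rw [tau1J]; exact hall_cj h.hallE₁ g
  · rw [tau2J]; exact hall_cj h.hallE₂ g
  · rw [tau3J]; exact hall_cj h.hallE₃ g
  · rw [← cj_sup]; exact h.mul21.cj g

section Intro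

variable (hG : IsMinSimpleOddOrder G) {M : Subgroup G} (maxM : IsCoatom M)
include hG maxM

theorem ex_sigma_compl : ∃ E : Subgroup G, IsPiHallOf (sigma M)ᶜ E M :=
  exists_hall _ (mmax_sol hG maxM)

/-- Every `σ(M)'`-subgroup of `M` lies in a complement of `M_σ`. -/
theorem ex_sigma_compl_ge {X : Subgroup G} (sXM : X ≤ M) (s'X : IsPiSubgroup (sigma M)ᶜ X) :
    ∃ E : Subgroup G, IsPiHallOf (sigma M)ᶜ E M ∧ X ≤ E :=
  exists_hall_ge (mmax_sol hG maxM) sXM s'X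

theorem sigma'_rk_le_two {p : ℕ} (hp : p.Prime) (s'p : p ∉ sigma M) : rankP p M ≤ 2 := by
  by_contra h
  exact s'p (alpha_sub_sigma hG maxM (mem_alpha_iff.2 ⟨hp, by omega⟩))

theorem partition_pi_mmax {p : ℕ} (hp : p.Prime) :
    p ∣ Nat.card M ↔ p ∈ tau1 M ∨ p ∈ tau2 M ∨ p ∈ tau3 M ∨ p ∈ sigma M := by
  constructor
  · intro h
    by_cases sp : p ∈ sigma M
    · exact Or.inr (Or.inr (Or.inr sp))
    have h1 := sigma'_rk_le_two hG maxM hp sp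
    have h2 := (rk_pos_iff hp).2 h
    by_cases h3 : rankP p M = 2
    · exact Or.inr (Or.inl (mem_tau2_iff.2 ⟨hp, sp, h3⟩))
    by_cases h4 : p ∣ Nat.card ↥⁅M, M⁆
    · exact Or.inr (Or.inr (Or.inl (mem_tau3_iff.2 ⟨hp, sp, by omega, h4⟩)))
    · exact Or.inl (mem_tau1_iff.2 ⟨hp, sp, by omega, h4⟩)
  · rintro (h | h | h | h)
    exacts [tau1_sub_pi h, tau2_sub_pi h, tau3_sub_pi h, sigma_sub_pi h]

/-- The complements of `M_σ` in `M` are the Hall `σ(M)'`-subgroups. -/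
theorem sigma_compl_iff_sdp {E : Subgroup G} :
    IsPiHallOf (sigma M)ᶜ E M ↔ IsSdp (sigmaCore M) E M :=
  ⟨fun h => isSdp_of_normal_hall (Msigma_Hall hG maxM) (Msigma_normal M) h,
    fun h => hall_compl_of_isSdp (Msigma_Hall hG maxM) h⟩

theorem sigma_compl_of_isComplIn {E : Subgroup G} (hE : IsComplIn E (sigmaCore M) M) :
    IsPiHallOf (sigma M)ᶜ E M :=
  (sigma_compl_iff_sdp hG maxM).2 (isSdp_of_isComplIn' hE (hE.1.trans (Msigma_normal M).2))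

/-- B & G Lemma 12.1(g). -/
theorem tau2_not_beta {p : ℕ} (t2p : p ∈ tau2 M) :
    ¬ IsIdealPrime p G ∧ ∀ A : Subgroup G, ElemOf p 2 A M → MaxElemOf p A ⊤ := by
  have := Fact.mk (tau2_prime t2p)
  exact ⟨sigma'_rank2_beta' hG maxM (tau2_not_sigma t2p) (tau2_rk t2p),
    fun A hA => sigma'_rank2_max hG maxM (tau2_not_sigma t2p) (tau2_rk t2p) hA⟩

/-- A `p`-subgroup of `M` is cyclic when `r_p(M) = 1`. -/
theorem cyclic_of_rk1 {p : ℕ} (hp : p.Prime) (hr : rankP p M = 1) {P : Subgroup G} (sPM : P ≤ M)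
    (pP : IsPGroup p P) : IsCyclic P :=
  cyclic_of_rk_le_one' hp pP (mFT_odd hG P) ((rk_mono hp sPM).trans hr.le)

variable {E : Subgroup G} (hallE : IsPiHallOf (sigma M)ᶜ E M)
include hallE

theorem sigma_compl_sol : Group.IsSolvable E := mmax_sub_sol hG maxM (hall_le hallE)

theorem ex_tau13_compl :
    (∃ E₁ : Subgroup G, IsPiHallOf (tau1 M) E₁ E) ∧ ∃ E₃ : Subgroup G, IsPiHallOf (tau3 M) E₃ E :=
  ⟨exists_hall _ (sigma_compl_sol hG maxM hallE), exists_hall _ (sigma_compl_sol hG maxM hallE)⟩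

omit hG maxM hallE in
theorem isMul_tau21 {E₁ E₂ K : Subgroup G} (hK : IsPiSubgroup (tau1 M ∪ tau2 M) K)
    (hall1 : IsPiHallOf (tau1 M) E₁ K) (hall2 : IsPiHallOf (tau2 M) E₂ K) :
    IsMul E₂ E₁ (E₂ ⊔ E₁) := by
  have h : IsMul E₂ E₁ K := by
    refine isMul_hall_compl hall2 (hall_congr hall1 fun q hq hd => ⟨tau2'1, fun h => ?_⟩)
    exact (hK q hq hd).resolve_right h
  rw [h.sup]; exact h

theorem ex_tau2_compl {E₁ E₃ : Subgroup G} (hall1 : IsPiHallOf (tau1 M) E₁ E)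
    (hall3 : IsPiHallOf (tau3 M) E₃ E) : ∃ E₂ : Subgroup G, SigmaCompl M E E₁ E₂ E₃ := by
  have solE := sigma_compl_sol hG maxM hallE
  obtain ⟨K, hK, sE1K⟩ := exists_hall_ge (π := tau1 M ∪ tau2 M) solE (hall_le hall1)
    (isPi_mono (hall_isPi hall1) Set.subset_union_left)
  obtain ⟨E₂, h2⟩ := exists_hall (tau2 M) (H67.isSolvable_of_le solE (hall_le hK))
  exact ⟨E₂, hallE, hall1, hall_trans hK Set.subset_union_right h2, hall3,
    isMul_tau21 (hall_isPi hK) (hall_of_le hall1 sE1K (hall_le hK)) h2⟩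

/-- Any Hall `τ₂(M)`-subgroup of `E` is part of a `SigmaCompl`. -/
theorem ex_tau1_compl {E₂ : Subgroup G} (hall2 : IsPiHallOf (tau2 M) E₂ E) :
    ∃ E₁ E₃ : Subgroup G, SigmaCompl M E E₁ E₂ E₃ := by
  have solE := sigma_compl_sol hG maxM hallE
  obtain ⟨K, hK, sE2K⟩ := exists_hall_ge (π := tau1 M ∪ tau2 M) solE (hall_le hall2)
    (isPi_mono (hall_isPi hall2) Set.subset_union_right)
  obtain ⟨E₁, h1⟩ := exists_hall (tau1 M) (H67.isSolvable_of_le solE (hall_le hK))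
  obtain ⟨E₃, h3⟩ := exists_hall (tau3 M) solE
  exact ⟨E₁, E₃, hallE, hall_trans hK Set.subset_union_left h1, hall2, h3,
    isMul_tau21 (hall_isPi hK) h1 (hall_of_le hall2 sE2K (hall_le hK))⟩

theorem ex_sigmaCompl : ∃ E₁ E₂ E₃ : Subgroup G, SigmaCompl M E E₁ E₂ E₃ := by
  obtain ⟨⟨E₁, h1⟩, E₃, h3⟩ := ex_tau13_compl hG maxM hallE
  obtain ⟨E₂, h2⟩ := ex_tau2_compl hG maxM hallE h1 h3
  exact ⟨E₁, E₂, E₃, h2⟩

theorem coprime_sigma_compl : (Nat.card (sigmaCore M)).Coprime (Nat.card E) :=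
  isPi_coprime (Msigma_pi M) (hall_isPi hallE)

theorem pi_sigma_compl {p : ℕ} (hp : p.Prime) :
    p ∣ Nat.card E ↔ p ∣ Nat.card M ∧ p ∉ sigma M :=
  ⟨fun h => ⟨h.trans (card_dvd_of_le (hall_le hallE)), hall_isPi hallE p hp h⟩,
    fun h => prime_dvd_card_hall hallE hp h.2 h.1⟩

theorem sdprod_sigma : IsSdp (sigmaCore M) E M := (sigma_compl_iff_sdp hG maxM).1 hallE

theorem der1_sigma_compl : ⁅M, M⁆ ⊓ E = ⁅E, E⁆ := (sdprod_sigma hG maxM hallE).derived_inf_right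

theorem partition_pi_sigma_compl {p : ℕ} (hp : p.Prime) :
    p ∣ Nat.card E ↔ p ∈ tau1 M ∨ p ∈ tau2 M ∨ p ∈ tau3 M := by
  rw [pi_sigma_compl hG maxM hallE hp, partition_pi_mmax hG maxM hp]
  constructor
  · rintro ⟨h | h | h | h, h'⟩
    exacts [Or.inl h, Or.inr (Or.inl h), Or.inr (Or.inr h), absurd h h']
  · rintro (h | h | h)
    exacts [⟨Or.inl h, tau1_not_sigma h⟩, ⟨Or.inr (Or.inl h), tau2_not_sigma h⟩,
      ⟨Or.inr (Or.inr (Or.inl h)), tau3_not_sigma h⟩]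

omit hG maxM in
theorem sigma'_of_rk_pos {p : ℕ} (hp : p.Prime) (h : 0 < rankP p E) : p ∉ sigma M :=
  hall_isPi hallE p hp ((rk_pos_iff hp).1 h)

theorem tau2E {p : ℕ} : p ∈ tau2 M ↔ p.Prime ∧ rankP p E = 2 := by
  rw [mem_tau2_iff]
  refine and_congr_right fun hp => ⟨fun h => ?_, fun h => ?_⟩
  · rw [rk_hall hp hallE h.1, h.2]
  · have := sigma'_of_rk_pos hallE hp (by omega)
    exact ⟨this, by rw [← rk_hall hp hallE this, h]⟩

theorem dvd_der_sigma_compl {p : ℕ} (hp : p.Prime) (s'p : p ∉ sigma M) :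
    p ∣ Nat.card ↥⁅E, E⁆ ↔ p ∣ Nat.card ↥⁅M, M⁆ := by
  have h := hall_inf_normal' hallE (derived_normalIn M)
  rw [der1_sigma_compl hG maxM hallE] at h
  exact ⟨fun hd => hd.trans (card_dvd_of_le (hall_le h)), fun hd => prime_dvd_card_hall h hp s'p hd⟩

theorem tau3E {p : ℕ} : p ∈ tau3 M ↔ p.Prime ∧ p ∣ Nat.card ↥⁅E, E⁆ ∧ rankP p E = 1 := by
  rw [mem_tau3_iff]
  refine and_congr_right fun hp => ⟨fun h => ?_, fun h => ?_⟩
  · rw [rk_hall hp hallE h.1, dvd_der_sigma_compl hG maxM hallE hp h.1]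
    exact ⟨h.2.2, h.2.1⟩
  · have := sigma'_of_rk_pos hallE hp (by omega)
    rw [rk_hall hp hallE this, dvd_der_sigma_compl hG maxM hallE hp this] at h
    exact ⟨this, h.2, h.1⟩

theorem tau1E {p : ℕ} : p ∈ tau1 M ↔ p.Prime ∧ rankP p E = 1 ∧ ¬ p ∣ Nat.card ↥⁅E, E⁆ := by
  rw [mem_tau1_iff]
  refine and_congr_right fun hp => ⟨fun h => ?_, fun h => ?_⟩
  · rw [rk_hall hp hallE h.1, dvd_der_sigma_compl hG maxM hallE hp h.1]
    exact h.2
  · have := sigma'_of_rk_pos hallE hp (by omega)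
    rw [rk_hall hp hallE this, dvd_der_sigma_compl hG maxM hallE hp this] at h
    exact ⟨this, h⟩

theorem ex_tau2Elem {E₂ : Subgroup G} (hall2 : IsPiHallOf (tau2 M) E₂ E) (ntE₂ : E₂ ≠ ⊥) :
    ∃ p ∈ tau2 M, ∃ A : Subgroup G, ElemOf p 2 A E ∧ A ≤ E₂ := by
  obtain ⟨p, hp, hd⟩ := H67.exists_prime_dvd_card ntE₂
  have t2p := hall_isPi hall2 p hp hd
  have h := ((tau2E hG maxM hallE).1 t2p).2
  rw [← rk_hall hp hall2 t2p] at h
  obtain ⟨A, hA⟩ := rk_exists hp h.ge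
  exact ⟨p, t2p, A, el_mono hA (hall_le hall2), hA.1⟩

/-- For `p ∈ τ₂(M)` the complement `E` contains an elementary abelian subgroup of order `p ^ 2`. -/
theorem ex_tau2Elem_of_mem {p : ℕ} (t2p : p ∈ tau2 M) : ∃ A : Subgroup G, ElemOf p 2 A E :=
  rk_exists (tau2_prime t2p) ((tau2E hG maxM hallE).1 t2p).2.ge

theorem sigma'2Elem_tau2 {p : ℕ} [hp : Fact p.Prime] {A : Subgroup G} (hA : ElemOf p 2 A E) :
    p ∈ tau2 M := by
  have h1 := rk_ge hp.out hA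
  have h2 := sigma'_of_rk_pos hallE hp.out (by omega)
  have h3 := sigma'_rk_le_two hG maxM hp.out h2
  rw [rk_hall hp.out hallE h2] at h1
  exact mem_tau2_iff.2 ⟨hp.out, h2, by omega⟩

/-- B & G Lemma 12.1(a). -/
theorem der1_sigma_compl_nil : Group.IsNilpotent ↥⁅E, E⁆ := by
  have sEM := hall_le hallE
  have sE'E : ⁅E, E⁆ ≤ E := (derived_normalIn E).1
  have nMa : ⁅E, E⁆ ≤ N[alphaCore M] := (sE'E.trans sEM).trans (Malpha_normal M).2
  have ti : alphaCore M ⊓ ⁅E, E⁆ = ⊥ := by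
    rw [eq_bot_iff, ← (sdprod_sigma hG maxM hallE).inf]
    exact inf_le_inf (Malpha_sub_Msigma hG maxM) sE'E
  have h := H67.isNilpotent_of_le (Malpha_quo_nil hG maxM)
    (quo_mono (alphaCore M) (commutator_mono sEM sEM))
  exact Group.nilpotent_of_mulEquiv (quoEquivOfDisjoint nMa ti).symm

theorem tau13_nil_cyclic {X : Subgroup G} (sXE : X ≤ E) (nilX : Group.IsNilpotent X)
    (h : IsPiSubgroup (tau2 M)ᶜ X) : IsCyclic X := by
  refine cyclic_of_nil_of_rk_le_one nilX (mFT_odd hG X) fun p hp hd => ?_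
  have := rk_mono hp (sXE.trans (hall_le hallE))
  rcases (partition_pi_sigma_compl hG maxM hallE hp).1 (hd.trans (card_dvd_of_le sXE)) with
    h1 | h1 | h1
  · rw [tau1_rk h1] at this; exact this
  · exact absurd h1 (h p hp hd)
  · rw [tau3_rk h1] at this; exact this

end Intro

section Main

variable (hG : IsMinSimpleOddOrder G) {M : Subgroup G} (maxM : IsCoatom M)
include hG maxM

/-- B & G Lemma 12.1(b, c, d, e, f). -/
theorem sigma_compl_context {E E₁ E₂ E₃ : Subgroup G} (hE : SigmaCompl M E E₁ E₂ E₃) :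
    (E₃ ≤ ⁅E, E⁆ ∧ E₃ ⊴ E) ∧ (E₂ = ⊥ → E₁ ≠ ⊥) ∧ (IsCyclic E₁ ∧ IsCyclic E₃) ∧
      ((IsSdp E₂ E₁ (E₂ ⊔ E₁) ∧ IsSdp E₃ (E₂ ⊔ E₁) E) ∧
        (IsSdp E₃ E₂ (E₃ ⊔ E₂) ∧ IsSdp (E₃ ⊔ E₂) E₁ E)) ∧
      E₃ ⊓ C[E] = ⊥ := by
  obtain ⟨hallE, hall1, hall2, hall3, mul21⟩ := hE
  have sEM := hall_le hallE
  have solE := sigma_compl_sol hG maxM hallE
  have sE1 := hall_le hall1
  have sE2 := hall_le hall2
  have sE3 := hall_le hall3
  have nilE' := der1_sigma_compl_nil hG maxM hallE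
  have nsE' := derived_normalIn E
  have t1'E' : IsPiSubgroup (tau1 M)ᶜ ⁅E, E⁆ := fun p _ hd h =>
    ((tau1E hG maxM hallE).1 h).2.2 hd
  have tiE'E1 : ⁅E, E⁆ ⊓ E₁ = ⊥ := isPi_inf_eq_bot' t1'E' (hall_isPi hall1)
  have cE1 : IsMulCommutative E₁ := by
    rw [← derived_eq_bot_iff, eq_bot_iff, ← tiE'E1]
    exact le_inf (commutator_mono sE1 sE1) (derived_normalIn E₁).1
  have cycE1 : IsCyclic E₁ := tau13_nil_cyclic hG maxM hallE sE1
    (H3.isNilpotent_of_isMulCommutative) (isPi_mono (hall_isPi hall1) fun _ => tau2'1)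
  have sylE3 : ∀ p, p.Prime → p ∣ Nat.card E₃ → ∀ P, IsSyl p P E₃ →
      P ≤ ⁅E, E⁆ ∧ P ⊓ C[E] = ⊥ := by
    intro p hp hd P hP
    have := Fact.mk hp
    have t3p := hall_isPi hall3 p hp hd
    have sylP := syl_of_hall hall3 t3p hP
    have cycP := cyclic_of_rk1 hG maxM hp (tau3_rk t3p) ((hall_le sylP).trans sEM)
      (syl_isPGroup sylP)
    have h1 := cyclic_syl_le_der sylP cycP ((tau3E hG maxM hallE).1 t3p).2.1
    have h2 := abelian_syl_inf_der_cent sylP (isMulCommutative_of_isCyclic cycP)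
    rw [inf_eq_left.2 h1] at h2
    exact ⟨h1, h2⟩
  have sE3E' : E₃ ≤ ⁅E, E⁆ := le_of_forall_syl_le fun q hq hd => by
    have := Fact.mk hq
    obtain ⟨P, hP⟩ := exists_syl q E₃
    exact ⟨P, hP, (sylE3 q hq hd P hP).1⟩
  have nsE3 : E₃ ⊴ E := by
    rw [eq_piCoreOf_of_isNilpotent nilE' (hall_of_le hall3 sE3E' nsE'.1)]
    exact nsE'.piCoreOf _
  have cycE3 : IsCyclic E₃ := tau13_nil_cyclic hG maxM hallE sE3
    (H67.isNilpotent_of_le nilE' sE3E') (isPi_mono (hall_isPi hall3) fun _ h h' => tau3'2 h' h)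
  have regE3 : E₃ ⊓ C[E] = ⊥ := by
    by_contra hne
    obtain ⟨q, hq, hd⟩ := H67.exists_prime_dvd_card hne
    have := Fact.mk hq
    obtain ⟨X, hX⟩ := exists_el1 hq hd
    obtain ⟨P, hP, sXP⟩ := exists_syl_ge (hX.1.trans inf_le_left) (el_pgroup hX)
    apply el1_ne_bot hq hX
    rw [eq_bot_iff, ← (sylE3 q hq (hd.trans (card_dvd_of_le inf_le_left)) P hP).2]
    exact le_inf sXP (hX.1.trans inf_le_right)
  have sE21 : E₂ ⊔ E₁ ≤ E := sup_le sE2 sE1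
  have t21 : IsPiSubgroup (tau1 M ∪ tau2 M) (E₂ ⊔ E₁) :=
    mul21.isPi (isPi_mono (hall_isPi hall2) Set.subset_union_right)
      (isPi_mono (hall_isPi hall1) Set.subset_union_left)
  have hall21 : IsPiHallOf (tau3 M)ᶜ (E₂ ⊔ E₁) E := by
    refine hall_mk sE21 (isPi_mono t21 ?_) fun q hq hd => ?_
    · rintro q (h | h)
      exacts [tau3'1 h, tau3'2 h]
    · have h0 : q ∣ Nat.card E := hd.trans (relIndex_dvd_card _ _)
      have h1 := hall_relIndex hall1 q hq (hd.trans (relIndex_dvd_of_le_left _ le_sup_right))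
      have h2 := hall_relIndex hall2 q hq (hd.trans (relIndex_dvd_of_le_left _ le_sup_left))
      rcases (partition_pi_sigma_compl hG maxM hallE hq).1 h0 with h | h | h
      exacts [absurd h h1, absurd h h2, fun h' => h' h]
  have defE : IsSdp E₃ (E₂ ⊔ E₁) E := isSdp_of_normal_hall hall3 nsE3 hall21
  have nE2E1 : E₁ ≤ N[E₂] := by
    have h1 : ⁅E₂ ⊔ E₁, E₂ ⊔ E₁⁆ ≤ E₂ := by
      have nil' := H67.isNilpotent_of_le nilE' (commutator_mono sE21 sE21)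
      have hs := derived_normalIn (E₂ ⊔ E₁)
      have ht : IsPiSubgroup (tau2 M) ⁅E₂ ⊔ E₁, E₂ ⊔ E₁⁆ := fun q hq hd =>
        (t21 q hq (hd.trans (card_dvd_of_le hs.1))).resolve_left
          (t1'E' q hq (hd.trans (card_dvd_of_le (commutator_mono sE21 sE21))))
      exact le_hall_of_normalIn (hall_of_le hall2 le_sup_left sE21) hs ht
    exact le_sup_right.trans (le_normalizer_of_commutator_le h1 le_sup_left)
  have def21 : IsSdp E₂ E₁ (E₂ ⊔ E₁) := isSdp_sup nE2E1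
    (isPi_inf_eq_bot (hall_isPi hall2) (isPi_mono (hall_isPi hall1) fun _ => tau2'1))
  refine ⟨⟨sE3E', nsE3⟩, ?_, ⟨cycE1, cycE3⟩, ⟨⟨def21, defE⟩, defE.mono_right le_sup_left,
    defE.assoc_left def21⟩, regE3⟩
  rintro rfl rfl
  rw [bot_sup_eq] at defE
  have e3 : E₃ = E := defE.eq_of_bot_right
  have cE : E₃ ≤ C[E] := by
    rw [← e3]; exact le_cent_of_comm (isMulCommutative_of_isCyclic cycE3) le_rfl le_rfl
  rw [inf_eq_left.2 cE] at regE3
  have hE : E = ⊥ := e3.symm.trans regE3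
  have h := sdprod_sigma hG maxM hallE
  rw [hE] at h
  have h1 := Msigma_der1 hG maxM
  rw [h.eq_of_bot_right] at h1
  exact (H67.commutator_lt_of_isSolvable (mmax_sol hG maxM) (mmax_neq1 hG maxM)).not_ge h1

theorem sigma_compl_neq1 {E : Subgroup G} (hallE : IsPiHallOf (sigma M)ᶜ E M) : E ≠ ⊥ := by
  intro hE
  have h := sdprod_sigma hG maxM hallE
  rw [hE] at h
  have h1 := Msigma_der1 hG maxM
  rw [h.eq_of_bot_right] at h1
  exact (H67.commutator_lt_of_isSolvable (mmax_sol hG maxM) (mmax_neq1 hG maxM)).not_ge h1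

end Main

end Cfsg.Agent.H88.SZ.H64
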