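import Cfsg.Agent.H88.ZMin
import Cfsg.Agent.H88.ZBG7

/-! Bender-Glauberman section 8 (mathcomp names). -/

set_option autoImplicit false
set_option linter.unusedSectionVars false
set_option linter.unusedVariables false

namespace Cfsg.Agent.H88.SZ.H67

open Cfsg.Agent.H67

variable [Om]

open Subgroup Cfsg Cfsg.Agent.H63
open Cfsg.Agent.H88.SZ.H63

variable {G : Type*} [Group G] [Finite G]

section

variable (hG : IsMinSimpleOddOrder G)
include hG

/-- If `A ≤ F(M)` is normed-constrained with the same primes as `F(M)` and the transitive group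
is trivial, then `A` normalizes no nontrivial subgroup of coprime order. -/
theorem NormedConstrained.eq_bot_of_trans {M A Y : Subgroup G} (cstrA : NormedConstrained A)
    (maxM : IsCoatom M) (sAF : A ≤ fittingOf M)
    (piF : IsPiSubgroup (primesOf (Nat.card A)) (fittingOf M))
    (h0 : O[(primesOf (Nat.card A))ᶜ](C[A]) = ⊥)
    (tr : ∀ q : ℕ, q.Prime → ¬ q ∣ Nat.card A → MaxNormTrans O[(primesOf (Nat.card A))ᶜ](C[A]) A q)
    (hY : IsPiSubgroup (primesOf (Nat.card A))ᶜ Y) (nYA : A ≤ N[Y]) : Y = ⊥ := by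
  by_contra ntY
  obtain ⟨q, hq, hd⟩ := exists_prime_dvd_card ntY
  have : Fact q.Prime := ⟨hq⟩
  have q'A : ¬ q ∣ Nat.card A := fun h => hY q hq hd ⟨hq, h⟩
  obtain ⟨R, hR, nRA⟩ := coprime_syl_exists (p := q) nYA (isPi_coprime (isPi_primesOf A) hY)
    (Or.inl (mFT_sol hG cstrA.ne_top))
  have qw : q ∈ ϖ := cstrA.wq hq (syl_isPGroup hR) (syl_ne_bot hR hd) nRA
  obtain ⟨-, -, sub, -⟩ := normed_trans_superset hG cstrA hq q'A
    (subnormalIn_of_isNilpotent (fittingOf_nil M) sAF) piF (tr q hq q'A)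
  have tr' : MaxNormTrans ⊥ A q := h0 ▸ tr q hq q'A
  obtain ⟨Q, hQ, -⟩ := max_normed_exists (A := fittingOf M) hq IsPGroup.of_bot (le_normalizer_bot _)
  have qQ := maxInv_isPGroup hq hQ
  have nQM : M ≤ N[Q] := le_normalizer_of_cj fun m hm => tr'.eq_of_bot (sub hQ)
    (sub (maxInv_cj_of_mem_normalizer hQ (le_normalizer_fittingOf_self M hm)))
  have sQF : Q ≤ fittingOf M :=
    le_fittingOf ⟨le_mmax_of_norm hG maxM (mFT_pgroup_proper hG hq qQ) nQM, nQM⟩
      (isNilpotent_of_isPGroup hq qQ)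
  obtain rfl : Q = ⊥ :=
    isPi_eq_bot (isPi_of_le piF sQF) (isPi_compl_primesOf_of_isPGroup hq q'A qQ)
  exact syl_ne_bot hR hd (maxInv_eq_bot hq (sub hQ) (syl_isPGroup hR) nRA)

/-- B & G Theorem 8.1(a). -/
theorem non_pcore_Fitting_Uniqueness {p : ℕ} [Fact p.Prime] {M A₀ : Subgroup G} (maxM : IsCoatom M)
    (p'F : ¬ IsPGroup p (fittingOf M)) (maxA₀ : MaxElemOf p A₀ (fittingOf M))
    (hr : 3 ≤ rankP p A₀) : InUniqueMaximal (fittingOf M ⊓ C[A₀]) := by
  have hp : p.Prime := Fact.out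
  set F := fittingOf M with hF
  set A := F ⊓ C[A₀] with hA
  have solM := mmax_sol hG maxM
  have nilF : Group.IsNilpotent F := fittingOf_nil M
  have nsFM : F ⊴ M := fittingOf_normalIn M
  have sAF : A ≤ F := inf_le_left
  have sAM : A ≤ M := sAF.trans nsFM.le
  have sA₀A : A₀ ≤ A := le_inf maxA₀.le (elemAb_le_centralizer maxA₀.elemAb)
  have pF : p ∣ Nat.card F :=
    (dvd_card_of_le_rankP hr (by norm_num)).trans (card_dvd_of_le maxA₀.le)
  -- the subgroups `Z q = Z(F)_q`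
  let Z : ℕ → Subgroup G := fun q => O[{q}](M) ⊓ C[F]
  have qZ : ∀ q, q.Prime → IsPGroup q (Z q) := fun q hq => (isPGroup_pCoreOf hq M).to_le inf_le_left
  have sZA : ∀ q, q.Prime → Z q ≤ A := fun q hq =>
    le_inf (inf_le_left.trans (pCoreOf_le_fittingOf hq M))
      (inf_le_right.trans (centralizer_anti maxA₀.le))
  have cZA : ∀ q, A ≤ C[Z q] := fun q => cent_symm (inf_le_right.trans (centralizer_anti sAF))
  have ntZ : ∀ q, q.Prime → q ∣ Nat.card F → Z q ≠ ⊥ := fun q hq hd =>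
    inf_centralizer_ne_bot_of_isNilpotent nilF
      ((piCoreOf_normalIn _ M).of_le (pCoreOf_le_fittingOf hq M) nsFM.le)
      ((pCoreOf_ne_bot_iff hq).2 hd)
  have sCZM : ∀ q, q.Prime → q ∣ Nat.card F → C[Z q] ≤ M := fun q hq hd =>
    mmax_cent_le hG maxM ⟨inf_le_left.trans (piCoreOf_le _ M), le_normalizer_inf
      (le_normalizer_piCoreOf_self _ M) (le_normalizer_centralizer nsFM.norm)⟩ (ntZ q hq hd)
  have piF : IsPiSubgroup (primesOf (Nat.card A)) F := fun q hq hd =>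
    ⟨hq, (dvd_card_of_isPGroup hq (qZ q hq) (ntZ q hq hd)).trans (card_dvd_of_le (sZA q hq))⟩
  have alt : ∀ q : ℕ, ∃ r : ℕ, r.Prime ∧ r ∣ Nat.card F ∧ r ≠ q := by
    intro q
    by_cases hqp : p = q
    · by_contra hc
      push Not at hc
      exact p'F (isPGroup_of_isPi hp fun r hr hd => hqp ▸ hc r hr hd)
    · exact ⟨p, hp, pF, hqp⟩
  have p'Z : ∀ q r : ℕ, r.Prime → r ≠ q → IsPiSubgroup {q}ᶜ (Z r) := fun q r hr hne =>
    isPi_compl_of_isPGroup hr (qZ r hr) hne
  -- `A`-invariant `π'`-subgroups of `M` are trivial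
  have trivM : ∀ Y ≤ M, IsPiSubgroup (primesOf (Nat.card A))ᶜ Y → A ≤ N[Y] → Y = ⊥ := by
    intro Y sYM hY nYA
    have tiYF : Y ⊓ F = ⊥ := isPi_inf_eq_bot' hY piF
    have cYA : Y ≤ C[A] := le_cent_of_commutator_eq_bot (le_bot_iff.1 (tiYF ▸ le_inf
      (commutator_le_of_norm_left nYA) ((commutator_mono le_rfl sAF).trans
        (commutator_le_of_norm_right (sYM.trans nsFM.norm)))))
    have sAC : A ≤ F ⊓ C[Y] := le_inf sAF (cent_symm cYA)
    have cYF : Y ≤ C[F] := coprime_nil_faithful_cent_stab (sYM.trans nsFM.norm)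
      (isPi_coprime' hY piF) nilF
      ((inf_le_inf_left F (centralizer_anti (sA₀A.trans sAC))).trans sAC)
    exact le_bot_iff.1 (tiYF ▸ le_inf le_rfl (le_fittingOf_of_cent solM sYM cYF))
  -- `q'`-subgroups of `A` lie in `O_{q'}(X)`
  have star : ∀ q : ℕ, q.Prime → q ∣ Nat.card F → ∀ X, A ≤ X → Pr X → ∀ K ≤ A,
      IsPiSubgroup {q}ᶜ K → K ≤ O[{q}ᶜ](X) := fun q hq hd X sAX prX K sKA hK =>
    have : Fact q.Prime := ⟨hq⟩
    Aux.le_core_of_le_core (mFT_sol hG prX) ((sZA q hq).trans sAX) (qZ q hq)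
      (inf_le_right.trans (sCZM q hq hd)) (le_piCoreOf_of_le_fittingOf (sKA.trans sAF) hK)
      (sKA.trans sAX) (sKA.trans (cZA q))
  have cstrA : NormedConstrained A := by
    refine ⟨ne_bot_mono (ntZ p hp pF) (sZA p hp), sub_mmax_proper maxM sAM,
      fun X Y sAX prX sYX hY nYA => Aux.le_piCoreOf_compl_of_forall sYX fun q hq hπ => ?_,
      isPi_of_le (w_Fitting hG maxM) sAF, fun hq h1 h2 h3 => wp_of_normed hG hq
        (elemAb_comm maxA₀.elemAb) (not_isCyclic_of_two_le_rankP (le_trans (by norm_num) hr))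
        (isPi_of_le (w_Fitting hG maxM) maxA₀.le) h1 h2 (sA₀A.trans h3)⟩
    obtain ⟨r, hr, hd, hne⟩ := alt q
    have nYZ := (sZA r hr).trans nYA
    refine (coprime_cent_prod nYZ (isPi_coprime (isPi_of_le (isPi_primesOf A) (sZA r hr)) hY)
      (Or.inl (isSolvable_of_isPGroup hr (qZ r hr)))).le_of_le ?_ ?_
    · exact (commutator_mono le_rfl (star q hq (hπ.2.trans (card_dvd_of_le sAF)) X sAX prX _
        (sZA r hr) (p'Z q r hr hne))).trans
        (commutator_le_of_norm_right (sYX.trans (le_normalizer_piCoreOf_self _ X)))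
    · rw [trivM _ (inf_le_right.trans (sCZM r hr hd)) (isPi_of_le hY inf_le_left)
        (le_normalizer_inf nYA (le_normalizer_of_le (cZA r)))]
      exact bot_le
  have h0 : O[(primesOf (Nat.card A))ᶜ](C[A]) = ⊥ :=
    trivM _ ((piCoreOf_le _ _).trans ((centralizer_anti (sZA p hp)).trans (sCZM p hp pF)))
      (isPi_piCoreOf _ _) (le_normalizer_of_le_centralizer' (piCoreOf_le _ _))
  have rZA : 3 ≤ rank Z[A] :=
    hr.trans ((rankP_mono (le_inf sA₀A (cent_symm inf_le_right))).trans (rankP_le_rank _))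
  have triv : ∀ Y, IsPiSubgroup (primesOf (Nat.card A))ᶜ Y → A ≤ N[Y] → Y = ⊥ := fun Y hY nYA =>
    cstrA.eq_bot_of_trans hG maxM sAF piF h0
      (fun q hq q'A => normed_constrained_rank3_trans hG cstrA hq q'A rZA) hY nYA
  refine inU_of_forall maxM sAM fun H maxH sAH => ?_
  have solH := mmax_sol hG maxH
  have cZH : ∀ q : ℕ, q.Prime → q ≠ p → O[{q}](H) ≤ C[Z p] := by
    intro q hq hne
    by_cases hd : q ∣ Nat.card A
    · exact (piCoreOf_le_centralizer_compl {q} H).trans (centralizer_anti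
        (star q hq (hd.trans (card_dvd_of_le sAF)) H sAH maxH.1 _ (sZA p hp) (p'Z q p hp hne.symm)))
    · rw [triv _ (isPi_compl_primesOf_of_isPGroup hq hd (isPGroup_pCoreOf hq H))
        (sAH.trans (le_normalizer_piCoreOf_self _ H))]
      exact bot_le
  have sZH := (sZA p hp).trans sAH
  have ntDp : O[{p}](H) ≠ ⊥ := by
    intro h1
    have : Z p ≤ fittingOf H := le_fittingOf_of_cent solH sZH
      (cent_symm (fittingOf_le_of_forall fun q hq _ => by
        by_cases hqp : q = p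
        · rw [hqp, h1]; exact bot_le
        · exact cZH q hq hqp))
    exact ntZ p hp pF (le_bot_iff.1 (h1 ▸ le_pCoreOf_of_le_fittingOf hp this (qZ p hp)))
  have sCDH : C[O[{p}](H)] ≤ H := mmax_cent_le hG maxH (piCoreOf_normalIn _ H) ntDp
  have sDM : O[{p}](H) ≤ M := by
    obtain ⟨r, hr, hd, hne⟩ := alt p
    exact ((piCoreOf_le_centralizer_compl {p} H).trans (centralizer_anti
      (star p hp pF H sAH maxH.1 _ (sZA r hr) (p'Z p r hr hne)))).trans (sCZM r hr hd)
  have cZHp' : Z p ≤ C[O[{p}ᶜ](H)] := by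
    refine coprime_cent_of_cent_Fitting (sZH.trans (le_normalizer_piCoreOf_self _ H))
      (isPi_coprime (isPi_of_isPGroup hp (qZ p hp)) (isPi_piCoreOf _ H))
      (isSolvable_of_le solH (piCoreOf_le _ H))
      (cent_symm (fittingOf_le_of_forall fun q hq hd => ?_))
    exact (piCoreOf_le_of_normalIn (piCoreOf_normalIn _ H)).trans (cZH q hq
      (isPi_piCoreOf {p}ᶜ H q hq (hd.trans (card_dvd_of_le (fittingOf_le _)))))
  have sHM : O[{p}ᶜ](H) ≤ O[{p}ᶜ](M) :=
    Aux.le_core_of_le_core solM sDM (isPGroup_pCoreOf hp H) (inf_le_right.trans sCDH) le_rfl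
      ((cent_symm cZHp').trans (sCZM p hp pF)) (piCoreOf_compl_le_centralizer {p} H)
  have cDMp' : O[{p}](H) ≤ C[O[{p}ᶜ](M)] := by
    refine coprime_cent_of_cent_Fitting (sDM.trans (le_normalizer_piCoreOf_self _ M))
      (isPi_coprime (isPi_piCoreOf _ H) (isPi_piCoreOf _ M))
      (isSolvable_of_le solM (piCoreOf_le _ M)) ?_
    rw [← piCoreOf_fittingOf]
    refine (piCoreOf_le_centralizer_compl {p} H).trans (centralizer_anti
      (star p hp pF H sAH maxH.1 _ (le_inf (piCoreOf_le _ _) ?_) (isPi_piCoreOf _ _)))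
    exact (piCoreOf_compl_le_centralizer {p} F).trans (centralizer_anti
      (le_piCoreOf_of_isNilpotent nilF maxA₀.le (isPi_of_isPGroup hp maxA₀.isPGroup)))
  have sMH : O[{p}ᶜ](M) ≤ O[{p}ᶜ](H) :=
    Aux.le_core_of_le_core solH sZH (qZ p hp) (inf_le_right.trans (sCZM p hp pF)) le_rfl
      ((cent_symm cDMp').trans sCDH)
      ((piCoreOf_compl_le_centralizer {p} M).trans (centralizer_anti inf_le_left))
  have ntM : O[{p}ᶜ](M) ≠ ⊥ := fun h1 =>
    p'F (by rw [hF, fittingOf_eq_pCoreOf hp h1]; exact isPGroup_pCoreOf hp M)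
  rw [← mmax_normal hG maxH (piCoreOf_normalIn {p}ᶜ H) (ne_bot_mono ntM sMH),
    le_antisymm sHM sMH, mmax_normal hG maxM (piCoreOf_normalIn {p}ᶜ M) ntM]

/-- If `O_{p'}(M) = 1` then `N(Z(L(P))) = M` for a Sylow `p`-subgroup `P` of `M`. -/
theorem mmax_norm_pZL {p : ℕ} [Fact p.Prime] {M P : Subgroup G} (maxM : IsCoatom M)
    (h0 : O[{p}ᶜ](M) = ⊥) (sylP : IsSyl p P M) : N[H64.pZL P] = M := by
  have hp : p.Prime := Fact.out
  have solM := mmax_sol hG maxM
  have ntP : P ≠ ⊥ := ne_bot_mono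
    (pCoreOf_ne_bot_of_pPrimeCoreOf_eq_bot hp solM (mmax_neq1 hG maxM) h0) (piCoreOf_le_hall sylP)
  have := isNilpotent_of_isPGroup hp (syl_isPGroup sylP)
  exact mmax_normal hG maxM (H64.Puig_center_normal (mFT_odd hG M) solM sylP h0)
    (H64.pZL_ne_bot P ntP)

theorem mmax_norm_syl_le_of_core_eq_bot {p : ℕ} [Fact p.Prime] {M P : Subgroup G}
    (maxM : IsCoatom M) (h0 : O[{p}ᶜ](M) = ⊥) (sylP : IsSyl p P M) : N[P] ≤ M :=
  mmax_norm_pZL hG maxM h0 sylP ▸ H64.normalizer_le_normalizer_pZL P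

/-- The standard maximal-intersection argument: to prove that `M` is the only maximal subgroup
containing the nontrivial `p`-subgroup `B`, it suffices to treat overgroups `R` of `B` with
`N(R) ≤ M` that are Sylow in the other maximal subgroup. -/
theorem uniqMax_of_syl {p : ℕ} [Fact p.Prime] {M B : Subgroup G} (maxM : IsCoatom M) (sBM : B ≤ M)
    (pB : IsPGroup p B) (ntB : B ≠ ⊥) (hN : ∀ P, IsSyl p P M → B ≤ P → N[P] ≤ M)
    (h : ∀ H R, IsCoatom H → B ≤ R → R ≤ M → IsSyl p R H → N[R] ≤ M → H = M)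
    (hw : p ∈ ϖ := by w_tac) : UniqMax B M := by
  have hp : p.Prime := Fact.out
  have key : ∀ R : Subgroup G, B ≤ R → R ≤ M → IsPGroup p R → UniqMax R M := by
    intro R
    induction R using subgroup_induction_gt with
    | _ R ih =>
    intro sBR sRM pR
    refine uniqMax_of_forall maxM sRM fun H maxH sRH => ?_
    obtain ⟨R', sylR', sRR'⟩ := exists_syl_ge (le_inf sRH sRM) pR
    rcases sRR'.lt_or_eq with hlt | rfl
    · exact (ih R' hlt (sBR.trans sRR') (sylR'.1.trans inf_le_right) (syl_isPGroup sylR')).eq maxH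
        (sylR'.1.trans inf_le_left)
    have sNM : N[R] ≤ M := by
      by_cases hs : IsSyl p R M
      · exact hN R hs sBR
      · obtain ⟨Q, hlt, sQ, pQ⟩ := exists_lt_pgroup_normalizer sRM pR hs
        exact (ih Q hlt (sBR.trans hlt.le) (sQ.trans inf_le_left) pQ).sub (sQ.trans inf_le_right)
          (mFT_norm_proper hG (ne_bot_mono ntB sBR) (mFT_pgroup_proper hG hp pR))
    exact h H R maxH sBR sRM (syl_of_normalizer_le sylR' inf_le_left (inf_le_inf_left H sNM)) sNM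
  exact key B le_rfl sBM pB

/-- B & G Theorem 8.1(b). -/
theorem SCN_Fitting_Uniqueness {p : ℕ} [Fact p.Prime] {M P A : Subgroup G} (maxM : IsCoatom M)
    (pF : IsPGroup p (fittingOf M)) (sylP : IsSyl p P M) (hr : 3 ≤ rankP p (fittingOf M))
    (scnA : IsSCNn 3 P A) : IsSyl p P ⊤ ∧ A ≤ fittingOf M ∧ InUniqueMaximal A := by
  have hw : p ∈ ϖ := wp_of_rankP hG (sub_mmax_proper maxM (fittingOf_le M)) (le_trans (by norm_num) hr)
  have hp : p.Prime := Fact.out
  have solM := mmax_sol hG maxM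
  have h0 : O[{p}ᶜ](M) = ⊥ := pPrimeCoreOf_eq_bot_of_fittingOf hp solM pF
  have sylPG := syl_top_of_normalizer_le sylP (mmax_norm_syl_le_of_core_eq_bot hG maxM h0 sylP)
  have pA : IsPGroup p A := (syl_isPGroup sylP).to_le scnA.1.1
  have sAM : A ≤ M := scnA.1.1.trans sylP.1
  have sAF : A ≤ fittingOf M :=
    (H64.odd_abelian_le_pCoreOf (mFT_odd hG M) solM h0 sylP sAM (scn_comm scnA.1) scnA.1.2.1).trans
      (pCoreOf_le_fittingOf hp M)
  refine ⟨sylPG, sAF, UniqMax.inU (M := M) ?_⟩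
  have cstrA := SCN_normed_constrained hG sylPG (scnA.of_le (by norm_num : 2 ≤ 3))
  have hπ := primesOf_eq_of_isPGroup hp pA cstrA.ne_bot
  have sCAM : C[A] ≤ M := by
    refine (centralizer_anti (scn_le_of_cent scnA.1 ?_ ?_)).trans (mmax_cent_le hG maxM
      (fittingOf_normalIn M).center (center_ne_bot_of_isNilpotent (fittingOf_nil M)
        (ne_bot_mono cstrA.ne_bot sAF)))
    · exact inf_le_left.trans (le_syl_of_normalIn sylP (fittingOf_normalIn M) pF)
    · exact inf_le_right.trans (centralizer_anti sAF)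
  have triv : ∀ Y, IsPiSubgroup {p}ᶜ Y → A ≤ N[Y] → Y = ⊥ := fun Y hY nYA => by
    refine cstrA.eq_bot_of_trans hG maxM sAF (hπ ▸ isPi_of_isPGroup hp pF) ?_ (fun q hq q'A => ?_)
      (hπ ▸ hY) nYA
    · rw [hπ, ← le_bot_iff, ← h0]
      exact Aux.scn_le_core solM sylP scnA.1 ((piCoreOf_le _ _).trans sCAM) (piCoreOf_le _ _)
        (isPi_piCoreOf _ _)
    · rw [hπ]
      exact Thompson_transitivity hG hq
        (fun h => q'A (h ▸ dvd_card_of_isPGroup hp pA cstrA.ne_bot)) ⟨hw, P, sylPG, scnA⟩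
  refine uniqMax_of_syl hG maxM sAM pA cstrA.ne_bot
    (fun R hR _ => mmax_norm_syl_le_of_core_eq_bot hG maxM h0 hR) fun H R maxH sAR sRM sylR _ => ?_
  have h1 : O[{p}ᶜ](H) = ⊥ :=
    triv _ (isPi_piCoreOf _ H) ((sAR.trans sylR.1).trans (le_normalizer_piCoreOf_self _ H))
  have sylRG := syl_top_of_normalizer_le sylR (mmax_norm_syl_le_of_core_eq_bot hG maxH h1 sylR)
  rw [← mmax_norm_pZL hG maxH h1 sylR, mmax_norm_pZL hG maxM h0 (hall_of_le sylRG sRM le_top)]

/-- The two branches of B & G Theorem 8.1 combined. -/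
theorem Fitting_Uniqueness {M : Subgroup G} (maxM : IsCoatom M) (hr : 3 ≤ rank (fittingOf M)) :
    InUniqueMaximal (fittingOf M) := by
  have prF := sub_mmax_proper maxM (fittingOf_le M)
  obtain ⟨p, hp, hr⟩ := le_rank_iff.1 hr
  have : Fact p.Prime := ⟨hp⟩
  by_cases pF : IsPGroup p (fittingOf M)
  · obtain ⟨P, sylP, sFP⟩ := exists_syl_ge (fittingOf_le M) pF
    obtain ⟨A, scnA⟩ := Aux.exists_scn3 (mFT_prime_ne_two hG (dvd_card_of_le_rankP hr (by norm_num)))
      (syl_isPGroup sylP) (hr.trans (rankP_mono sFP))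
    obtain ⟨-, sAF, uA⟩ := SCN_Fitting_Uniqueness hG maxM pF sylP hr scnA
    exact uniq_mmaxS sAF prF uA
  · obtain ⟨E, hE⟩ := exists_elemOf_of_le_rankP hr
    obtain ⟨A₀, maxA₀, sEA⟩ := exists_maxElemOf_ge hE.elemAb hE.le
    exact uniq_mmaxS inf_le_left prF
      (non_pcore_Fitting_Uniqueness hG maxM pF maxA₀ (hE.of_le sEA).le_rankP)

end

end Cfsg.Agent.H88.SZ.H67
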