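import Cfsg.Agent.H88.ZMin
import Cfsg.Agent.H88.ZBG8
import Cfsg.Agent.H71.BG4

/-! Bender-Glauberman section 9 (mathcomp names). -/

set_option autoImplicit false
set_option linter.unusedSectionVars false
set_option linter.unusedVariables false

namespace Cfsg.Agent.H88.SZ.H67

open Cfsg.Agent.H67

variable [Om]

open Subgroup Cfsg Cfsg.Agent.H63
open Cfsg.Agent.H88.SZ.H63

variable {G : Type*} [Group G] [Finite G]

section

variable (hG : IsMinSimpleOddOrder G)
include hG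

/-- B & G Theorem 9.1(b). -/
theorem noncyclic_normed_sub_Uniqueness {p : ℕ} [Fact p.Prime] {M B : Subgroup G}
    (maxM : IsCoatom M) (sBM : B ≤ M) (abelB : IsElementaryAbelian p B) (ncycB : ¬ IsCyclic B)
    (h : ∀ K : Subgroup G, IsPiSubgroup {p}ᶜ K → B ≤ N[K] → K ≤ M) : InUniqueMaximal B := by
  have hp : p.Prime := Fact.out
  have ntB : B ≠ ⊥ := by
    rintro rfl
    exact ncycB inferInstance
  have hw : p ∈ ϖ := wp_of_noncyclic hG (elemAb_isPGroup abelB) (sub_mmax_proper maxM sBM) ncycB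
  refine (uniqMax_of_syl hG maxM sBM (elemAb_isPGroup abelB) ntB (fun P sylP sBP => ?_)
    fun H R maxH sBR sRM sylR sNM => ?_).inU
  · by_cases h0 : O[{p}ᶜ](M) = ⊥
    · exact mmax_norm_syl_le_of_core_eq_bot hG maxM h0 sylP
    rw [← mmax_normal hG maxM (piCoreOf_normalIn {p}ᶜ M) h0]
    intro g hg
    have nKP : P ≤ N[cj g O[{p}ᶜ](M)] := by
      rw [← cj_normalizer, ← cj_eq_self hg]
      exact cj_mono (sylP.1.trans (le_normalizer_piCoreOf_self _ M))
    have p'K := isPi_cj (isPi_piCoreOf {p}ᶜ M) g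
    exact mem_normalizer_of_cj_le (Aux.le_core_of_syl_norm (mmax_sol hG maxM) sylP
      (h _ p'K (sBP.trans nKP)) p'K nKP)
  · have nKR : R ≤ N[O[{p}ᶜ](H)] := sylR.1.trans (le_normalizer_piCoreOf_self _ H)
    have sKM : O[{p}ᶜ](H) ≤ M := h _ (isPi_piCoreOf _ H) (sBR.trans nKR)
    have sFN : fittingOf H ≤ R ⊔ O[{p}ᶜ](H) :=
      (fittingOf_le_pCoreOf_sup hp H).trans (sup_le_sup_right (piCoreOf_le_hall sylR) _)
    have sNM' : R ⊔ O[{p}ᶜ](H) ≤ M := sup_le sRM sKM
    by_cases hr : 3 ≤ rank (fittingOf H)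
    · exact eq_of_inU (Fitting_Uniqueness hG maxH hr) maxH (fittingOf_le H) maxM (sFN.trans sNM')
    have sNH : R ⊔ O[{p}ᶜ](H) ≤ H := sup_le sylR.1 (piCoreOf_le _ H)
    have nsN := normalIn_of_derived_le ((H71.rank2_der1_sub_Fitting (mFT_odd hG H)
      (mmax_sol hG maxH) (by omega)).trans sFN) sNH
    exact eq_mmax maxH maxM ((frattini_isMul nsN (hall_of_le sylR le_sup_left sNH)).le_of_le sNM'
      (inf_le_right.trans sNM))

/-- B & G Theorem 9.1(a). -/
theorem noncyclic_cent1_sub_Uniqueness {p : ℕ} [Fact p.Prime] {M B : Subgroup G}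
    (maxM : IsCoatom M) (sBM : B ≤ M) (abelB : IsElementaryAbelian p B) (ncycB : ¬ IsCyclic B)
    (h : ∀ b ∈ B, b ≠ 1 → C1[b] ≤ M) : InUniqueMaximal B :=
  noncyclic_normed_sub_Uniqueness hG maxM sBM abelB ncycB fun _ p'K nKB =>
    coprime_abelian_gen_cent1 (elemAb_comm abelB) ncycB nKB
      (isPi_coprime (isPi_of_isPGroup Fact.out (elemAb_isPGroup abelB)) p'K)
      fun b hb h1 => inf_le_right.trans (h b hb h1)

/-- B & G Corollary 9.2. -/
theorem cent_uniq_Uniqueness {K L : Subgroup G} (uL : InUniqueMaximal L) (cKL : K ≤ C[L])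
    (hr : 2 ≤ rank K) : InUniqueMaximal K := by
  obtain ⟨M, uM⟩ := exists_uniqMax uL
  obtain ⟨p, hp, B, hB⟩ := exists_elemOf_of_le_rank hr
  have : Fact p.Prime := ⟨hp⟩
  have sKM : K ≤ M := cKL.trans (uniq_mmax_cent_sub hG uM)
  exact uniq_mmaxS hB.le (sub_mmax_proper uM.max sKM)
    (noncyclic_cent1_sub_Uniqueness hG uM.max (hB.le.trans sKM) hB.elemAb (hB.not_isCyclic le_rfl)
      fun b hb h1 => cent1_le_of_uniq hG uM h1 (cKL (hB.le hb)))

/-- B & G Corollary 9.3. -/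
theorem any_cent_rank3_Uniquness {p : ℕ} [Fact p.Prime] {A B : Subgroup G}
    (cAA : IsMulCommutative A) (pA : IsPGroup p A) (rA : 3 ≤ rank A) (uA : InUniqueMaximal A)
    (pB : IsPGroup p B) (ncycB : ¬ IsCyclic B) (rCB : 3 ≤ rankP p C[B]) : InUniqueMaximal B := by
  obtain ⟨C, hC⟩ := exists_elemOf_of_le_rankP rCB
  have h2 : p ≠ 2 := wp_ne_two hG (wp_of_rankP hG (inU_proper uA)
    (by rw [← rank_pgroup pA]; omega))
  obtain ⟨P, sylP, sCP⟩ := exists_syl_ge (le_top : C ≤ ⊤) hC.isPGroup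
  have pP := syl_isPGroup sylP
  obtain ⟨g, -, sAP⟩ := exists_cj_le_syl sylP le_top pA
  obtain ⟨D, hD, nsD⟩ := Aux.exists_normal_elemOf_two h2 pP ((hC.of_le sCP).not_isCyclic' (by norm_num))
  have r2 : ∀ E ≤ P, 3 ≤ rankP p E → 2 ≤ rank (E ⊓ C[D]) := fun E sEP hr => by
    have := Aux.rankP_le_cent_succ (pP.to_le sEP) hD (sEP.trans nsD.norm)
    exact le_trans (by omega) (rankP_le_rank (p := p) _)
  have u1 : InUniqueMaximal (cj g A ⊓ C[D]) :=
    cent_uniq_Uniqueness hG (inU_cj uA g) (inf_le_left.trans (le_centralizer_iff_isMulCommutative.2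
      (isMulCommutative_cj_iff.2 cAA))) (r2 _ sAP (by rwa [rankP_cj, ← rank_pgroup pA]))
  have u2 : InUniqueMaximal D := cent_uniq_Uniqueness hG u1 (cent_symm inf_le_right) hD.rank_eq.ge
  have u3 : InUniqueMaximal (C ⊓ C[D]) :=
    cent_uniq_Uniqueness hG u2 inf_le_right (r2 _ sCP hC.rankP_eq.ge)
  have u4 : InUniqueMaximal C := cent_uniq_Uniqueness hG u3
    (hC.le_centralizer.trans (centralizer_anti inf_le_left)) (by rw [hC.rank_eq]; norm_num)
  exact cent_uniq_Uniqueness hG u4 (cent_symm hC.le)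
    ((Aux.two_le_rankP_of_odd h2 pB ncycB).trans (rankP_le_rank _))

/-- B & G Lemma 9.4. -/
theorem any_rank3_Fitting_Uniqueness {p : ℕ} [Fact p.Prime] {M P : Subgroup G} (maxM : IsCoatom M)
    (rF : 3 ≤ rankP p (fittingOf M)) (pP : IsPGroup p P) (rP : 3 ≤ rank P) :
    InUniqueMaximal P := by
  have hp : p.Prime := Fact.out
  have hw : p ∈ ϖ :=
    wp_of_rankP hG (sub_mmax_proper maxM (fittingOf_le M)) (le_trans (by norm_num) rF)
  rw [rank_pgroup pP] at rP
  obtain ⟨B, hB⟩ := exists_elemOf_of_le_rankP rP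
  refine uniq_mmaxS hB.le (mFT_pgroup_proper hG hp pP) ?_
  suffices ∃ A : Subgroup G, IsMulCommutative A ∧ IsPGroup p A ∧ 3 ≤ rank A ∧ InUniqueMaximal A by
    obtain ⟨A, cAA, pA, rA, uA⟩ := this
    exact any_cent_rank3_Uniquness hG cAA pA rA uA hB.isPGroup (hB.not_isCyclic (by norm_num))
      (hB.of_le hB.le_centralizer).le_rankP
  by_cases pF : IsPGroup p (fittingOf M)
  · obtain ⟨S, sylS, sFS⟩ := exists_syl_ge (fittingOf_le M) pF
    obtain ⟨A, scnA⟩ := Aux.exists_scn3 (mFT_prime_ne_two hG (dvd_card_of_le_rankP rF (by norm_num)))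
      (syl_isPGroup sylS) (rF.trans (rankP_mono sFS))
    exact ⟨A, scn_comm scnA.1, (syl_isPGroup sylS).to_le scnA.1.1, scnA.2,
      (SCN_Fitting_Uniqueness hG maxM pF sylS rF scnA).2.2⟩
  · obtain ⟨E, hE⟩ := exists_elemOf_of_le_rankP rF
    obtain ⟨A, maxA, sEA⟩ := exists_maxElemOf_ge hE.elemAb hE.le
    have rA : 3 ≤ rank A := (hE.of_le sEA).le_rank
    exact ⟨A, elemAb_comm maxA.elemAb, maxA.isPGroup, rA, cent_uniq_Uniqueness hG
      (non_pcore_Fitting_Uniqueness hG maxM pF maxA (hE.of_le sEA).le_rankP)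
      (cent_symm inf_le_right) (by omega)⟩

/-- If `F(M)` has `q`-rank at least three then `M` is the only maximal overgroup of `O_q(M)`. -/
theorem uniqMax_pCore_of_rank3 {q : ℕ} [Fact q.Prime] {M : Subgroup G} (maxM : IsCoatom M)
    (rF : 3 ≤ rankP q (fittingOf M)) : UniqMax O[{q}](M) M :=
  def_uniq_mmax (any_rank3_Fitting_Uniqueness hG maxM rF (isPGroup_pCoreOf Fact.out M)
    ((rF.trans_eq (rankP_fittingOf M)).trans (rankP_le_rank _))) maxM (piCoreOf_le _ M)

/-- First step of B & G Lemma 9.5: a prime `q ≠ p` such that every `q`-group over `O_q(M)` has its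
normalizer in `M`. -/
theorem exists_prime_norm_le_mmax {p : ℕ} [Fact p.Prime] {M : Subgroup G} (maxM : IsCoatom M)
    (rG : 3 ≤ rankP p (⊤ : Subgroup G)) (rF : rankP p (fittingOf M) ≤ 2) :
    ∃ q : ℕ, q.Prime ∧ q ≠ p ∧ ∀ Q : Subgroup G, IsPGroup q Q → O[{q}](M) ≤ Q → N[Q] ≤ M := by
  by_cases hr : 3 ≤ rank (fittingOf M)
  · obtain ⟨q, hq, hr⟩ := le_rank_iff.1 hr
    have : Fact q.Prime := ⟨hq⟩
    have hw : q ∈ ϖ :=
      wp_of_rankP hG (sub_mmax_proper maxM (fittingOf_le M)) (le_trans (by norm_num) hr)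
    have uM := uniqMax_pCore_of_rank3 hG maxM hr
    refine ⟨q, hq, by rintro rfl; omega, fun Q qQ sQ => ?_⟩
    exact norm_le_of_uniq_norm hG uM (ne_bot_mono (uniq_mmax_neq1 hG uM.inU) sQ)
      (mFT_pgroup_proper hG hq qQ) (le_normalizer_of_le sQ)
  · have hne : (Nat.card M).primeFactors.Nonempty := by
      obtain ⟨q, hq, hd⟩ := exists_prime_dvd_card (mmax_neq1 hG maxM)
      exact ⟨q, Nat.mem_primeFactors.2 ⟨hq, hd, Nat.card_pos.ne'⟩⟩
    obtain ⟨hq, hd, -⟩ := Nat.mem_primeFactors.1 ((Nat.card M).primeFactors.max'_mem hne)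
    set q := (Nat.card M).primeFactors.max' hne
    have : Fact q.Prime := ⟨hq⟩
    have sylM : IsSyl q O[{q}](M) M :=
      H71.rank2_max_pcore_Sylow (mFT_odd hG M) (mmax_sol hG maxM) (by omega) fun r hr hd =>
        Finset.le_max' _ r (Nat.mem_primeFactors.2 ⟨hr, hd, Nat.card_pos.ne'⟩)
    have hN := mmax_normal hG maxM (piCoreOf_normalIn {q} M) (syl_ne_bot sylM hd)
    have sylG := syl_top_of_normalizer_le sylM hN.le
    refine ⟨q, hq, fun hqp => ?_, fun Q qQ sQ => ?_⟩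
    · rw [hqp] at sylG
      rw [← rankP_syl sylG, ← rankP_fittingOf] at rG
      omega
    · rw [syl_eq_of_le sylG qQ sQ le_top, hN]

/-- B & G Lemma 9.5. -/
theorem SCN_3_Uniqueness {p : ℕ} [Fact p.Prime] {A : Subgroup G} (scnA : IsSCNp 3 p A) :
    InUniqueMaximal A := by
  have hp : p.Prime := Fact.out
  by_contra uA'
  have pA := scnA.isPGroup
  have rA := scnA.le_rankP
  have cAA : A ≤ C[A] := le_centralizer_iff_isMulCommutative.2 scnA.comm
  have trA := fun q hq hne => Thompson_transitivity hG (q := q) hq hne scnA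
  obtain ⟨hw, P, sylP, scnP⟩ := scnA
  have pP := syl_isPGroup sylP
  have sAP : A ≤ P := scnP.1.1
  have cstrA := SCN_normed_constrained hG sylP (scnP.of_le (by norm_num : 2 ≤ 3))
  have ntA := cstrA.ne_bot
  have prA := cstrA.ne_top
  have hπ := primesOf_eq_of_isPGroup hp pA ntA
  have FmCAp_le2 : ∀ M, IsCoatom M → rankP p (fittingOf M) ≤ 2 := fun M maxM => by
    by_contra hc
    exact uA' (any_rank3_Fitting_Uniqueness hG maxM (by omega) pA scnP.2)
  have sNP_mCA : ∀ M, IsCoatom M → C[A] ≤ M → N[P] ≤ M := by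
    intro M maxM sCAM
    have sNR_M : ∀ R, A ≤ R → R ≤ P → R ≤ M → N[R] ≤ M := by
      intro R sAR sRP sRM
      obtain ⟨q, hq, hne, hN⟩ := exists_prime_norm_le_mmax hG maxM
        (rA.trans (rankP_mono le_top)) (FmCAp_le2 M maxM)
      obtain ⟨Q, maxQ, sQ⟩ := max_normed_exists hq (isPGroup_pCoreOf hq M)
        (sRM.trans (le_normalizer_piCoreOf_self _ M))
      have pR := pP.to_le sRP
      have q'A : ¬ q ∣ Nat.card A := fun hd => hne (by
        have : q ∈ primesOf (Nat.card A) := ⟨hq, hd⟩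
        rwa [hπ] at this)
      obtain ⟨-, -, -, h4⟩ := normed_trans_superset hG cstrA hq q'A
        (subnormalIn_of_isNilpotent (isNilpotent_of_isPGroup hp pR) sAR)
        (hπ ▸ isPi_of_isPGroup hp pR) (hπ ▸ trA q hq hne)
      exact (h4 Q maxQ).2.le_of_le ((piCoreOf_le _ _).trans ((centralizer_anti sAR).trans sCAM))
        (inf_le_right.trans (hN Q (maxInv_isPGroup hq maxQ) sQ))
    have sNA : N[A] ≤ M := sNR_M A le_rfl sAP (cAA.trans sCAM)
    exact sNR_M P sAP le_rfl ((scn_normalIn scnP.1).norm.trans sNA)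
  set P₀ := ⁅P, N[P]⁆ with hP₀
  have sP₀P : P₀ ≤ P := commutator_le_of_norm_left le_rfl
  have pP₀ := pP.to_le sP₀P
  have nP₀ : N[P] ≤ N[P₀] := le_normalizer_commutator le_rfl le_normalizer
  have sP₀' : ∀ L, N[P] ≤ L → P₀ ≤ ⁅L, L⁆ := fun L h =>
    commutator_mono (le_normalizer.trans h) h
  have ntP₀ : P₀ ≠ ⊥ := by
    intro h0
    have hc : NormalPCompl p (⊤ : Subgroup G) := Burnside_normal_complement sylP
      (inf_le_right.trans (cent_symm (le_cent_of_commutator_eq_bot h0)))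
    have pG : p ∣ Nat.card (⊤ : Subgroup G) :=
      (dvd_card_of_isPGroup hp pA ntA).trans (card_dvd_of_le le_top)
    have h1 : O[{p}ᶜ]((⊤ : Subgroup G)) = ⊥ :=
      mFT_piCore_top hG _ fun h => (isPi_compl_singleton_iff hp).1 h pG
    unfold NormalPCompl at hc
    rw [h1] at hc
    have := isPi_compl_of_hall_bot hc
    rw [compl_compl] at this
    exact not_pr_top hG (mFT_pgroup_proper hG hp (isPGroup_of_isPi hp this))
  have prN₀ := mFT_norm_proper hG ntP₀ (mFT_pgroup_proper hG hp pP₀)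
  have hE := elemOf_omegaOne_of_comm (p := p) (scn_comm scnP.1)
  -- every noncyclic subgroup of `Ω₁(A)` has an element centralized outside `M`
  have other : ∀ M, IsCoatom M → C[A] ≤ M → ∀ B ≤ omegaOne p A, ¬ IsCyclic B →
      ∃ L, IsCoatom L ∧ C[B] ≤ L ∧ C[A] ≤ L ∧ L ≠ M := by
    intro M maxM sCAM B sB ncycB
    have sBA := sB.trans hE.le
    by_contra hc
    push Not at hc
    refine uA' (uniq_mmaxS sBA prA (noncyclic_cent1_sub_Uniqueness hG maxM
      (sBA.trans (cAA.trans sCAM)) (elemAb_of_le hE.elemAb sB) ncycB fun b hb h1 => ?_))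
    obtain ⟨L, maxL, sL⟩ := mmax_exists_cent1 hG h1
    rwa [hc L maxL ((centralizer_le_centralizer_singleton hb).trans sL)
      ((centralizer_le_centralizer_singleton (sBA hb)).trans sL)] at sL
  have uNP₀ : ∀ M, IsCoatom M → C[A] ≤ M → UniqMax N[P₀] M := by
    intro M maxM sCAM
    have sNPM := sNP_mCA M maxM sCAM
    set D := O[{p}ᶜ](fittingOf M) with hD
    have nsD : D ⊴ M := piCoreOf_fittingOf_normalIn _ M
    have p'D : IsPiSubgroup {p}ᶜ D := isPi_piCoreOf _ _
    have sDF : D ≤ fittingOf M := piCoreOf_le _ _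
    have cDP₀ : D ≤ C[P₀] := by
      refine Aux.le_of_forall_noncyclic hE rA (hE.le.trans ((cAA.trans sCAM).trans nsD.norm))
        (isPi_coprime (isPi_of_isPGroup hp hE.isPGroup) p'D) fun B sB ncycB => ?_
      obtain ⟨L, maxL, sCBL, sCAL, hne⟩ := other M maxM sCAM B sB ncycB
      have r2 : rank (D ⊓ L) ≤ 2 := by
        by_contra hc
        obtain ⟨q, hq, E, hE'⟩ := exists_elemOf_of_le_rank (by omega : 3 ≤ rank (D ⊓ L))
        have : Fact q.Prime := ⟨hq⟩
        have sEF := hE'.le.trans (inf_le_left.trans sDF)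
        exact hne (eq_of_inU (any_rank3_Fitting_Uniqueness hG maxM (hE'.of_le sEF).le_rankP
          hE'.isPGroup hE'.rank_eq.ge) maxL (hE'.le.trans inf_le_right) maxM
          (sEF.trans (fittingOf_le M)))
      exact (inf_le_inf_left D sCBL).trans (Aux.cent_of_rank_le_two (L := L ⊓ M)
        (isNilpotent_of_le_fittingOf (inf_le_left.trans sDF)) (isPi_of_le p'D inf_le_left)
        (mFT_odd hG _) r2 (le_normalizer_inf (inf_le_right.trans nsD.norm)
          (le_normalizer_of_le inf_le_left)) (mFT_odd hG _) pP₀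
        (sP₀' _ (le_inf (sNP_mCA L maxL sCAL) sNPM)))
    by_cases hr : 3 ≤ rank (fittingOf M)
    · obtain ⟨q, hq, hr⟩ := le_rank_iff.1 hr
      have : Fact q.Prime := ⟨hq⟩
      have hne : q ≠ p := by
        rintro rfl
        have := FmCAp_le2 M maxM
        omega
      refine def_uniq_mmaxS (le_normalizer_of_le_centralizer (le_trans ?_ cDP₀)) prN₀
        (uniqMax_pCore_of_rank3 hG maxM hr)
      exact le_piCoreOf_of_isNilpotent (fittingOf_nil M) (pCoreOf_le_fittingOf hq M)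
        (isPi_compl_of_isPGroup hq (isPGroup_pCoreOf hq M) hne)
    · have sPM : P ≤ M := le_normalizer.trans sNPM
      have sylM := hall_of_le sylP sPM le_top
      have sNM : P ⊔ D ≤ M := sup_le sPM nsD.le
      have nsN := normalIn_of_derived_le ((H71.rank2_der1_sub_Fitting (mFT_odd hG M)
        (mmax_sol hG maxM) (by omega)).trans ((isDp_pCoreOf_fittingOf hp M).sup.ge.trans
          (sup_le_sup_right (piCoreOf_le_hall sylM) _))) sNM
      have nP₀M : M ≤ N[P₀] := (frattini_isMul nsN (hall_of_le sylM le_sup_left sNM)).le_of_le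
        (sup_le (le_normalizer.trans nP₀) (le_normalizer_of_le_centralizer cDP₀))
        (inf_le_right.trans nP₀)
      rw [mmax_max maxM prN₀ nP₀M]
      exact mmax_sup_id maxM
  obtain ⟨M, maxM, sCAM⟩ := mmax_exists (mFT_cent_proper hG ntA)
  obtain ⟨L, maxL, -, sCAL, hne⟩ := other M maxM sCAM _ le_rfl (hE.not_isCyclic (by omega))
  exact hne ((uNP₀ L maxL sCAL).unique (uNP₀ M maxM sCAM))

/-- B & G Theorem 9.6, first assertion. -/
theorem rank3_Uniqueness {K : Subgroup G} (prK : Pr K) (rK : 3 ≤ rank K) :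
    InUniqueMaximal K := by
  obtain ⟨p, hp, B, hB⟩ := exists_elemOf_of_le_rank rK
  have : Fact p.Prime := ⟨hp⟩
  have hw : p ∈ ϖ := by w_tac
  obtain ⟨P, sylP, sBP⟩ := exists_syl_ge (le_top : B ≤ ⊤) hB.isPGroup
  obtain ⟨A, scnA⟩ := Aux.exists_scn3 (mFT_prime_ne_two hG (hB.dvd_card (by norm_num)))
    (syl_isPGroup sylP) (hB.of_le sBP).le_rankP
  exact uniq_mmaxS hB.le prK (any_cent_rank3_Uniquness hG (scn_comm scnA.1)
    ((syl_isPGroup sylP).to_le scnA.1.1) scnA.2 (SCN_3_Uniqueness hG ⟨hw, P, sylP, scnA⟩) hB.isPGroup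
    (hB.not_isCyclic (by norm_num)) (hB.of_le hB.le_centralizer).le_rankP)

/-- B & G Theorem 9.6, second assertion. -/
theorem cent_rank3_Uniqueness {K : Subgroup G} (rK : 2 ≤ rank K) (rCK : 3 ≤ rank C[K])
    (prK : Pr K := by pr_tac) : InUniqueMaximal K := by
  obtain ⟨p, hp, B, hB⟩ := exists_elemOf_of_le_rank rK
  have : Fact p.Prime := ⟨hp⟩
  have wB : IsPiSubgroup ϖ B := by w_tac
  exact cent_uniq_Uniqueness hG (rank3_Uniqueness hG
    (pr_of_le (centralizer_anti hB.le) (pr_cent (hB.ne_bot two_ne_zero) wB)) rCK) (cent_symm le_rfl) rK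

/-- B & G Theorem 9.6. -/
theorem Uniqueness {K : Subgroup G} (prK : Pr K) (rK : 2 ≤ rank K)
    (h : 3 ≤ rank K ∨ 3 ≤ rank C[K]) : InUniqueMaximal K :=
  h.elim (rank3_Uniqueness hG prK) (fun h => cent_rank3_Uniqueness hG rK h)

/-- B & G Theorem 9.6, final observation. -/
theorem nonmaxElem2_Uniqueness {p : ℕ} [Fact p.Prime] {A : Subgroup G} (Ep2A : ElemOf p 2 A ⊤)
    (nmaxA : ¬ MaxElemOf p A ⊤) (hw : p ∈ ϖ := by w_tac) : InUniqueMaximal A :=
  cent_rank3_Uniqueness hG Ep2A.rank_eq.ge ((Ep2A.lt_rankP_cent_of_not_max nmaxA).trans_le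
    ((rankP_mono inf_le_right).trans (rankP_le_rank _))) (mFT_pgroup_proper hG Fact.out Ep2A.isPGroup)

end

end Cfsg.Agent.H88.SZ.H67
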