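import Cfsg.Agent.H88.ZMin
import Cfsg.Agent.H88.ZBG12a1
import Cfsg.Agent.H88.ZBG9

/-! Bender-Glauberman 12.2 - 12.6. -/

set_option autoImplicit false
set_option linter.unusedSectionVars false
set_option linter.unusedVariables false
set_option linter.unusedSectionVars false

namespace Cfsg.Agent.H88.SZ.H64

open Cfsg.Agent.H64

variable [Om]

open Cfsg Cfsg.Agent.H63 Cfsg.Agent.H66 Cfsg.Agent.H67 Subgroup
open Cfsg.Agent.H88.SZ.H63 Cfsg.Agent.H88.SZ.H66 Cfsg.Agent.H88.SZ.H67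

universe u

variable {G : Type u} [Group G] [Finite G]

/-- Subgroups of coprime orders commute modulo `N` inside `X` when `X / N` is nilpotent. -/
theorem comm_le_of_quo_nil {X N A B : Subgroup G} (hX : X ≤ N[N])
    (hn : Group.IsNilpotent (X /ᵍ N)) (hA : A ≤ X) (hB : B ≤ X)
    (hc : (Nat.card A).Coprime (Nat.card B)) : ⁅A, B⁆ ≤ N :=
  (quo_cents_iff (hA.trans hX) (hB.trans hX)).1
    (H67.le_centralizer_of_isNilpotent_of_coprime hn (quo_mono N hA) (quo_mono N hB)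
      (coprime_quo N hc))

/-- If `N A ⊴ H` then `[K, A] ≤ N` for `A`-invariant `K ≤ H` of coprime order. -/
theorem comm_le_of_sup_normal {H N A K : Subgroup G} (hN : N ⊴ H) (hA : A ≤ H) (h : (N ⊔ A) ⊴ H)
    (hK : K ≤ H) (nKA : A ≤ N[K]) (hc : (Nat.card K).Coprime (Nat.card A)) : ⁅K, A⁆ ≤ N := by
  have nK := hK.trans hN.2
  have nA := hA.trans hN.2
  rw [← quo_cents_iff nK nA]
  refine le_centralizer_of_inf_eq_bot (quo_norms N nKA) ?_ ?_
  · rw [← sup_quo_left nA]; exact quo_norms N (hK.trans h.2)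
  · exact inf_eq_bot_of_coprime' (coprime_quo N hc.symm)

theorem coprime_of_pgroup {p : ℕ} (hp : p.Prime) {π : Set ℕ} {K A : Subgroup G}
    (hK : IsPiSubgroup π K) (pA : IsPGroup p A) (h : p ∉ π) : (Nat.card K).Coprime (Nat.card A) :=
  isPi_coprime hK (isPi_of_isPGroup_of_mem hp pA h)

theorem not_conj_of_sigma {M H : Subgroup G} {p : ℕ} (h : p ∈ sigma H) (h' : p ∉ sigma M) :
    ¬ Conj M H := by
  rintro ⟨g, rfl⟩
  rw [sigmaJ] at h
  exact h' h

theorem not_conj_of_sigma' {M H : Subgroup G} {p : ℕ} (h : p ∈ sigma M) (h' : p ∉ sigma H) :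
    ¬ Conj M H := fun hc => not_conj_of_sigma h h' hc.symm

section Main

variable (hG : IsMinSimpleOddOrder G) {M : Subgroup G} (maxM : IsCoatom M)
include hG maxM

theorem le_Msigma {K : Subgroup G} (sKM : K ≤ M) (sK : IsPiSubgroup (sigma M) K) :
    K ≤ sigmaCore M := le_of_normal_hall (Msigma_Hall hG maxM) (Msigma_normal M) sKM sK

theorem pgroup_le_Msigma {p : ℕ} (sp : p ∈ sigma M) {K : Subgroup G} (sKM : K ≤ M)
    (pK : IsPGroup p K) : K ≤ sigmaCore M :=
  le_Msigma hG maxM sKM (isPi_of_isPGroup_of_mem (sigma_prime sp) pK sp)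

theorem le_Malpha {K : Subgroup G} (sKM : K ≤ M) (sK : IsPiSubgroup (alpha M) K) :
    K ≤ alphaCore M := le_of_normal_hall (Malpha_Hall hG maxM) (Malpha_normal M) sKM sK

theorem le_Mbeta {K : Subgroup G} (sKM : K ≤ M) (sK : IsPiSubgroup (beta M) K) :
    K ≤ betaCore M := le_of_normal_hall (Mbeta_Hall hG maxM) (Mbeta_normal M) sKM sK

theorem norm_Msigma : N[sigmaCore M] = M :=
  mmax_normal hG maxM (Msigma_normal M) (Msigma_neq1 hG maxM)

omit maxM in
theorem ex_mmax_norm_pgroup {p : ℕ} (hp : p.Prime) {X : Subgroup G} (pX : IsPGroup p X)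
    (ntX : X ≠ ⊥) (hw : p ∈ ϖ := by w_tac) : ∃ H, IsCoatom H ∧ N[X] ≤ H :=
  mmax_exists_norm hG ntX (mFT_pgroup_proper hG hp pX)

/-- B & G Lemma 12.2(a). -/
theorem prime_class_mmax_norm {p : ℕ} [hp : Fact p.Prime] {X : Subgroup G} (pX : IsPGroup p X)
    (sNXM : N[X] ≤ M) (hw : p ∈ ϖ := by w_tac) : p ∈ sigma M ∨ p ∈ tau2 M := by
  by_cases sp : p ∈ sigma M
  · exact Or.inl sp
  · exact Or.inr (mem_tau2_iff.2 ⟨hp.out, sp, sigma'_norm_mmax_rank2 hG maxM sp pX sNXM⟩)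

/-- B & G Lemma 12.2(b). -/
theorem mmax_norm_notJ {Mstar X : Subgroup G} {p : ℕ} [Fact p.Prime] (maxMstar : IsCoatom Mstar)
    (pX : IsPGroup p X) (sXM : X ≤ M) (sNX : N[X] ≤ Mstar)
    (h : (p ∈ sigma M ∧ M ≠ Mstar) ∨ p ∈ tau1 M ∨ p ∈ tau3 M) (hc : Conj M Mstar)
    (hw : p ∈ ϖ := by w_tac) : False := by
  rcases h with ⟨sp, ne⟩ | h
  · obtain ⟨c, hc1, hc2⟩ := sigma_group_trans_b hG maxM sp pX hc (conj_refl M)
      (le_normalizer.trans sNX) sXM
    exact ne (by rw [hc2, cj_eq_self_of_mem (sNX (centralizer_le_normalizer _ hc1))])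
  · obtain ⟨g, rfl⟩ := hc
    have := prime_class_mmax_norm hG maxMstar pX sNX
    rw [sigmaJ, tau2J] at this
    rcases h with h | h <;> rcases this with h' | h'
    exacts [tau1_not_sigma h h', tau2'1 h h', tau3_not_sigma h h', tau3'2 h' h]

/-- B & G Lemma 12.3. -/
theorem nonuniq_p2Elem_cent_sigma {Mstar A A₀ : Subgroup G} {p : ℕ} [hp : Fact p.Prime]
    (maxMstar : IsCoatom Mstar) (neM : Mstar ≠ M) (hA : ElemOf p 2 A M) (hA₀ : ElemOf p 1 A₀ A)
    (sN : N[A₀] ≤ Mstar) :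
    (p ∉ sigma M → A ≤ C[sigmaCore M ⊓ Mstar]) ∧ (p ∉ alpha M → A ≤ C[alphaCore M ⊓ Mstar]) := by
  have pA := el_pgroup hA
  have sAH : A ≤ Mstar :=
    (le_normalizer_of_le_centralizer (le_cent_of_comm (el_comm hA) le_rfl hA₀.1)).trans sN
  have nsHs := Msigma_normal Mstar
  have nsHsA : (sigmaCore Mstar ⊔ A) ⊴ Mstar := by
    by_cases sHp : p ∈ sigma Mstar
    · rw [sup_eq_left.2 (pgroup_le_Msigma hG maxMstar sHp sAH pA)]; exact nsHs
    · exact exceptional_mul_sigma_normal hG maxMstar ⟨sHp, el_of_le hA sAH, hA₀, sN⟩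
  have cAp' : ∀ (π : Set ℕ) (K : Subgroup G), K ⊴ M → IsPiSubgroup π K → p ∉ π →
      ⁅K ⊓ Mstar, A⁆ ≤ K ⊓ sigmaCore Mstar := by
    intro π K nsK hK hπ
    have nKA : A ≤ N[K ⊓ Mstar] :=
      le_normalizer_inf (hA.1.trans nsK.2) (le_normalizer_of_le sAH)
    exact le_inf ((commutator_le_of_norm_left nKA).trans inf_le_left)
      (comm_le_of_sup_normal nsHs sAH nsHsA inf_le_right nKA
        (coprime_of_pgroup hp.out (isPi_of_le hK inf_le_left) pA hπ))
  by_cases sMp : p ∈ sigma M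
  · refine ⟨fun h => absurd sMp h, fun a'p => ?_⟩
    have notMGH := mmax_norm_notJ hG maxM maxMstar (el_pgroup hA₀) (hA₀.1.trans hA.1) sN
      (Or.inl ⟨sMp, neM.symm⟩)
    have h := cAp' _ _ (Malpha_normal M) (Malpha_pi M) a'p
    rw [(sigma_disjoint hG maxM maxMstar notMGH).1, le_bot_iff] at h
    exact cent_symm (le_cent_of_commutator_eq_bot h)
  suffices h : A ≤ C[sigmaCore M ⊓ Mstar] from
    ⟨fun _ => h, fun _ => h.trans (H67.centralizer_anti
      (inf_le_inf_right _ (Malpha_sub_Msigma hG maxM)))⟩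
  have h := cAp' _ _ (Msigma_normal M) (Msigma_pi M) sMp
  by_cases sHp : p ∈ sigma Mstar
  swap
  · have ti : sigmaCore M ⊓ sigmaCore Mstar = ⊥ := by
      by_contra hne
      exact neM (exceptional_sigma_uniq hG maxMstar ⟨sHp, el_of_le hA sAH, hA₀, sN⟩ maxM hA.1 hne).symm
    rw [ti, le_bot_iff] at h
    exact cent_symm (le_cent_of_commutator_eq_bot h)
  have notMGH : ¬ Conj Mstar M := not_conj_of_sigma' sHp sMp
  have ti := (sigma_disjoint hG maxMstar maxM notMGH).1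
  set K := sigmaCore M ⊓ Mstar with hK
  have nKA : A ≤ N[K] := le_normalizer_inf (hA.1.trans (Msigma_normal M).2) (le_normalizer_of_le sAH)
  have coKA : (Nat.card K).Coprime (Nat.card A) :=
    coprime_of_pgroup hp.out (isPi_of_le (Msigma_pi M) inf_le_left) pA sMp
  have sRK : ⁅K, A⁆ ≤ K := commutator_le_of_norm_left nKA
  have h1 : ⁅⁅K, A⁆, A⁆ ≤ alphaCore Mstar :=
    comm_le_of_quo_nil ((derived_normalIn Mstar).1.trans (Malpha_normal Mstar).2)
      (Malpha_quo_nil hG maxMstar) ((h.trans inf_le_right).trans (Msigma_der1 hG maxMstar))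
      ((pgroup_le_Msigma hG maxMstar sHp sAH pA).trans (Msigma_der1 hG maxMstar))
      (Nat.Coprime.coprime_dvd_left (card_dvd_of_le sRK) coKA)
  rw [H4.commutator_commutator_eq nKA coKA.symm (Or.inl (isSolvable_of_isPGroup hp.out pA))] at h1
  refine cent_symm (le_cent_of_commutator_eq_bot ?_)
  rw [eq_bot_iff, ← ti]
  exact le_inf h1 (sRK.trans inf_le_left)

omit hG maxM in
/-- Generation by centralizers of the subgroups of order `p` of an element of `𝓔_p^2`. -/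
theorem le_of_cent_el1 {p : ℕ} [hp : Fact p.Prime] {A X K L : Subgroup G} (hA : ElemOf p 2 A X)
    (nKA : A ≤ N[K]) (hc : (Nat.card K).Coprime (Nat.card A))
    (h : ∀ Y, ElemOf p 1 Y A → K ⊓ C[Y] ≤ L) : K ≤ L := by
  have := el_comm hA
  refine H4.le_of_centralizer_singleton_le (el2_not_cyclic hA) nKA hc.symm fun a ha h1 => ?_
  rw [← centralizer_zpowers]
  exact h _ (el1_zpowers_of_mem hp.out hA ha h1)

/-- B & G Proposition 12.4. -/
theorem p2Elem_mmax {p : ℕ} [hp : Fact p.Prime] {A : Subgroup G} (hA : ElemOf p 2 A M) :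
    C[A] ≤ M ∧ ((∀ A₀ : Subgroup G, ElemOf p 1 A₀ A → ¬ UniqMax N[A₀] M) →
      p ∈ sigma M ∧ alphaCore M = ⊥ ∧ Group.IsNilpotent (sigmaCore M)) := by
  by_cases hu : ∀ A₀ : Subgroup G, ElemOf p 1 A₀ A → ¬ UniqMax N[A₀] M
  swap
  · refine ⟨?_, fun h => absurd h hu⟩
    push Not at hu
    obtain ⟨A₀, hA₀, hu⟩ := hu
    exact (H67.centralizer_anti hA₀.1).trans ((centralizer_le_normalizer _).trans hu.le)
  have pA := el_pgroup hA
  have nonuniq : ∀ X, ElemOf p 1 X A → ∃ H, IsCoatom H ∧ N[X] ≤ H ∧ H ≠ M := by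
    intro X hX
    obtain ⟨H, maxH, sNH⟩ := ex_mmax_norm_pgroup hG hp.out (el_pgroup hX) (el1_ne_bot hp.out hX)
    by_cases e : H = M
    · subst e; exact exists_ne_of_not_uniqMax maxM sNH (hu X hX)
    · exact ⟨H, maxH, sNH, e⟩
  have rCA : rank C[A] ≤ 2 := by
    by_contra hr
    have uA := cent_rank3_Uniqueness hG (rank_el hp.out hA).ge (by omega)
    obtain ⟨X, hX⟩ := exists_el_le hp.out hA (k := 1) (by omega)
    obtain ⟨H, maxH, sNH, ne⟩ := nonuniq X hX
    exact ne (eq_of_inU uA maxH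
      ((le_normalizer_of_le_centralizer (le_cent_of_comm (el_comm hA) le_rfl hX.1)).trans sNH)
      maxM hA.1)
  have sMp : p ∈ sigma M := by
    by_contra s'p
    have h1 : sigmaCore M ≤ C[A] := by
      refine le_of_cent_el1 hA (hA.1.trans (Msigma_normal M).2)
        (coprime_of_pgroup hp.out (Msigma_pi M) pA s'p) fun X hX => ?_
      obtain ⟨H, maxH, sNH, ne⟩ := nonuniq X hX
      exact (inf_le_inf_left _ ((centralizer_le_normalizer _).trans sNH)).trans
        (cent_symm ((nonuniq_p2Elem_cent_sigma hG maxM maxH ne hA hX sNH).1 s'p))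
    have h2 := sub'cent_sigma_rank1 hG maxM hA.1 (isPi_of_isPGroup_of_mem hp.out pA s'p)
    rw [inf_eq_left.2 (cent_symm h1), rank_el hp.out hA] at h2
    omega
  obtain ⟨P, sylP, sAP⟩ := exists_syl_ge hA.1 pA
  have pP := syl_isPGroup sylP
  have ntP : P ≠ ⊥ := ne_bot_mono (el2_ne_bot hp.out hA) sAP
  have sZA : omegaOne p Z[P] ≤ A :=
    maxElem_le (maxElem_of_rk hp.out (el_of_le hA (el_cent hA)) ((rk_le_rank hp.out _).trans rCA))
      (elemAb_omegaOne_center p P)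
      ((omegaOne_center_le_centralizer p P).trans (H67.centralizer_anti sAP))
      ((omegaOne_center_le_centralizer p P).trans (H67.centralizer_anti sAP))
  have ntZ := omegaOne_center_ne_bot hp.out pP ntP
  have a'p : p ∉ alpha M := by
    intro ap
    have uP : InUniqueMaximal P := rank3_Uniqueness hG (mFT_pgroup_proper hG hp.out pP)
      (by rw [rank_syl hp.out sylP]; exact (mem_alpha_iff.1 ap).2)
    obtain ⟨X, hX⟩ := exists_el1_of_pgroup hp.out (pA.to_le sZA) ntZ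
    obtain ⟨H, maxH, sNH, ne⟩ := nonuniq X (el_mono hX sZA)
    exact ne (eq_of_inU uP maxH ((le_normalizer_of_le_centralizer'
      (hX.1.trans (omegaOne_center_le_centralizer p P))).trans sNH) maxM (hall_le sylP))
  have Ma1 : alphaCore M = ⊥ := by
    have h1 : alphaCore M ≤ C[A] := by
      refine le_of_cent_el1 hA (hA.1.trans (Malpha_normal M).2)
        (coprime_of_pgroup hp.out (Malpha_pi M) pA a'p) fun X hX => ?_
      obtain ⟨H, maxH, sNH, ne⟩ := nonuniq X hX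
      exact (inf_le_inf_left _ ((centralizer_le_normalizer _).trans sNH)).trans
        (cent_symm ((nonuniq_p2Elem_cent_sigma hG maxM maxH ne hA hX sNH).2 a'p))
    by_contra hne
    obtain ⟨q, hq, hd⟩ := H67.exists_prime_dvd_card hne
    have aq := Malpha_pi M q hq hd
    have h2 := (mem_alpha_iff.1 aq).2
    rw [← rk_hall hq (Malpha_Hall hG maxM) aq] at h2
    have := (rk_mono hq h1).trans ((rk_le_rank hq _).trans rCA)
    omega
  have nilMs : Group.IsNilpotent (sigmaCore M) := by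
    have h := Malpha_quo_nil hG maxM
    rw [Ma1] at h
    exact H67.isNilpotent_of_le
      (Group.nilpotent_of_mulEquiv (quoEquivOfDisjoint (le_normalizer_bot _) (bot_inf_eq _)).symm)
      (Msigma_der1 hG maxM)
  refine ⟨?_, fun _ => ⟨sMp, Ma1, nilMs⟩⟩
  have nsP : P ⊴ M := by
    rw [eq_piCoreOf_of_isNilpotent nilMs (hall_of_le sylP
      (pgroup_le_Msigma hG maxM sMp (hall_le sylP) pP) (Msigma_normal M).1)]
    exact (Msigma_normal M).piCoreOf _
  rw [← mmax_normal hG maxM (nsP.center.omegaOne p) ntZ]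
  exact (H67.centralizer_anti sZA).trans (centralizer_le_normalizer _)

theorem ex_exceptional {p : ℕ} [hp : Fact p.Prime] (s'p : p ∉ sigma M) {A : Subgroup G}
    (hA : ElemOf p 2 A M) : ∃ A₀, ExceptionalMax p M A₀ A := by
  by_contra h
  refine s'p ((p2Elem_mmax hG maxM hA).2 fun A₀ hA₀ hu => h ⟨A₀, s'p, hA, hA₀, hu.le⟩).1

/-- B & G Theorem 12.5(a). -/
theorem tau2_Msigma_nil {p : ℕ} (t2p : p ∈ tau2 M) : Group.IsNilpotent (sigmaCore M) := by
  have := Fact.mk (tau2_prime t2p)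
  obtain ⟨A, hA⟩ := rk_exists (tau2_prime t2p) (tau2_rk t2p).ge
  obtain ⟨A₀, excM⟩ := ex_exceptional hG maxM (tau2_not_sigma t2p) hA
  exact exceptional_sigma_nil hG maxM excM

/-- B & G Theorem 12.5(b-f). -/
theorem tau2_context {p : ℕ} [hp : Fact p.Prime] (t2p : p ∈ tau2 M) {A : Subgroup G}
    (hA : ElemOf p 2 A M) :
    (∀ P : Subgroup G, IsSyl p P M →
        IsMulCommutative P ∧ (A ≤ P → omegaOne p P = A ∧ ¬ N[P] ≤ M)) ∧
      (sigmaCore M ⊔ A) ⊴ M ∧ sigmaCore M ⊓ C[A] = ⊥ ∧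
      (∀ Mstar : Subgroup G, IsCoatom Mstar → A ≤ Mstar → Mstar ≠ M → sigmaCore M ⊓ Mstar = ⊥) ∧
      ∃ A₁ : Subgroup G, ElemOf p 1 A₁ A ∧ sigmaCore M ⊓ C[A₁] = ⊥ := by
  have s'p := tau2_not_sigma t2p
  have nilMs := tau2_Msigma_nil hG maxM t2p
  obtain ⟨A₀, excM⟩ := ex_exceptional hG maxM s'p hA
  obtain ⟨P, sylP, sAP⟩ := exists_syl_ge hA.1 (el_pgroup hA)
  obtain ⟨-, regA, A₁, -, hA₁, -, -, regA₁, -⟩ := exceptional_structure hG maxM excM sylP sAP
  refine ⟨fun Q sylQ => ⟨exceptional_Sylow_abelian hG maxM excM sylQ, fun sAQ =>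
    ⟨(exceptional_structure hG maxM excM sylQ sAQ).1, sigma'_Sylow_contra maxM.1 s'p sylQ⟩⟩,
    exceptional_mul_sigma_normal hG maxM excM, regA, fun H maxH sAH ne => ?_, A₁, hA₁, regA₁⟩
  rw [eq_bot_iff, ← regA]
  refine le_inf inf_le_left (cent_symm ?_)
  by_cases hu : ∀ A₀ : Subgroup G, ElemOf p 1 A₀ A → ¬ UniqMax N[A₀] H
  swap
  · push Not at hu
    obtain ⟨A₃, hA₃, hu⟩ := hu
    exact (nonuniq_p2Elem_cent_sigma hG maxM maxH ne hA hA₃ hu.le).1 s'p
  have sHp := ((p2Elem_mmax hG maxH (el_of_le hA sAH)).2 hu).1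
  have ti := ((sigma_disjoint hG maxM maxH (not_conj_of_sigma sHp s'p)).2.2 nilMs).1
  refine cent_symm (le_cent_of_commutator_eq_bot ?_)
  rw [eq_bot_iff, ← ti]
  refine le_inf ((commutator_mono inf_le_left le_rfl).trans
    (commutator_le_of_norm_left (hA.1.trans (Msigma_normal M).2))) ?_
  exact (commutator_mono inf_le_right (pgroup_le_Msigma hG maxH sHp sAH (el_pgroup hA))).trans
    (commutator_le_of_norm_right (Msigma_normal H).2)

/-- For `p ∈ τ₂(M)` the `p`-subgroups of `M` are abelian. -/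
theorem tau2_pgroup_abelian {p : ℕ} (t2p : p ∈ tau2 M) {P : Subgroup G} (sPM : P ≤ M)
    (pP : IsPGroup p P) : IsMulCommutative P := by
  have := Fact.mk (tau2_prime t2p)
  obtain ⟨A, hA⟩ := rk_exists (tau2_prime t2p) (tau2_rk t2p).ge
  obtain ⟨Q, sylQ, sPQ⟩ := exists_syl_ge sPM pP
  exact H67.isMulCommutative_of_le ((tau2_context hG maxM t2p hA).1 Q sylQ).1 sPQ

/-- B & G Corollary 12.6(a, b, c, f). -/
theorem tau2_compl_context {E : Subgroup G} (hallE : IsPiHallOf (sigma M)ᶜ E M) {p : ℕ}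
    [hp : Fact p.Prime] (t2p : p ∈ tau2 M) {A : Subgroup G} (hA : ElemOf p 2 A E) :
    (A ⊴ E ∧ ∀ X : Subgroup G, ElemOf p 1 X E ↔ ElemOf p 1 X A) ∧
      (C[A] ≤ E ∧ M ⊓ N[A] = E ∧ ¬ N[A] ≤ M) ∧
      (∀ X : Subgroup G, ElemOf p 1 X E → sigmaCore M ⊓ C[X] ≠ ⊥ → UniqMax C[X] M) ∧
      ∀ Mstar : Subgroup G, IsCoatom Mstar → ¬ Conj M Mstar →
        sigmaCore M ⊓ sigmaCore Mstar = ⊥ ∧ Disjoint (sigma M) (sigma Mstar) := by
  have s'p := tau2_not_sigma t2p
  have sEM := hall_le hallE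
  have pA := el_pgroup hA
  have hAM := el_mono hA sEM
  have defM := sdprod_sigma hG maxM hallE
  have nMsA : A ≤ N[sigmaCore M] := hAM.1.trans (Msigma_normal M).2
  obtain ⟨sylM, nsMsA, regA, tiMs, -⟩ := tau2_context hG maxM t2p hAM
  have nsAE : A ⊴ E := by
    have := nsMsA.inf_right sEM
    rwa [defM.sup_inf_right hA.1] at this
  have EpA : ∀ X : Subgroup G, ElemOf p 1 X E ↔ ElemOf p 1 X A := by
    refine fun X => ⟨fun hX => el_of_le hX ?_, fun hX => el_mono hX hA.1⟩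
    obtain ⟨P, sylP, sXP⟩ := exists_syl_ge hX.1 (el_pgroup hX)
    have sAP : A ≤ P := le_syl_of_normalIn sylP nsAE pA
    rw [← ((sylM P (syl_of_hall hallE s'p sylP)).2 sAP).1]
    exact elemAb_le_omegaOne hX.2.1 sXP
  have defNMA : M ⊓ N[A] = E := by
    refine (defM.eq_of_le_right (le_inf sEM nsAE.2) inf_le_left ?_).symm
    rw [← inf_assoc, inf_eq_left.2 (Msigma_normal M).1, coprime_norm_cent nMsA
      (coprime_of_pgroup hp.out (Msigma_pi M) pA s'p).symm, regA]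
  refine ⟨⟨nsAE, EpA⟩, ⟨?_, defNMA, fun h => ?_⟩, fun X hX ntC => ?_, fun H maxH nj =>
    (sigma_disjoint hG maxM maxH nj).2.2 (tau2_Msigma_nil hG maxM t2p)⟩
  · rw [← defNMA]
    exact le_inf (p2Elem_mmax hG maxM hAM).1 (centralizer_le_normalizer _)
  · obtain ⟨P, sylP, sAP⟩ := exists_syl_ge hAM.1 pA
    obtain ⟨h1, h2⟩ := (sylM P sylP).2 sAP
    refine h2 (le_trans ?_ h)
    rw [← h1]; exact normalizer_le_normalizer_omegaOne p P
  · have hXA := (EpA X).1 hX
    have key : ∀ L, IsCoatom L → C[X] ≤ L → L = M := by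
      intro L maxL sCL
      by_contra ne
      apply ntC
      rw [eq_bot_iff, ← tiMs L maxL ((le_cent_of_comm (el_comm hA) le_rfl hXA.1).trans sCL) ne]
      exact inf_le_inf_left _ sCL
    obtain ⟨L, maxL, sCL⟩ := mmax_exists (mFT_cent_proper hG (el1_ne_bot hp.out hX))
    exact ⟨maxM, key L maxL sCL ▸ sCL, key⟩

/-- A `σ(M)' ∩ τ₂(M)'`-subgroup of `M` centralizing `A` acts regularly on `M_σ`. -/
theorem tau2_regular_aux {p : ℕ} [hp : Fact p.Prime] (t2p : p ∈ tau2 M) {A : Subgroup G}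
    (hA : ElemOf p 2 A M) {F : Subgroup G} (cAF : F ≤ C[A]) (s'F : IsPiSubgroup (sigma M)ᶜ F)
    (t2'F : IsPiSubgroup (tau2 M)ᶜ F) : Semiregular (sigmaCore M) F := by
  refine semiregular_of_prime_subgroups fun X sXF hX => ?_
  have := Fact.mk hX
  have pX : IsPGroup (Nat.card X) X := isPGroup_of_card_eq_prime rfl
  have hw : Nat.card X ∈ ϖ := w_of_cent hG (sXF.trans cAF) (hA.ne_bot two_ne_zero) (by w_tac) _ hX
    dvd_rfl
  obtain ⟨H, maxH, sNH⟩ := ex_mmax_norm_pgroup hG hX pX (ne_bot_of_prime_card hX)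
  have ne : H ≠ M := by
    rintro rfl
    rcases prime_class_mmax_norm hG maxM pX sNH with h | h
    exacts [s'F _ hX (card_dvd_of_le sXF) h, t2'F _ hX (card_dvd_of_le sXF) h]
  have sCH : C[X] ≤ H := (centralizer_le_normalizer _).trans sNH
  rw [eq_bot_iff, ← (tau2_context hG maxM t2p hA).2.2.2.1 H maxH
    ((cent_symm (sXF.trans cAF)).trans sCH) ne]
  exact inf_le_inf_left _ sCH

/-- B & G Corollary 12.6(d, e). -/
theorem tau2_regular {E E₁ E₂ E₃ : Subgroup G} (hE : SigmaCompl M E E₁ E₂ E₃) {p : ℕ}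
    [hp : Fact p.Prime] (t2p : p ∈ tau2 M) {A : Subgroup G} (hA : ElemOf p 2 A E) :
    Semiregular (sigmaCore M) E₃ ∧ Semiregular (sigmaCore M) (E₁ ⊓ C[A]) ∧ A ≤ E₂ := by
  have hallE := hE.hallE
  have hAM := el_mono hA (hall_le hallE)
  have nsAE := (tau2_compl_context hG maxM hallE t2p hA).1.1
  have nsE3 := (sigma_compl_context hG maxM hE).1.2
  refine ⟨tau2_regular_aux hG maxM t2p hAM ?_ (isPi_of_le (hall_isPi hallE) nsE3.1)
      (isPi_mono (hall_isPi hE.hallE₃) fun _ h h' => tau3'2 h' h),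
    tau2_regular_aux hG maxM t2p hAM inf_le_right
      (isPi_of_le (hall_isPi hallE) (inf_le_left.trans (hall_le hE.hallE₁)))
      (isPi_mono (isPi_of_le (hall_isPi hE.hallE₁) inf_le_left) fun _ => tau2'1),
    le_hall_of_normalIn hE.hallE₂ nsAE (isPi_of_isPGroup_of_mem hp.out (el_pgroup hA) t2p)⟩
  exact le_centralizer_of_normalIn_of_coprime nsE3 nsAE
    (coprime_of_pgroup hp.out (hall_isPi hE.hallE₃) (el_pgroup hA) (tau3'2 t2p))

end Main

end Cfsg.Agent.H88.SZ.H64
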