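import Cfsg.Agent.H88.ZMin
import Cfsg.Agent.H88.ZBG12c1

/-! Bender-Glauberman 12.12. -/

set_option autoImplicit false
set_option linter.unusedSectionVars false
set_option linter.unusedVariables false
set_option linter.unusedSectionVars false

namespace Cfsg.Agent.H88.SZ.H64

open Cfsg.Agent.H64

variable [Om]

open Cfsg Cfsg.Agent.H63 Cfsg.Agent.H66 Cfsg.Agent.H67 Subgroup
open Cfsg.Agent.H88.SZ.H63 Cfsg.Agent.H88.SZ.H66 Cfsg.Agent.H88.SZ.H67

universe u

variable {G : Type u} [Group G] [Finite G]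

omit [Finite G] in
theorem pow_exponent_of_mem {V : Subgroup G} {x : G} (hx : x ∈ V) :
    x ^ Monoid.exponent V = 1 := by
  have := Monoid.pow_exponent_eq_one (⟨x, hx⟩ : V)
  exact congrArg Subtype.val this

omit [Finite G] in
theorem exponent_dvd_of_forall_mem {V : Subgroup G} {n : ℕ} (h : ∀ x ∈ V, x ^ n = 1) :
    Monoid.exponent V ∣ n :=
  Monoid.exponent_dvd_of_forall_pow_eq_one fun x => Subtype.ext (h x x.2)

omit [Finite G] in
theorem exponent_dvd_of_le {V U : Subgroup G} (h : V ≤ U) :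
    Monoid.exponent V ∣ Monoid.exponent U :=
  exponent_dvd_of_forall_mem fun _ hx => pow_exponent_of_mem (h hx)

omit [Finite G] in
theorem pow_eq_one_of_dvd' {x : G} {m n : ℕ} (h : x ^ m = 1) (hd : m ∣ n) : x ^ n = 1 := by
  obtain ⟨k, rfl⟩ := hd
  rw [pow_mul, h, one_pow]

theorem exists_orderOf_eq_exponent_of_comm {S : Subgroup G} (cS : IsMulCommutative S) :
    ∃ s ∈ S, orderOf s = Monoid.exponent S := by
  letI : CommGroup S := { (inferInstance : Group S) with mul_comm := cS.is_comm.comm }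
  obtain ⟨s, hs⟩ := Monoid.exists_orderOf_eq_exponent (G := S) Monoid.ExponentExists.of_finite
  exact ⟨s, s.2, by rw [Subgroup.orderOf_coe]; exact hs⟩

/-- The exponent is detected on Sylow subgroups. -/
theorem exponent_dvd_of_syl {U : Subgroup G} {n : ℕ}
    (h : ∀ r : ℕ, r.Prime → r ∣ Nat.card U → ∃ R, IsSyl r R U ∧ ∀ z ∈ R, z ^ n = 1) :
    Monoid.exponent U ∣ n := by
  refine exponent_dvd_of_forall_mem fun x hx => orderOf_dvd_iff_pow_eq_one.1 ?_
  refine (Nat.dvd_iff_prime_pow_dvd_dvd _ _).2 fun r k hr hk => ?_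
  haveI : Fact r.Prime := ⟨hr⟩
  rcases Nat.eq_zero_or_pos k with rfl | k0
  · simp
  have hy : orderOf (x ^ (orderOf x / r ^ k)) = r ^ k :=
    orderOf_pow_orderOf_div (orderOf_pos x).ne' hk
  set y := x ^ (orderOf x / r ^ k)
  have yU : y ∈ U := pow_mem hx _
  obtain ⟨R, sylR, hR⟩ := h r hr
    (((dvd_pow_self r k0.ne').trans hk).trans (orderOf_dvd_card_of_mem hx))
  obtain ⟨g, -, hg⟩ := exists_cj_le_syl sylR (zpowers_le.2 yU)
    (IsPGroup.of_card (n := k) (by rw [Nat.card_zpowers, hy]))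
  have := hR _ (hg (conj_mem_cj (mem_zpowers y)))
  rw [← hy, ← orderOf_conj' g y]
  exact orderOf_dvd_of_pow_eq_one this

theorem card_eq_of_prime_of_pgroup {r : ℕ} (hr : r.Prime) {P : Subgroup G} (pP : IsPGroup r P)
    (hP : (Nat.card P).Prime) : Nat.card P = r :=
  ((Nat.prime_dvd_prime_iff_eq hr hP).1
    (dvd_card_of_isPGroup hr pP (ne_bot_of_prime_card hP))).symm

/-- In a direct product of two cyclic `r`-groups one factor has the exponent of the product. -/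
theorem IsDp.exponent_or {r : ℕ} (hr : r.Prime) {K H S : Subgroup G} (h : IsDp K H S)
    (pS : IsPGroup r S) (cK : IsCyclic K) (cH : IsCyclic H) :
    (∀ z ∈ S, z ^ Monoid.exponent K = 1) ∨ ∀ z ∈ S, z ^ Monoid.exponent H = 1 := by
  have key : ∀ n, Monoid.exponent K ∣ n → Monoid.exponent H ∣ n → ∀ z ∈ S, z ^ n = 1 := by
    intro n h1 h2 z hz
    obtain ⟨k, hk, x, hx, rfl⟩ := h.exists_mul hz
    rw [(h.commute hk hx).mul_pow, pow_eq_one_of_dvd' (pow_exponent_of_mem hk) h1,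
      pow_eq_one_of_dvd' (pow_exponent_of_mem hx) h2, one_mul]
  obtain ⟨a, ha⟩ := exists_card_pow hr (pS.to_le h.le_left)
  obtain ⟨b, hb⟩ := exists_card_pow hr (pS.to_le h.le_right)
  have eK : Monoid.exponent K = r ^ a := by rw [IsCyclic.exponent_eq_card, ha]
  have eH : Monoid.exponent H = r ^ b := by rw [IsCyclic.exponent_eq_card, hb]
  rcases le_total a b with hab | hab
  · exact Or.inr (key _ (by rw [eK, eH]; exact pow_dvd_pow r hab) dvd_rfl)
  · exact Or.inl (key _ dvd_rfl (by rw [eK, eH]; exact pow_dvd_pow r hab))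

section Main

variable (hG : IsMinSimpleOddOrder G) {M : Subgroup G} (maxM : IsCoatom M)
include hG maxM

theorem tau2_cyclic_reg_or {E : Subgroup G} (hallE : IsPiHallOf (sigma M)ᶜ E M) {r : ℕ}
    [hr : Fact r.Prime] (t2r : r ∈ tau2 M) {Z : Subgroup G} (cZ : IsCyclic Z) (rZ : IsPGroup r Z)
    (sZE : Z ≤ E) {g : G} (gM : g ∉ M) (sZgE : cj g Z ≤ E) :
    Semiregular (sigmaCore M) Z ∨ Semiregular (sigmaCore M) (cj g Z) := by
  obtain ⟨B, hB⟩ := ex_tau2Elem_of_mem hG maxM hallE t2r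
  obtain ⟨-, -, uniqX, -⟩ := tau2_compl_context hG maxM hallE t2r hB
  have key : ∀ Y : Subgroup G, IsPGroup r Y → Y ≤ E → ¬ Semiregular (sigmaCore M) Y →
      ∃ P ≤ Y, Nat.card P = r ∧ UniqMax C[P] M := by
    intro Y rY sYE h
    by_contra hc
    refine h (semiregular_of_prime_subgroups fun P sPY hP => ?_)
    by_contra nt
    have cP := card_eq_of_prime_of_pgroup hr.out (rY.to_le sPY) hP
    exact hc ⟨P, sPY, cP, uniqX P (el1_mk hr.out (sPY.trans sYE) cP) nt⟩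
  by_contra hc
  rw [not_or] at hc
  obtain ⟨P, sP, cP, uP⟩ := key Z rZ sZE hc.1
  obtain ⟨P', sP', cP', uP'⟩ := key _ (isPGroup_cj rZ g) sZgE hc.2
  have e : cj g P = P' := eq_of_isCyclic_of_card_eq (isCyclic_cj_iff.2 cZ) (cj_mono sP) sP'
    (by rw [card_cj, cP, cP'])
  exact gM (mem_of_cj_le_uniq_mmax hG uP (by rw [cj_centralizer, e]; exact uP'.le))

theorem ex_tau2_regular_cyclic {E U : Subgroup G} (hallE : IsPiHallOf (sigma M)ᶜ E M)
    (hallU : IsHallOf U E)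
    (regU : ∀ e ∈ U, e ≠ 1 → PiElt (tau1 M ∪ tau3 M) e → sigmaCore M ⊓ C1[e] = ⊥)
    {r : ℕ} [hr : Fact r.Prime] (t2r : r ∈ tau2 M) {B S : Subgroup G} (hB : ElemOf r 2 B E)
    (sylS : IsSyl r S ⊤) (sBS : B ≤ S) (cS : IsMulCommutative S) :
    ∃ Z : Subgroup G, Z ≤ S ∧ U ≤ N[Z] ∧ Semiregular (sigmaCore M) Z ∧
      ∀ z ∈ S, z ^ Monoid.exponent Z = 1 := by
  have sEM := hall_le hallE
  have sUE := hallU.le
  have rS := syl_isPGroup sylS
  have cSS : S ≤ C[S] := le_cent_of_comm cS le_rfl le_rfl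
  have sCE : C[S] ≤ E := (abelian_tau2_sub_Fitting hG maxM hallE t2r hB sylS sBS cS).2.2.2
  have sSE : S ≤ E := cSS.trans sCE
  have sylSM : IsSyl r S M := hall_of_le sylS (sSE.trans sEM) le_top
  obtain ⟨om1S, notM⟩ := ((tau2_context hG maxM t2r (el_mono hB sEM)).1 S sylSM).2 sBS
  obtain ⟨g, gN, gM⟩ := SetLike.not_le_iff_exists.1 notM
  by_cases cUS : U ≤ C[S]
  · obtain ⟨s, hs, ords⟩ := exists_orderOf_eq_exponent_of_comm cS
    have sZS : zpowers s ≤ S := zpowers_le.2 hs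
    have sZgS : cj g (zpowers s) ≤ S := cj_le_of_mem_normalizer gN sZS
    have fin : ∀ t : G, zpowers t ≤ S → orderOf t = Monoid.exponent S →
        Semiregular (sigmaCore M) (zpowers t) → ∃ Z : Subgroup G, Z ≤ S ∧ U ≤ N[Z] ∧
          Semiregular (sigmaCore M) Z ∧ ∀ z ∈ S, z ^ Monoid.exponent Z = 1 := by
      intro t ht ot reg
      refine ⟨zpowers t, ht, le_normalizer_of_le_centralizer (cUS.trans (centralizer_anti ht)), reg,
        fun z hz => pow_eq_one_of_dvd' (pow_exponent_of_mem hz) ?_⟩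
      rw [← ot]
      exact orderOf_dvd_of_pow_eq_one (pow_exponent_of_mem (mem_zpowers t))
    rcases tau2_cyclic_reg_or hG maxM hallE t2r (isCyclic_zpowers' s) (rS.to_le sZS)
      (sZS.trans sSE) gM (sZgS.trans sSE) with h | h
    · exact fin s sZS ords h
    · rw [cj_zpowers] at h sZgS
      exact fin _ sZgS (by rw [orderOf_conj', ords]) h
  obtain ⟨⟨nsBE, -⟩, -⟩ := tau2_compl_context hG maxM hallE t2r hB
  obtain ⟨-, nsCE, t1CE⟩ := tau1_cent_tau2Elem_factor hG maxM hallE t2r hB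
  have nBS : N[B] = N[S] := by
    obtain ⟨E₁, E₂, E₃, hE⟩ := ex_sigmaCompl hG maxM hallE
    exact (abelian_tau2 hG maxM hE t2r hB sylS sBS cS).2.2.1.1
  have nSE : E ≤ N[S] := nBS ▸ nsBE.2
  -- a Sylow subgroup `Q₁` of `U` that does not centralize `S`
  obtain ⟨q, hq, qU, hQ⟩ : ∃ q : ℕ, q.Prime ∧ q ∣ Nat.card U ∧ ∀ P, IsSyl q P U → ¬ P ≤ C[S] := by
    by_contra hc
    push Not at hc
    exact cUS (le_of_forall_syl_le hc)
  haveI : Fact q.Prime := ⟨hq⟩
  obtain ⟨Q₁, sylQ₁U⟩ := exists_syl q U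
  have ncQ₁ := hQ Q₁ sylQ₁U
  have sylQ₁ : IsSyl q Q₁ E := syl_of_hall hallU.hall ⟨hq, qU⟩ sylQ₁U
  have sQ₁E := hall_le sylQ₁
  have qQ₁ := syl_isPGroup sylQ₁
  have neqr : q ≠ r := by
    rintro rfl
    exact ncQ₁ ((le_syl_of_le_normalizer sylS le_top qQ₁ (Or.inr (sQ₁E.trans nSE))).trans cSS)
  have coS : ∀ Y : Subgroup G, IsPGroup q Y → (Nat.card Y).Coprime (Nat.card S) := fun Y qY =>
    isPi_coprime (isPi_of_isPGroup hq qY) (isPi_compl_of_isPGroup hr.out rS neqr.symm)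
  have qd : q ∣ (E ⊓ C[B]).relIndex E := by
    by_contra nd
    refine ncQ₁ (coprime_abelian_faithful_omegaOne hr.out (sQ₁E.trans nSE) (coS _ qQ₁) cS rS ?_)
    rw [om1S]
    exact (le_of_isPi_of_normal_relIndex sQ₁E nsCE.2 (isPi_of_isPGroup hq qQ₁)
      ((piNat_compl_singleton_iff hq).2 nd)).trans inf_le_right
  have t1q : q ∈ tau1 M := t1CE q hq qd
  have cycQ₁ : IsCyclic Q₁ := cyclic_of_rk1 hG maxM hq (tau1_rk t1q) (sQ₁E.trans sEM) qQ₁
  have qC : q ∣ Nat.card ↥(E ⊓ C[B]) := by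
    obtain ⟨X, hX⟩ := exists_el1_of_pgroup hq qQ₁ (syl_ne_bot sylQ₁U qU)
    have sXE := hX.1.trans sQ₁E
    have t1X : IsPiSubgroup (tau1 M) X := isPi_of_isPGroup_of_mem hq (el_pgroup hX) t1q
    obtain ⟨E₁, hall1, sXE₁⟩ := exists_hall_ge (sigma_compl_sol hG maxM hallE) sXE t1X
    obtain ⟨-, E₃, hall3⟩ := ex_tau13_compl hG maxM hallE
    obtain ⟨E₂, hE⟩ := ex_tau2_compl hG maxM hallE hall1 hall3
    obtain ⟨x, xX, ntx, rfl⟩ := exists_zpowers_eq_of_prime_card (el_prime hq hX)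
    have cXE := (abelian_tau2 hG maxM hE t2r hB sylS sBS cS).2.2.2 _ sXE₁ (el_prime hq hX) (by
      rw [centralizer_zpowers]
      exact regU x (hall_le sylQ₁U (hX.1 xX)) ntx
        ((piElt_of_mem t1X xX).mono Set.subset_union_left))
    rw [← el_card1 hX]
    exact card_dvd_of_le' (le_inf sXE (cXE.trans (centralizer_anti hB.1)))
  obtain ⟨H, maxH, sNH⟩ := ex_mmax_norm_pgroup hG hr.out (el_pgroup hB) (el2_ne_bot hr.out hB)
  obtain ⟨t2q, ⟨P, sylP, nsPH⟩, -⟩ :=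
    (primes_norm_tau2Elem hG maxM hallE t2r hB maxH sNH).2.2 q hq qd qC
  have sEH : E ≤ H := nsBE.2.trans sNH
  obtain rfl : P = S := syl_eq_of_le sylS (syl_isPGroup sylP)
    (le_syl_of_le_normalizer sylP le_top rS (Or.inr ((sSE.trans sEH).trans nsPH.2))) le_top
  obtain ⟨Q, sylQ, sQ₁Q⟩ := exists_syl_ge (sQ₁E.trans sEH) qQ₁
  have qQ := syl_isPGroup sylQ
  have cQ : IsMulCommutative Q := tau2_pgroup_abelian hG maxH t2q (hall_le sylQ) qQ
  have nSQ : Q ≤ N[P] := (hall_le sylQ).trans nsPH.2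
  have sQ₀ : Q ⊓ C[P] ≤ Q₁ := by
    rw [← syl_eq_of_le sylQ₁ (qQ.to_le inf_le_left) (le_inf sQ₁Q sQ₁E) inf_le_right]
    exact inf_le_inf_left _ sCE
  have nQ : ∀ Y ≤ Q, Q ≤ N[Y] := fun Y hY => (normalIn_of_isMulCommutative cQ hY).2
  have ncyc : ¬ IsCyclic (Q /ᵍ (Q ⊓ C[P])) := by
    intro cyc
    obtain ⟨D, hD⟩ := rk_exists (n := 2) (X := Q) hq (by rw [rk_syl hq sylQ, tau2_rk t2q])
    refine not_cyclic_of_el2 (el_of_le hD fun d hd => ?_) cycQ₁
    have nQ₀ := nQ (Q ⊓ C[P]) inf_le_left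
    have dN := nQ₀ (hD.1 hd)
    refine (coset_mem_quo_iff dN sQ₀).1 (mem_of_isCyclic_of_pow_card cyc (quo_mono _ sQ₁Q)
      (coset_mem_quo dN (hD.1 hd)) (pow_eq_one_of_dvd' (m := q) ?_ ?_))
    · rw [← coset_pow dN, el_pow hD hd, coset_one]
    · refine dvd_card_of_isPGroup hq (quo_isPGroup _ qQ₁) fun e => ncQ₁ ?_
      exact ((quo_eq_bot_iff (sQ₁Q.trans nQ₀)).1 e).trans inf_le_right
  obtain ⟨Y, sYQ, cycY, ntC⟩ : ∃ Y ≤ Q, IsCyclic (Q /ᵍ Y) ∧ P ⊓ C[Y] ≠ ⊥ := by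
    by_contra hc
    push Not at hc
    exact ne_bot_mono (el2_ne_bot hr.out hB) sBS (eq_bot_iff.2
      (coprime_abelian_gen_cent cQ nSQ (coS _ qQ) fun Y hY cY => (hc Y hY cY).le))
  have ntR : ⁅P, Y⁆ ≠ ⊥ := fun e => ncyc (quo_isCyclic_of_le (nQ Y sYQ) (nQ _ inf_le_left)
    (le_inf inf_le_right (inf_le_left.trans (cent_symm (le_cent_of_commutator_eq_bot e)))) cycY)
  have defS := coprime_abelian_isDp cS (sYQ.trans nSQ) (coS _ (qQ.to_le sYQ))
  obtain ⟨nsC, nsR⟩ := abelian_tau2_norm_Sylow hG maxM hallE t2r hB sylS sBS cS (sYQ.trans nSQ)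
  have rk := rankP_of_isDp (p := r) defS
  rw [rk_syl hr.out sylSM, tau2_rk t2r] at rk
  have pos : ∀ Z ≤ P, Z ≠ ⊥ → 0 < rankP r Z := fun Z hZ nt =>
    (rk_pos_iff hr.out).2 (dvd_card_of_isPGroup hr.out (rS.to_le hZ) nt)
  have p1 := pos _ defS.le_left ntR
  have p2 := pos _ defS.le_right ntC
  have cyc : ∀ Z ≤ P, rankP r Z ≤ 1 → IsCyclic Z := fun Z hZ h =>
    cyclic_of_rk_le_one' hr.out (rS.to_le hZ) (mFT_odd hG _) h
  have fin : ∀ Z ≤ P, Z ⊴ N[P] → IsCyclic Z → U ≤ N[Z] ∧ Semiregular (sigmaCore M) Z := by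
    intro Z hZ nsZ cZ
    refine ⟨(sUE.trans nSE).trans nsZ.2, ?_⟩
    have := tau2_cyclic_reg_or hG maxM hallE t2r cZ (rS.to_le hZ) (hZ.trans sSE) gM
      (by rw [nsZ.cj_eq gN]; exact hZ.trans sSE)
    rwa [nsZ.cj_eq gN, or_self] at this
  have c1 := cyc _ defS.le_left (by omega)
  have c2 := cyc _ defS.le_right (by omega)
  rcases IsDp.exponent_or hr.out defS rS c1 c2 with h | h
  · exact ⟨_, defS.le_left, (fin _ defS.le_left nsR c1).1, (fin _ defS.le_left nsR c1).2, h⟩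
  · exact ⟨_, defS.le_right, (fin _ defS.le_right nsC c2).1, (fin _ defS.le_right nsC c2).2, h⟩

/-- B & G Theorem 12.12 (mathcomp's generalisation to a normal Hall subgroup `U` of `E`). -/
theorem FTtypeF_complement {E U : Subgroup G} (hallE : IsPiHallOf (sigma M)ᶜ E M)
    (hallU : IsHallOf U E) (nsUE : U ⊴ E) (ntU : U ≠ ⊥)
    (regU : ∀ e ∈ U, e ≠ 1 → PiElt (tau1 M ∪ tau3 M) e → sigmaCore M ⊓ C1[e] = ⊥) :
    (∃ A₀ : Subgroup G, A₀ ⊴ U ∧ IsMulCommutative A₀ ∧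
        ∀ x ∈ sigmaCore M, x ≠ 1 → U ⊓ C1[x] ≤ A₀) ∧
      ∃ V : Subgroup G, V ≤ U ∧ Monoid.exponent V = Monoid.exponent U ∧
        IsFrobenius (sigmaCore M ⊔ V) (sigmaCore M) V := by
  have sEM := hall_le hallE
  have sUE := hallU.le
  -- it is enough to find a regular subgroup that kills a Sylow subgroup for each prime
  have fin : ∀ V ≤ U, Semiregular (sigmaCore M) V →
      (∀ r : ℕ, r.Prime → r ∣ Nat.card U → ∃ R, IsSyl r R U ∧ ∀ z ∈ R, z ^ Monoid.exponent V = 1) →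
      ∃ V : Subgroup G, V ≤ U ∧ Monoid.exponent V = Monoid.exponent U ∧
        IsFrobenius (sigmaCore M ⊔ V) (sigmaCore M) V := by
    intro V sVU reg h
    have e : Monoid.exponent V = Monoid.exponent U :=
      Nat.dvd_antisymm (exponent_dvd_of_le sVU) (exponent_dvd_of_syl h)
    refine ⟨V, sVU, e, isFrobenius_sup (((sVU.trans sUE).trans sEM).trans (Msigma_normal M).2)
      (Msigma_neq1 hG maxM) ?_ reg⟩
    rintro rfl
    refine ntU (eq_bot_iff.2 fun x hx => ?_)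
    have := pow_exponent_of_mem hx
    rwa [← e, Monoid.exp_eq_one_of_subsingleton, pow_one] at this
  have reg' : ∀ e ∈ U, e ≠ 1 → PiElt (tau2 M)ᶜ e → sigmaCore M ⊓ C1[e] = ⊥ := by
    intro e eU nte he
    refine regU e eU nte fun q hq qd => ?_
    rcases (partition_pi_sigma_compl hG maxM hallE hq).1
      (qd.trans (orderOf_dvd_card_of_mem (sUE eU))) with h | h | h
    exacts [Or.inl h, absurd h (he q hq qd), Or.inr h]
  have t2C : ∀ x ∈ sigmaCore M, x ≠ 1 → IsPiSubgroup (tau2 M) (U ⊓ C1[x]) := by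
    intro x hx ntx q hq qd
    by_contra t2'q
    obtain ⟨e, he, oe⟩ := exists_orderOf_eq_prime hq qd
    have := reg' e he.1 (ne_one_of_prime_orderOf (oe ▸ hq))
      (piElt_iff.2 (oe ▸ (piNat_prime hq).2 t2'q))
    exact ne_bot_of_mem (mem_inf.2 ⟨hx, mem_centralizer_singleton_comm.1 he.2⟩) ntx this
  have sub : ∀ r : ℕ, r.Prime → r ∣ Nat.card U → ∀ R ≤ E, IsPGroup r R → R ≤ U :=
    fun r hr rU R sRE rR => le_of_normal_hall hallU.hall nsUE sRE
      (isPi_of_isPGroup_of_mem hr rR ⟨hr, rU⟩)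
  by_cases t2'U : IsPiSubgroup (tau2 M)ᶜ U
  · refine ⟨⟨⊥, bot_normalIn _, inferInstance, fun x hx ntx => ?_⟩,
      fin U le_rfl (fun e he nte => reg' e he nte (piElt_of_mem t2'U he)) fun r hr rU => ?_⟩
    · exact (isPi_eq_bot (t2C x hx ntx) (isPi_of_le t2'U inf_le_left)).le
    · haveI : Fact r.Prime := ⟨hr⟩
      obtain ⟨R, sylR⟩ := exists_syl r U
      exact ⟨R, sylR, fun z hz => pow_exponent_of_mem (hall_le sylR hz)⟩
  obtain ⟨p, hp, pU, t2p⟩ : ∃ p : ℕ, p.Prime ∧ p ∣ Nat.card U ∧ p ∈ tau2 M := by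
    by_contra hc
    push Not at hc
    exact t2'U hc
  haveI : Fact p.Prime := ⟨hp⟩
  obtain ⟨A, hA⟩ := ex_tau2Elem_of_mem hG maxM hallE t2p
  have pA := el_pgroup hA
  have sAU : A ≤ U := sub p hp pU A hA.1 pA
  obtain ⟨S, sylS, sAS⟩ := exists_syl_ge (M := ⊤) le_top pA
  by_cases cS : IsMulCommutative S
  · obtain ⟨E₁, E₂, E₃, hE⟩ := ex_sigmaCompl hG maxM hallE
    obtain ⟨⟨nsE₂, cE₂⟩, -⟩ := abelian_tau2 hG maxM hE t2p hA sylS sAS cS
    refine ⟨⟨U ⊓ E₂, nsE₂.inf_left sUE, isMulCommutative_of_le cE₂ inf_le_right,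
      fun x hx ntx => le_inf inf_le_left (le_of_normal_hall hE.hallE₂ nsE₂
        (inf_le_left.trans sUE) (t2C x hx ntx))⟩, ?_⟩
    have exZ : ∀ r : ℕ, ∃ Z : Subgroup G, Z ≤ U ⊓ E₂ ∧ U ≤ N[Z] ∧ IsPiSubgroup {r} Z ∧
        Semiregular (sigmaCore M) Z ∧ (r ∈ tau2 M → r ∣ Nat.card U →
          ∃ R, IsSyl r R U ∧ ∀ z ∈ R, z ^ Monoid.exponent Z = 1) := by
      intro r
      by_cases h : r ∈ tau2 M ∧ r ∣ Nat.card U
      · haveI hr : Fact r.Prime := ⟨tau2_prime h.1⟩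
        obtain ⟨B, R, hB, sylR, sBR, cR, sRF⟩ := abelian_tau2_syl hG maxM hallE t2p sylS cS h.1
        have sRE : R ≤ E := sRF.trans (fit_le E)
        have rR := syl_isPGroup sylR
        have sRU := sub r hr.out h.2 R sRE rR
        obtain ⟨Z, sZR, nZU, regZ, hZ⟩ :=
          ex_tau2_regular_cyclic hG maxM hallE hallU regU h.1 hB sylR sBR cR
        exact ⟨Z, sZR.trans (le_inf sRU (le_of_normal_hall hE.hallE₂ nsE₂ sRE
          (isPi_of_isPGroup_of_mem hr.out rR h.1))), nZU, isPi_of_isPGroup hr.out (rR.to_le sZR),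
          regZ, fun _ _ => ⟨R, hall_of_le sylR sRU le_top, hZ⟩⟩
      · exact ⟨⊥, bot_le, le_normalizer_bot _, isPi_bot _, semiregular_bot_right _,
          fun h1 h2 => absurd ⟨h1, h2⟩ h⟩
    choose Z sZ nZ rZ regZ expZ using exZ
    obtain ⟨U', hallU'⟩ := exists_hall (tau2 M)ᶜ
      (isSolvable_of_le (sigma_compl_sol hG maxM hallE) sUE)
    have sW : ⨆ r, Z r ≤ U ⊓ E₂ := iSup_le sZ
    have nW : U ≤ N[⨆ r, Z r] := le_normalizer_of_cj fun a ha => by
      rw [cj_iSup]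
      exact iSup_congr fun r => cj_eq_self (nZ r ha)
    have t2W : IsPiSubgroup (tau2 M) (⨆ r, Z r) :=
      isPi_of_le (hall_isPi hE.hallE₂) (sW.trans inf_le_right)
    have sU' := hall_le hallU'
    have sVU : (⨆ r, Z r) ⊔ U' ≤ U := sup_le (sW.trans inf_le_left) sU'
    refine fin _ sVU (semiregular_of_prime_order fun x hx ox => ?_) fun r hr rU => ?_
    · have ntx := ne_one_of_prime_orderOf ox
      by_cases t2r : orderOf x ∈ tau2 M
      · have xW : x ∈ ⨆ r, Z r := mem_of_normal_hall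
          (hall_sup_left (Or.inr (sU'.trans nW)) t2W (hall_isPi hallU'))
          (normalIn_sup_left (sU'.trans nW)) hx (piElt_iff.2 ((piNat_prime ox).2 t2r))
        set r := orderOf x
        have sZE₂ : Z r ≤ E₂ := (sZ r).trans inf_le_right
        have nZO : O[{r}ᶜ](E₂) ≤ N[Z r] :=
          (piCoreOf_le _ _).trans (normalIn_of_isMulCommutative cE₂ sZE₂).2
        have sW' : ⨆ r, Z r ≤ Z r ⊔ O[{r}ᶜ](E₂) := iSup_le fun r' => by
          by_cases e : r' = r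
          · rw [e]; exact le_sup_left
          · exact (le_piCoreOf (normalIn_of_isMulCommutative cE₂ ((sZ r').trans inf_le_right))
              (isPi_mono (rZ r') (Set.singleton_subset_iff.2 e))).trans le_sup_right
        exact regZ r x (mem_of_normal_hall (hall_sup_left (Or.inr nZO) (rZ r) (isPi_piCoreOf _ _))
          (normalIn_sup_left nZO) (sW' xW) (piElt_iff.2 ((piNat_prime ox).2 rfl))) ntx
      · exact reg' x (sVU hx) ntx (piElt_iff.2 ((piNat_prime ox).2 t2r))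
    · by_cases t2r : r ∈ tau2 M
      · obtain ⟨R, sylR, hR⟩ := expZ r t2r rU
        exact ⟨R, sylR, fun z hz => pow_eq_one_of_dvd' (hR z hz)
          (exponent_dvd_of_le ((le_iSup Z r).trans le_sup_left))⟩
      · haveI : Fact r.Prime := ⟨hr⟩
        obtain ⟨R, sylR⟩ := exists_syl r U'
        exact ⟨R, syl_of_hall hallU' t2r sylR, fun z hz =>
          pow_exponent_of_mem (((hall_le sylR).trans le_sup_right) hz)⟩
  · obtain ⟨-, ⟨oA₀, -⟩, -, E₀, defE, t1C⟩ :=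
      nonabelian_tau2 hG maxM hallE t2p hA (syl_isPGroup sylS) cS
    set A₀ := A ⊓ C[sigmaCore M]
    have hA₀ : ElemOf p 1 A₀ A := el1_mk hp inf_le_left oA₀
    have defU := defE.of_le_left (hA₀.1.trans sAU) sUE
    have regV : Semiregular (E₀ ⊓ U) (sigmaCore M) := by
      intro x hx ntx
      refine isPi_eq_bot (isPi_of_le (t2C x hx ntx) (inf_le_inf_right _ inf_le_right)) ?_
      exact isPi_mono (isPi_of_le (t1C x hx ntx) (inf_le_inf_right _ inf_le_left))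
        fun q h => tau2'1 h
    refine ⟨⟨A₀, defU.normal, el_comm hA₀, fun x hx ntx => ?_⟩,
      fin _ inf_le_right regV.symm fun r hr rU => ?_⟩
    · have := defU.inf_of_le_left
        (inf_le_right.trans (centralizer_le_centralizer_singleton hx) : A₀ ≤ C1[x])
      rw [regV x hx ntx] at this
      exact this.eq_of_bot_right.ge
    · haveI : Fact r.Prime := ⟨hr⟩
      by_cases e : r = p
      · subst e
        obtain ⟨T, sylT, sAT⟩ := exists_syl_ge sAU pA
        have cT := tau2_pgroup_abelian hG maxM t2p (((hall_le sylT).trans sUE).trans sEM)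
          (syl_isPGroup sylT)
        have defA := defU.of_le_left hA₀.1 sAU
        obtain ⟨a, ha, nta⟩ := exists_ne_one_of_ne_bot
          fun e => el1_ne_el2 hr hA hA₀ (defA.right_eq_bot_iff.1 e)
        have rV : r ∣ Monoid.exponent ↥(E₀ ⊓ U) := by
          rw [← orderOf_eq_prime (el_pow hA ha.2) nta]
          exact orderOf_dvd_of_pow_eq_one (pow_exponent_of_mem ha.1)
        refine ⟨T, sylT, fun z hz => ?_⟩
        obtain ⟨k, hk, v, hv, rfl⟩ := (defU.of_le_left (hA₀.1.trans sAT) (hall_le sylT)).exists_mul hz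
        have : Commute k v := comm_of_isMulCommutative cT (sAT (hA₀.1 hk)) hv.2
        rw [this.mul_pow, pow_eq_one_of_dvd' (el_pow hA₀ hk) rV, pow_exponent_of_mem hv.1, one_mul]
      · obtain ⟨R, sylR⟩ := exists_syl r (E₀ ⊓ U)
        refine ⟨R, hall_of_relIndex sylR inf_le_right ?_, fun z hz =>
          pow_exponent_of_mem (hall_le sylR hz)⟩
        rw [defU.relIndex_right, oA₀]
        exact (piNat_prime hp).2 (Ne.symm e)

end Main

end Cfsg.Agent.H88.SZ.H64
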