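import Cfsg.Agent.H88.ZMin
import Cfsg.Agent.H88.ZBG12c2
import Cfsg.Agent.H88.ZBG12D
import Cfsg.Agent.H71.BG4
import Cfsg.Agent.H3.BGUtil

/-! Bender-Glauberman section 13, part A: 13.1 - 13.6.
The numbered results are declared under the names of the team interface `H66.BG13`. -/

set_option autoImplicit false
set_option linter.unusedSectionVars false
set_option linter.unusedVariables false
set_option linter.unusedSectionVars false

namespace Cfsg.Agent.H88.SZ.H3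

open Cfsg.Agent.H3

variable [Om]

open Cfsg Subgroup Cfsg.Agent.H63 Cfsg.Agent.H67 Cfsg.Agent.H66 Cfsg.Agent.H64
open Cfsg.Agent.H88.SZ.H63 Cfsg.Agent.H88.SZ.H67 Cfsg.Agent.H88.SZ.H66 Cfsg.Agent.H88.SZ.H64

universe u

variable {G : Type u} [Group G] [Finite G]

section

variable (hG : IsMinSimpleOddOrder G) {M : Subgroup G} (maxM : IsCoatom M)
include hG maxM

theorem le_Msigma {X : Subgroup G} (sXM : X ≤ M) (sX : IsPiSubgroup (sigma M) X) :
    X ≤ sigmaCore M := le_of_normal_hall (Msigma_Hall hG maxM) (Msigma_normal M) sXM sX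

theorem le_Malpha {X : Subgroup G} (sXM : X ≤ M) (sX : IsPiSubgroup (alpha M) X) :
    X ≤ alphaCore M := le_of_normal_hall (Malpha_Hall hG maxM) (Malpha_normal M) sXM sX

theorem le_Mbeta {X : Subgroup G} (sXM : X ≤ M) (sX : IsPiSubgroup (beta M) X) :
    X ≤ betaCore M := le_of_normal_hall (Mbeta_Hall hG maxM) (Mbeta_normal M) sXM sX

theorem pgroup_le_Msigma {p : ℕ} (sp : p ∈ sigma M) {X : Subgroup G} (sXM : X ≤ M)
    (pX : IsPGroup p X) : X ≤ sigmaCore M :=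
  le_Msigma hG maxM sXM (isPi_of_isPGroup_of_mem (sigma_prime sp) pX sp)

theorem pgroup_le_Malpha {p : ℕ} (ap : p ∈ alpha M) {X : Subgroup G} (sXM : X ≤ M)
    (pX : IsPGroup p X) : X ≤ alphaCore M :=
  le_Malpha hG maxM sXM (isPi_of_isPGroup_of_mem (alpha_prime ap) pX ap)

theorem pgroup_le_Mbeta {p : ℕ} (bp : p ∈ beta M) {X : Subgroup G} (sXM : X ≤ M)
    (pX : IsPGroup p X) : X ≤ betaCore M :=
  le_Mbeta hG maxM sXM (isPi_of_isPGroup_of_mem (beta_prime bp) pX bp)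

/-- An ideal prime of `σ(M)` lies in `β(M)`. -/
theorem beta_of_sigma_of_ideal {p : ℕ} (sp : p ∈ sigma M) (bp : IsIdealPrime p G) : p ∈ beta M :=
  (mem_beta_iff hG maxM).2 ⟨sigma_prime sp, fun P hP => (ideal_iff.1 bp).2 P (sigma_Sylow_G sp hP)⟩

/-- A `τ₃(M)`-subgroup of `M` lies in `M'`. -/
theorem tau3_le_der1 {X : Subgroup G} (sXM : X ≤ M) (t3X : IsPiSubgroup (tau3 M) X) :
    X ≤ ⁅M, M⁆ := by
  obtain ⟨E, hallE, sXE⟩ := ex_sigma_compl_ge hG maxM sXM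
    (isPi_mono t3X fun _ h => tau3_not_sigma h)
  obtain ⟨E₁, E₂, E₃, hE⟩ := ex_sigmaCompl hG maxM hallE
  obtain ⟨⟨h1, h2⟩, -⟩ := sigma_compl_context hG maxM hE
  exact ((le_of_normal_hall hE.hallE₃ h2 sXE t3X).trans h1).trans
    (commutator_mono (hall_le hallE) (hall_le hallE))

/-- A `p`-subgroup of `M` lies in `M'` when `p ∈ σ(M) ∪ τ₃(M)`. -/
theorem pgroup_le_der1 {p : ℕ} (h : p ∈ tau3 M ∨ p ∈ sigma M) {X : Subgroup G} (sXM : X ≤ M)
    (pX : IsPGroup p X) : X ≤ ⁅M, M⁆ := by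
  rcases h with h | h
  · exact tau3_le_der1 hG maxM sXM (isPi_of_isPGroup_of_mem (tau3_prime h) pX h)
  · exact (pgroup_le_Msigma hG maxM h sXM pX).trans (Msigma_der1 hG maxM)

/-- A `q`-subgroup of `M'` centralizes the subgroups of `M` it normalizes whose order is prime to `q` and
to the primes of `α(M)`. -/
theorem cent_of_le_der1 {q : ℕ} [Fact q.Prime] {Q X : Subgroup G} {π : Set ℕ} (sQM' : Q ≤ ⁅M, M⁆)
    (qQ : IsPGroup q Q) (sXM : X ≤ M) (nXQ : Q ≤ N[X]) (πX : IsPiSubgroup π X)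
    (hπ : Disjoint (alpha M) π) (hq : q ∉ π) : Q ≤ C[X] :=
  cent_of_quo_nil (Malpha_normal M).norm (derived_normalIn M) (Malpha_quo_nil hG maxM) sQM' qQ sXM
    nXQ πX (isPi_mono (Malpha_pi M) (Set.disjoint_left.1 hπ)) hq

/-- `p`-subgroups of `M` are cyclic for `p ∈ τ₁(M) ∪ τ₃(M)`. -/
theorem tau13_cyclic {p : ℕ} [Fact p.Prime] (t13p : p ∈ tau1 M ∨ p ∈ tau3 M) {P : Subgroup G}
    (sPM : P ≤ M) (pP : IsPGroup p P) : IsCyclic P := by
  refine (H71.odd_pgroup_rank1_cyclic pP (mFT_odd hG P)).2 ((rk_mono sPM).trans ?_)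
  rcases t13p with h | h
  · exact (mem_tau1_iff.1 h).2.2.1.le
  · exact (mem_tau3_iff.1 h).2.2.1.le

theorem tau13_not_elem2 {p : ℕ} [Fact p.Prime] (t13p : p ∈ tau1 M ∨ p ∈ tau3 M) {A : Subgroup G}
    (hA : ElemOf p 2 A M) : False :=
  hA.not_isCyclic le_rfl (tau13_cyclic hG maxM t13p hA.le hA.isPGroup)

theorem ex_sigmaCompl_of_tau1 {E E₁ : Subgroup G} (hallE : IsPiHallOf (sigma M)ᶜ E M)
    (hallE₁ : IsPiHallOf (tau1 M) E₁ E) : ∃ E₂ E₃, SigmaCompl M E E₁ E₂ E₃ := by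
  obtain ⟨-, E₃, h3⟩ := ex_tau13_compl hG maxM hallE
  obtain ⟨E₂, h⟩ := ex_tau2_compl hG maxM hallE hallE₁ h3
  exact ⟨E₂, E₃, h⟩

theorem ex_sigmaCompl_of_tau3 {E E₃ : Subgroup G} (hallE : IsPiHallOf (sigma M)ᶜ E M)
    (hallE₃ : IsPiHallOf (tau3 M) E₃ E) : ∃ E₁ E₂, SigmaCompl M E E₁ E₂ E₃ := by
  obtain ⟨⟨E₁, h1⟩, -⟩ := ex_tau13_compl hG maxM hallE
  obtain ⟨E₂, h⟩ := ex_tau2_compl hG maxM hallE h1 hallE₃
  exact ⟨E₁, E₂, h⟩

/-- A `τ₁(M)`-subgroup of `E` lies in the `E₁` of a `SigmaCompl`. -/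
theorem ex_sigmaCompl_ge_tau1 {E X : Subgroup G} (hallE : IsPiHallOf (sigma M)ᶜ E M) (sXE : X ≤ E)
    (t1X : IsPiSubgroup (tau1 M) X) : ∃ E₁ E₂ E₃, SigmaCompl M E E₁ E₂ E₃ ∧ X ≤ E₁ := by
  obtain ⟨E₁, h1, sX⟩ := exists_hall_ge (sigma_compl_sol hG maxM hallE) sXE t1X
  obtain ⟨E₂, E₃, h⟩ := ex_sigmaCompl_of_tau1 hG maxM hallE h1
  exact ⟨E₁, E₂, E₃, h, sX⟩

/-- A `τ₁(M)`-subgroup of `M` lies in the `E₁` of a `SigmaCompl`. -/
theorem ex_sigmaCompl_ge_tau1' {X : Subgroup G} (sXM : X ≤ M) (t1X : IsPiSubgroup (tau1 M) X) :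
    ∃ E E₁ E₂ E₃, SigmaCompl M E E₁ E₂ E₃ ∧ X ≤ E₁ := by
  obtain ⟨E, hallE, sXE⟩ := ex_sigma_compl_ge hG maxM sXM (isPi_mono t1X fun _ h => tau1_not_sigma h)
  obtain ⟨E₁, E₂, E₃, h⟩ := ex_sigmaCompl_ge_tau1 hG maxM hallE sXE t1X
  exact ⟨E, E₁, E₂, E₃, h⟩

/-- If `E₃` does not act regularly on `M_σ` then `τ₂(M)` is empty. -/
theorem tau2_eq_bot_of_nonregular {E E₁ E₂ E₃ : Subgroup G} (hE : SigmaCompl M E E₁ E₂ E₃)
    (h : ¬ Semiregular (sigmaCore M) E₃) : E₂ = ⊥ := by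
  by_contra ntE₂
  obtain ⟨p, t2p, A, hA, -⟩ := ex_tau2Elem hG maxM hE.hallE hE.hallE₂ ntE₂
  haveI := Fact.mk (tau2_prime t2p)
  exact h (tau2_regular hG maxM hE t2p hA).1

end

end Cfsg.Agent.H88.SZ.H3

namespace Cfsg.Agent.H88.SZ.H66

open Cfsg.Agent.H66

variable [Om]

open Cfsg Subgroup Cfsg.Agent.H63 Cfsg.Agent.H67 Cfsg.Agent.H64
open Cfsg.Agent.H88.SZ.H63 Cfsg.Agent.H88.SZ.H67 Cfsg.Agent.H88.SZ.H64

universe u

variable {G : Type u} [Group G] [Finite G]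

section OneComplement

variable (hG : IsMinSimpleOddOrder G) {M E : Subgroup G} (maxM : IsCoatom M)
  (hallE : IsPiHallOf (sigma M)ᶜ E M)
include hG maxM hallE

/-- B & G Lemma 13.1. -/
theorem Msigma_setI_mmax_central {p : ℕ} [Fact p.Prime] {H : Subgroup G} (maxH : IsCoatom H)
    (piEp : p ∣ Nat.card E) (piHp : p ∣ Nat.card H) (t1'p : p ∉ tau1 H)
    (ntR : ⁅sigmaCore M ⊓ H, M ⊓ H⁆ ≠ ⊥) (notjMH : ¬ Conj M H) :
    (∀ P : Subgroup G, P ≤ M ⊓ H → IsPGroup p P → P ≤ C[sigmaCore M ⊓ H]) ∧ p ∉ tau2 H ∧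
      (p ∈ tau1 M → IsIdealPrime p G) := by
  have hp : p.Prime := Fact.out
  have nsMs := Msigma_normal M
  have s'p : p ∉ sigma M := hall_isPi hallE p hp piEp
  have sRMs : ⁅sigmaCore M ⊓ H, M ⊓ H⁆ ≤ sigmaCore M :=
    (commutator_mono inf_le_left inf_le_left).trans nsMs.commutator_le
  have sRH' : ⁅sigmaCore M ⊓ H, M ⊓ H⁆ ≤ ⁅H, H⁆ := commutator_mono inf_le_right inf_le_right
  obtain ⟨q, hq, qR⟩ := exists_prime_dvd_card ntR
  haveI := Fact.mk hq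
  have sMq : q ∈ sigma M := Msigma_pi M q hq (qR.trans (card_dvd_of_le' sRMs))
  obtain ⟨Y, sylY⟩ := exists_syl q ⁅H, H⁆
  have ntY : Y ≠ ⊥ := syl_ne_bot sylY (qR.trans (card_dvd_of_le' sRH'))
  have sYH : Y ≤ H := (hall_le sylY).trans (derived_normalIn H).le
  have defH : IsMul (betaCore H) (H ⊓ N[Y]) H :=
    H3.isMul_norm_syl_of_quo_nil (Mbeta_normal H) (derived_normalIn H) (Mbeta_der1 hG maxH)
      (Mbeta_quo_nil hG maxH) sylY
  have hJ := (sigma_Jsub hG maxM (isPi_of_isPGroup_of_mem hq (syl_isPGroup sylY) sMq) ntY).2 E H p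
    hallE hp piEp
  have b'H : ¬ IsIdealPrime p G → ¬ p ∣ Nat.card (betaCore H) := fun h h' =>
    h (beta_sub_betaG (Mbeta_pi H p hp h'))
  have t2'p : p ∉ tau2 H := by
    intro t2p
    have b'p := (tau2_not_beta hG maxH t2p).1
    obtain ⟨S, sylS⟩ := exists_syl p (H ⊓ N[Y])
    have h1 := (hJ b'p maxH sYH notjMH).1
    rw [← H3.rk_syl sylS, H3.rk_syl (H3.hall_of_isMul_compl defH ((isPi_compl_singleton_iff hp).2 (b'H b'p))
      sylS), (mem_tau2_iff.1 t2p).2.2] at h1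
    omega
  have h3s : p ∈ tau3 H ∨ p ∈ sigma H := by
    rcases (partition_pi_mmax hG maxH hp).1 piHp with h | h | h
    · exact absurd h t1'p
    · exact absurd h t2'p
    · exact h
  refine ⟨fun P sP pP => ?_, t2'p, fun t1p => ?_⟩
  · refine H3.cent_of_le_der1 hG maxH (π := sigma M) (H3.pgroup_le_der1 hG maxH h3s (sP.trans inf_le_right) pP)
      pP inf_le_right ?_ (isPi_of_le (Msigma_pi M) inf_le_left)
      (sigma_disjoint hG maxH maxM fun h => notjMH h.symm).2.1 s'p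
    exact le_normalizer_inf ((sP.trans inf_le_left).trans nsMs.norm)
      (le_normalizer_of_le (sP.trans inf_le_right))
  · by_contra b'p
    refine (hJ b'p maxH sYH notjMH).2 t1p
      (H3.dvd_card_derived_of_isMul hp defH (Mbeta_normal H) ?_ (b'H b'p))
    obtain ⟨S, sylS⟩ := exists_syl p H
    exact (dvd_card_of_isPGroup hp (syl_isPGroup sylS) (syl_ne_bot sylS piHp)).trans
      (card_dvd_of_le' (H3.pgroup_le_der1 hG maxH h3s (hall_le sylS) (syl_isPGroup sylS)))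

/-- B & G Corollary 13.2. -/
theorem cent_norm_tau13_mmax {p : ℕ} [Fact p.Prime] {P H : Subgroup G}
    (t13p : p ∈ tau1 M ∨ p ∈ tau3 M) (sPM : P ≤ M) (pP : IsPGroup p P) (maxH : IsCoatom H)
    (sNPH : N[P] ≤ H) (hw : p ∈ ϖ := by w_tac) :
    (∀ P₁ : Subgroup G, P₁ ≤ M ⊓ H → IsPGroup p P₁ → P₁ ≤ C[sigmaCore M ⊓ H]) ∧
      (∀ X : Subgroup G, X ≤ E ⊓ H → IsPiSubgroup (tau1 H)ᶜ X → X ≤ C[sigmaCore M ⊓ H]) ∧
      (⁅sigmaCore M ⊓ H, M ⊓ H⁆ ≠ ⊥ → p ∈ sigma H ∧ (p ∈ tau1 M → p ∈ beta H)) := by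
  have hp : p.Prime := Fact.out
  have sEM := hall_le hallE
  by_cases ntR : ⁅sigmaCore M ⊓ H, M ⊓ H⁆ = ⊥
  · have h := cent_symm (le_cent_of_commutator_eq_bot ntR)
    exact ⟨fun P₁ h1 _ => h1.trans h, fun X h1 _ => (h1.trans (inf_le_inf_right _ sEM)).trans h,
      fun h1 => absurd ntR h1⟩
  have notjMH : ¬ Conj M H := fun hc => mmax_norm_notJ hG maxM maxH pP sPM sNPH (Or.inr t13p) hc
  have hs2 := prime_class_mmax_norm hG maxH pP sNPH
  have piEp : p ∣ Nat.card E := (partition_pi_sigma_compl hG maxM hallE hp).2 (by tauto)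
  have piHp : p ∣ Nat.card H := hs2.elim sigma_sub_pi tau2_sub_pi
  have t1'p : p ∉ tau1 H := fun h => hs2.elim (tau1_not_sigma h) (tau2'1 h)
  obtain ⟨h1, h2, h3⟩ := Msigma_setI_mmax_central hG maxM hallE maxH piEp piHp t1'p ntR notjMH
  have sHp : p ∈ sigma H := hs2.resolve_right h2
  refine ⟨h1, fun X sX t1'X => ?_, fun _ => ⟨sHp, fun t1p => H3.beta_of_sigma_of_ideal hG maxH sHp (h3 t1p)⟩⟩
  refine H3.le_cent_of_forall_pgroup fun q _ qX Q sylQ => ?_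
  refine (Msigma_setI_mmax_central hG maxM hallE maxH
    (qX.trans (card_dvd_of_le' (sX.trans inf_le_left)))
    (qX.trans (card_dvd_of_le' (sX.trans inf_le_right))) (t1'X q Fact.out qX) ntR notjMH).1 Q ?_
    (syl_isPGroup sylQ)
  exact ((hall_le sylQ).trans sX).trans (inf_le_inf_right _ sEM)

/-- B & G Corollary 13.3(a). -/
theorem cyclic_primact_Msigma {p : ℕ} [Fact p.Prime] {P : Subgroup G} (sylP : IsSyl p P E)
    (cycP : IsCyclic P) : Semiprime (sigmaCore M) P := by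
  have hp : p.Prime := Fact.out
  refine semiprime_of_prime_subgroups fun X sXP prX => ?_
  have ntX : X ≠ ⊥ := ne_bot_of_prime_card prX
  have pP := syl_isPGroup sylP
  have pX : IsPGroup p X := pP.to_le sXP
  have sPM : P ≤ M := (hall_le sylP).trans (hall_le hallE)
  have t13p : p ∈ tau1 M ∨ p ∈ tau3 M := by
    rcases (partition_pi_sigma_compl hG maxM hallE hp).1
      (dvd_card_of_syl_ne_bot sylP (ne_bot_mono ntX sXP)) with h | h | h
    · exact Or.inl h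
    · have h1 := ((tau2E hG maxM hallE).1 h).2
      have h2 := (H71.odd_pgroup_rank1_cyclic pP (mFT_odd hG P)).1 cycP
      rw [H3.rk_syl sylP] at h2
      omega
    · exact Or.inr h
  by_cases wX : IsPiSubgroup ϖ X
  swap
  · rw [inf_cent_eq_bot_of_not_w hG (w_sigmaCore M) wX]; exact bot_le
  have hw : p ∈ ϖ := wp_of_pgroup hp pX ntX wX
  obtain ⟨H, maxH, sNXH⟩ := mmax_exists_norm hG ntX (mFT_pgroup_proper hG hp pX)
  have h1 := (cent_norm_tau13_mmax hG maxM hallE t13p (sXP.trans sPM) pX maxH sNXH).1 P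
    (le_inf sPM ((le_norm_of_isCyclic cycP sXP le_normalizer).trans sNXH)) pP
  exact (inf_le_inf_left _ ((centralizer_le_normalizer _).trans sNXH)).trans (cent_symm h1)

/-- B & G Corollary 13.3(b). -/
theorem tau3_primact_Msigma {E₃ : Subgroup G} (hallE₃ : IsPiHallOf (tau3 M) E₃ E) :
    Semiprime (sigmaCore M) E₃ := by
  obtain ⟨E₁, E₂, hE⟩ := H3.ex_sigmaCompl_of_tau3 hG maxM hallE hallE₃
  obtain ⟨⟨sE₃E', nsE₃E⟩, -, ⟨-, cycE₃⟩, -⟩ := sigma_compl_context hG maxM hE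
  refine semiprime_of_prime_subgroups fun X sXE₃ prX => ?_
  haveI := Fact.mk prX
  have ntX : X ≠ ⊥ := ne_bot_of_prime_card prX
  have pX : IsPGroup (Nat.card X) X := isPGroup_of_card_eq_prime rfl
  have t3p : Nat.card X ∈ tau3 M := hall_isPi hallE₃ _ prX (card_dvd_of_le' sXE₃)
  by_cases wX : IsPiSubgroup ϖ X
  swap
  · rw [inf_cent_eq_bot_of_not_w hG (w_sigmaCore M) wX]; exact bot_le
  have hw : Nat.card X ∈ ϖ := wp_of_pgroup prX pX ntX wX
  obtain ⟨H, maxH, sNXH⟩ := mmax_exists_norm hG ntX (mFT_pgroup_proper hG prX pX)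
  have sEH : E ≤ H := (normalIn_of_isCyclic cycE₃ sXE₃ nsE₃E).norm.trans sNXH
  have h1 := (cent_norm_tau13_mmax hG maxM hallE (Or.inr t3p)
    ((sXE₃.trans nsE₃E.le).trans (hall_le hallE)) pX maxH sNXH).2.1 E₃
    (le_inf nsE₃E.le (nsE₃E.le.trans sEH)) fun r _ hr t1r => (mem_tau1_iff.1 t1r).2.2.2
      (hr.trans (card_dvd_of_le' (sE₃E'.trans (commutator_mono sEH sEH))))
  exact (inf_le_inf_left _ ((centralizer_le_normalizer _).trans sNXH)).trans (cent_symm h1)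

/-- The configuration analysed in the proof of 13.4. -/
theorem _root_.Cfsg.Agent.H88.SZ.H3.cent_tau1Elem_aux {p r q : ℕ} [Fact p.Prime] [Fact r.Prime] [Fact q.Prime]
    {P R S : Subgroup G} (t1p : p ∈ tau1 M) (hP : ElemOf p 1 P E) (hR : ElemOf r 1 R (E ⊓ C[P]))
    (qS : IsPGroup q S) (sS : S ≤ sigmaCore M ⊓ C[P]) (nSR : R ≤ N[S]) (ncSR : ¬ S ≤ C[R]) :
    q ∉ alpha M ∧ r ∈ tau1 M ∧ alphaCore M ⊓ C[R] ≠ ⊥ ∧ alphaCore M ⊓ C[R ⊔ ⁅S, R⁆] = ⊥ := by
  have hp : p.Prime := Fact.out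
  have hq : q.Prime := Fact.out
  have hr : r.Prime := Fact.out
  have sEM := hall_le hallE
  have sRE : R ≤ E := hR.le.trans inf_le_left
  have cRP : R ≤ C[P] := hR.le.trans inf_le_right
  have sSMs : S ≤ sigmaCore M := sS.trans inf_le_left
  have cSP : S ≤ C[P] := sS.trans inf_le_right
  have sSM : S ≤ M := sSMs.trans (Msigma_normal M).le
  have ntQ : ⁅S, R⁆ ≠ ⊥ := fun h => ncSR (le_cent_of_commutator_eq_bot h)
  have sQS : ⁅S, R⁆ ≤ S := commutator_le_of_norm_left nSR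
  have qQ : IsPGroup q ↥⁅S, R⁆ := qS.to_le sQS
  have sMq : q ∈ sigma M :=
    mem_of_isPi_of_isPGroup hq qS (ne_bot_mono ntQ sQS) (isPi_of_le (Msigma_pi M) sSMs)
  have s'r : r ∉ sigma M := hall_isPi hallE r hr ((hR.mono inf_le_left).dvd_card' one_ne_zero)
  have neqr : q ≠ r := fun h => s'r (h ▸ sMq)
  have ntP := hP.ne_bot one_ne_zero
  have wP : IsPiSubgroup ϖ P := w_of_inf_cent hG (w_sigmaCore M) (ne_bot_mono (ne_bot_mono ntQ sQS) sS)
  have hw : p ∈ ϖ := wp_of_pgroup hp hP.isPGroup ntP wP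
  obtain ⟨L, maxL, sNPL⟩ := mmax_exists_norm hG ntP (mFT_pgroup_proper hG hp hP.isPGroup)
  have sCPL : C[P] ≤ L := (centralizer_le_normalizer _).trans sNPL
  have sPL : P ≤ L := le_normalizer.trans sNPL
  have notjML : ¬ Conj M L :=
    fun hc => mmax_norm_notJ hG maxM maxL hP.isPGroup (hP.le.trans sEM) sNPL (Or.inr (Or.inl t1p)) hc
  have neML : M ≠ L := fun h => notjML (h ▸ conj_refl M)
  have sSML : S ≤ sigmaCore M ⊓ L := le_inf sSMs (cSP.trans sCPL)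
  obtain ⟨-, h2, h3⟩ :=
    cent_norm_tau13_mmax hG maxM hallE (Or.inl t1p) (hP.le.trans sEM) hP.isPGroup maxL sNPL
  have bLp : p ∈ beta L := (h3 (ne_bot_mono ntQ
    (commutator_mono sSML (le_inf (sRE.trans sEM) (cRP.trans sCPL))))).2 t1p
  have t1Lr : r ∈ tau1 L := by
    by_contra h
    exact ncSR (sSML.trans (cent_symm (h2 R (le_inf sRE (cRP.trans sCPL))
      (isPi_of_isPGroup_of_mem hr hR.isPGroup h))))
  have cSS : IsMulCommutative S := by
    by_contra h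
    exact neML (eq_of_inU (nonabelian_Uniqueness hG qS h) maxM sSM maxL (cSP.trans sCPL))
  have regQ : ⁅S, R⁆ ⊓ C[R] = ⊥ := by
    rw [inf_comm]
    exact H4.centralizer_inf_commutator_eq_bot nSR
      (H3.coprime_of_isPGroup_of_ne hr hq hR.isPGroup qS neqr)
  have nQR : R ≤ N[⁅S, R⁆] := le_norm_commutator_right S R
  have uNQ : UniqMax N[⁅S, R⁆] L := by
    by_contra h
    have sPLa : P ≤ alphaCore L := H3.pgroup_le_Malpha hG maxL (beta_sub_alpha bLp) sPL hP.isPGroup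
    have h4 := ((cent_Malpha_reg_tau1 hG maxL t1Lr neqr (hR.of_le (cRP.trans sCPL)) ntQ nQR regQ h).1
      (ne_bot_mono ntP sPLa)
      (Set.disjoint_right.1 (sigma_disjoint hG maxL maxM fun h => notjML h.symm).2.1 sMq) qQ
      (sQS.trans (cSP.trans sCPL))).2
    exact ntP (eq_bot_iff.2 (h4 ▸ le_inf sPLa (cent_symm (sup_le cRP (sQS.trans cSP)))))
  obtain ⟨-, -, h5, h6⟩ :=
    sigma_subgroup_embedding hG maxM sMq (sQS.trans sSM) qQ ntQ maxL uNQ.le neML.symm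
  have sLq : q ∈ sigma L := by
    by_contra h
    exact hall_isPi (h6 h).2.2 p hp
      ((hP.of_le (le_inf (hP.le.trans sEM) sPL)).dvd_card' one_ne_zero) (beta_sub_sigma hG maxL bLp)
  obtain ⟨-, h7, -, ntMa⟩ := h5 sLq
  have t1r : r ∈ tau1 M := (h7 t1Lr).resolve_right fun h => s'r (alpha_sub_sigma hG maxM h)
  have a'q : q ∉ alpha M := Set.disjoint_right.1 (sigma_disjoint hG maxM maxL notjML).2.1 sLq
  exact ⟨a'q, t1r, (cent_Malpha_reg_tau1 hG maxM t1r neqr (hR.of_le (sRE.trans sEM)) ntQ nQR regQ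
    fun h => neML (h.unique uNQ)).1 ntMa a'q qQ (sQS.trans sSM)⟩

theorem _root_.Cfsg.Agent.H88.SZ.H3.cent_tau1Elem_Malpha {p r : ℕ} [Fact p.Prime] [Fact r.Prime]
    {P R : Subgroup G} (t1p : p ∈ tau1 M) (hP : ElemOf p 1 P E) (hR : ElemOf r 1 R (E ⊓ C[P])) :
    alphaCore M ⊓ C[P] ≤ C[R] := by
  by_contra h
  have sRE : R ≤ E := hR.le.trans inf_le_left
  have sMa := Malpha_sub_Msigma hG maxM
  obtain ⟨q, hq, qK, S, sylS, nSR, ncSR⟩ := H3.exists_inv_syl_not_cent (B := R)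
    (le_normalizer_inf ((sRE.trans (hall_le hallE)).trans (Malpha_normal M).norm)
      (le_normalizer_of_le (hR.le.trans inf_le_right)))
    (isPi_coprime' (isPi_of_le (hall_isPi hallE) sRE)
      (isPi_of_le (Msigma_pi M) (inf_le_left.trans sMa)))
    (Or.inl (isSolvable_of_isMulCommutative hR.comm)) h
  haveI := Fact.mk hq
  exact (H3.cent_tau1Elem_aux hG maxM hallE t1p hP hR (syl_isPGroup sylS)
    ((hall_le sylS).trans (inf_le_inf_right _ sMa)) nSR ncSR).1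
    (Malpha_pi M q hq (qK.trans (card_dvd_of_le' inf_le_left)))

/-- B & G Theorem 13.4. -/
theorem cent_tau1Elem_Msigma {p r : ℕ} [Fact p.Prime] [Fact r.Prime] {P R : Subgroup G}
    (t1p : p ∈ tau1 M) (hP : ElemOf p 1 P E) (hR : ElemOf r 1 R (E ⊓ C[P])) :
    sigmaCore M ⊓ C[P] ≤ sigmaCore M ⊓ C[R] := by
  refine le_inf inf_le_left ?_
  by_contra h
  have sRE : R ≤ E := hR.le.trans inf_le_left
  have cRP : R ≤ C[P] := hR.le.trans inf_le_right
  obtain ⟨q, hq, -, S, sylS, nSR, ncSR⟩ := H3.exists_inv_syl_not_cent (B := R)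
    (le_normalizer_inf ((sRE.trans (hall_le hallE)).trans (Msigma_normal M).norm)
      (le_normalizer_of_le cRP))
    (isPi_coprime' (isPi_of_le (hall_isPi hallE) sRE) (isPi_of_le (Msigma_pi M) inf_le_left))
    (Or.inl (isSolvable_of_isMulCommutative hR.comm)) h
  haveI := Fact.mk hq
  obtain ⟨-, t1r, h1, h2⟩ :=
    H3.cent_tau1Elem_aux hG maxM hallE t1p hP hR (syl_isPGroup sylS) (hall_le sylS) nSR ncSR
  have h3 := H3.cent_tau1Elem_Malpha hG maxM hallE t1p hP hR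
  have h4 := H3.cent_tau1Elem_Malpha hG maxM hallE t1r (hR.mono inf_le_left)
    (hP.of_le (le_inf hP.le (cent_symm cRP)))
  have nDS : S ≤ N[alphaCore M ⊓ C[P]] :=
    le_normalizer_inf ((((hall_le sylS).trans inf_le_left).trans (Msigma_normal M).le).trans
      (Malpha_normal M).norm) (le_normalizer_of_le ((hall_le sylS).trans inf_le_right))
  have h5 : ⁅S, R⁆ ≤ C[alphaCore M ⊓ C[P]] :=
    (commutator_mono le_rfl (cent_symm h3)).trans
      (commutator_le_of_norm_right (le_normalizer_centralizer nDS))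
  refine h1 (eq_bot_iff.2 (h2 ▸ le_inf inf_le_left ?_))
  exact (le_inf inf_le_left h4).trans (cent_symm (sup_le (cent_symm h3) h5))

/-- B & G Theorem 13.5. -/
theorem tau1_primact_Msigma {E₁ : Subgroup G} (hallE₁ : IsPiHallOf (tau1 M) E₁ E) :
    Semiprime (sigmaCore M) E₁ := by
  obtain ⟨E₂, E₃, hE⟩ := H3.ex_sigmaCompl_of_tau1 hG maxM hallE hallE₁
  obtain ⟨-, -, ⟨cycE₁, -⟩, -⟩ := sigma_compl_context hG maxM hE
  refine semiprime_of_prime_subgroups fun P sPE₁ prP => cent_symm ?_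
  haveI := Fact.mk prP
  have t1p : Nat.card P ∈ tau1 M := hall_isPi hallE₁ _ prP (card_dvd_of_le' sPE₁)
  refine H3.le_cent_of_forall_pgroup fun r _ rE₁ R₁ sylR₁ => cent_symm ?_
  have hr : r.Prime := Fact.out
  obtain ⟨R, hR⟩ := exists_elemOf_one hr
    (dvd_card_of_isPGroup hr (syl_isPGroup sylR₁) (syl_ne_bot sylR₁ rE₁))
  have sRE₁ : R ≤ E₁ := hR.le.trans (hall_le sylR₁)
  have h1 := cent_tau1Elem_Msigma hG maxM hallE t1p
    ((H67.elemOf_one_iff prP).2 ⟨sPE₁.trans (hall_le hallE₁), rfl⟩)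
    (hR.of_le (le_inf (sRE₁.trans (hall_le hallE₁))
      (le_cent_of_comm (isMulCommutative_of_isCyclic cycE₁) sRE₁ sPE₁)))
  have h2 := (cyclic_primact_Msigma hG maxM hallE
    (syl_of_hall hallE₁ (hall_isPi hallE₁ r hr rE₁) sylR₁)
    (isCyclic_of_le' cycE₁ (hall_le sylR₁))).inf_cent hR.le (hR.ne_bot one_ne_zero)
  exact h1.trans (h2.le.trans inf_le_right)

/-- B & G Lemma 13.6. -/
theorem cent_cent_Msigma_tau1_uniq {E₁ P X : Subgroup G} {q : ℕ} [Fact q.Prime]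
    (hallE₁ : IsPiHallOf (tau1 M) E₁ E) (sPE₁ : P ≤ E₁) (ntP : P ≠ ⊥)
    (hX : ElemOf q 1 X (sigmaCore M ⊓ C[P])) :
    UniqMax C[X] M ∧ ∀ S : Subgroup G, IsSyl q S (sigmaCore M) → UniqMax S M := by
  have hq : q.Prime := Fact.out
  have nsMs := Msigma_normal M
  have sEM := hall_le hallE
  have sE₁E := hall_le hallE₁
  refine cent_der_sigma_uniq hG maxM (hX.mono (inf_le_left.trans nsMs.le)) ?_
  by_contra hcon
  obtain ⟨b'q, nsXMs'⟩ := not_or.1 hcon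
  have primE₁ := tau1_primact_Msigma hG maxM hallE hallE₁
  rw [primE₁.inf_cent sPE₁ ntP] at hX
  obtain ⟨E₂, E₃, hE⟩ := H3.ex_sigmaCompl_of_tau1 hG maxM hallE hallE₁
  obtain ⟨⟨sE₃E', -⟩, -, -, ⟨⟨-, defE⟩, -⟩, -⟩ := sigma_compl_context hG maxM hE
  have nMsE₁ : E₁ ≤ N[sigmaCore M] := (sE₁E.trans sEM).trans nsMs.norm
  have coE₁ : (Nat.card E₁).Coprime (Nat.card (sigmaCore M)) :=
    isPi_coprime' (isPi_of_le (hall_isPi hallE) sE₁E) (Msigma_pi M)
  have solE₁ : Group.IsSolvable E₁ := mmax_sub_sol hG maxM (sE₁E.trans sEM)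
  -- an `E₁`-invariant Sylow `q`-subgroup of `M_σ` centralized by `E'`
  obtain ⟨H, hallH, cE'H⟩ := der_compl_cent_beta' hG maxM hallE
  obtain ⟨S, sylS, nSE₁⟩ := coprime_syl_exists q (K := sigmaCore M ⊓ C[⁅E, E⁆])
    (le_normalizer_inf nMsE₁ (le_normalizer_centralizer (sE₁E.trans (le_normalizer_derived E))))
    (H4.coprime_of_le_right coE₁ inf_le_left) (Or.inl solE₁)
  have sylS' : IsSyl q S (sigmaCore M) := by
    refine hall_of_relIndex sylS inf_le_left ?_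
    refine ((hall_relIndex hallH).of_dvd
      (relIndex_dvd_of_le_left _ (le_inf (hall_le hallH) (cent_symm cE'H)))).mono ?_
    rintro r hr rfl
    exact hr b'q
  obtain ⟨S₁, sylS₁, nS₁E₁, sXS₁⟩ := coprime_syl_subset nMsE₁ coE₁ (Or.inl solE₁)
    (hX.le.trans inf_le_left) hX.isPGroup
    (le_normalizer_of_le_centralizer' (hX.le.trans inf_le_right))
  obtain ⟨c, hc, rfl⟩ := coprime_syl_trans nMsE₁ coE₁ (Or.inl solE₁) sylS₁ nS₁E₁ sylS' nSE₁
  set Y := cj c X with hY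
  have hYE : ElemOf q 1 Y (sigmaCore M ⊓ C[E₁]) := hX.cj_of_mem_normalizer (le_normalizer hc)
  have cYE₁ : Y ≤ C[E₁] := hYE.le.trans inf_le_right
  have cYE' : Y ≤ C[⁅E, E⁆] := (cj_mono sXS₁).trans ((hall_le sylS).trans inf_le_right)
  have ntE₂ : E₂ ≠ ⊥ := by
    rintro rfl
    refine nsXMs' ?_
    have h1 : Y ≤ C[E] := by
      rw [← defE.sup, bot_sup_eq, centralizer_sup]
      exact le_inf (cYE'.trans (centralizer_anti sE₃E')) cYE₁
    have h2 := (le_inf (hYE.le.trans inf_le_left) h1).trans (sigma_compl_embedding hG maxM hallE).1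
    rw [hY, cj_le_iff_le_cj_inv, cj_eq_self (le_normalizer_derived _ (inv_mem hc.1))] at h2
    exact h2
  obtain ⟨p, t2p, A, hA, -⟩ := ex_tau2Elem hG maxM hallE hE.hallE₂ ntE₂
  have hp := tau2_prime t2p
  haveI := Fact.mk hp
  obtain ⟨⟨nsAE, -⟩, -⟩ := tau2_compl_context hG maxM hallE t2p hA
  obtain ⟨-, -, regA, -⟩ := tau2_context hG maxM t2p (hA.mono sEM)
  obtain ⟨P₀, sP₀P, prP₀⟩ := exists_prime_card_le_of_ne_bot ntP
  haveI := Fact.mk prP₀
  have sP₀E₁ : P₀ ≤ E₁ := sP₀P.trans sPE₁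
  have t1p₀ : Nat.card P₀ ∈ tau1 M := hall_isPi hallE₁ _ prP₀ (card_dvd_of_le' sP₀E₁)
  have h1 : A ⊓ C[E₁] ≤ C[Y] := by
    intro a ha
    by_cases a1 : a = 1
    · rw [a1]; exact one_mem _
    have h2 := cent_tau1Elem_Msigma hG maxM hallE t1p₀
      ((H67.elemOf_one_iff prP₀).2 ⟨sP₀E₁.trans sE₁E, rfl⟩)
      ((elemOf_one_zpowers_of_elemAb hp hA.elemAb ha.1 a1).of_le
        (zpowers_le.2 ⟨hA.le ha.1, centralizer_anti sP₀E₁ ha.2⟩))
    have h3 := (hYE.le.trans (inf_le_inf_left _ (centralizer_anti sP₀E₁))).trans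
      (h2.trans inf_le_right)
    exact cent_symm h3 (mem_zpowers a)
  have h2 : A ≤ C[Y] := by
    rw [← H4.commutator_sup_centralizer (sE₁E.trans nsAE.norm)
      ((isPi_piNat (hall_isPi hallE₁)).coprime_of_disjoint (isPi_of_isPGroup_of_mem hp hA.isPGroup t2p)
        fun _ _ h => tau2'1 h) (Or.inl solE₁)]
    exact sup_le ((commutator_mono hA.le sE₁E).trans (cent_symm cYE')) h1
  exact hYE.ne_bot one_ne_zero
    (eq_bot_iff.2 (regA ▸ le_inf (hYE.le.trans inf_le_left) (cent_symm h2)))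

end OneComplement

end Cfsg.Agent.H88.SZ.H66
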