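import Cfsg.Agent.H88.ZMin
import Cfsg.Agent.H88.ZBG14a2

/-!
Bender–Glauberman, 14.4–14.6.
-/

set_option autoImplicit false
set_option linter.unusedSectionVars false
set_option linter.unusedVariables false
set_option linter.unusedSectionVars false

namespace Cfsg.Agent.H88.SZ.H63

open Cfsg.Agent.H63

variable [Om]

open Cfsg Subgroup Cfsg.Agent.H67 Cfsg.Agent.H66 Cfsg.Agent.H64
open Cfsg.Agent.H88.SZ.H67 Cfsg.Agent.H88.SZ.H66 Cfsg.Agent.H88.SZ.H64

universe u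
variable {G : Type u} [Group G] [Finite G]

omit [Finite G] in
/-- The number of conjugates of a subgroup is the index of its normalizer. -/
theorem ncard_conj (M : Subgroup G) : {L : Subgroup G | Conj M L}.ncard = N[M].index := by
  rw [← Nat.card_coe_set_eq, index]
  refine (Nat.card_congr (Equiv.ofBijective (fun q : G ⧸ N[M] => Quotient.liftOn' q
    (fun g => (⟨cj g M, conj_cj g M⟩ : {L : Subgroup G | Conj M L})) ?_) ⟨?_, ?_⟩)).symm
  · intro a b h
    rw [QuotientGroup.leftRel_apply] at h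
    exact Subtype.ext (cj_eq_cj_iff.2 h).symm
  · intro a b
    induction a using QuotientGroup.induction_on with | H a =>
    induction b using QuotientGroup.induction_on with | H b =>
    intro h
    have h' : cj a M = cj b M := congrArg Subtype.val h
    exact QuotientGroup.eq.2 (cj_eq_cj_iff.1 h'.symm)
  · rintro ⟨L, g, rfl⟩
    exact ⟨(g : G ⧸ N[M]), rfl⟩

section Main
variable (hG : IsMinSimpleOddOrder G) {M K U : Subgroup G}
include hG

/-- BG 14.4, the main argument. -/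
theorem FT_signalizer_aux {x : G} (hx : SigMax x M) (ntx : x ≠ 1) {L₀ : Subgroup G}
    (hL₀ : SigMax x L₀) (ne : L₀ ≠ M) :
    ∃ N, SigBase x N ∧ sigmaCore N ⊓ C1[x] ≠ ⊥ ∧ PiElt (tau2 N) x ∧ (FType N ∨ P2Type N) ∧
      tau2 N ⊆ sigma M ∧ (∀ p ∈ sigma N, p ∣ Nat.card M → p ∈ beta N) ∧
      IsPiHallOf (sigma N)ᶜ (M ⊓ N) N ∧
      ∀ L, SigMax x L → ∃ u ∈ sigmaCore N ⊓ C1[x], L = cj u M := by
  obtain ⟨q, X, hq, hd, hX⟩ := exists_prime_card_le_zpowers ntx
  have := Fact.mk hq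
  have qX := hX.isPGroup
  have ntX := hX.ne_bot one_ne_zero
  obtain ⟨N, maxN, sN⟩ := ex_mmax_norm_pgroup hG hq qX ntX (wp_of_sigma (hx.piElt q hq hd))
  have sCX : C1[x] ≤ C[X] := centralizer_zpowers x ▸ centralizer_anti hX.le
  have sCN : C1[x] ≤ N := sCX.trans ((centralizer_le_normalizer _).trans sN)
  have xN : x ∈ N := sCN (mem_centralizer_singleton_self x)
  have sq : ∀ {L}, SigMax x L → q ∈ sigma L := fun h => h.piElt q hq hd
  have sXL : ∀ {L}, SigMax x L → X ≤ L := fun h => hX.le.trans (zpowers_le.2 h.mem')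
  have neN : ∀ {L}, SigMax x L → N ≠ L := by
    rintro L hL rfl
    have key : ∀ {L'}, SigMax x L' → L' = N := by
      intro L' hL'
      obtain ⟨c, hc, e⟩ := sigma_group_trans_b hG maxN (sq hL) qX (conj_refl N)
        (hL.conj hG hL' ntx) (sXL hL) (sXL hL')
      rw [e, cj_eq_self_of_mem (sN (centralizer_le_normalizer _ hc))]
    exact ne ((key hL₀).trans (key hx).symm)
  have emb := fun {L} (hL : SigMax x L) =>
    sigma_subgroup_embedding hG hL.max (sq hL) (sXL hL) qX ntX maxN sN (neN hL)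
  have dj : Disjoint (sigma M) (sigma N) := sigma_partition hG hx.max maxN (emb hx).1
  have s'q : q ∉ sigma N := Set.disjoint_left.1 dj (sq hx)
  have s'x : PiElt (sigma N)ᶜ x := hx.piElt.mono (Set.subset_compl_iff_disjoint_right.2 dj)
  have t2q : q ∈ tau2 N := ((emb hx).2.2.2 s'q).1
  have hall : ∀ {L}, SigMax x L → IsPiHallOf (sigma N)ᶜ (L ⊓ N) N :=
    fun h => ((emb h).2.2.2 s'q).2.2
  have eqL : ∀ {L L'}, SigMax x L → SigMax x L' → L ⊓ N = L' ⊓ N → L' = L := by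
    intro L L' hL hL' e
    obtain ⟨S, sylS, sXS⟩ := exists_syl_ge (le_inf (sXL hL) (le_normalizer.trans sN)) qX
    have h1 := ((emb hL).2.1 S sylS sXS).1
    obtain ⟨c, hc, e'⟩ := sigma_group_trans_b hG hL.max (sq hL) (syl_isPGroup sylS) (conj_refl L)
      (hL.conj hG hL' ntx) ((hall_le sylS).trans inf_le_left)
      ((e ▸ hall_le sylS).trans inf_le_left)
    rw [e', cj_eq_self_of_mem (h1 (centralizer_le_normalizer _ hc))]
  have trans : ∀ L, SigMax x L → ∃ u ∈ sigmaCore N ⊓ C1[x], L = cj u M := by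
    intro L hL
    have d := sdprod_sigma hG maxN (hall hx)
    have d' := sdprod_sigma hG maxN (hall hL)
    obtain ⟨u, hu, e⟩ := H68.sdp_conj_of_coprime d d'
      (isPi_coprime (Msigma_pi N) (hall_isPi (hall hx))) (Or.inl (mmax_sub_sol hG maxN inf_le_right))
    have uN : u ∈ N := (Msigma_normal N).le hu
    have h1 : u * x * u⁻¹ * x⁻¹ = 1 := by
      refine d'.eq_one ?_ (mul_mem (e ▸ conj_mem_cj ⟨hx.mem', xN⟩) (inv_mem ⟨hL.mem', xN⟩))
      have := mul_mem hu ((Msigma_normal N).conj_mem xN (inv_mem hu))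
      simpa only [mul_assoc] using this
    have cu : u ∈ C1[x] := by
      rw [mem_centralizer_singleton_iff]
      calc u * x = u * x * u⁻¹ * x⁻¹ * (x * u) := by group
        _ = x * u := by rw [h1, one_mul]
    refine ⟨u, ⟨hu, cu⟩, eqL (hx.cj_of_cent cu) hL ?_⟩
    rw [e, cj_inf, cj_eq_self_of_mem uN]
  obtain ⟨u, hu, e⟩ := trans L₀ hL₀
  have ntu : u ≠ 1 := by rintro rfl; exact ne (by rw [e, cj_one])
  have k'q : q ∉ kappa N := fun h => kappa_tau2' h t2q
  obtain ⟨t2x, -, uniqN⟩ := (pi_of_cent_sigma hG maxN hu.1 ntu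
    ⟨xN, mem_centralizer_singleton_comm.1 hu.2⟩ ntx s'x).resolve_left fun h => k'q (h.1 q hq hd)
  refine ⟨N, ⟨uniqN, fun h => s'q (piElt_of_mem (Msigma_pi N) h q hq hd)⟩, ne_bot_of_mem hu ntu, t2x,
    (ftype_or_p2type_iff maxN).2 fun h => ?_, fun p t2p => ?_,
    fun p sp hp => ((emb hx).2.2.2 s'q).2.1 p hp sp, hall hx, trans⟩
  · exact (h.2 q hq (hd.trans (orderOf_dvd_card_of_mem xN))).elim s'q k'q
  · obtain ⟨A, hA⟩ := ex_tau2Elem_of_mem hG maxN (hall hx) t2q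
    exact ((primes_norm_tau2Elem hG maxN (hall hx) t2q hA hx.max (norm_noncyclic_sigma hG hx.max
      (sq hx) hA.isPGroup (hA.le.trans inf_le_left) (hA.not_isCyclic le_rfl))).1 p t2p).1

theorem cent1_le_iff_uniq_sigMax {x : G} (hx : SigMax x M) (ntx : x ≠ 1) :
    C1[x] ≤ M ↔ ∀ L, SigMax x L → L = M := by
  refine ⟨fun h L hL => ?_, cent1_sub_uniq_sigma_mmax hG hx⟩
  by_contra ne
  obtain ⟨N, hN, -⟩ := FT_signalizer_aux hG hx ntx hL ne
  exact hN.not_cent1_le hx h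

theorem FT_signalizer_aux' {x : G} (hx : SigMax x M) (ntx : x ≠ 1) (hC : ¬ C1[x] ≤ M) :
    ∃ N, SigBase x N ∧ sigmaCore N ⊓ C1[x] ≠ ⊥ ∧ PiElt (tau2 N) x ∧ (FType N ∨ P2Type N) ∧
      tau2 N ⊆ sigma M ∧ (∀ p ∈ sigma N, p ∣ Nat.card M → p ∈ beta N) ∧
      IsPiHallOf (sigma N)ᶜ (M ⊓ N) N ∧
      ∀ L, SigMax x L → ∃ u ∈ sigmaCore N ⊓ C1[x], L = cj u M := by
  rw [cent1_le_iff_uniq_sigMax hG hx ntx] at hC
  simp only [not_forall] at hC
  obtain ⟨L, hL, ne⟩ := hC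
  exact FT_signalizer_aux hG hx ntx hL ne

/-- BG 14.4, existence of the signalizer base. -/
theorem FT_signalizer_base_exists {x : G} (hx : SigMax x M) (ntx : x ≠ 1) (hC : ¬ C1[x] ≤ M) :
    ∃ N, SigBase x N :=
  (FT_signalizer_aux' hG hx ntx hC).imp fun _ h => h.1

theorem sigBase_of_le {x : G} (hx : SigMax x M) (ntx : x ≠ 1) (hC : ¬ C1[x] ≤ M) {N : Subgroup G}
    (maxN : IsCoatom N) (hN : C1[x] ≤ N) : SigBase x N := by
  obtain ⟨N', h⟩ := FT_signalizer_base_exists hG hx ntx hC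
  rwa [h.1.eq maxN hN]

/-- BG 14.4, the part depending on `N = N(x)` (`R(x) = sigmaCore N ⊓ C1[x]`, see `SigBase.FTsig_eq`). -/
theorem FT_signalizer_context {x : G} (hx : SigMax x M) (ntx : x ≠ 1) {N : Subgroup G}
    (hN : SigBase x N) :
    sigmaCore N ⊓ C1[x] ≠ ⊥ ∧ PiElt (tau2 N) x ∧ (FType N ∨ P2Type N) ∧
      IsSdp (sigmaCore N ⊓ C1[x]) (M ⊓ C1[x]) C1[x] ∧ tau2 N ⊆ sigma M ∧
      (∀ p ∈ sigma N, p ∣ Nat.card M → p ∈ beta N) ∧ IsPiHallOf (sigma N)ᶜ (M ⊓ N) N := by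
  obtain ⟨N', hN', h1, h2, h3, h4, h5, h6, h7⟩ := FT_signalizer_aux' hG hx ntx (hN.not_cent1_le hx)
  obtain rfl := hN.unique hN'
  refine ⟨h1, h2, h3, isSdp_of_isMul ⟨inf_le_right, inf_le_right, fun c hc => ?_⟩ ?_ ?_, h4, h5, h6⟩
  · obtain ⟨u, hu, e⟩ := h7 _ (hx.cj_of_cent hc)
    refine ⟨u, hu, u⁻¹ * c, mem_inf.2 ⟨?_, mul_mem (inv_mem (mem_inf.1 hu).2) hc⟩, by group⟩
    have := cj_eq_cj_iff.1 e
    rwa [norm_mmax hG hx.max] at this
  · exact inf_le_right.trans (le_normalizer_inf (hN.le.trans (Msigma_normal N).norm) le_normalizer)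
  · exact _root_.eq_bot_iff.2 ((sdprod_sigma hG hN.max h6).inf ▸
      inf_le_inf inf_le_left (inf_le_inf_left _ hN.le))

/-- BG 14.4, general part: `C(x) = R(x) ⋊ C_M(x)` with `R(x)` a Hall subgroup. -/
theorem FT_signalizer_sdp {x : G} (hx : SigMax x M) (ntx : x ≠ 1) :
    IsSdp (FTsig x) (M ⊓ C1[x]) C1[x] ∧
      (Nat.card (FTsig x)).Coprime (Nat.card ↥(M ⊓ C1[x])) := by
  by_cases hC : C1[x] ≤ M
  · rw [FTsig_of_cent1_le hx hC, inf_eq_right.2 hC]
    exact ⟨isSdp_bot_left _, by simp⟩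
  · obtain ⟨N, hN⟩ := FT_signalizer_base_exists hG hx ntx hC
    obtain ⟨-, -, -, h, -, -, h'⟩ := FT_signalizer_context hG hx ntx hN
    rw [hN.FTsig_eq]
    exact ⟨h, isPi_coprime (isPi_of_le (Msigma_pi N) inf_le_left)
      (isPi_of_le (hall_isPi h') (inf_le_inf_left _ hN.le))⟩

/-- BG 14.4, general part: `R(x)` is sharply transitive on `𝓜_σ(x)`. -/
theorem FT_signalizer_trans {x : G} (hx : SigMax x M) (ntx : x ≠ 1) {L : Subgroup G}
    (hL : SigMax x L) : ∃! r, r ∈ FTsig x ∧ cj r M = L := by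
  refine existsUnique_of_exists_of_unique ?_ ?_
  · by_cases hC : C1[x] ≤ M
    · exact ⟨1, one_mem _, by rw [cj_one, (cent1_le_iff_uniq_sigMax hG hx ntx).1 hC L hL]⟩
    · obtain ⟨N, hN, -, -, -, -, -, -, h⟩ := FT_signalizer_aux' hG hx ntx hC
      obtain ⟨u, hu, e⟩ := h L hL
      exact ⟨u, hN.FTsig_eq ▸ hu, e.symm⟩
  · rintro r s ⟨hr, e⟩ ⟨hs, e'⟩
    have h1 := cj_eq_cj_iff.1 (e.trans e'.symm)
    rw [norm_mmax hG hx.max] at h1
    have h2 := mul_mem (inv_mem hs) hr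
    have := (FT_signalizer_sdp hG hx ntx).1.eq_one h2 ⟨h1, cent1_signalizer x h2⟩
    exact (inv_mul_eq_one.1 this).symm

theorem card_FT_signalizer {x : G} (h : Ell1 x) :
    Nat.card (FTsig x) = {M : Subgroup G | SigMax x M}.ncard := by
  obtain ⟨ntx, M, hx⟩ := h
  rw [← Nat.card_coe_set_eq]
  refine Nat.card_congr (Equiv.ofBijective (fun r : FTsig x =>
    (⟨cj r M, hx.cj_of_cent (cent1_signalizer x r.2)⟩ : {M : Subgroup G | SigMax x M})) ⟨?_, ?_⟩)
  · intro r s e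
    exact Subtype.ext ((FT_signalizer_trans hG hx ntx
      (hx.cj_of_cent (cent1_signalizer x s.2))).unique ⟨r.2, congrArg Subtype.val e⟩ ⟨s.2, rfl⟩)
  · rintro ⟨L, hL⟩
    obtain ⟨r, hr, e⟩ := (FT_signalizer_trans hG hx ntx hL).exists
    exact ⟨⟨r, hr⟩, Subtype.ext e⟩

theorem SigBase.disjoint {x : G} {N : Subgroup G} (hN : SigBase x N) (hx : SigMax x M) :
    Disjoint (sigma M) (sigma N) :=
  (sigma_eq_or_disjoint hG hx.max hN.max).resolve_left fun e =>
    hN.2 (mem_Msigma hG hN.max hN.mem (e ▸ hx.piElt))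

theorem FT_signalizer_sigma' {x : G} (hx : SigMax x M) (ntx : x ≠ 1) :
    IsPiSubgroup (sigma M)ᶜ (FTsig x) := by
  rcases FTsig_cases x with h | ⟨N, hN, h⟩
  · rw [h]; exact isPi_bot _
  · rw [h]
    exact isPi_mono (isPi_of_le (Msigma_pi N) inf_le_left)
      (Set.subset_compl_iff_disjoint_left.2 (hN.disjoint hG hx))

/-- The Prelude's signalizer agrees with `R(x)`. -/
theorem supportR_eq_FTsig {x : G} (hx : SigMax x M) (ntx : x ≠ 1) : supportR M x = FTsig x := by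
  unfold supportR
  split_ifs with h
  · have h1 := Classical.choose_spec h.2.exists
    have hN := sigBase_of_le hG hx ntx h.1 h1.1 h1.2
    rw [hN.FTsig_eq, notP1type_Fcore hG (FT_signalizer_context hG hx ntx hN).2.2.1]
  · by_cases hC : C1[x] ≤ M
    · exact (FTsig_of_cent1_le hx hC).symm
    · obtain ⟨N, hN⟩ := FT_signalizer_base_exists hG hx ntx hC
      exact absurd ⟨hC, N, ⟨hN.max, hN.le⟩, fun L hL => hN.1.eq hL.1 hL.2⟩ h

theorem tildeOf_eq (maxM : IsCoatom M) :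
    tildeOf M ((sigmaCore M : Set G) \ {1}) = classSupport (sigmaSupport M) ⊤ := by
  ext g
  constructor
  · rintro ⟨a, ⟨ha, nta⟩, r, hr, y, rfl⟩
    rw [supportR_eq_FTsig hG ⟨maxM, ha⟩ nta] at hr
    exact ⟨a * r, ⟨a, ha, nta, mem_sigmaCover.2 ⟨r, hr, rfl⟩⟩, y, mem_top y, rfl⟩
  · rintro ⟨_, ⟨a, ha, nta, h⟩, y, -, rfl⟩
    obtain ⟨r, hr, rfl⟩ := mem_sigmaCover.1 h
    exact ⟨a, ⟨ha, nta⟩, r, by rwa [supportR_eq_FTsig hG ⟨maxM, ha⟩ nta], y, rfl⟩

theorem ell1_of_mem_FTsig {x y : G} (hy : y ∈ FTsig x) (nty : y ≠ 1) : Ell1 y := by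
  obtain ⟨N, hN, h⟩ := exists_sigBase_of_mem hy nty
  exact Msigma_ell1 hN.max h nty

theorem sigma_cover_decomposition {x y : G} (h : Ell1 x) (hy : y ∈ FTsig x) :
    sigmaDecomp (x * y) = insert x ({y} \ {1}) := by
  obtain ⟨ntx, M, hx⟩ := h
  rw [sigmaDecomp_mul hG hx.max ntx hx.piElt (piElt_of_mem (FT_signalizer_sigma' hG hx ntx) hy)
    (commute_of_mem_FTsig hy)]
  by_cases h1 : y = 1
  · rw [h1, sigmaDecomp_one, sdiff_self]; rfl
  · rw [ell1_decomposition hG (ell1_of_mem_FTsig hG hy h1), Set.sdiff_singleton_eq_self]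
    exact fun h => h1 (Set.mem_singleton_iff.1 h).symm

theorem nt_sigma_cover_decomposition {x y : G} (h : Ell1 x) (hy : y ∈ FTsig x) (nty : y ≠ 1) :
    sigmaDecomp (x * y) = {x, y} := by
  rw [sigma_cover_decomposition hG h hy, Set.sdiff_singleton_eq_self]
  exact fun h => nty (Set.mem_singleton_iff.1 h).symm

theorem mem_sigma_cover_decomposition {x g : G} (h : Ell1 x) (hg : g ∈ sigmaCover x) :
    x ∈ sigmaDecomp g := by
  obtain ⟨r, hr, rfl⟩ := mem_sigmaCover.1 hg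
  rw [sigma_cover_decomposition hG h hr]
  exact Set.mem_insert _ _

theorem ell_sigma_cover {x g : G} (h : Ell1 x) (hg : g ∈ sigmaCover x) :
    (sigmaDecomp g).ncard ≤ 2 := by
  obtain ⟨r, hr, rfl⟩ := mem_sigmaCover.1 hg
  rw [sigma_cover_decomposition hG h hr]
  refine (Set.ncard_insert_le _ _).trans (Nat.succ_le_succ ?_)
  exact (Set.ncard_le_ncard Set.sdiff_subset).trans (Set.ncard_singleton r).le

theorem ne_one_of_mem_sigmaCover {x g : G} (h : Ell1 x) (hg : g ∈ sigmaCover x) : g ≠ 1 := by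
  rintro rfl
  have := mem_sigma_cover_decomposition hG h hg
  rw [sigmaDecomp_one] at this
  exact this

theorem one_notMem_sigmaSupport (maxM : IsCoatom M) : (1 : G) ∉ sigmaSupport M := by
  rintro ⟨x, hx, ntx, h⟩
  exact ne_one_of_mem_sigmaCover hG (Msigma_ell1 maxM hx ntx) h rfl

/-- BG 14.5(a). -/
theorem sigma_cover_disjoint {x y : G} (hx : Ell1 x) (hy : Ell1 y) (hxy : x ≠ y) :
    Disjoint (sigmaCover x) (sigmaCover y) := by
  refine Set.disjoint_left.2 fun g h₁ h₂ => ?_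
  have key : ∀ {x y : G}, Ell1 x → Ell1 y → x ≠ y → g ∈ sigmaCover x → g ∈ sigmaCover y →
      y ∈ FTsig x := by
    intro x y hx hy hxy h₁ h₂
    have h := mem_sigma_cover_decomposition hG hy h₂
    obtain ⟨r, hr, rfl⟩ := mem_sigmaCover.1 h₁
    rw [sigma_cover_decomposition hG hx hr] at h
    rcases h with h | h
    · exact absurd h.symm hxy
    · rw [Set.mem_singleton_iff.1 h.1]; exact hr
  obtain ⟨N, hN, yN⟩ := exists_sigBase_of_mem (key hx hy hxy h₁ h₂) hy.ne_one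
  obtain ⟨L, hL, xL⟩ := exists_sigBase_of_mem (key hy hx hxy.symm h₂ h₁) hx.ne_one
  have hall := (FT_signalizer_context hG ⟨hL.max, xL⟩ hx.ne_one hN).2.2.2.2.2.2
  exact hy.ne_one ((sdprod_sigma hG hN.max hall).eq_one yN ⟨hL.mem, (Msigma_normal N).le yN⟩)

/-- BG 14.5(b). -/
theorem sigma_support_disjoint (maxM : IsCoatom M) {L : Subgroup G} (maxL : IsCoatom L)
    (h : ¬ Conj M L) : Disjoint (sigmaSupport M) (sigmaSupport L) := by
  refine Set.disjoint_left.2 ?_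
  rintro g ⟨x, hx, ntx, h₁⟩ ⟨y, hy, nty, h₂⟩
  by_cases e : x = y
  · subst e
    exact h (SigMax.conj hG ⟨maxM, hx⟩ ⟨maxL, hy⟩ ntx)
  · exact Set.disjoint_left.1 (sigma_cover_disjoint hG (Msigma_ell1 maxM hx ntx)
      (Msigma_ell1 maxL hy nty) e) h₁ h₂

theorem class_sigma_support_disjoint (maxM : IsCoatom M) {L : Subgroup G} (maxL : IsCoatom L)
    (h : ¬ Conj M L) :
    Disjoint (classSupport (sigmaSupport M) ⊤) (classSupport (sigmaSupport L) ⊤) := by
  refine Set.disjoint_left.2 fun g h₁ h₂ => ?_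
  obtain ⟨z, h₁⟩ := mem_classSupport_sigmaSupport.1 h₁
  obtain ⟨w, h₂⟩ := mem_classSupport_sigmaSupport.1 h₂
  exact Set.disjoint_left.1 (sigma_support_disjoint hG (isCoatom_cj maxM) (isCoatom_cj maxL)
    fun h' => h (((conj_cj z M).trans h').trans (conj_cj w L).symm)) h₁ h₂

omit hG [Finite G] in
theorem ncard_sigmaCover (x : G) : (sigmaCover x).ncard = Nat.card (FTsig x) := by
  rw [← Nat.card_coe_set_eq]
  refine Nat.card_congr (Equiv.ofBijective (fun g : sigmaCover x => (⟨x⁻¹ * g, g.2⟩ : FTsig x))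
    ⟨fun a b e => Subtype.ext (mul_left_cancel (congrArg Subtype.val e)), fun r =>
      ⟨⟨x * r, by simp [sigmaCover]⟩, Subtype.ext (by simp)⟩⟩)

/-- BG 14.5(c). -/
theorem card_class_support_sigma (maxM : IsCoatom M) :
    (classSupport (sigmaSupport M) ⊤).ncard = (Nat.card (sigmaCore M) - 1) * M.index := by
  classical
  have := Fintype.ofFinite G
  have := Fintype.ofFinite (Subgroup G)
  set T : Finset G := Finset.univ.filter fun x => x ≠ 1 ∧ ∃ L, Conj M L ∧ x ∈ sigmaCore L with hT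
  set C : Finset (Subgroup G) := Finset.univ.filter fun L => Conj M L with hC
  have maxC : ∀ {L}, Conj M L → IsCoatom L := fun ⟨g, e⟩ => e ▸ isCoatom_cj maxM
  have ellT : ∀ x ∈ T, Ell1 x := fun x hx => by
    obtain ⟨ntx, L, hL, h⟩ := (Finset.mem_filter.1 hx).2
    exact Msigma_ell1 (maxC hL) h ntx
  have h1 : classSupport (sigmaSupport M) ⊤ = ↑(T.biUnion fun x => (sigmaCover x).toFinset) := by
    ext g
    rw [mem_classSupport_sigmaSupport, Finset.mem_coe, Finset.mem_biUnion]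
    constructor
    · rintro ⟨z, x, hx, ntx, h⟩
      exact ⟨x, Finset.mem_filter.2 ⟨Finset.mem_univ _, ntx, _, conj_cj z M, hx⟩, Set.mem_toFinset.2 h⟩
    · rintro ⟨x, hx, h⟩
      obtain ⟨ntx, _, ⟨z, rfl⟩, hx⟩ := (Finset.mem_filter.1 hx).2
      exact ⟨z, x, hx, ntx, Set.mem_toFinset.1 h⟩
  have h2 : ∀ x ∈ T, (sigmaCover x).toFinset.card =
      (C.bipartiteAbove (fun x L => x ∈ sigmaCore L) x).card := by
    intro x hx
    rw [← Set.ncard_eq_toFinset_card', ncard_sigmaCover, card_FT_signalizer hG (ellT x hx),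
      ← Set.ncard_coe_finset]
    congr 1
    ext L
    obtain ⟨ntx, L', hL', h⟩ := (Finset.mem_filter.1 hx).2
    rw [Finset.mem_coe, Finset.mem_bipartiteAbove, hC, Finset.mem_filter]
    exact ⟨fun h' => ⟨⟨Finset.mem_univ _, hL'.trans (SigMax.conj hG ⟨maxC hL', h⟩ h' ntx)⟩, h'.mem⟩,
      fun h' => ⟨maxC h'.1.2, h'.2⟩⟩
  have h3 : ∀ L ∈ C, (T.bipartiteBelow (fun x L => x ∈ sigmaCore L) L).card =
      Nat.card (sigmaCore M) - 1 := by
    intro L hL
    have hL' := (Finset.mem_filter.1 hL).2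
    have : Nat.card (sigmaCore L) = Nat.card (sigmaCore M) := by
      obtain ⟨g, rfl⟩ := hL'
      rw [MsigmaJ, card_cj]
    rw [← this, ← Set.ncard_coe_finset, ← SetLike.coe_sort_coe, Nat.card_coe_set_eq,
      ← Set.ncard_sdiff_singleton_of_mem (one_mem (sigmaCore L))]
    congr 1
    ext x
    rw [Finset.mem_coe, Finset.mem_bipartiteBelow, hT, Finset.mem_filter]
    exact ⟨fun h => ⟨h.2, h.1.2.1⟩, fun h => ⟨⟨Finset.mem_univ _, h.2, L, hL', h.1⟩, h.1⟩⟩
  have h4 : C.card = M.index := by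
    have h5 := ncard_conj M
    rw [norm_mmax hG maxM] at h5
    rw [← Set.ncard_coe_finset, ← h5]
    congr 1
    ext L
    simp [hC]
  rw [h1, Set.ncard_coe_finset, Finset.card_biUnion, Finset.sum_congr rfl h2,
    Finset.sum_card_bipartiteAbove_eq_sum_card_bipartiteBelow, Finset.sum_congr rfl h3,
    Finset.sum_const, h4, smul_eq_mul, mul_comm]
  intro x hx y hy hxy
  exact Set.disjoint_toFinset.2 (sigma_cover_disjoint hG (ellT x hx) (ellT y hy) hxy)

theorem cent1_le_of_kappa {y z : G} (hy : SigMax y M) (nty : y ≠ 1) (hz : z ∈ M ⊓ C1[y])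
    (ntz : z ≠ 1) (kz : PiElt (kappa M) z) : C1[y] ≤ M := by
  rcases pi_of_cent_sigma hG hy.max hy.mem nty hz ntz (kz.mono (kappa_subset_sigma' M)) with h | h
  · exact h.2
  · obtain ⟨p, hp, hd⟩ := exists_prime_dvd_orderOf ntz
    exact absurd (h.1 p hp hd) (kappa_tau2' (kz p hp hd))

/-- BG 14.6. -/
theorem sigma_decomposition_dichotomy {g : G} (ntg : g ≠ 1) (hw : PiElt ϖ g := by w_tac) :
    Xor' (∃ x, Ell1 x ∧ g ∈ sigmaCover x)
      (∃ y M, y ≠ 1 ∧ SigMax y M ∧ y⁻¹ * g ∈ M ⊓ C1[y] ∧ y⁻¹ * g ≠ 1 ∧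
        PiElt (kappa M) (y⁻¹ * g)) := by
  by_cases hA : ∃ x, Ell1 x ∧ g ∈ sigmaCover x
  · refine Or.inl ⟨hA, ?_⟩
    rintro ⟨y, M, nty, hy, hz, ntz, kz⟩
    obtain ⟨x, hx, hg⟩ := hA
    have sCM := cent1_le_of_kappa hG hy nty hz ntz kz
    have cyz : Commute y (y⁻¹ * g) := (mem_centralizer_singleton_iff.1 hz.2).symm
    have h1 : y ∈ sigmaDecomp g := by
      have := sigmaDecomp_mul hG hy.max nty hy.piElt (kz.mono (kappa_subset_sigma' M)) cyz
      rw [mul_inv_cancel_left] at this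
      rw [this]; exact Set.mem_insert _ _
    obtain ⟨r, hr, rfl⟩ := mem_sigmaCover.1 hg
    rw [sigma_cover_decomposition hG hx hr] at h1
    rcases h1 with rfl | h1
    · rw [inv_mul_cancel_left] at ntz
      obtain ⟨N, hN, -⟩ := exists_sigBase_of_mem hr ntz
      exact hN.not_cent1_le hy sCM
    · obtain rfl : y = r := h1.1
      rw [(commute_of_mem_FTsig hr).eq, inv_mul_cancel_left] at kz
      obtain ⟨N, hN, yN⟩ := exists_sigBase_of_mem hr nty
      obtain rfl := (cent1_le_iff_uniq_sigMax hG hy nty).1 sCM N ⟨hN.max, yN⟩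
      obtain ⟨ntx, L, hL⟩ := hx
      obtain ⟨p, hp, hd⟩ := exists_prime_dvd_orderOf ntx
      exact kappa_tau2' (kz p hp hd) ((FT_signalizer_context hG hL ntx hN).2.1 p hp hd)
  · refine Or.inr ⟨?_, hA⟩
    by_contra hB
    have s'g : ∀ M : Subgroup G, IsCoatom M → g ∈ M → constt (sigma M) g = 1 := by
      intro M maxM gM
      by_contra nty
      have hy : SigMax (constt (sigma M) g) M :=
        ⟨maxM, mem_Msigma hG maxM (constt_mem _ gM) (piElt_constt _ g)⟩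
      have s'z := piElt_compl_constt_inv_mul (sigma M) g
      have cyg : g ∈ C1[constt (sigma M) g] :=
        cent1_le_cent1_constt _ g (mem_centralizer_singleton_self g)
      set y := constt (sigma M) g
      have hz : y⁻¹ * g ∈ M ⊓ C1[y] := mem_inf.2 ⟨mul_mem (inv_mem hy.mem') gM,
        mul_mem (inv_mem (mem_centralizer_singleton_self y)) cyg⟩
      have ntz : y⁻¹ * g ≠ 1 := fun h => hA ⟨y, ⟨nty, M, hy⟩, by
        rw [← inv_mul_eq_one.1 h]; exact self_mem_sigmaCover y⟩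
      rcases pi_of_cent_sigma hG maxM hy.mem nty hz ntz s'z with h | ⟨-, h1, h2⟩
      · exact hB ⟨y, M, nty, hy, hz, ntz, h.1⟩
      · have hN : SigBase (y⁻¹ * g) M :=
          ⟨h2, fun h => ntz ((piElt_of_mem (Msigma_pi M) h).eq_one s'z)⟩
        refine hA ⟨_, h1, mem_sigmaCover.2 ⟨y, ?_, ?_⟩⟩
        · rw [hN.FTsig_eq]; exact ⟨hy.mem, mem_centralizer_singleton_comm.1 hz.2⟩
        · rw [mem_centralizer_singleton_iff.1 hz.2, mul_inv_cancel_left]
    obtain ⟨M₀, maxM₀, ntx⟩ := exists_constt_sigma_ne_one hG ntg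
    obtain ⟨z, hx⟩ := exists_sigMax_of_piElt hG maxM₀ (piElt_constt (sigma M₀) g)
    have cxg : g ∈ C1[constt (sigma M₀) g] :=
      cent1_le_cent1_constt _ g (mem_centralizer_singleton_self g)
    have key : ∀ w, g ∉ cj w M₀ := fun w h => ntx (sigmaJ w M₀ ▸ s'g _ (isCoatom_cj maxM₀) h)
    obtain ⟨N, hN⟩ := FT_signalizer_base_exists hG hx ntx fun h => key z (h cxg)
    have hall := (FT_signalizer_context hG hx ntx hN).2.2.2.2.2.2
    have gN := hN.le cxg
    obtain ⟨n, -, h⟩ := exists_le_cj_hall (mmax_sol hG hN.max) hall (zpowers_le.2 gN)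
      (isPi_zpowers_iff.2 (constt_eq_one_iff.1 (s'g N hN.max gN)))
    exact key (n * z) (cj_mul n z M₀ ▸ cj_mono inf_le_left (h (mem_zpowers g)))

end Main

end Cfsg.Agent.H88.SZ.H63
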