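import Cfsg.Agent.H88.ZMin
import Cfsg.Agent.H88.ZBG14a3
import Cfsg.Agent.H63.Frob
import Cfsg.Agent.H63.Constt
import Cfsg.Agent.H72.TICount

/-!
Bender–Glauberman, section 14: the counting argument of Theorem 14.7.
-/

set_option autoImplicit false
set_option linter.unusedSectionVars false
set_option linter.unusedVariables false

namespace Cfsg.Agent.H88.SZ.H3

open Cfsg.Agent.H3

variable [Om]

open Cfsg Subgroup Cfsg.Agent.H63 Cfsg.Agent.H67 Cfsg.Agent.H66 Cfsg.Agent.H64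
open Cfsg.Agent.H88.SZ.H63 Cfsg.Agent.H88.SZ.H67 Cfsg.Agent.H88.SZ.H66 Cfsg.Agent.H88.SZ.H64
open Cfsg.Agent.H68 (cycV mem_cycV)

universe u

section Count
variable {α ι : Type*} [Finite α]

theorem sum_ncard_le_of_disjoint (S : Finset ι) (f : ι → Set α)
    (hd : ∀ i ∈ S, ∀ j ∈ S, i ≠ j → Disjoint (f i) (f j)) (W : Set α) (h : ∀ i ∈ S, f i ⊆ W) :
    ∑ i ∈ S, (f i).ncard ≤ W.ncard := by
  classical
  induction S using Finset.induction_on generalizing W with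
  | empty => simp
  | insert a s ha ih =>
    rw [Finset.sum_insert ha]
    have h1 := ih (fun i hi j hj => hd i (Finset.mem_insert_of_mem hi) j (Finset.mem_insert_of_mem hj))
      (W \ f a) (fun i hi x hx => ⟨h i (Finset.mem_insert_of_mem hi) hx, fun hxa =>
        Set.disjoint_left.1 (hd i (Finset.mem_insert_of_mem hi) a (Finset.mem_insert_self _ _)
          (fun e => ha (e ▸ hi))) hx hxa⟩)
    have h2 := Set.ncard_sdiff_add_ncard_of_subset (h a (Finset.mem_insert_self _ _)) (Set.toFinite W)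
    omega

theorem ncard_le_sum_of_cover (S : Finset ι) (f : ι → Set α) (W : Set α)
    (h : ∀ x ∈ W, ∃ i ∈ S, x ∈ f i) : W.ncard ≤ ∑ i ∈ S, (f i).ncard := by
  classical
  induction S using Finset.induction_on generalizing W with
  | empty =>
    have : W = ∅ := Set.eq_empty_of_forall_notMem fun x hx => by simpa using h x hx
    simp [this]
  | insert a s ha ih =>
    rw [Finset.sum_insert ha]
    have h1 := ih (W \ f a) (fun x hx => by
      obtain ⟨i, hi, hxi⟩ := h x hx.1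
      rcases Finset.mem_insert.1 hi with rfl | hi
      · exact absurd hxi hx.2
      · exact ⟨i, hi, hxi⟩)
    have h2 := Set.ncard_le_ncard_sdiff_add_ncard W (f a) (Set.toFinite (f a))
    omega

end Count

variable {G : Type u} [Group G] [Finite G]

/-- `L ∈ 𝓜_𝓟` with Hall `κ(L)`-subgroup `K` and `K K* = Z`. -/
structure GoodP (Z L K : Subgroup G) : Prop where
  P : PType L
  hall : IsPiHallOf (kappa L) K L
  sup : K ⊔ (sigmaCore L ⊓ C[K]) = Z

section Good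
variable (hG : IsMinSimpleOddOrder G) {Z L K L' K' : Subgroup G}
include hG

omit hG [Finite G] in
theorem goodP_self (PL : PType L) (hall : IsPiHallOf (kappa L) K L) :
    GoodP (K ⊔ (sigmaCore L ⊓ C[K])) L K := ⟨PL, hall, rfl⟩

theorem GoodP.norm (h : GoodP Z L K) : L ⊓ N[K] = Z := by
  rw [← h.sup]; exact (Ptype_structure_b hG h.P h.hall).1.sup.symm

theorem GoodP.dp (h : GoodP Z L K) : IsDp K (sigmaCore L ⊓ C[K]) Z := by
  rw [← h.norm hG]; exact (Ptype_structure_b hG h.P h.hall).1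

theorem GoodP.le (h : GoodP Z L K) : Z ≤ L := by
  rw [← h.norm hG]; exact inf_le_left

theorem GoodP.wZ (h : GoodP Z L K) : IsPiSubgroup ϖ Z :=
  (h.dp hG).isMul.isPi (w_of_kappa hG (hall_isPi h.hall)) (isPi_of_le (w_sigmaCore L) inf_le_left)

theorem GoodP.norm_prime (h : GoodP Z L K) {X : Subgroup G} (sX : X ≤ K) (prX : (Nat.card X).Prime) :
    L ⊓ N[X] = Z := by
  rw [← h.norm hG]; exact ((Ptype_structure_b hG h.P h.hall).2 X sX prX).1

omit hG in
theorem GoodP.ntK (h : GoodP Z L K) : K ≠ ⊥ := (ntrivg_kappa h.P.max h.hall).2 h.P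

theorem GoodP.ntKs (h : GoodP Z L K) : sigmaCore L ⊓ C[K] ≠ ⊥ :=
  (Ptype_structure_c hG h.P h.hall).1

omit hG in
theorem piKs (L K : Subgroup G) : IsPiSubgroup (sigma L) (sigmaCore L ⊓ C[K]) :=
  isPi_of_le (Msigma_pi L) inf_le_left

theorem GoodP.hallKs (h : GoodP Z L K) : IsPiHallOf (sigma L) (sigmaCore L ⊓ C[K]) Z :=
  (h.dp hG).isMul.hall_right (kappa_hall_sigma' h.hall) (piKs L K)

theorem GoodP.hallK (h : GoodP Z L K) : IsPiHallOf (sigma L)ᶜ K Z :=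
  hall_of_isMul' (h.dp hG).symm.isMul (piKs L K) (kappa_hall_sigma' h.hall)

theorem GoodP.le_K (h : GoodP Z L K) {X : Subgroup G} (sX : X ≤ Z)
    (hX : IsPiSubgroup (sigma L)ᶜ X) : X ≤ K :=
  le_of_normal_hall (h.hallK hG) (h.dp hG).normal_left sX hX

theorem GoodP.le_Ks (h : GoodP Z L K) {X : Subgroup G} (sX : X ≤ Z)
    (hX : IsPiSubgroup (sigma L) X) : X ≤ sigmaCore L ⊓ C[K] :=
  le_of_normal_hall (h.hallKs hG) (h.dp hG).normal_right sX hX

theorem GoodP.mem_K (h : GoodP Z L K) {x : G} (hx : x ∈ Z) (hX : PiElt (sigma L)ᶜ x) : x ∈ K :=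
  mem_of_normal_hall (h.hallK hG) (h.dp hG).normal_left hx hX

theorem GoodP.mem_Ks (h : GoodP Z L K) {x : G} (hx : x ∈ Z) (hX : PiElt (sigma L) x) :
    x ∈ sigmaCore L ⊓ C[K] :=
  mem_of_normal_hall (h.hallKs hG) (h.dp hG).normal_right hx hX

theorem GoodP.inf_eq (h : GoodP Z L K) : Z ⊓ sigmaCore L = sigmaCore L ⊓ C[K] :=
  le_antisymm (h.le_Ks hG inf_le_left (isPi_of_le (Msigma_pi L) inf_le_right))
    (le_inf (h.dp hG).le_right inf_le_left)

theorem GoodP.prime_le (h : GoodP Z L K) {X : Subgroup G} (sX : X ≤ Z) (prX : (Nat.card X).Prime) :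
    X ≤ K ∨ X ≤ sigmaCore L ⊓ C[K] := by
  by_cases hp : Nat.card X ∈ sigma L
  · exact Or.inr (h.le_Ks hG sX ((piNat_prime prX).2 hp))
  · exact Or.inl (h.le_K hG sX ((piNat_prime prX).2 hp))

theorem GoodP.uniq (h : GoodP Z L K) {X : Subgroup G} (sX : X ≤ sigmaCore L ⊓ C[K])
    (prX : (Nat.card X).Prime) : UniqMax C[X] L :=
  (Ptype_structure_c hG h.P h.hall).2 X sX prX

theorem GoodP.eq_of_le (h : GoodP Z L K) (h' : GoodP Z L' K') {X : Subgroup G} (ntX : X ≠ ⊥)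
    (sX : X ≤ sigmaCore L ⊓ C[K]) (sX' : X ≤ sigmaCore L' ⊓ C[K']) : L = L' := by
  obtain ⟨Y, sY, prY⟩ := exists_prime_card_le_of_ne_bot ntX
  exact (h.uniq hG (sY.trans sX) prY).unique (h'.uniq hG (sY.trans sX') prY)

theorem GoodP.notj (h : GoodP Z L K) (h' : GoodP Z L' K') (hne : L ≠ L') : ¬ Conj L L' := by
  rintro ⟨g, rfl⟩
  refine hne (h.eq_of_le hG h' (h.ntKs hG) le_rfl (h'.le_Ks hG (h.dp hG).le_right ?_))
  rw [sigmaJ]; exact piKs L K

theorem GoodP.Ks_le (h : GoodP Z L K) (h' : GoodP Z L' K') (hne : L ≠ L') :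
    sigmaCore L ⊓ C[K] ≤ K' :=
  h'.le_K hG (h.dp hG).le_right (isPi_mono (piKs L K) fun _ hp hp' =>
    Set.disjoint_left.1 (sigma_partition hG h.P.max h'.P.max (h.notj hG h' hne)) hp hp')

theorem GoodP.lt (h : GoodP Z L K) : Z < L := by
  refine lt_of_le_of_ne (h.le hG) fun e => ?_
  obtain ⟨p, hp, hd⟩ := Cfsg.Agent.H67.exists_prime_dvd_card (h.ntKs hG)
  haveI := Fact.mk hp
  obtain ⟨S, sylS⟩ := exists_syl p (sigmaCore L)
  refine (Ptype_structure_e hG h.P h.hall hp hd sylS).2 ?_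
  rw [← h.inf_eq hG, e]
  exact le_inf ((hall_le sylS).trans (Msigma_normal L).le) (hall_le sylS)

/-! The set `Ẑ`. -/

theorem GoodP.decomp (h : GoodP Z L K) {t : G} (ht : t ∈ cycV K (sigmaCore L ⊓ C[K])) :
    ∃ a ∈ K, a ≠ 1 ∧ ∃ b ∈ sigmaCore L ⊓ C[K], b ≠ 1 ∧ t = a * b ∧ Commute a b ∧
      constt (sigma L) t = b ∧ constt (sigma L)ᶜ t = a := by
  have dp := h.dp hG
  obtain ⟨a, ha, ha1, b, hb, hb1, rfl⟩ := H68.exists_of_mem_cycV (h.sup ▸ dp) ht
  have hc := dp.commute ha hb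
  have sa := piElt_of_mem (kappa_hall_sigma' h.hall) ha
  have sb := piElt_of_mem (piKs L K) hb
  refine ⟨a, ha, ha1, b, hb, hb1, rfl, hc, constt_mul_eq_right sa sb hc, ?_⟩
  rw [hc.eq]; exact constt_compl_mul_eq_right sb sa hc.symm

theorem GoodP.cycV_disj (h : GoodP Z L K) {g : G} (hg : g ∉ L) {t : G}
    (ht : t ∈ cycV K (sigmaCore L ⊓ C[K])) : t ∉ cj g L := by
  intro htg
  obtain ⟨a, -, -, b, hb, hb1, -, -, eb, -⟩ := h.decomp hG ht
  have := (Ptype_structure_d hG h.P h.hall).1 g hg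
  have hbg : b ∈ cj g L := eb ▸ constt_mem _ htg
  exact ne_bot_of_mem (mem_inf.2 ⟨hb, hbg⟩) hb1 this

theorem GoodP.cycV_ti (h : GoodP Z L K) {g t : G} (ht : t ∈ cycV K (sigmaCore L ⊓ C[K]))
    (hg : g * t * g⁻¹ ∈ Z) : g ∈ Z := by
  have gL : g ∈ L := by
    by_contra hn
    refine h.cycV_disj hG (g := g⁻¹) (fun e => hn (by simpa using L.inv_mem e)) ht ?_
    have := conj_mem_cj (g := g⁻¹) (h.le hG hg)
    simpa [mul_assoc] using this
  obtain ⟨a, ha, ha1, b, -, -, -, -, -, ea⟩ := h.decomp hG ht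
  have hK : g * a * g⁻¹ ∈ K := by
    rw [← ea, ← consttJ]
    exact h.mem_K hG (constt_mem _ hg) (piElt_constt _ _)
  rw [← h.norm hG]
  refine mem_inf.2 ⟨gL, ?_⟩
  by_contra hn
  have := (Ptype_structure_d hG h.P h.hall).2 g gL hn
  refine ne_bot_of_mem (mem_inf.2 ⟨hK, conj_mem_cj ha⟩) ?_ this
  simpa using ha1

theorem GoodP.cycV_norm (h : GoodP Z L K) {g t : G} (hg : g ∈ Z)
    (ht : t ∈ cycV K (sigmaCore L ⊓ C[K])) : g * t * g⁻¹ ∈ cycV K (sigmaCore L ⊓ C[K]) := by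
  have dp := h.dp hG
  rw [mem_cycV, h.sup] at ht ⊢
  refine ⟨Z.mul_mem (Z.mul_mem hg ht.1) (Z.inv_mem hg), fun e => ht.2.1 ?_, fun e => ht.2.2 ?_⟩
  · simpa [mul_assoc] using conj_mem_of_mem_normalizer' (dp.normal_left.norm hg) e
  · simpa [mul_assoc] using conj_mem_of_mem_normalizer' (dp.normal_right.norm hg) e

theorem GoodP.normedTI (h : GoodP Z L K) : NormedTI (cycV K (sigmaCore L ⊓ C[K])) ⊤ Z := by
  obtain ⟨a, ha, ha1⟩ := exists_ne_one_of_ne_bot h.ntK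
  obtain ⟨b, hb, hb1⟩ := exists_ne_one_of_ne_bot (h.ntKs hG)
  refine normedTI_mk ⟨a * b, H68.mul_mem_cycV (h.dp hG).inf ha ha1 hb hb1⟩ le_top
    (fun g hg t ht => h.cycV_norm hG hg ht) fun g _ t ht hc => h.cycV_ti hG ht ?_
  rw [← h.sup]; exact (mem_cycV.1 hc).1

theorem GoodP.cycV_not_cover (h : GoodP Z L K) {t : G} (ht : t ∈ cycV K (sigmaCore L ⊓ C[K])) :
    ¬ ∃ x, Ell1 x ∧ t ∈ sigmaCover x := by
  obtain ⟨a, ha, ha1, b, hb, hb1, e, hc, -, -⟩ := h.decomp hG ht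
  have nt : t ≠ 1 := fun e => H68.one_notMem_cycV (e ▸ ht)
  have e' : b⁻¹ * t = a := by rw [e, hc.eq]; simp
  have hB : ∃ y M, y ≠ 1 ∧ SigMax y M ∧ y⁻¹ * t ∈ M ⊓ C1[y] ∧ y⁻¹ * t ≠ 1 ∧
      PiElt (kappa M) (y⁻¹ * t) := by
    refine ⟨b, L, hb1, ⟨h.P.max, hb.1⟩, ?_, ?_, ?_⟩ <;> rw [e']
    · exact mem_inf.2 ⟨hall_le h.hall ha, mem_centralizer_singleton_iff.2 hc.eq⟩
    · exact ha1
    · exact piElt_of_mem (hall_isPi h.hall) ha
  rcases sigma_decomposition_dichotomy hG nt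
    (piElt_of_mem (h.wZ hG) (h.sup ▸ (mem_cycV.1 ht).1)) with h1 | h1
  · exact absurd hB h1.2
  · exact h1.2

theorem GoodP.class_disj (h : GoodP Z L K) {N : Subgroup G} (maxN : IsCoatom N) {g : G}
    (hg : g ∈ classSupport (cycV K (sigmaCore L ⊓ C[K])) ⊤) :
    g ∉ classSupport (sigmaSupport N) ⊤ := by
  intro hg'
  obtain ⟨t, ht, y, -, rfl⟩ := hg
  obtain ⟨z, hz⟩ := mem_classSupport_sigmaSupport.1 hg'
  have := sigma_supportJ y⁻¹ hz
  rw [show y⁻¹ * (y * t * y⁻¹) * y⁻¹⁻¹ = t by group] at this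
  obtain ⟨x, hx, hx1, hc⟩ := this
  exact h.cycV_not_cover hG ht ⟨x, Msigma_ell1 (isCoatom_cj (isCoatom_cj maxN)) hx hx1, hc⟩

/-! The dual pairs. -/

theorem GoodP.kappa_of_norm (h : GoodP Z L K) {X N : Subgroup G} (sX : X ≤ K)
    (prX : (Nat.card X).Prime) (maxN : IsCoatom N) (sN : N[X] ≤ N) :
    X ≤ sigmaCore N ∧ Z ≤ N ∧ IsPiSubgroup (kappa N) (sigmaCore L ⊓ C[K]) := by
  have sXN := ((Ptype_structure_b hG h.P h.hall).2 X sX prX).2 N maxN sN
  have sZN : Z ≤ N := by rw [← h.norm_prime hG sX prX]; exact inf_le_right.trans sN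
  refine ⟨sXN, sZN, ?_⟩
  have notj : ¬ Conj L N :=
    not_conj_of_sigma (p := Nat.card X) ((Msigma_pi N) _ prX (card_dvd_of_le' sXN))
      (kappa_hall_sigma' h.hall _ prX (card_dvd_of_le' sX))
  have disj := sigma_partition hG h.P.max maxN notj
  intro q hq hd
  obtain ⟨y, hy, oy⟩ := exists_orderOf_eq_prime hq hd
  obtain ⟨x, hx, hx1, ex⟩ := exists_zpowers_eq_of_prime_card prX
  have y1 : y ≠ 1 := ne_one_of_prime_orderOf (oy ▸ hq)
  have sy : PiElt (sigma N)ᶜ y :=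
    (piElt_of_mem (piKs L K) hy).mono fun _ hp hp' => Set.disjoint_left.1 disj hp hp'
  have hyc : y ∈ N ⊓ C1[x] := mem_inf.2 ⟨sZN ((h.dp hG).le_right hy),
    centralizer_le_centralizer_singleton (sX hx) hy.2⟩
  rcases pi_of_cent_sigma hG maxN (sXN hx) hx1 hyc y1 sy with h1 | h1
  · exact h1.1 q hq (oy ▸ dvd_rfl)
  · have u := h.uniq hG (X := zpowers y) (zpowers_le.2 hy) (by rwa [Nat.card_zpowers, oy])
    rw [centralizer_zpowers] at u
    exact absurd (u.unique h1.2.2 ▸ conj_refl L) notj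

theorem GoodP.exists_of_norm (h : GoodP Z L K) {X N : Subgroup G} (sX : X ≤ K)
    (prX : (Nat.card X).Prime) (maxN : IsCoatom N) (sN : N[X] ≤ N) :
    ∃ KN, GoodP Z N KN ∧ X ≤ sigmaCore N ⊓ C[KN] := by
  obtain ⟨sXN, sZN, kKs⟩ := h.kappa_of_norm hG sX prX maxN sN
  have dp := h.dp hG
  obtain ⟨KN, hallKN, sKs⟩ := exists_hall_ge (mmax_sol hG maxN) (dp.le_right.trans sZN) kKs
  have PN : PType N := (ntrivg_kappa maxN hallKN).1 (ne_bot_mono (h.ntKs hG) sKs)
  have g := goodP_self PN hallKN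
  obtain ⟨Y, sY, prY⟩ := exists_prime_card_le_of_ne_bot (h.ntKs hG)
  have eY := g.norm_prime hG (sY.trans sKs) prY
  have sNY : N[Y] ≤ L :=
    (h.uniq hG sY prY).sub (centralizer_le_normalizer _) (mFT_norm_proper hG
      (ne_bot_of_prime_card prY) (sub_mmax_proper h.P.max (sY.trans (dp.le_right.trans (h.le hG)))))
  have cKY : K ≤ C[Y] := cent_symm (sY.trans inf_le_right)
  have sXKs : X ≤ sigmaCore N ⊓ C[KN] := by
    obtain ⟨U, -, -, pr, -⟩ := Ptype_structure_a hG PN hallKN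
    rw [← pr.inf_cent (sY.trans sKs) (ne_bot_of_prime_card prY)]
    exact le_inf sXN (sX.trans cKY)
  refine ⟨KN, ⟨PN, hallKN, le_antisymm (sup_le ?_ ?_) ?_⟩, sXKs⟩
  · rw [← h.norm_prime hG sX prX]
    refine le_inf (le_sup_left.trans (eY.symm.le.trans (inf_le_right.trans sNY))) ?_
    exact (cent_symm (sXKs.trans inf_le_right)).trans (centralizer_le_normalizer _)
  · obtain ⟨-, sZL, kKsN⟩ := g.kappa_of_norm hG (sY.trans sKs) prY h.P.max sNY
    obtain ⟨a, ha, hle⟩ := exists_le_cj_hall (mmax_sol hG h.P.max) h.hall (le_sup_right.trans sZL) kKsN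
    have haN : a ∈ N[K] := by
      by_contra hn
      have := (Ptype_structure_d hG h.P h.hall).2 a ha hn
      exact ne_bot_mono (ne_bot_of_prime_card prX) (le_inf sX (sXKs.trans hle)) this
    rw [cj_eq_self haN] at hle
    exact hle.trans dp.le_left
  · rw [← h.sup]
    refine sup_le ?_ (sKs.trans le_sup_left)
    rw [← eY]
    exact le_inf (dp.le_left.trans sZN) (cKY.trans (centralizer_le_normalizer _))

theorem GoodP.cover (h : GoodP Z L K) {X : Subgroup G} (sX : X ≤ Z) (prX : (Nat.card X).Prime) :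
    ∃ N KN, GoodP Z N KN ∧ X ≤ sigmaCore N ⊓ C[KN] := by
  rcases h.prime_le hG sX prX with h1 | h1
  · obtain ⟨N, maxN, sN⟩ := mmax_exists_norm hG (ne_bot_of_prime_card prX)
      (sub_mmax_proper h.P.max (sX.trans (h.le hG))) (isPi_of_le (h.wZ hG) sX)
    exact ⟨N, h.exists_of_norm hG h1 prX maxN sN⟩
  · exact ⟨L, K, h, h1⟩

theorem GoodP.exists_ne (h : GoodP Z L K) : ∃ N KN, GoodP Z N KN ∧ N ≠ L := by
  obtain ⟨X, sX, prX⟩ := exists_prime_card_le_of_ne_bot h.ntK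
  obtain ⟨N, KN, g, sXN⟩ := h.cover hG (sX.trans (h.dp hG).le_left) prX
  refine ⟨N, KN, g, ?_⟩
  rintro rfl
  exact kappa_hall_sigma' h.hall _ prX (card_dvd_of_le' sX)
    (Msigma_pi N _ prX (card_dvd_of_le' (sXN.trans inf_le_left)))

/-- The local count for a `𝓟₁`-type member of the family. -/
theorem GoodP.count_P1 (h : GoodP Z L K) (P1 : P1Type L) :
    2 * ((Nat.card ↥(Z ⊓ sigmaCore L) - 1) * Z.index) + Z.index ≤
      2 * (classSupport (sigmaSupport L) ⊤).ncard := by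
  rw [card_class_support_sigma hG h.P.max, h.inf_eq hG]
  obtain ⟨U, hU⟩ := ex_kappa_compl hG h.P.max h.hall
  have sdp := (kappa_compl_context hG h.P.max hU).2.2.1
  rw [(trivg_kappa_compl hG h.P.max hU).2 P1, bot_sup_eq] at sdp
  have c1 := sdp.card
  have c2 := (h.dp hG).card
  have c3 := L.card_mul_index
  have c4 := Z.card_mul_index
  have c5 : Z.relIndex L * L.index = Z.index := relIndex_mul_index (h.le hG)
  have c6 : 2 ≤ Z.relIndex L := by
    have h0 := relIndex_ne_zero' Z L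
    have h1 : Z.relIndex L ≠ 1 := fun e => (h.lt hG).not_ge (relIndex_eq_one.1 e)
    omega
  have kpos : 0 < Nat.card K := Nat.card_pos
  have e : Nat.card (sigmaCore L) * L.index = Nat.card ↥(sigmaCore L ⊓ C[K]) * Z.index := by
    refine Nat.eq_of_mul_eq_mul_left kpos ?_
    calc Nat.card K * (Nat.card (sigmaCore L) * L.index) = Nat.card L * L.index := by rw [c1]; ring
      _ = Nat.card Z * Z.index := by rw [c3, c4]
      _ = _ := by rw [c2]; ring
  have c7 : 2 * L.index ≤ Z.index := c5 ▸ Nat.mul_le_mul_right _ c6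
  obtain ⟨m, hm⟩ : ∃ m, Nat.card (sigmaCore L) = m + 1 :=
    ⟨_, (Nat.succ_pred_eq_of_pos Nat.card_pos).symm⟩
  obtain ⟨k, hk⟩ : ∃ k, Nat.card ↥(sigmaCore L ⊓ C[K]) = k + 1 :=
    ⟨_, (Nat.succ_pred_eq_of_pos Nat.card_pos).symm⟩
  rw [hm, hk] at e
  rw [hm, hk, Nat.add_sub_cancel, Nat.add_sub_cancel]
  nlinarith

theorem GoodP.exists_P2 (h : GoodP Z L K) : ∃ N KN, GoodP Z N KN ∧ P2Type N := by
  classical
  by_contra hno
  have allP1 : ∀ N KN, GoodP Z N KN → P1Type N := fun N KN g =>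
    g.P.p1_or_p2.resolve_right fun p2 => hno ⟨N, KN, g, p2⟩
  set S : Finset (Subgroup G) := (Set.toFinite {N : Subgroup G | ∃ KN, GoodP Z N KN}).toFinset
    with hS
  have memS : ∀ N, N ∈ S ↔ ∃ KN, GoodP Z N KN := fun N => by simp [hS]
  set T : Set G := {t | t ∈ Z ∧ ∀ N ∈ S, t ∉ sigmaCore N} with hT
  -- every element of `T` lies in some `Ẑ_N`
  have hTV : ∀ t ∈ T, ∃ N KN, GoodP Z N KN ∧ t ∈ cycV KN (sigmaCore N ⊓ C[KN]) := by
    intro t ht
    have t1 : t ≠ 1 := fun e => ht.2 L ((memS L).2 ⟨K, h⟩) (e ▸ one_mem _)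
    obtain ⟨p, X, hp, -, hX⟩ := exists_prime_card_le_zpowers t1
    haveI := Fact.mk hp
    obtain ⟨N, KN, g, sXN⟩ := h.cover hG (hX.le.trans (zpowers_le.2 ht.1)) hX.card_prime
    refine ⟨N, KN, g, mem_cycV.2 ⟨g.sup ▸ ht.1, fun e => ?_, fun e => ht.2 N ((memS N).2 ⟨KN, g⟩) e.1⟩⟩
    exact ne_bot_mono (hX.ne_bot one_ne_zero) (le_inf (hX.le.trans (zpowers_le.2 e)) sXN)
      (g.dp hG).inf
  have cT : (classSupport T ⊤).ncard = T.ncard * Z.index := by
    rw [← relIndex_top_right]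
    refine H72.ncard_classSupport_of_ti le_top (fun g hg t ht => ⟨Z.mul_mem (Z.mul_mem hg ht.1)
      (Z.inv_mem hg), fun N hN e => ht.2 N hN ?_⟩) fun g _ t ht hc => ?_
    · obtain ⟨KN, gN⟩ := (memS N).1 hN
      simpa [mul_assoc] using (Msigma_normal N).conj_mem (N.inv_mem (gN.le hG hg)) e
    · obtain ⟨N, KN, gN, hV⟩ := hTV t ht
      exact gN.cycV_ti hG hV hc.1
  -- upper bound for `|Z|`
  have c1 : Nat.card Z ≤ T.ncard + 1 + ∑ N ∈ S, (Nat.card ↥(Z ⊓ sigmaCore N) - 1) := by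
    have a1 := ncard_le_sum_of_cover S (fun N => ((Z ⊓ sigmaCore N : Subgroup G) : Set G) \ {1})
      (((Z : Set G) \ {1}) \ T) (fun x hx => by
        by_contra hn
        refine hx.2 ⟨hx.1.1, fun N hN e => hn ⟨N, hN, ⟨hx.1.1, e⟩, hx.1.2⟩⟩)
    simp only [H72.ncard_diff_one] at a1
    have a2 := Set.ncard_le_ncard_sdiff_add_ncard ((Z : Set G) \ {1}) T (Set.toFinite T)
    rw [H72.ncard_diff_one] at a2
    omega
  -- the disjoint class supports
  have c2 : (classSupport T ⊤).ncard + ∑ N ∈ S, (classSupport (sigmaSupport N) ⊤).ncard ≤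
      Nat.card G - 1 := by
    have a1 := sum_ncard_le_of_disjoint S (fun N => classSupport (sigmaSupport N) ⊤)
      (fun N hN N' hN' hne => by
        obtain ⟨KN, gN⟩ := (memS N).1 hN
        obtain ⟨KN', gN'⟩ := (memS N').1 hN'
        exact class_sigma_support_disjoint hG gN.P.max gN'.P.max (gN.notj hG gN' hne))
      ((((⊤ : Subgroup G) : Set G) \ {1}) \ classSupport T ⊤) (fun N hN x hx => by
        obtain ⟨KN, gN⟩ := (memS N).1 hN
        refine ⟨⟨mem_top x, ?_⟩, ?_⟩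
        · rintro rfl
          obtain ⟨z, hz⟩ := mem_classSupport_sigmaSupport.1 hx
          exact one_notMem_sigmaSupport hG (isCoatom_cj gN.P.max) hz
        · rintro ⟨t, ht, y, hy, rfl⟩
          obtain ⟨N', KN', gN', hV⟩ := hTV t ht
          exact gN'.class_disj hG gN.P.max (conj_mem_classSupport hV hy) hx)
    have a2 : classSupport T ⊤ ⊆ ((⊤ : Subgroup G) : Set G) \ {1} := by
      rintro _ ⟨t, ht, y, hy, rfl⟩
      refine ⟨mem_top _, fun e => ht.2 L ((memS L).2 ⟨K, h⟩) ?_⟩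
      have : t = 1 := by simpa using e
      exact this ▸ one_mem _
    have a3 := Set.ncard_sdiff_add_ncard_of_subset a2 (Set.toFinite _)
    rw [H72.ncard_diff_one, card_top] at a3
    omega
  have c3 : 2 * ((∑ N ∈ S, (Nat.card ↥(Z ⊓ sigmaCore N) - 1)) * Z.index) + S.card * Z.index ≤
      2 * ∑ N ∈ S, (classSupport (sigmaSupport N) ⊤).ncard := by
    rw [Finset.sum_mul, Finset.mul_sum, Finset.mul_sum, Finset.card_eq_sum_ones, Finset.sum_mul,
      ← Finset.sum_add_distrib]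
    refine Finset.sum_le_sum fun N hN => ?_
    obtain ⟨KN, gN⟩ := (memS N).1 hN
    rw [one_mul]
    exact gN.count_P1 hG (allP1 N KN gN)
  have c4 : 2 ≤ S.card := by
    obtain ⟨N, KN, gN, hne⟩ := h.exists_ne hG
    exact Finset.one_lt_card.2 ⟨N, (memS N).2 ⟨KN, gN⟩, L, (memS L).2 ⟨K, h⟩, hne⟩
  have c5 := Z.card_mul_index
  have c6 : 0 < Nat.card G := Nat.card_pos
  have c7 := Nat.mul_le_mul_right Z.index c1
  have c8 := Nat.mul_le_mul_right Z.index c4
  rw [c5, add_mul, add_mul, ← cT] at c7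
  omega

/-- The family has exactly two members. -/
theorem GoodP.exists_dual (h : GoodP Z L K) : ∃ N, N ≠ L ∧ GoodP Z N (sigmaCore L ⊓ C[K]) ∧
    sigmaCore N ⊓ C[sigmaCore L ⊓ C[K]] = K ∧ (P2Type L ∨ P2Type N) := by
  obtain ⟨N, KN, gN, hne⟩ := h.exists_ne hG
  obtain ⟨N₀, K₀, g₀, P2⟩ := h.exists_P2 hG
  have pr := (Ptype_structure_g hG P2 g₀.hall).2.1
  have two : ∀ A KA B KB, GoodP Z A KA → GoodP Z B KB → A ≠ N₀ → B ≠ N₀ → A = B := by
    intro A KA B KB gA gB hA hB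
    have eA := eq_of_prime_card pr (gA.Ks_le hG g₀ hA) (gA.ntKs hG)
    have eB := eq_of_prime_card pr (gB.Ks_le hG g₀ hB) (gB.ntKs hG)
    exact gA.eq_of_le hG gB g₀.ntK eA.ge eB.ge
  have h0 : N₀ = L ∨ N₀ = N := by
    by_contra hn
    rw [not_or] at hn
    exact hne (two _ _ _ _ gN h (Ne.symm hn.2) (Ne.symm hn.1))
  have hall : ∀ A KA, GoodP Z A KA → A = L ∨ A = N := by
    intro A KA gA
    by_cases hA : A = N₀
    · exact hA ▸ h0
    · rcases h0 with rfl | rfl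
      · exact Or.inr (two _ _ _ _ gA gN hA hne)
      · exact Or.inl (two _ _ _ _ gA h hA hne.symm)
  have dp := h.dp hG
  have dpN := gN.dp hG
  have e1 : sigmaCore N ⊓ C[KN] = K := by
    refine le_antisymm (gN.Ks_le hG h hne) (gN.le_Ks hG dp.le_left fun p hp hd => ?_)
    obtain ⟨X, sX, cX⟩ := exists_prime_card_le hp hd
    obtain ⟨A, KA, gA, sXA⟩ := h.cover hG (sX.trans dp.le_left) (cX ▸ hp)
    have sp : p ∈ sigma A := Msigma_pi A p hp (cX ▸ card_dvd_of_le' (sXA.trans inf_le_left))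
    rcases hall A KA gA with rfl | rfl
    · exact absurd sp (kappa_hall_sigma' h.hall p hp hd)
    · exact sp
  have e2 : sigmaCore L ⊓ C[K] = KN := by
    refine eq_of_le_of_card_le (h.Ks_le hG gN hne.symm) (le_of_eq ?_)
    have a1 := dp.card
    have a2 := dpN.card
    rw [e1, a1, mul_comm] at a2
    exact (Nat.eq_of_mul_eq_mul_right Nat.card_pos a2).symm
  refine ⟨N, hne, e2 ▸ gN, e2 ▸ e1, ?_⟩
  rcases h0 with rfl | rfl
  · exact Or.inl P2
  · exact Or.inr P2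

end Good

end Cfsg.Agent.H88.SZ.H3
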