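import Cfsg.Agent.H88.ZMin
import Cfsg.Agent.H88.ZBG14B1

/-!
Bender–Glauberman, section 14: Theorem 14.7 and Corollaries 14.8–14.10.
-/

set_option autoImplicit false
set_option linter.unusedSectionVars false
set_option linter.unusedVariables false

namespace Cfsg.Agent.H88.SZ.H3

open Cfsg.Agent.H3

variable [Om]

open Cfsg Subgroup Cfsg.Agent.H63 Cfsg.Agent.H67 Cfsg.Agent.H66 Cfsg.Agent.H64
open Cfsg.Agent.H88.SZ.H63 Cfsg.Agent.H88.SZ.H67 Cfsg.Agent.H88.SZ.H66 Cfsg.Agent.H88.SZ.H64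
open Cfsg.Agent.H68 (cycV mem_cycV)

universe u
variable {G : Type u} [Group G] [Finite G]

theorem two_mul_pred_mul_pred_gt {k l : ℕ} (hk : Odd k) (hl : Odd l) (hk1 : k ≠ 1) (hl1 : l ≠ 1)
    (hc : k.Coprime l) : k * l < 2 * ((k - 1) * (l - 1)) := by
  obtain ⟨a, rfl⟩ := hk
  obtain ⟨b, rfl⟩ := hl
  have ha : 1 ≤ a := by omega
  have hb : 1 ≤ b := by omega
  have hab : 2 ≤ a ∨ 2 ≤ b := by
    by_contra hn
    have e1 : a = 1 := by omega
    have e2 : b = 1 := by omega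
    subst e1 e2
    exact absurd hc (by decide)
  simp only [Nat.add_sub_cancel]
  rcases hab with h | h <;> nlinarith

section Good
variable (hG : IsMinSimpleOddOrder G) {Z L K L' K' : Subgroup G}
include hG

theorem kappa_nil_cyclic (maxL : IsCoatom L) {X : Subgroup G} (sX : X ≤ L)
    (kX : IsPiSubgroup (kappa L) X) (nilX : Group.IsNilpotent X) : IsCyclic X :=
  cyclic_of_nil_of_rk_le_one nilX (mFT_odd hG X) fun p hp hd =>
    (H64.rk_mono hp sX).trans (rank_kappa (kX p hp hd)).le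

theorem GoodP.cyclic_of_P2 (h : GoodP Z L K) (h' : GoodP Z L' (sigmaCore L ⊓ C[K]))
    (P2 : P2Type L) : IsCyclic Z := by
  obtain ⟨-, pr, nil, -⟩ := Ptype_structure_g hG P2 h.hall
  refine (h.dp hG).isCyclic (isCyclic_of_prime_card' pr) ?_
    (isPi_coprime' (kappa_hall_sigma' h.hall) (piKs L K))
  exact kappa_nil_cyclic hG h'.P.max (hall_le h'.hall) (hall_isPi h'.hall)
    (H67.isNilpotent_of_le nil inf_le_left)

theorem GoodP.cyclic (h : GoodP Z L K) : IsCyclic Z := by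
  obtain ⟨N, -, gN, e, P2 | P2⟩ := h.exists_dual hG
  · exact h.cyclic_of_P2 hG gN P2
  · exact gN.cyclic_of_P2 hG (e.symm ▸ h) P2

theorem GoodP.cent1_K (h : GoodP Z L K) {x : G} (hx : x ∈ K) (h1 : x ≠ 1) : L ⊓ C1[x] = Z := by
  refine le_antisymm ?_ (le_inf (h.le hG) ?_)
  · obtain ⟨p, X, hp, -, hX⟩ := exists_prime_card_le_zpowers h1
    haveI := Fact.mk hp
    rw [← h.norm_prime hG (hX.le.trans (zpowers_le.2 hx)) hX.card_prime, ← centralizer_zpowers]
    exact inf_le_inf_left _ ((Cfsg.Agent.H67.centralizer_anti hX.le).trans (centralizer_le_normalizer _))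
  · rw [← centralizer_zpowers]
    exact le_cent_of_comm (isMulCommutative_of_isCyclic (h.cyclic hG)) le_rfl
      (zpowers_le.2 ((h.dp hG).le_left hx))

theorem GoodP.cent1_cycV (h : GoodP Z L K) {t : G} (ht : t ∈ cycV K (sigmaCore L ⊓ C[K])) :
    C1[t] = Z := by
  refine le_antisymm ((h.normedTI hG).cent1_le_top ht) ?_
  rw [← centralizer_zpowers]
  exact le_cent_of_comm (isMulCommutative_of_isCyclic (h.cyclic hG)) le_rfl
    (zpowers_le.2 (h.sup ▸ (mem_cycV.1 ht).1))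

theorem GoodP.snc (h : GoodP Z L K) : IsSelfNormalizingCyclic K (sigmaCore L ⊓ C[K]) := by
  have dp := h.dp hG
  have cyc := h.cyclic hG
  refine ⟨h.ntK, h.ntKs hG, dp.inf, fun a ha b hb => (dp.commute ha hb).eq, h.sup ▸ cyc,
    fun X hX hne => le_antisymm ?_ ?_⟩
  · rw [h.sup]
    exact (top_inf_eq (normalizer X)).ge.trans ((h.normedTI hG).norm_le hne hX)
  · rw [h.sup]
    refine le_set_normalizer fun g hg x hx => ?_
    have : g * x * g⁻¹ = x := by
      rw [comm_of_isMulCommutative (isMulCommutative_of_isCyclic cyc) hg (h.sup ▸ (hX hx).1)]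
      simp
    rwa [this]

theorem GoodP.card_class (h : GoodP Z L K) :
    (classSupport (cycV K (sigmaCore L ⊓ C[K])) ⊤).ncard =
      (Nat.card K - 1) * (Nat.card ↥(sigmaCore L ⊓ C[K]) - 1) * Z.index := by
  rw [H72.card_support_normedTI (h.normedTI hG), relIndex_top_right, ← H68.card_cycV (h.snc hG),
    Nat.card_coe_set_eq]

theorem GoodP.card_lt (h : GoodP Z L K) :
    Nat.card G < 2 * (classSupport (cycV K (sigmaCore L ⊓ C[K])) ⊤).ncard := by
  rw [h.card_class hG, ← Z.card_mul_index, (h.dp hG).card, ← mul_assoc]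
  refine Nat.mul_lt_mul_of_pos_right ?_ (Nat.pos_of_ne_zero index_ne_zero_of_finite)
  exact two_mul_pred_mul_pred_gt (mmax_sub_odd hG h.P.max (hall_le h.hall))
    (mmax_sub_odd hG h.P.max (inf_le_left.trans (Msigma_normal L).le)) (fun e => h.ntK (card_eq_one.1 e))
    (fun e => h.ntKs hG (card_eq_one.1 e)) (isPi_coprime' (kappa_hall_sigma' h.hall) (piKs L K))

theorem GoodP.sigma_inf (h : GoodP Z L K) (h' : GoodP Z L' (sigmaCore L ⊓ C[K]))
    (e : sigmaCore L' ⊓ C[sigmaCore L ⊓ C[K]] = K) (hne : L' ≠ L) :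
    sigmaCore L ⊓ L' = sigmaCore L ⊓ C[K] := by
  have dp := h.dp hG
  refine le_antisymm (le_inf inf_le_left ?_) (le_inf inf_le_left (dp.le_right.trans (h'.le hG)))
  have sKs : K ≤ sigmaCore L' := e.ge.trans inf_le_left
  refine le_cent_of_commutator_eq_bot (eq_bot_iff.2 ?_)
  have disj := sigma_partition hG h.P.max h'.P.max (h.notj hG h' hne.symm)
  rw [← inf_eq_bot_of_coprime' (PiNat.coprime_of_disjoint (Msigma_pi L) (Msigma_pi L')
    fun p _ hp hp' => Set.disjoint_left.1 disj hp hp')]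
  refine le_inf ?_ ?_
  · exact (commutator_mono inf_le_left (dp.le_left.trans (h.le hG))).trans
      (Msigma_normal L).commutator_le
  · rw [commutator_comm]
    exact (commutator_mono sKs inf_le_right).trans (Msigma_normal L').commutator_le

theorem GoodP.hallSigma (h : GoodP Z L K) (h' : GoodP Z L' (sigmaCore L ⊓ C[K]))
    (e : sigmaCore L' ⊓ C[sigmaCore L ⊓ C[K]] = K) (hne : L' ≠ L) :
    IsPiHallOf (sigma L) (sigmaCore L ⊓ C[K]) L' := by
  obtain ⟨Y, hY, sY⟩ := exists_hall_ge (mmax_sol hG h'.P.max) (hall_le h'.hall) (piKs L K)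
  have := Ptype_structure_f hG h.P h.hall (hall_isPi hY) (by rw [inf_eq_right.2 sY]; exact h.ntKs hG)
  have e' : Y = sigmaCore L ⊓ C[K] :=
    le_antisymm (h.sigma_inf hG h' e hne ▸ le_inf this (hall_le hY)) sY
  exact e' ▸ hY

theorem GoodP.inf_max (h : GoodP Z L K) (h' : GoodP Z L' (sigmaCore L ⊓ C[K]))
    (e : sigmaCore L' ⊓ C[sigmaCore L ⊓ C[K]] = K) (hne : L' ≠ L) : L ⊓ L' = Z := by
  refine le_antisymm ?_ (le_inf (h.le hG) (h'.le hG))
  rw [← h'.norm hG, ← h.sigma_inf hG h' e hne]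
  exact le_inf inf_le_right (le_normalizer_inf (inf_le_left.trans (Msigma_normal L).norm)
    (le_normalizer_of_le inf_le_right))

theorem GoodP.conj (h : GoodP Z L K) (h' : GoodP Z L' (sigmaCore L ⊓ C[K]))
    (e : sigmaCore L' ⊓ C[sigmaCore L ⊓ C[K]] = K) {H : Subgroup G} (PH : PType H) :
    Conj L H ∨ Conj L' H := by
  obtain ⟨KH, hallKH⟩ := exists_hall (kappa H) (mmax_sol hG PH.max)
  have gH := goodP_self PH hallKH
  have c1 := h.card_lt hG
  have c2 := gH.card_lt hG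
  have nd : ¬ Disjoint (classSupport (cycV K (sigmaCore L ⊓ C[K])) ⊤)
      (classSupport (cycV KH (sigmaCore H ⊓ C[KH])) ⊤) := by
    intro hd
    have a1 := Set.ncard_union_eq hd (Set.toFinite _) (Set.toFinite _)
    have a2 := Set.ncard_le_card (classSupport (cycV K (sigmaCore L ⊓ C[K])) ⊤ ∪
      classSupport (cycV KH (sigmaCore H ⊓ C[KH])) ⊤)
    omega
  obtain ⟨x, ⟨t, ht, y, -, rfl⟩, s, hs, z, -, exs⟩ := Set.not_disjoint_iff.1 nd
  obtain ⟨a, -, -, b, hb, hb1, -, -, eb, -⟩ := gH.decomp hG hs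
  obtain ⟨p, X, hp, -, hX⟩ := exists_prime_card_le_zpowers hb1
  haveI := Fact.mk hp
  have uX := (gH.uniq hG (hX.le.trans (zpowers_le.2 hb)) hX.card_prime).cj (y⁻¹ * z)
  rw [cj_centralizer] at uX
  have sXZ : cj (y⁻¹ * z) X ≤ Z := by
    refine (cj_mono (hX.le.trans (zpowers_le.2 (eb ▸ constt_mem_zpowers _ _)))).trans ?_
    rw [cj_zpowers, zpowers_le]
    have : y⁻¹ * z * s * (y⁻¹ * z)⁻¹ = t := by
      calc _ = y⁻¹ * (z * s * z⁻¹) * y := by group
        _ = t := by rw [← exs]; group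
    rw [this, ← h.sup]; exact (mem_cycV.1 ht).1
  have prX : (Nat.card (cj (y⁻¹ * z) X)).Prime := by rw [card_cj]; exact hX.card_prime
  rcases h.prime_le hG sXZ prX with h1 | h1
  · right
    rw [(h'.uniq hG (e.symm ▸ h1) prX).unique uX]
    exact (conj_cj _ _).symm
  · left
    rw [(h.uniq hG h1 prX).unique uX]
    exact (conj_cj _ _).symm

theorem GoodP.der1 (h : GoodP Z L K) {U : Subgroup G} (hU : KappaCompl L U K) :
    sigmaCore L ⊔ U = ⁅L, L⁆ := by
  obtain ⟨-, sdpU, sdp, -, reg, -⟩ := kappa_compl_context hG h.P.max hU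
  refine le_antisymm (sup_le (Msigma_der1 hG h.P.max) ?_) ?_
  · rw [← reg.commutator_eq hU.norm h.ntK]
    exact commutator_le_derived (hall_le hU.hallU) (hall_le hU.hallK)
  · exact (sdp.assoc_left sdpU).derived_le_of_comm (isMulCommutative_of_isCyclic
      (isCyclic_of_le' (h.cyclic hG) (h.dp hG).le_left))

theorem GoodP.sdp (h : GoodP Z L K) : IsSdp ⁅L, L⁆ K L := by
  obtain ⟨U, hU⟩ := ex_kappa_compl hG h.P.max h.hall
  obtain ⟨-, sdpU, sdp, -⟩ := kappa_compl_context hG h.P.max hU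
  rw [← h.der1 hG hU]
  exact sdp.assoc_left sdpU

theorem GoodP.kappa_eq (h : GoodP Z L K) : kappa L = tau1 L := by
  have sdp := h.sdp hG
  ext p
  constructor
  · intro hp
    refine (kappa_tau13 hp).resolve_right fun h3 => ?_
    exact sdp.isPi_compl_of_hall_right h.hall p (kappa_prime hp) (tau3_dvd_der h3) hp
  · intro hp
    have hd := tau1_sub_pi hp
    rw [sdp.card] at hd
    rcases (Nat.Prime.dvd_mul (tau1_prime hp)).1 hd with h1 | h1
    · exact absurd h1 (tau1_not_dvd_der hp)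
    · exact hall_isPi h.hall p (tau1_prime hp) h1

end Good

end Cfsg.Agent.H88.SZ.H3

namespace Cfsg.Agent.H88.SZ.H63

open Cfsg.Agent.H63

variable [Om]

open Cfsg Subgroup Cfsg.Agent.H67 Cfsg.Agent.H66 Cfsg.Agent.H64
open Cfsg.Agent.H88.SZ.H67 Cfsg.Agent.H88.SZ.H66 Cfsg.Agent.H88.SZ.H64
open Cfsg.Agent.H68 (cycV mem_cycV)

universe u
variable {G : Type u} [Group G] [Finite G]

/-- The conclusion of BG 14.7 for `M ∈ 𝓜_𝓟`, `K` a Hall `κ(M)`-subgroup, `L = M*`;
`K* = sigmaCore M ⊓ C[K]`, `Z = K ⊔ K*`, `Ẑ = cycV K K*`. -/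
structure PtypeEmbedding (M K L : Subgroup G) : Prop where
  typeP : PType L
  notj : ¬ Conj M L
  uniqX : ∀ X, X ≤ K → (Nat.card X).Prime → UniqMax C[X] L
  hallKappa : IsPiHallOf (kappa L) (sigmaCore M ⊓ C[K]) L
  hallSigma : IsPiHallOf (sigma M) (sigmaCore M ⊓ C[K]) L
  defK : sigmaCore L ⊓ C[sigmaCore M ⊓ C[K]] = K
  kappa_eq : kappa M = tau1 M
  cyclic : IsCyclic ↥(K ⊔ (sigmaCore M ⊓ C[K]))
  inf : M ⊓ L = K ⊔ (sigmaCore M ⊓ C[K])
  centK : ∀ x ∈ K, x ≠ 1 → M ⊓ C1[x] = K ⊔ (sigmaCore M ⊓ C[K])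
  centKs : ∀ y ∈ sigmaCore M ⊓ C[K], y ≠ 1 → L ⊓ C1[y] = K ⊔ (sigmaCore M ⊓ C[K])
  centZ : ∀ x ∈ K, x ≠ 1 → ∀ y ∈ sigmaCore M ⊓ C[K], y ≠ 1 →
    C1[x * y] = K ⊔ (sigmaCore M ⊓ C[K])
  ti : NormedTI (cycV K (sigmaCore M ⊓ C[K])) ⊤ (K ⊔ (sigmaCore M ⊓ C[K]))
  disj : ∀ g, g ∉ M → ∀ z ∈ cycV K (sigmaCore M ⊓ C[K]), z ∉ cj g M
  card : Nat.card G < 2 * (classSupport (cycV K (sigmaCore M ⊓ C[K])) ⊤).ncard
  typeP2 : (P2Type M ∧ (Nat.card K).Prime) ∨ (P2Type L ∧ (Nat.card ↥(sigmaCore M ⊓ C[K])).Prime)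
  conj : ∀ H, PType H → Conj M H ∨ Conj L H
  sdp : IsSdp ⁅M, M⁆ K M

variable (hG : IsMinSimpleOddOrder G) {M K U : Subgroup G}
include hG

/-- BG 14.7. -/
theorem Ptype_embedding (PM : PType M) (hallK : IsPiHallOf (kappa M) K M) :
    ∃ L, PtypeEmbedding M K L := by
  have h := H3.goodP_self PM hallK
  obtain ⟨L, hne, gL, e, P2⟩ := h.exists_dual hG
  refine ⟨L, gL.P, h.notj hG gL hne.symm, fun X sX prX => gL.uniq hG (e.symm ▸ sX) prX, gL.hall,
    h.hallSigma hG gL e hne, e, h.kappa_eq hG, h.cyclic hG, h.inf_max hG gL e hne,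
    fun x hx h1 => h.cent1_K hG hx h1, fun y hy h1 => gL.cent1_K hG hy h1,
    fun x hx h1 y hy h2 => h.cent1_cycV hG (H68.mul_mem_cycV (h.dp hG).inf hx h1 hy h2),
    h.normedTI hG, fun g hg z hz => h.cycV_disj hG hg hz, h.card_lt hG, ?_,
    fun H PH => h.conj hG gL e PH, h.sdp hG⟩
  rcases P2 with P2 | P2
  · exact Or.inl ⟨P2, (Ptype_structure_g hG P2 hallK).2.1⟩
  · exact Or.inr ⟨P2, (Ptype_structure_g hG P2 gL.hall).2.1⟩

/-- Any `M*` as in the frozen statements is the one of 14.7. -/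
theorem ptypeEmbedding_of (PM : PType M) (hallK : IsPiHallOf (kappa M) K M) {L : Subgroup G}
    (maxL : IsCoatom L) (defK : K = sigmaCore L ⊓ C[sigmaCore M ⊓ C[K]])
    (hallKs : IsPiHallOf (kappa L) (sigmaCore M ⊓ C[K]) L) : PtypeEmbedding M K L := by
  obtain ⟨N, hN⟩ := Ptype_embedding hG PM hallK
  have PL : PType L := (ntrivg_kappa maxL hallKs).1 (Ptype_structure_c hG PM hallK).1
  obtain ⟨X, sX, prX⟩ := exists_prime_card_le_of_ne_bot ((ntrivg_kappa PM.max hallK).2 PM)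
  have := (hN.uniqX X sX prX).unique
    ((Ptype_structure_c hG PL hallKs).2 X (sX.trans defK.le) prX)
  exact this ▸ hN

theorem PtypeEmbedding.symm (PM : PType M) (hallK : IsPiHallOf (kappa M) K M) {L : Subgroup G}
    (h : PtypeEmbedding M K L) : PtypeEmbedding L (sigmaCore M ⊓ C[K]) M :=
  ptypeEmbedding_of hG h.typeP h.hallKappa PM.max (by rw [h.defK]) (by rw [h.defK]; exact hallK)

theorem PtypeEmbedding.snc (PM : PType M) (hallK : IsPiHallOf (kappa M) K M) {L : Subgroup G}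
    (h : PtypeEmbedding M K L) : IsSelfNormalizingCyclic K (sigmaCore M ⊓ C[K]) :=
  (H3.goodP_self PM hallK).snc hG

theorem kappa_hall_cyclic (maxM : IsCoatom M) (hallK : IsPiHallOf (kappa M) K M) : IsCyclic K := by
  rcases ptype_or_ftype maxM with PM | FM
  · exact isCyclic_of_le' ((H3.goodP_self PM hallK).cyclic hG) le_sup_left
  · rw [(trivg_kappa maxM hallK).2 FM]; exact isCyclic_bot'

/-- The Prelude's standard factorisation is a κ-complement. -/
theorem isSigmaDecomposition_iff (maxM : IsCoatom M) :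
    IsSigmaDecomposition M K U ↔ KappaCompl M U K := by
  constructor
  · intro h
    refine ⟨h.hall, ?_, h.normal⟩
    have hall : IsPiHallOf (sigma M ∪ kappa M) (K ⊔ sigmaCore M) M := by
      rw [sup_comm]
      exact hall_sup (Msigma_Hall hG maxM) h.hall
        (Or.inr ((hall_le h.hall).trans (Msigma_normal M).norm))
    obtain ⟨h1, h2⟩ := isComplIn_iff.1 (isComplIn_symm h.compl)
    exact hall_compl_of_isMul hall h1 h2
  · intro h
    have hall : IsPiHallOf (sigma M ∪ kappa M) (K ⊔ sigmaCore M) M := by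
      rw [sup_comm]
      exact hall_sup (Msigma_Hall hG maxM) h.hallK
        (Or.inr ((hall_le h.hallK).trans (Msigma_normal M).norm))
    exact ⟨kappa_hall_cyclic hG maxM h.hallK, h.hallK, isComplIn_symm (isComplIn_iff.2
      ⟨isMul_hall_compl hall h.hallU, hall_inf_hall_compl hall h.hallU⟩), h.norm⟩

/-- For `M ∈ 𝓜_𝓟`: `M' = M_σ ⋊ U`. -/
theorem Ptype_der1 (PM : PType M) (h : KappaCompl M U K) : IsSdp (sigmaCore M) U ⁅M, M⁆ := by
  rw [← (H3.goodP_self PM h.hallK).der1 hG h]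
  exact (kappa_compl_context hG PM.max h).2.2.1.mono_right le_sup_left

/-- BG 14.8(b). -/
theorem Ptype_trans (PM : PType M) :
    ∃ L, PType L ∧ ¬ Conj M L ∧ ∀ H, PType H → Conj M H ∨ Conj L H := by
  obtain ⟨K, hallK⟩ := exists_hall (kappa M) (mmax_sol hG PM.max)
  obtain ⟨L, hL⟩ := Ptype_embedding hG PM hallK
  exact ⟨L, hL.typeP, hL.notj, hL.conj⟩

/-- BG 14.8(a). -/
theorem P1type_trans {H : Subgroup G} (hM : P1Type M) (hH : P1Type H) : Conj M H := by
  obtain ⟨K, hallK⟩ := exists_hall (kappa M) (mmax_sol hG hM.max)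
  obtain ⟨L, hL⟩ := Ptype_embedding hG hM.ptype hallK
  refine (hL.conj H hH.ptype).resolve_right ?_
  rintro ⟨g, rfl⟩
  rcases hL.typeP2 with h | h
  · exact hM.not_p2 h.1
  · exact ((P1typeJ g).1 hH).not_p2 h.1

omit hG [Finite G] in
theorem _root_.Cfsg.Agent.H88.SZ.H3.exists_sigmaSupport_of_cover {g : G}
    (h : ∃ x, Ell1 x ∧ g ∈ sigmaCover x) : ∃ N, IsCoatom N ∧ g ∈ sigmaSupport N := by
  obtain ⟨x, ⟨h1, N, maxN, hx⟩, hg⟩ := h
  exact ⟨N, maxN, x, hx, h1, hg⟩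

/-- BG 14.9(1) (disjointness is `class_sigma_support_disjoint`). -/
theorem mFT_partition_F (h : ∀ M : Subgroup G, ¬ PType M) {g : G} (ntg : g ≠ 1)
    (hw : PiElt ϖ g := by w_tac) :
    ∃ N, IsCoatom N ∧ g ∈ sigmaSupport N := by
  rcases sigma_decomposition_dichotomy hG ntg with h1 | h1
  · exact H3.exists_sigmaSupport_of_cover h1.1
  · obtain ⟨y, N, -, hN, -, h2, h3⟩ := h1.1
    obtain ⟨p, hp, hd⟩ := exists_prime_dvd_orderOf h2
    exact absurd ⟨hN.max, p, h3 p hp hd⟩ (h N)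

/-- An element of the second kind in 14.6 lies in some `Ẑ`. -/
theorem _root_.Cfsg.Agent.H88.SZ.H3.mem_cycV_of_kappa {N : Subgroup G} {y g : G} (y1 : y ≠ 1)
    (hN : SigMax y N) (h1 : y⁻¹ * g ∈ N ⊓ C1[y]) (h2 : y⁻¹ * g ≠ 1)
    (h3 : PiElt (kappa N) (y⁻¹ * g)) :
    PType N ∧ ∃ KN, IsPiHallOf (kappa N) KN N ∧ g ∈ cycV KN (sigmaCore N ⊓ C[KN]) := by
  obtain ⟨p, hp, hd⟩ := exists_prime_dvd_orderOf h2
  have PN : PType N := ⟨hN.max, p, h3 p hp hd⟩
  obtain ⟨KN, hall, sK⟩ := exists_hall_ge (mmax_sol hG hN.max) (zpowers_le.2 h1.1)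
    (isPi_zpowers_iff.2 h3)
  refine ⟨PN, KN, hall, ?_⟩
  have hk : y⁻¹ * g ∈ KN := zpowers_le.1 sK
  obtain ⟨U, -, -, pr, -⟩ := Ptype_structure_a hG PN hall
  have hy : y ∈ sigmaCore N ⊓ C[KN] := by
    rw [← pr _ hk h2]
    exact mem_inf.2 ⟨hN.mem, mem_centralizer_singleton_comm.1 h1.2⟩
  have := H68.mul_mem_cycV ((H3.goodP_self PN hall).dp hG).inf hk h2 hy y1
  have e : y⁻¹ * g * y = g := by
    rw [mem_centralizer_singleton_iff.1 h1.2]; simp
  rwa [e] at this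

omit hG in
theorem _root_.Cfsg.Agent.H88.SZ.H3.cycV_class_cj {N KN : Subgroup G} (a : G) {g : G}
    (h : g ∈ cycV (cj a KN) (sigmaCore (cj a N) ⊓ C[cj a KN])) :
    g ∈ classSupport (cycV KN (sigmaCore N ⊓ C[KN])) ⊤ := by
  rw [MsigmaJ, ← cj_centralizer, ← cj_inf, H68.cycV_cj] at h
  obtain ⟨t, ht, rfl⟩ := h
  exact conj_mem_classSupport ht (mem_top a)

theorem _root_.Cfsg.Agent.H88.SZ.H3.cycV_class_of_conj (maxM : IsCoatom M)
    (hallK : IsPiHallOf (kappa M) K M) {N KN : Subgroup G} (hj : Conj M N)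
    (hall : IsPiHallOf (kappa N) KN N) {g : G} (h : g ∈ cycV KN (sigmaCore N ⊓ C[KN])) :
    g ∈ classSupport (cycV K (sigmaCore M ⊓ C[K])) ⊤ := by
  obtain ⟨a, rfl⟩ := hj
  have h1 : IsPiHallOf (kappa (cj a M)) (cj a K) (cj a M) := by
    rw [kappaJ]; exact hall_cj hallK a
  obtain ⟨b, hb, rfl⟩ := hall_conj (mmax_sol hG (isCoatom_cj maxM)) h1 hall
  refine H3.cycV_class_cj (b * a) ?_
  rwa [cj_mul, cj_mul, cj_eq_self_of_mem hb]

/-- BG 14.9(2). -/
theorem mFT_partition_P (PM : PType M) (hallK : IsPiHallOf (kappa M) K M) :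
    (∀ g : G, g ≠ 1 → PiElt ϖ g → g ∈ classSupport (cycV K (sigmaCore M ⊓ C[K])) ⊤ ∨
      ∃ N, IsCoatom N ∧ g ∈ sigmaSupport N) ∧
    ∀ N, IsCoatom N → Disjoint (classSupport (cycV K (sigmaCore M ⊓ C[K])) ⊤) (sigmaSupport N) := by
  refine ⟨fun g ntg hw => ?_, fun N maxN => Set.disjoint_left.2 fun g hg hg' =>
    (H3.goodP_self PM hallK).class_disj hG maxN hg (subset_classSupport _ _ hg')⟩
  rcases sigma_decomposition_dichotomy hG ntg with h1 | h1
  · exact Or.inr (H3.exists_sigmaSupport_of_cover h1.1)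
  · left
    obtain ⟨y, N, y1, hN, h1, h2, h3⟩ := h1.1
    obtain ⟨PN, KN, hall, hg⟩ := H3.mem_cycV_of_kappa hG y1 hN h1 h2 h3
    obtain ⟨L, hL⟩ := Ptype_embedding hG PM hallK
    rcases hL.conj N PN with hj | hj
    · exact H3.cycV_class_of_conj hG PM.max hallK hj hall hg
    · have := H3.cycV_class_of_conj hG hL.typeP.max hL.hallKappa hj hall hg
      rwa [hL.defK, H68.cycV_symm] at this

theorem ptypeEmbedding_of_cent (PM : PType M) (hallK : IsPiHallOf (kappa M) K M) {L : Subgroup G}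
    (maxL : IsCoatom L) (h : C[K] ≤ L) : PtypeEmbedding M K L := by
  obtain ⟨N, hN⟩ := Ptype_embedding hG PM hallK
  suffices e : L = N from e ▸ hN
  rcases hN.typeP2 with ⟨-, pr⟩ | ⟨P2, -⟩
  · exact (hN.uniqX K le_rfl pr).eq maxL h
  set Ks := sigmaCore M ⊓ C[K] with hKs
  obtain ⟨sb, -, nil, -⟩ := Ptype_structure_g hG P2 hN.hallKappa
  have maxN := P2.max
  have cycK := kappa_hall_cyclic hG PM.max hallK
  have sKN : K ≤ sigmaCore N := hN.defK.ge.trans inf_le_left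
  obtain ⟨p, hp, hd⟩ := exists_prime_dvd_card ((ntrivg_kappa PM.max hallK).2 PM)
  haveI := Fact.mk hp
  have sp : p ∈ sigma N := Msigma_pi N p hp (hd.trans (card_dvd_of_le' sKN))
  obtain ⟨S, sylS⟩ := exists_syl p (sigmaCore N)
  have nSK : ¬ S ≤ K := by
    have := (Ptype_structure_e hG hN.typeP hN.hallKappa hp (by rwa [hN.defK]) sylS).2
    rwa [hN.defK] at this
  have pS := syl_isPGroup sylS
  have nsS := hall_normalIn_of_isNilpotent nil sylS
  have nSKs : Ks ≤ N[S] := (hall_le hN.hallKappa).trans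
    (normalIn_of_normal_hall sylS nsS (Msigma_normal N)).norm
  have cKKs : Ks ≤ C[K] := inf_le_right
  have co : ∀ X : Subgroup G, X ≤ S → (Nat.card Ks).Coprime (Nat.card X) := fun X hX =>
    isPi_coprime' (kappa_hall_sigma' hN.hallKappa)
      (isPi_of_le (Msigma_pi N) (hX.trans (hall_le sylS)))
  have hlt : S ⊓ K < S := lt_of_le_of_ne inf_le_left fun e => nSK (e.ge.trans inf_le_right)
  have hW := H67.lt_inf_normalizer_of_isNilpotent (isNilpotent_of_isPGroup hp pS) hlt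
  set W := S ⊓ N[S ⊓ K] with hWdef
  have nKp : Ks ≤ N[S ⊓ K] := le_normalizer_inf nSKs (le_normalizer_of_le_centralizer cKKs)
  have nW : Ks ≤ N[W] := le_normalizer_inf nSKs (le_normalizer_normalizer nKp)
  have cycKp : IsCyclic ↥(S ⊓ K) := isCyclic_of_le' cycK inf_le_right
  have cW : W ≤ C[S ⊓ K] := by
    rw [← H4.commutator_sup_centralizer nW (co W inf_le_left)
      (Or.inr (isSolvable_of_isPGroup hp (pS.to_le inf_le_left)))]
    refine sup_le ((commutator_le_derived le_sup_left le_sup_right).trans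
      (derived_le_cent_of_isCyclic cycKp (sup_le inf_le_right nKp))) ?_
    refine le_cent_of_comm (isMulCommutative_of_isCyclic cycK) ?_ inf_le_right
    rw [← hN.defK]
    exact inf_le_inf_right _ (inf_le_left.trans (hall_le sylS))
  have cWK : W ≤ C[K] := by
    refine cent_symm (H3.le_cent_of_forall_pgroup fun q _ _ Q sylQ => ?_)
    have hq : q.Prime := Fact.out
    by_cases e : q = p
    · subst e
      exact (le_inf (le_of_normal_syl sylS nsS ((hall_le sylQ).trans sKN) (syl_isPGroup sylQ))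
        (hall_le sylQ)).trans (cent_symm cW)
    · exact le_centralizer_of_isNilpotent_of_coprime nil ((hall_le sylQ).trans sKN)
        (inf_le_left.trans (hall_le sylS)) (H3.coprime_of_isPGroup_of_ne hq hp (syl_isPGroup sylQ)
          (pS.to_le inf_le_left) (Ne.symm e))
  have pR : IsPGroup p ↥(S ⊓ C[K]) := pS.to_le inf_le_left
  have ncR : ¬ IsCyclic ↥(S ⊓ C[K]) := by
    intro cR
    have nR : Ks ≤ N[S ⊓ C[K]] := le_normalizer_inf nSKs (le_normalizer_of_le cKKs)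
    have h1 : ¬ S ⊓ C[K] ≤ C[Ks] := fun hc => hW.not_ge (le_inf inf_le_left (by
      rw [← hN.defK]
      exact le_inf (inf_le_left.trans (hall_le sylS)) ((le_inf inf_le_left cWK).trans hc)))
    have h2 := H3.cent_eq_bot_of_cyclic_pgroup hp cR pR nR (co _ inf_le_left) h1
    have h3 : S ⊓ K ≠ ⊥ := syl_ne_bot (normal_hall_inf sylS nsS sKN) hd
    refine ne_bot_mono h3 (le_inf (le_inf inf_le_left ?_) ?_) h2
    · exact le_cent_of_comm (isMulCommutative_of_isCyclic cycK) inf_le_right le_rfl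
    · exact inf_le_right.trans (cent_symm cKKs)
  have uR := beta_noncyclic_uniq hG (beta_sub_betaG (sb ▸ sp)) pR (by
    rw [rank_pgroup pR]; exact two_le_rk_of_not_cyclic hp pR (mFT_odd hG _) ncR)
  exact eq_of_inU uR maxL (inf_le_right.trans h) maxN
    (inf_le_left.trans ((hall_le sylS).trans (Msigma_normal N).le))

end Cfsg.Agent.H88.SZ.H63
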