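import Cfsg.Agent.H88.ZMin
import Cfsg.Agent.H88.ZBG14B2

/-!
Bender–Glauberman, section 14: 14.11–14.13.
-/

set_option autoImplicit false
set_option linter.unusedSectionVars false
set_option linter.unusedVariables false

namespace Cfsg.Agent.H88.SZ.H63

open Cfsg.Agent.H63

variable [Om]

open Cfsg Subgroup Cfsg.Agent.H67 Cfsg.Agent.H66 Cfsg.Agent.H64
open Cfsg.Agent.H88.SZ.H67 Cfsg.Agent.H88.SZ.H66 Cfsg.Agent.H88.SZ.H64

universe u
variable {G : Type u} [Group G] [Finite G]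

variable (hG : IsMinSimpleOddOrder G) {M K U : Subgroup G}
include hG

/-- BG 14.11. -/
theorem primes_non_Fitting_Ftype (FM : FType M) {E Q : Subgroup G}
    (hallE : IsPiHallOf (sigma M)ᶜ E M) {q : ℕ} [Fact q.Prime] (hQ : ElemOf q 1 Q E)
    (notF : ¬ Q ≤ fittingOf E) :
    ∃ L, IsCoatom L ∧ ((q ∈ tau2 L ∧ UniqMax C[Q] L) ∨ (q ∈ kappa L ∧ P1Type L)) := by
  have hq : q.Prime := Fact.out
  have maxM := FM.max
  have nk : ∀ p, p ∉ kappa M := fun p hp => by rw [FM.2] at hp; exact hp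
  have sEM := hall_le hallE
  have ntQ := hQ.ne_bot one_ne_zero
  have t1q : q ∈ tau1 M := by
    rcases (partition_pi_sigma_compl hG maxM hallE hq).1 (hQ.dvd_card' one_ne_zero) with h | h | h
    · exact h
    · obtain ⟨A, hA⟩ := ex_tau2Elem_of_mem hG maxM hallE h
      obtain ⟨⟨nsA, dA⟩, -⟩ := tau2_compl_context hG maxM hallE h hA
      exact absurd (((dA Q).1 hQ).le.trans (le_fittingOf_of_comm nsA hA.comm)) notF
    · obtain ⟨E₁, E₂, E₃, cE⟩ := ex_sigmaCompl hG maxM hallE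
      obtain ⟨⟨-, ns3⟩, -, ⟨-, cyc3⟩, -⟩ := sigma_compl_context hG maxM cE
      exact absurd ((le_of_normal_hall cE.hallE₃ ns3 hQ.le
        (isPi_of_isPGroup_of_mem hq hQ.isPGroup h)).trans
        (le_fittingOf_of_comm ns3 (isMulCommutative_of_isCyclic cyc3))) notF
  have regQ : sigmaCore M ⊓ C[Q] = ⊥ := by
    by_contra hn
    exact nk q (mem_kappa_of hG (Or.inl t1q) (hQ.le.trans sEM) hQ.isPGroup ntQ hn)
  set J := ⁅E, Q⁆ with hJ
  have sJE' : J ≤ ⁅E, E⁆ := commutator_mono le_rfl hQ.le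
  have sJE : J ≤ E := commutator_le_of_le le_rfl hQ.le
  have cJ : IsMulCommutative J := isMulCommutative_of_le (der_mmax_compl_abelian hG maxM hallE) sJE'
  have q'J : IsPiSubgroup {q}ᶜ J := (isPi_compl_singleton_iff hq).2 fun hd =>
    tau1_not_dvd_der t1q (hd.trans (card_dvd_of_le' (commutator_le_derived sEM (hQ.le.trans sEM))))
  have nJQ : Q ≤ N[J] := le_norm_commutator_right E Q
  have coQJ : (Nat.card Q).Coprime (Nat.card J) :=
    isPi_coprime (isPi_of_isPGroup hq hQ.isPGroup) q'J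
  have defJ : ⁅J, Q⁆ = J := by
    refine le_antisymm (commutator_le_of_norm_left nJQ) ?_
    refine H4.commutator_le_of_mul_centralizer fun k hk => ?_
    obtain ⟨n, hn, c, hc, e⟩ := H4.exists_mul_centralizer_of_commutator_le sJE nJQ coQJ
      (Or.inl (isSolvable_of_isPGroup hq hQ.isPGroup)) le_rfl hk
    exact ⟨n, hn, c, hc.2, e⟩
  have ntJ : J ≠ ⊥ := fun e => notF ((le_inf hQ.le (cent_symm (le_cent_of_commutator_eq_bot e))).trans
    (center_le_fittingOf E))
  have cJMs : J ≤ C[sigmaCore M] := by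
    rw [← defJ]
    exact (commG_sigma'_1Elem_cyclic hG maxM (sJE.trans sEM) (isPi_of_le (hall_isPi hallE) sJE)
      (tau1_not_sigma t1q) (hQ.of_le (le_inf (hQ.le.trans sEM) nJQ)) regQ q'J cJ).1
  obtain ⟨p, hp, hd⟩ := exists_prime_dvd_card ntJ
  haveI := Fact.mk hp
  obtain ⟨P, hP⟩ := exists_elemOf_one hp hd
  have t2p : p ∈ tau2 M := by
    rcases (partition_pi_sigma_compl hG maxM hallE hp).1 (hd.trans (card_dvd_of_le' sJE)) with
      h | h | h
    · exact absurd (hd.trans (card_dvd_of_le' (commutator_le_derived sEM (hQ.le.trans sEM))))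
        (tau1_not_dvd_der h)
    · exact h
    · refine absurd (mem_kappa_of hG (Or.inr h) (hP.le.trans (sJE.trans sEM)) hP.isPGroup
        (hP.ne_bot one_ne_zero) ?_) (nk p)
      rw [inf_eq_left.2 (cent_symm (hP.le.trans cJMs))]
      exact Msigma_neq1 hG maxM
  obtain ⟨A, hA⟩ := ex_tau2Elem_of_mem hG maxM hallE t2p
  obtain ⟨⟨nsA, dA⟩, -⟩ := tau2_compl_context hG maxM hallE t2p hA
  have sPA : P ≤ A := ((dA P).1 (hP.mono sJE)).le
  have ncAQ : ¬ A ≤ C[Q] := by
    intro hc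
    have := (coprime_abelian_isDp cJ nJQ coQJ).inf
    rw [defJ] at this
    exact ne_bot_mono (hP.ne_bot one_ne_zero) (le_inf hP.le (le_inf hP.le (sPA.trans hc))) this
  obtain ⟨-, -, hA1, -⟩ := tau1_act_tau2 hG maxM hallE t2p hA t1q hQ regQ
    fun e => ncAQ (le_cent_of_commutator_eq_bot e)
  obtain ⟨L, maxL, sNL⟩ := ex_mmax_norm_pgroup hG hp hA.isPGroup (hA.ne_bot two_ne_zero)
  obtain ⟨h1, h2, -⟩ := primes_norm_tau2Elem hG maxM hallE t2p hA maxL sNL
  have sQL : Q ≤ L := hQ.le.trans (nsA.norm.trans sNL)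
  have sAL : A ≤ sigmaCore L := H64.pgroup_le_Msigma hG maxL (h1 p t2p).1
    ((le_normalizer_of_le le_rfl).trans sNL) hA.isPGroup
  have nt : sigmaCore L ⊓ C[Q] ≠ ⊥ :=
    ne_bot_mono (hA1.ne_bot one_ne_zero) (inf_le_inf_right _ sAL)
  have hd := H3.card_dvd_relIndex_of_not_le (inf_centralizer_normalIn nsA.norm) hQ.le hQ.card_prime
    fun hc => ncAQ (cent_symm (hc.trans inf_le_right))
  rw [hQ.card_one] at hd
  refine ⟨L, maxL, ?_⟩
  rcases h2 q hq hd with h | h
  · right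
    have kq := mem_kappa_of hG (Or.inl h) sQL hQ.isPGroup ntQ nt
    refine ⟨kq, (PType.p1_or_p2 ⟨maxL, q, kq⟩).resolve_right fun P2 => ?_⟩
    obtain ⟨KL, hallKL⟩ := exists_hall (kappa L) (mmax_sol hG maxL)
    exact (h1 p t2p).2 ((Ptype_structure_g hG P2 hallKL).1 ▸ (h1 p t2p).1)
  · left
    obtain ⟨x, x1, ox, rfl⟩ := hQ.exists_zpowers
    rw [centralizer_zpowers] at nt ⊢
    exact ⟨h, cent1_nreg_sigma_uniq hG maxL (zpowers_le.1 sQL) x1
      (by rw [piElt_iff, ox]; exact (piNat_prime hq).2 h) nt⟩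

/-- BG 14.12. -/
theorem P2type_signalizer (P2M : P2Type M) (h : KappaCompl M U K) {L R H : Subgroup G}
    (maxL : IsCoatom L) (sCK : C[K] ≤ L) {r : ℕ} [Fact r.Prime] (piUr : r ∣ Nat.card U)
    (sylR : IsSyl r R U) (maxH : IsCoatom H) (sN : N[R] ≤ H) (hw : r ∈ ϖ := by w_tac) :
    FType H ∧ U ≤ sigmaCore H ∧ U ⊔ K = M ⊓ H ∧ ¬ H ⊓ N[U] ≤ M ∧ K ≤ fittingOf (H ⊓ L) ∧
      IsPiHallOf (sigma H)ᶜ (H ⊓ L) H := by
  have hr : r.Prime := Fact.out
  have PM := P2M.ptype
  have maxM := PM.max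
  have ntK : K ≠ ⊥ := (ntrivg_kappa maxM h.hallK).2 PM
  obtain ⟨hallE, sdpU, sdp, -, regU, cU⟩ := kappa_compl_context hG maxM h
  have cU := cU ntK
  have emb := ptypeEmbedding_of_cent hG PM h.hallK maxL sCK
  have prK := (Ptype_structure_g hG P2M h.hallK).2.1
  obtain ⟨q, oK⟩ : ∃ q, Nat.card K = q := ⟨_, rfl⟩
  have hq : q.Prime := oK ▸ prK
  haveI := Fact.mk hq
  have qK : IsPGroup q K := isPGroup_of_card_eq_prime oK
  have kq : q ∈ kappa M := hall_isPi h.hallK q hq oK.symm.dvd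
  have sKL : K ≤ sigmaCore L := emb.defK.ge.trans inf_le_left
  have sLq : q ∈ sigma L := Msigma_pi L q hq (oK ▸ card_dvd_of_le' sKL)
  have uK : UniqMax C[K] L := emb.uniqX K le_rfl prK
  have sk'r : r ∈ (sigma M ∪ kappa M)ᶜ := hall_isPi h.hallU r hr piUr
  have s'r : r ∉ sigma M := fun e => sk'r (Or.inl e)
  have k'r : r ∉ kappa M := fun e => sk'r (Or.inr e)
  have sylRM : IsSyl r R M := syl_of_hall h.hallU sk'r sylR
  have nsR : R ⊴ U := normalIn_of_isMulCommutative cU (hall_le sylR)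
  have sUH : U ≤ H := nsR.norm.trans sN
  have sKH : K ≤ H := h.norm.trans ((normalizer_le_normalizer_of_normal_hall sylR nsR).trans sN)
  have sUM := hall_le h.hallU
  have notjMH : ¬ Conj M H := by
    rintro ⟨g, rfl⟩
    refine s'r (sigmaJ g M ▸ mem_sigma_of_Sylow hr maxH.1 ?_ sN)
    exact hall_of_card_eq (hall_cj sylRM g) ((hall_le sylR).trans sUH) (card_cj g R).symm
  have neLH : L ≠ H := by
    rintro rfl
    have s1 : U ≤ K ⊔ (sigmaCore M ⊓ C[K]) := emb.inf ▸ le_inf sUM sUH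
    have s2 : IsPiSubgroup (sigma M ∪ kappa M) (K ⊔ (sigmaCore M ⊓ C[K])) :=
      isPi_sup (isPi_mono (hall_isPi h.hallK) Set.subset_union_right)
        (isPi_mono (H3.piKs M K) Set.subset_union_left)
        (Or.inr (le_normalizer_of_le_centralizer inf_le_right))
    exact sk'r (s2 r hr (piUr.trans (card_dvd_of_le' s1)))
  have notjLH : ¬ Conj L H := by
    rintro ⟨g, rfl⟩
    have gL : g ∈ L := by
      by_contra hn
      have := (Ptype_structure_d hG emb.typeP emb.hallKappa).1 g hn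
      rw [emb.defK] at this
      exact ntK (le_bot_iff.1 (this ▸ le_inf le_rfl sKH))
    exact neLH (cj_eq_self_of_mem gL).symm
  have FH : FType H := (ftype_iff maxH).2 fun PH => (emb.conj H PH).elim notjMH notjLH
  have disjMH := sigma_partition hG maxM maxH notjMH
  have disjLH := sigma_partition hG maxL maxH notjLH
  have s'Hq : q ∉ sigma H := Set.disjoint_left.1 disjLH sLq
  have s'K : IsPiSubgroup (sigma H)ᶜ K := isPi_of_isPGroup_of_mem hq qK s'Hq
  obtain ⟨D, hallD, sKD⟩ := ex_sigma_compl_ge hG maxH sKH s'K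
  have sDH := hall_le hallD
  have sdpH := sdprod_sigma hG maxH hallD
  have sKF : K ≤ fittingOf D := by
    by_contra hn
    obtain ⟨L', maxL', h1 | h1⟩ := primes_non_Fitting_Ftype hG FH hallD
      ((H67.elemOf_one_iff hq).2 ⟨sKD, oK⟩) hn
    · exact tau2_not_sigma h1.1 (uK.unique h1.2 ▸ sLq)
    · rcases emb.conj L' h1.2.ptype with ⟨g, rfl⟩ | ⟨g, rfl⟩
      · exact ((P1typeJ g).1 h1.2).not_p2 P2M
      · exact kappa_sigma' h1.1 ((sigmaJ g L).symm ▸ sLq)
  have sKO : K ≤ O[{q}](D) := le_pCoreOf_of_le_fittingOf hq sKF qK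
  have qO := isPGroup_pCoreOf hq D
  have nsO := piCoreOf_normalIn {q} D
  have sDL : D ≤ L := by
    have cO := sigma'_pgroup_abelian hG maxH hq s'Hq (nsO.le.trans sDH) qO
    by_cases cyc : IsCyclic O[{q}](D)
    · refine (le_norm_of_isCyclic cyc sKO nsO.norm).trans ?_
      exact uK.sub (centralizer_le_normalizer _) (mFT_norm_proper hG ntK (sub_mmax_proper maxH sKH))
    · exact nsO.norm.trans (norm_noncyclic_sigma hG maxL sLq qO
        ((le_cent_of_comm cO le_rfl sKO).trans sCK) cyc)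
  have sUHs : U ≤ sigmaCore H := by
    have nsW : (sigmaCore H ⊔ O[{q}](D)) ⊴ H := by
      refine ⟨sup_le (Msigma_normal H).le (nsO.le.trans sDH), sdpH.le_of_le ?_ ?_⟩
      · exact le_normalizer_of_le le_sup_left
      · exact le_normalizer_sup sdpH.norm nsO.norm
    have hall : IsPiHallOf {q}ᶜ (sigmaCore H) (sigmaCore H ⊔ O[{q}](D)) :=
      hall_sup_left (Or.inr (nsO.le.trans sdpH.norm))
        (isPi_mono (Msigma_pi H) fun p hp e => s'Hq (e ▸ hp))
        (by rw [compl_compl]; exact isPi_piCoreOf _ _)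
    refine le_of_normal_hall hall (normalIn_sup_left (nsO.le.trans sdpH.norm)) ?_
      (isPi_mono (hall_isPi h.hallU) fun p hp e => hp (Or.inr (e ▸ kq)))
    rw [← regU.commutator_eq h.norm ntK, commutator_comm]
    exact (commutator_mono (sKO.trans le_sup_right) sUH).trans nsW.commutator_le
  have tiσ : ∀ {A B : Subgroup G}, Disjoint (sigma A) (sigma B) → sigmaCore A ⊓ sigmaCore B = ⊥ :=
    fun {A B} hd => inf_eq_bot_of_coprime' (PiNat.coprime_of_disjoint (Msigma_pi A) (Msigma_pi B)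
      fun p _ hp hp' => Set.disjoint_left.1 hd hp hp')
  have cent : ∀ {A B X : Subgroup G}, Disjoint (sigma A) (sigma B) → X ≤ A → X ≤ sigmaCore B →
      sigmaCore A ⊓ B ≤ C[X] := fun {A B X} hd hA hB => by
    refine le_cent_of_commutator_eq_bot (eq_bot_iff.2 ?_)
    rw [← tiσ hd]
    refine le_inf ((commutator_mono inf_le_left hA).trans (Msigma_normal A).commutator_le) ?_
    rw [commutator_comm]
    exact (commutator_mono hB inf_le_right).trans (Msigma_normal B).commutator_le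
  have tiMH : sigmaCore M ⊓ H = ⊥ := by
    rw [eq_bot_iff, ← (sigma'_kappa'_facts hG maxM sylRM (piUr.trans (card_dvd_of_le' sUM))
      s'r k'r).2.2.1]
    exact le_inf inf_le_left ((cent disjMH sUM sUHs).trans
      (centralizer_anti ((omegaOne_le r R).trans (hall_le sylR))))
  have defMH : U ⊔ K = M ⊓ H := by
    have := (sdp.inf_of_le_right (sup_le sUH sKH)).sup
    rwa [tiMH, bot_sup_eq] at this
  have tiHL : sigmaCore H ⊓ L = ⊥ := by
    by_contra hn
    obtain ⟨x, hx, x1⟩ := exists_ne_one_of_ne_bot hn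
    obtain ⟨y, hy, y1, ey⟩ := exists_zpowers_eq_of_prime_card prK
    have hc : x ∈ C[K] := cent disjLH.symm sKH sKL hx
    rcases pi_of_cent_sigma hG maxH hx.1 x1 (mem_inf.2 ⟨sKH hy, mem_centralizer_singleton_comm.1
      (centralizer_le_centralizer_singleton hy hc)⟩) y1 (piElt_of_mem s'K hy) with h1 | h1
    · obtain ⟨p, hp, hd⟩ := exists_prime_dvd_orderOf y1
      have := h1.1 p hp hd
      rw [FH.2] at this
      exact this
    · rw [← centralizer_zpowers, ey] at h1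
      exact neLH (uK.unique h1.2.2)
  have defHL : D = H ⊓ L := by
    have := (sdpH.inf_of_le_right sDL).sup
    rwa [tiHL, bot_sup_eq] at this
  refine ⟨FH, sUHs, defMH, fun hle => ?_, defHL ▸ sKF, defHL ▸ hallD⟩
  have e : U = sigmaCore H := by
    refine eq_of_inf_normalizer_le (notP1type_Msigma_nil hG (Or.inl FH)) sUHs ?_
    have s1 : sigmaCore H ⊓ N[U] ≤ U ⊔ K := by
      rw [defMH]
      exact le_inf ((inf_le_inf_right _ (Msigma_normal H).le).trans hle)
        (inf_le_left.trans (Msigma_normal H).le)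
    have hall : IsPiHallOf (sigma H) U (U ⊔ K) :=
      sdpU.hall_left (isPi_of_le (Msigma_pi H) sUHs) s'K
    exact le_of_normal_hall hall sdpU.normal s1 (isPi_of_le (Msigma_pi H) inf_le_left)
  have : H ≤ M := (le_inf le_rfl (e ▸ (Msigma_normal H).norm)).trans hle
  exact notjMH (eq_mmax maxH maxM this ▸ conj_refl H)

/-- BG 14.13(a). -/
theorem non_disjoint_signalizer_Frobenius {x : G} (hx : SigMax x M) (ntx : x ≠ 1) {N : Subgroup G}
    (hN : SigBase x N) (h : ¬ IsPiSubgroup (sigma N)ᶜ M) : FType M ∧ tau2 M = ∅ := by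
  have maxM := hx.max
  have maxN := hN.1.max
  obtain ⟨-, t2x, -, -, t2sub, bN, -⟩ := FT_signalizer_context hG hx ntx hN
  obtain ⟨q, hq, piMq, sNq⟩ : ∃ q : ℕ, q.Prime ∧ q ∣ Nat.card M ∧ q ∈ sigma N := by
    by_contra hn
    exact h fun q hq hd hs => hn ⟨q, hq, hd, hs⟩
  haveI := Fact.mk hq
  have bNq := bN q sNq piMq
  obtain ⟨s, hs, hsx⟩ := exists_prime_dvd_orderOf ntx
  have t2s := t2x s hs hsx
  have sMs := hx.piElt s hs hsx
  have notjMN : ¬ Conj M N := not_conj_of_sigma' sMs (tau2_not_sigma t2s)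
  have s'Mq : q ∉ sigma M := Set.disjoint_right.1 (sigma_partition hG maxM maxN notjMN) sNq
  have t13q : q ∈ tau1 M ∨ q ∈ tau3 M := by
    rcases (partition_pi_mmax hG maxM hq).1 piMq with h1 | h1 | h1 | h1
    · exact Or.inl h1
    · exact absurd (beta_sub_betaG bNq) (tau2_not_beta hG maxM h1).1
    · exact Or.inr h1
    · exact absurd h1 s'Mq
  have k'q : q ∉ kappa M := by
    intro kq
    obtain ⟨K, hallK⟩ := exists_hall (kappa M) (mmax_sol hG maxM)
    obtain ⟨L, emb⟩ := Ptype_embedding hG ⟨maxM, q, kq⟩ hallK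
    have sLq : q ∈ sigma L := Msigma_pi L q hq ((prime_dvd_card_hall hallK hq kq piMq).trans
      (card_dvd_of_le' (emb.defK.ge.trans inf_le_left)))
    obtain ⟨g, rfl⟩ := conj_of_sigma hG emb.typeP.max maxN sLq sNq
    rw [tau2J] at t2s
    have h1 := H64.rk_hall hs emb.hallSigma sMs
    have h2 := rk_le_one_of_cyclic hs (isCyclic_of_le' emb.cyclic le_sup_right)
    rw [h1, tau2_rk t2s] at h2
    omega
  have FM : FType M := by
    refine (ftype_iff maxM).2 fun PM => ?_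
    rcases PM.p1_or_p2 with P1 | P2
    · exact (P1.2 q hq piMq).elim s'Mq k'q
    · obtain ⟨K, hallK⟩ := exists_hall (kappa M) (mmax_sol hG maxM)
      exact hN.not_cent1_le hx ((Ptype_structure_g hG P2 hallK).2.2.2.cent1_le_top ⟨hx.mem, ntx⟩)
  refine ⟨FM, Set.eq_empty_of_forall_notMem fun p t2p => ?_⟩
  have hp := tau2_prime t2p
  haveI := Fact.mk hp
  obtain ⟨Q, hQ⟩ := exists_elemOf_one hq piMq
  have ntQ := hQ.ne_bot one_ne_zero
  have regQ : sigmaCore M ⊓ C[Q] = ⊥ := by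
    by_contra hn
    exact k'q (mem_kappa_of hG t13q hQ.le hQ.isPGroup ntQ hn)
  obtain ⟨S, sylS⟩ := exists_syl q N
  obtain ⟨g, -, sQS⟩ := exists_le_cj_syl (sigma_Sylow_G sNq sylS) le_top hQ.isPGroup
  have maxL : IsCoatom (cj g N) := isCoatom_cj maxN
  have sQL : Q ≤ cj g N := sQS.trans (cj_mono (hall_le sylS))
  have sCQL : C[Q] ≤ cj g N := (centralizer_le_normalizer _).trans (beta_norm_sub_mmax hG maxL sQL
    (isPi_of_isPGroup_of_mem hq hQ.isPGroup ((betaJ g N).symm ▸ bNq)) ntQ)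
  have sQLs : Q ≤ sigmaCore (cj g N) :=
    H64.pgroup_le_Msigma hG maxL ((sigmaJ g N).symm ▸ sNq) sQL hQ.isPGroup
  have s'Np : p ∉ sigma N := fun e =>
    (tau2_not_beta hG maxM t2p).1 (beta_sub_betaG (bN p e (tau2_sub_pi t2p)))
  have t2'Np : p ∉ tau2 N := fun e => tau2_not_sigma t2p (t2sub e)
  obtain ⟨E, hallE, sQE⟩ := ex_sigma_compl_ge hG maxM hQ.le
    (isPi_of_isPGroup_of_mem hq hQ.isPGroup s'Mq)
  obtain ⟨A, hA⟩ := ex_tau2Elem_of_mem hG maxM hallE t2p
  have ncAQ : ¬ A ≤ C[Q] := by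
    intro hc
    have hAL : ElemOf p 2 A (cj g N) := hA.of_le (hc.trans sCQL)
    have s'p : p ∉ sigma (cj g N) := (sigmaJ g N).symm ▸ s'Np
    refine t2'Np (tau2J g N ▸ mem_tau2_iff.2 ⟨hp, s'p, le_antisymm ?_ hAL.le_rankP⟩)
    exact sigma'_rk_le_two hG maxL hp s'p
  have t1q : q ∈ tau1 M := by
    obtain ⟨-, nsC, hpi⟩ := tau1_cent_tau2Elem_factor hG maxM hallE t2p hA
    have hd := H3.card_dvd_relIndex_of_not_le nsC sQE hQ.card_prime
      fun hc => ncAQ (cent_symm (hc.trans inf_le_right))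
    exact hpi q hq (hQ.card_one ▸ hd)
  obtain ⟨⟨hA0, eA0, -⟩, -, hA1, -⟩ := tau1_act_tau2 hG maxM hallE t2p hA t1q (hQ.of_le sQE) regQ
    fun e => ncAQ (le_cent_of_commutator_eq_bot e)
  have sA1L : A ⊓ C[Q] ≤ cj g N := inf_le_right.trans sCQL
  have kp : p ∈ kappa N := by
    rw [← kappaJ g]
    refine mem_kappa_of hG ?_ sA1L hA1.isPGroup (hA1.ne_bot one_ne_zero)
      (ne_bot_mono ntQ (le_inf sQLs (cent_symm inf_le_right)))
    rcases (partition_pi_mmax hG maxL hp).1 ((hA1.of_le sA1L).dvd_card' one_ne_zero) with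
      h1 | h1 | h1 | h1
    · exact Or.inl h1
    · exact absurd (tau2J g N ▸ h1) t2'Np
    · exact Or.inr h1
    · exact absurd (sigmaJ g N ▸ h1) s'Np
  rw [← eA0] at hA0
  have cA0x : A ⊓ C[sigmaCore M] ≤ C1[x] :=
    inf_le_right.trans (centralizer_le_centralizer_singleton hx.mem)
  obtain ⟨KN, hallKN, sA0⟩ := exists_hall_ge (mmax_sol hG maxN) (cA0x.trans hN.1.le)
    (isPi_of_isPGroup_of_mem hp hA0.isPGroup kp)
  have gN := H3.goodP_self ⟨maxN, p, kp⟩ hallKN
  have hxZ : x ∈ KN ⊔ (sigmaCore N ⊓ C[KN]) := by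
    rw [← gN.norm_prime hG sA0 hA0.card_prime]
    exact mem_inf.2 ⟨hN.1.le (mem_centralizer_singleton_self x),
      centralizer_le_normalizer _ (mem_centralizer_iff_le.2 cA0x)⟩
  have s2 : IsPiSubgroup (tau2 N)ᶜ (KN ⊔ (sigmaCore N ⊓ C[KN])) :=
    isPi_sup (isPi_mono (hall_isPi hallKN) fun _ => kappa_tau2')
      (isPi_mono (H3.piKs N KN) fun _ hp e => tau2_not_sigma e hp)
      (Or.inr (le_normalizer_of_le_centralizer inf_le_right))
  exact ntx (t2x.eq_one (piElt_of_mem s2 hxZ))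

/-- BG 14.13(b). -/
theorem signalizer_base_conj {x y : G} (hx : SigMax x M) (ntx : x ≠ 1) (hy : SigMax y M)
    (nty : y ≠ 1) {N N' : Subgroup G} (hN : SigBase x N) (hN' : SigBase y N') {g : G}
    (hg : cj g N' = N) : ∃ m ∈ M, cj m N' = N := by
  have h1 := (FT_signalizer_context hG hx ntx hN).2.2.2.2.2.2
  have h2 := hall_cj (FT_signalizer_context hG hy nty hN').2.2.2.2.2.2 g
  rw [← sigmaJ g N', cj_inf, hg] at h2
  obtain ⟨n, hn, e⟩ := hall_conj (mmax_sol hG hN.1.max) h2 h1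
  rw [cj_inf, cj_cj] at e
  have hxM : x ∈ cj (n * g) M := by
    have : x ∈ M ⊓ N := mem_inf.2 ⟨(Msigma_normal M).le hx.mem,
      hN.1.le (mem_centralizer_singleton_self x)⟩
    rw [e] at this
    exact this.1
  have maxL : IsCoatom (cj (n * g) M) := isCoatom_cj hx.max
  have hL : SigMax x (cj (n * g) M) :=
    ⟨maxL, mem_Msigma hG maxL hxM (by rw [sigmaJ]; exact hx.piElt)⟩
  obtain ⟨r, ⟨hr, er⟩, -⟩ := FT_signalizer_trans hG hx ntx hL
  rw [hN.FTsig_eq] at hr
  have rN : r ∈ N := (Msigma_normal N).le hr.1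
  refine ⟨r⁻¹ * (n * g), ?_, ?_⟩
  · rw [← norm_mmax hG hx.max]; exact cj_eq_cj_iff.1 er.symm
  · rw [cj_mul, cj_mul, hg, cj_eq_self_of_mem hn, cj_eq_self_of_mem (N.inv_mem rN)]

end Cfsg.Agent.H88.SZ.H63
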