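import Cfsg.Agent.H88.ZMin
import Cfsg.Agent.H88.ZBG14a3
import Cfsg.Agent.H63.Frob

/-! Bender-Glauberman 14.11 - 14.13; the parts of 14.7 that are used appear as hypotheses. -/

set_option autoImplicit false
set_option linter.unusedSectionVars false
set_option linter.unusedVariables false
set_option linter.unusedSectionVars false

namespace Cfsg.Agent.H88.SZ.H64

open Cfsg.Agent.H64

variable [Om]

open Cfsg Cfsg.Agent.H63 Cfsg.Agent.H66 Cfsg.Agent.H67 Subgroup
open Cfsg.Agent.H88.SZ.H63 Cfsg.Agent.H88.SZ.H66 Cfsg.Agent.H88.SZ.H67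

universe u

variable {G : Type u} [Group G] [Finite G]

variable (hG : IsMinSimpleOddOrder G) {M K U : Subgroup G}
include hG

/-- Subgroups of order `p` of a maximal subgroup of `p`-rank one are conjugate. -/
theorem conj_el1_of_rk1 (maxM : IsCoatom M) {p : ℕ} [hp : Fact p.Prime] (hr : rankP p M = 1)
    {X Y : Subgroup G} (hX : ElemOf p 1 X M) (hY : ElemOf p 1 Y M) : ∃ g ∈ M, Y = cj g X := by
  obtain ⟨P, sylP, sYP⟩ := exists_syl_ge hY.1 (el_pgroup hY)
  obtain ⟨g, gM, hg⟩ := exists_cj_le_syl sylP hX.1 (el_pgroup hX)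
  exact ⟨g, gM, eq_of_isCyclic_of_card_eq (cyclic_of_rk1 hG maxM hp.out hr (hall_le sylP)
    (syl_isPGroup sylP)) sYP hg (by rw [card_cj, el_card1 hX, el_card1 hY])⟩

theorem Ftype_reg_tau13 (FM : FType M) {p : ℕ} (h : p ∈ tau1 M ∨ p ∈ tau3 M) {P : Subgroup G}
    (sPM : P ≤ M) (pP : IsPGroup p P) (ntP : P ≠ ⊥) : sigmaCore M ⊓ C[P] = ⊥ := by
  by_contra nt
  have := mem_kappa_of hG h sPM pP ntP nt
  rw [FM.2] at this
  exact this

/-- B & G Lemma 14.11. -/
theorem primes_non_Fitting_Ftype (FM : FType M) {E Q : Subgroup G}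
    (hallE : IsPiHallOf (sigma M)ᶜ E M) {q : ℕ} [hq : Fact q.Prime] (hQ : ElemOf q 1 Q E)
    (notF : ¬ Q ≤ fittingOf E) :
    ∃ L, IsCoatom L ∧ ((q ∈ tau2 L ∧ UniqMax C[Q] L) ∨ (q ∈ kappa L ∧ P1Type L)) := by
  have maxM := FM.max
  have sEM := hall_le hallE
  have qQ := el_pgroup hQ
  have ntQ := el1_ne_bot hq.out hQ
  have t1q : q ∈ tau1 M := by
    rcases (partition_pi_sigma_compl hG maxM hallE hq.out).1
      (el_card1 hQ ▸ card_dvd_of_le' hQ.1) with h | h | h
    · exact h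
    · obtain ⟨A, hA⟩ := ex_tau2Elem_of_mem hG maxM hallE h
      obtain ⟨⟨nsA, defA⟩, -⟩ := tau2_compl_context hG maxM hallE h hA
      exact absurd (((defA Q).1 hQ).1.trans (le_fittingOf_of_comm nsA (el_comm hA))) notF
    · obtain ⟨E₁, E₂, E₃, hE⟩ := ex_sigmaCompl hG maxM hallE
      obtain ⟨⟨-, nsE₃⟩, -, ⟨-, cyc⟩, -⟩ := sigma_compl_context hG maxM hE
      exact absurd ((le_of_normal_hall hE.hallE₃ nsE₃ hQ.1 (isPi_of_isPGroup_of_mem hq.out qQ h)).trans
        (le_fittingOf_of_comm nsE₃ (isMulCommutative_of_isCyclic cyc))) notF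
  have regQ := Ftype_reg_tau13 hG FM (Or.inl t1q) (hQ.1.trans sEM) qQ ntQ
  have sFE := fittingOf_le E
  have s'F := isPi_of_le (hall_isPi hallE) sFE
  have cF : IsMulCommutative (fittingOf E) :=
    sigma'_nil_abelian hG maxM (sFE.trans sEM) s'F (fittingOf_nil E)
  have nFQ : Q ≤ N[fittingOf E] := hQ.1.trans (fittingOf_normalIn E).2
  have q'F : IsPiSubgroup {q}ᶜ (fittingOf E) := by
    rw [isPi_compl_singleton_iff hq.out]
    intro hd
    obtain ⟨X, hX⟩ := exists_el1 hq.out hd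
    obtain ⟨S, sylS, sQS⟩ := exists_syl_ge hQ.1 qQ
    have sXS : X ≤ S := (le_pCoreOf_of_le_fittingOf hq.out hX.1 (el_pgroup hX)).trans
      (piCoreOf_le_hall sylS)
    have := eq_of_isCyclic_of_card_eq (cyclic_of_rk1 hG maxM hq.out (tau1_rk t1q)
      ((hall_le sylS).trans sEM) (syl_isPGroup sylS)) sQS sXS (by rw [el_card1 hQ, el_card1 hX])
    exact notF (this ▸ hX.1)
  obtain ⟨cKMs, -, -⟩ := commG_sigma'_1Elem_cyclic hG maxM (sFE.trans sEM) s'F (tau1_not_sigma t1q)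
    (el_of_le hQ (le_inf (hQ.1.trans sEM) nFQ)) regQ q'F cF
  have ntK : ⁅fittingOf E, Q⁆ ≠ ⊥ := fun e => notF ((le_inf hQ.1
    (cent_symm (le_cent_of_commutator_eq_bot e))).trans
      (H64.fit_cent_le (sigma_compl_sol hG maxM hallE)))
  obtain ⟨p, hp, pK⟩ := exists_prime_dvd_card ntK
  haveI : Fact p.Prime := ⟨hp⟩
  obtain ⟨X, hX⟩ := exists_el1 hp pK
  have sXE : X ≤ E := (hX.1.trans (commutator_le_of_norm_left nFQ)).trans sFE
  have t2p : p ∈ tau2 M := by
    have key : ¬ (p ∈ tau1 M ∨ p ∈ tau3 M) := fun h => Msigma_neq1 hG maxM (by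
      rw [← Ftype_reg_tau13 hG FM h (sXE.trans sEM) (el_pgroup hX) (el1_ne_bot hp hX)]
      exact (inf_eq_left.2 (cent_symm (hX.1.trans cKMs))).symm)
    rcases (partition_pi_sigma_compl hG maxM hallE hp).1
      (el_card1 hX ▸ card_dvd_of_le' sXE) with h | h | h
    exacts [absurd (Or.inl h) key, h, absurd (Or.inr h) key]
  obtain ⟨A, hA⟩ := ex_tau2Elem_of_mem hG maxM hallE t2p
  obtain ⟨⟨nsA, defA⟩, -⟩ := tau2_compl_context hG maxM hallE t2p hA
  have ncAQ : ¬ A ≤ C[Q] := fun h => el1_ne_bot hp hX (eq_bot_iff.2 (by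
    rw [← coprime_abel_cent_TI nFQ (isPi_coprime (isPi_of_isPGroup hq.out qQ) q'F) cF]
    exact le_inf hX.1 (((defA X).1 (el_of_le hX sXE)).1.trans h)))
  obtain ⟨-, -, hA₁, -⟩ := tau1_act_tau2 hG maxM hallE t2p hA t1q hQ regQ
    fun e => ncAQ (le_cent_of_commutator_eq_bot e)
  obtain ⟨L, maxL, sNL⟩ := ex_mmax_norm_pgroup hG hp (el_pgroup hA) (el2_ne_bot hp hA)
  obtain ⟨ha, hb, -⟩ := primes_norm_tau2Elem hG maxM hallE t2p hA maxL sNL
  obtain ⟨sp, b'p⟩ := ha p t2p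
  have sEL : E ≤ L := nsA.2.trans sNL
  have sQL := hQ.1.trans sEL
  have ntC : sigmaCore L ⊓ C[Q] ≠ ⊥ := ne_bot_mono (el1_ne_bot hp hA₁) (inf_le_inf_right _
    (H64.pgroup_le_Msigma hG maxL sp (hA.1.trans sEL) (el_pgroup hA)))
  have qd : q ∣ (E ⊓ C[A]).relIndex E := by
    by_contra nd
    exact ncAQ (cent_symm ((le_of_isPi_of_normal_relIndex hQ.1 (inf_centralizer_normalIn nsA.2).2
      (isPi_of_isPGroup hq.out qQ) ((piNat_compl_singleton_iff hq.out).2 nd)).trans inf_le_right))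
  refine ⟨L, maxL, ?_⟩
  rcases hb q hq.out qd with h | h
  · have kq := mem_kappa_of hG (Or.inl h) sQL qQ ntQ ntC
    refine Or.inr ⟨kq, (PType.p1_or_p2 ⟨maxL, q, kq⟩).resolve_right fun P2 => b'p ?_⟩
    obtain ⟨K, hallK⟩ := exists_hall (kappa L) (mmax_sol hG maxL)
    rwa [← (Ptype_structure_g hG P2 hallK).1]
  · obtain ⟨F, hallF, sQF⟩ := ex_sigma_compl_ge hG maxL sQL
      (isPi_of_isPGroup_of_mem hq.out qQ (tau2_not_sigma h))
    obtain ⟨B, hB⟩ := ex_tau2Elem_of_mem hG maxL hallF h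
    exact Or.inl ⟨h, (tau2_compl_context hG maxL hallF h hB).2.2.1 Q (el_of_le hQ sQF) ntC⟩

/-- B & G Corollary 14.12, with the facts from 14.7 as hypotheses. -/
theorem P2type_signalizer_of (P2M : P2Type M) (h : KappaCompl M U K) {L R H : Subgroup G}
    (PL : PType L) (uniqX : ∀ X, X ≤ K → (Nat.card X).Prime → UniqMax C[X] L)
    (hallKs : IsPiHallOf (kappa L) (sigmaCore M ⊓ C[K]) L)
    (defK : sigmaCore L ⊓ C[sigmaCore M ⊓ C[K]] = K)
    (defML : M ⊓ L = K ⊔ (sigmaCore M ⊓ C[K])) (conjP : ∀ H, PType H → Conj M H ∨ Conj L H)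
    {r : ℕ} [hr : Fact r.Prime] (piUr : r ∣ Nat.card U)
    (sylR : IsSyl r R U) (maxH : IsCoatom H) (sN : N[R] ≤ H) (hw : r ∈ ϖ := by w_tac) :
    FType H ∧ U ≤ sigmaCore H ∧ U ⊔ K = M ⊓ H ∧ ¬ H ⊓ N[U] ≤ M ∧ K ≤ fittingOf (H ⊓ L) ∧
      IsPiHallOf (sigma H)ᶜ (H ⊓ L) H := by
  have maxM := P2M.max
  have maxL := PL.max
  have ntK : K ≠ ⊥ := (ntrivg_kappa maxM h.hallK).2 P2M.ptype
  obtain ⟨hallE, defE, defM, -, regUK, cU⟩ := kappa_compl_context hG maxM h
  replace cU := cU ntK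
  obtain ⟨-, prK, -⟩ := Ptype_structure_g hG P2M h.hallK
  have sRU := hall_le sylR
  have rR := syl_isPGroup sylR
  have ntR := syl_ne_bot sylR piUr
  have sk'r : r ∈ (sigma M ∪ kappa M)ᶜ := hall_isPi h.hallU r hr.out piUr
  have s'r : r ∉ sigma M := fun e => sk'r (Or.inl e)
  have k'r : r ∉ kappa M := fun e => sk'r (Or.inr e)
  have sylRM : IsSyl r R M := syl_of_hall h.hallU sk'r sylR
  have sRM := hall_le sylRM
  have nsRU := normalIn_of_isMulCommutative cU sRU
  have sUH : U ≤ H := nsRU.2.trans sN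
  have sKH : K ≤ H := (h.norm.trans (normalizer_le_normalizer_of_normal_hall sylR nsRU)).trans sN
  have notMH : ¬ Conj M H := by
    rintro ⟨g, rfl⟩
    refine s'r (sigmaJ g M ▸ mem_sigma_of_Sylow hr.out (mmax_proper maxH) ?_ sN)
    exact hall_of_card_eq (hall_cj sylRM g) (sRU.trans sUH) (card_cj _ _).symm
  have neHM : H ≠ M := fun e => notMH (e ▸ conj_refl H)
  have tiMsH : sigmaCore M ⊓ H = ⊥ := by
    have piM : r ∣ Nat.card M := piUr.trans (card_dvd_of_le' (hall_le h.hallU))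
    obtain ⟨-, -, regR, -⟩ := sigma'_kappa'_facts hG maxM sylRM piM s'r k'r
    have key : r ∈ tau1 M ∨ r ∈ tau3 M → sigmaCore M ⊓ H = ⊥ := fun t => by
      rw [eq_bot_iff, ← regR]
      exact le_inf inf_le_left (cent_symm ((omegaOne_le r R).trans
        ((cent_norm_tau13_mmax hG maxM hallE t sRM rR maxH sN).1 R
          (le_inf sRM (sRU.trans sUH)) rR)))
    rcases (partition_pi_mmax hG maxM hr.out).1 piM with t | t | t | t
    · exact key (Or.inl t)
    · obtain ⟨A, hA⟩ := rk_exists (n := 2) (X := R) hr.out (by rw [rk_syl hr.out sylRM, tau2_rk t])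
      exact (tau2_context hG maxM t (el_mono hA sRM)).2.2.2.1 H maxH (hA.1.trans (sRU.trans sUH)) neHM
    · exact key (Or.inr t)
    · exact absurd t s'r
  have defMH : U ⊔ K = M ⊓ H := by
    have := defM.inf_of_le_right (sup_le sUH sKH)
    rw [tiMsH] at this
    exact this.eq_of_bot_left
  have uniqK := uniqX K le_rfl prK
  have sKLs : K ≤ sigmaCore L := defK ▸ inf_le_left
  set q := Nat.card K with hq
  haveI : Fact q.Prime := ⟨prK⟩
  have hK : ElemOf q 1 K K := el1_mk prK le_rfl rfl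
  have qK := el_pgroup hK
  have sLq : q ∈ sigma L := mem_of_isPi_of_isPGroup prK qK ntK (isPi_of_le (Msigma_pi L) sKLs)
  have notLH : ¬ Conj L H := by
    rintro ⟨g, rfl⟩
    by_cases gL : g ∈ L
    · rw [cj_eq_self_of_mem gL] at sUH
      refine ntR (isPi_eq_bot (π := sigma M ∪ kappa M) (isPi_of_le ?_
        (defML ▸ le_inf sRM (sRU.trans sUH))) (isPi_of_isPGroup_of_mem hr.out rR sk'r))
      exact isPi_sup (isPi_mono (hall_isPi h.hallK) Set.subset_union_right)
        (isPi_mono (isPi_of_le (Msigma_pi M) inf_le_left) Set.subset_union_left)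
        (Or.inl (le_normalizer_of_le_centralizer' inf_le_right))
    · have := (Ptype_structure_d hG PL hallKs).1 g gL
      rw [defK] at this
      exact ntK (eq_bot_iff.2 (this ▸ le_inf le_rfl sKH))
  have FH : FType H := (ftype_iff maxH).2 fun PH => (conjP H PH).elim notMH notLH
  have disj := sigma_partition hG maxL maxH notLH
  have s'q : q ∉ sigma H := Set.disjoint_left.1 disj sLq
  have s'K : IsPiSubgroup (sigma H)ᶜ K := isPi_of_isPGroup_of_mem prK qK s'q
  obtain ⟨D, hallD, sKD⟩ := ex_sigma_compl_ge hG maxH sKH s'K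
  have sDH := hall_le hallD
  have defH := sdprod_sigma hG maxH hallD
  have sKF : K ≤ fittingOf D := by
    by_contra notF
    obtain ⟨L', maxL', h1 | h1⟩ := primes_non_Fitting_Ftype hG FH hallD (el_of_le hK sKD) notF
    · exact tau2_not_sigma h1.1 (uniqK.unique h1.2 ▸ sLq)
    · rcases conjP L' h1.2.ptype with ⟨g, rfl⟩ | ⟨g, rfl⟩
      · exact ((P1typeJ g).1 h1.2).not_p2 P2M
      · exact kappa_sigma' h1.1 ((sigmaJ g L).symm ▸ sLq)
  have defU : ⁅U, K⁆ = U := regUK.commutator_eq h.norm ntK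
  have nsF : sigmaCore H ⊔ fittingOf D ⊴ H := by
    refine ⟨sup_le (Msigma_normal H).1 ((fittingOf_le D).trans sDH), defH.le_of_le
      (le_normalizer_of_le le_sup_left) ?_⟩
    exact le_normalizer_sup (sDH.trans (Msigma_normal H).2) (fittingOf_normalIn D).2
  have sUHs : U ≤ sigmaCore H := by
    have h1 : U ≤ sigmaCore H ⊔ fittingOf D := by
      rw [← defU]
      exact (commutator_mono le_rfl (sKF.trans le_sup_right)).trans
        (commutator_le_of_norm_right (sUH.trans nsF.2))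
    rw [← defU]
    refine comm_le_of_quo_nil (nsF.1.trans (Msigma_normal H).2) ?_ h1 (sKF.trans le_sup_right)
      (regUK.coprime h.norm)
    rw [sup_quo_left (((fittingOf_le D).trans sDH).trans (Msigma_normal H).2)]
    exact quo_isNilpotent _ (fittingOf_nil D)
  have regK : sigmaCore H ⊓ C[K] = ⊥ := by
    have key := fun t => Ftype_reg_tau13 hG FH (p := q) t sKH qK ntK
    rcases (partition_pi_sigma_compl hG maxH hallD prK).1 (card_dvd_of_le' sKD) with t | t | t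
    · exact key (Or.inl t)
    · by_contra nt
      obtain ⟨B, hB⟩ := ex_tau2Elem_of_mem hG maxH hallD t
      have := (tau2_compl_context hG maxH hallD t hB).2.2.1 K (el_of_le hK sKD) nt
      exact notLH (uniqK.unique this ▸ conj_refl L)
    · exact key (Or.inr t)
  have sDL : D ≤ L := by
    have sKO : K ≤ O[{q}](D) := le_pCoreOf_of_le_fittingOf prK sKF qK
    by_cases cyc : IsCyclic O[{q}](D)
    · exact (le_norm_of_isCyclic cyc sKO (piCoreOf_normalIn _ D).2).trans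
        (norm_le_of_uniq_norm hG uniqK ntK (mFT_pgroup_proper hG prK qK) (centralizer_le_normalizer _))
    · have cF : IsMulCommutative (fittingOf D) := sigma'_nil_abelian hG maxH
        ((fittingOf_le D).trans sDH) (isPi_of_le (hall_isPi hallD) (fittingOf_le D)) (fittingOf_nil D)
      exact (piCoreOf_normalIn _ D).2.trans (norm_noncyclic_sigma hG maxL sLq (isPGroup_pCoreOf prK D)
        ((le_cent_of_comm cF (pCoreOf_le_fittingOf prK D) sKF).trans uniqK.le) cyc)
  have tiHsL : sigmaCore H ⊓ L = ⊥ := by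
    rw [eq_bot_iff, ← regK]
    refine le_inf inf_le_left (le_cent_of_commutator_eq_bot (eq_bot_iff.2 ?_))
    rw [← inf_eq_bot_of_coprime' ((isPi_piNat (Msigma_pi H)).coprime_of_disjoint
      (isPi_piNat (Msigma_pi L)) fun p _ h1 h2 => Set.disjoint_left.1 disj h2 h1)]
    exact le_inf ((commutator_mono inf_le_left le_rfl).trans
      (commutator_le_of_norm_left (sKH.trans (Msigma_normal H).2)))
      ((commutator_mono le_rfl sKLs).trans
        (commutator_le_of_norm_right (inf_le_right.trans (Msigma_normal L).2)))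
  have defD : D = H ⊓ L := by
    have := defH.inf_of_le_right sDL
    rw [tiHsL] at this
    exact this.eq_of_bot_left
  refine ⟨FH, sUHs, defMH, fun sNM => neHM ?_, defD ▸ sKF, defD ▸ hallD⟩
  have eU : U = sigmaCore H := by
    refine eq_of_inf_normalizer_le (notP1type_Msigma_nil hG (Or.inl FH)) sUHs ?_
    have h1 : sigmaCore H ⊓ N[U] ≤ (U ⊔ K) ⊓ sigmaCore H := by
      rw [defMH]
      exact le_inf (le_inf ((inf_le_inf_right _ (Msigma_normal H).1).trans sNM)
        (inf_le_left.trans (Msigma_normal H).1)) inf_le_left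
    have h2 := defE.inf_of_le_left sUHs
    rw [isPi_inf_eq_bot' s'K (Msigma_pi H)] at h2
    exact h1.trans h2.eq_of_bot_right.ge
  exact eq_mmax maxH maxM ((le_inf le_rfl (eU ▸ (Msigma_normal H).2)).trans sNM)

/-- B & G Lemma 14.13(a), with the facts from 14.7 as a hypothesis. -/
theorem non_disjoint_signalizer_Frobenius_of
    (emb : ∀ K, PType M → IsPiHallOf (kappa M) K M → ∃ L Ks : Subgroup G,
      (∀ X, X ≤ K → (Nat.card X).Prime → UniqMax C[X] L) ∧ IsPiHallOf (kappa L) Ks L ∧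
        IsPiHallOf (sigma M) Ks L)
    {x : G} (hx : SigMax x M) (ntx : x ≠ 1) {N : Subgroup G}
    (hN : SigBase x N) (h : ¬ IsPiSubgroup (sigma N)ᶜ M) : FType M ∧ tau2 M = ∅ := by
  have maxM := hx.max
  have maxN := hN.1.max
  obtain ⟨-, t2x, -, -, st2, sb, -⟩ := FT_signalizer_context hG hx ntx hN
  obtain ⟨q, hq, qM, sNq⟩ : ∃ q : ℕ, q.Prime ∧ q ∣ Nat.card M ∧ q ∈ sigma N := by
    by_contra hc
    push Not at hc
    exact h hc
  haveI : Fact q.Prime := ⟨hq⟩
  obtain ⟨t, ht, tx⟩ := Nat.exists_prime_and_dvd (fun e => ntx (orderOf_eq_one_iff.1 e))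
  have t2t : t ∈ tau2 N := t2x t ht tx
  have notMN : ¬ Conj M N := not_conj_of_sigma' (st2 t2t) (tau2_not_sigma t2t)
  have s'q : q ∉ sigma M := fun e => Set.disjoint_left.1 (sigma_partition hG maxM maxN notMN) e sNq
  have bNq := sb q sNq qM
  -- every subgroup of order `q` has its centralizer in a unique conjugate of `N`
  have uniqQ : ∀ Q X : Subgroup G, ElemOf q 1 Q X → ∃ g, UniqMax C[Q] (cj g N) := by
    intro Q X hQ
    obtain ⟨S, sylS⟩ := exists_syl q N
    obtain ⟨g, -, hg⟩ := exists_le_cj_syl (sigma_Sylow_G sNq sylS) le_top (el_pgroup hQ)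
    exact ⟨g, (cent_der_sigma_uniq hG (isCoatom_cj maxN) (el_of_le hQ (hg.trans (cj_mono (hall_le sylS))))
      (Or.inl ((betaJ g N).symm ▸ bNq))).1⟩
  have FM : FType M := by
    refine (ftype_iff maxM).2 fun PM => ?_
    obtain ⟨K, hallK⟩ := exists_hall (kappa M) (mmax_sol hG maxM)
    rcases PM.p1_or_p2 with P1 | P2
    · have kq : q ∈ kappa M := (P1.2 q hq qM).resolve_left s'q
      obtain ⟨Q, hQ⟩ := exists_el1 hq (prime_dvd_card_hall hallK hq kq qM)
      obtain ⟨g, ug⟩ := uniqQ Q K hQ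
      obtain ⟨L, Ks, uL, hallKs, hallKs'⟩ := emb K PM hallK
      obtain rfl := ug.unique (uL Q hQ.1 (el_prime hq hQ))
      have t2t' : t ∈ tau2 (cj g N) := (tau2J g N).symm ▸ t2t
      exact kappa_tau2' (hall_isPi hallKs t ht
        (prime_dvd_card_hall hallKs' ht (st2 t2t) (tau2_sub_pi t2t'))) t2t'
    · exact (tau2_not_beta hG maxN t2t).1 (beta_sub_betaG ((Ptype_structure_g hG P2 hallK).1 ▸ st2 t2t))
  refine ⟨FM, Set.eq_empty_iff_forall_notMem.2 fun p t2p => ?_⟩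
  haveI hp : Fact p.Prime := ⟨tau2_prime t2p⟩
  obtain ⟨E, hallE⟩ := ex_sigma_compl hG maxM
  obtain ⟨Q, hQ⟩ := exists_el1 hq ((pi_sigma_compl hG maxM hallE hq).2 ⟨qM, s'q⟩)
  obtain ⟨g, ug⟩ := uniqQ Q E hQ
  obtain ⟨A, hA⟩ := ex_tau2Elem_of_mem hG maxM hallE t2p
  have s'Np : p ∉ sigma N := fun e =>
    (tau2_not_beta hG maxM t2p).1 (beta_sub_betaG (sb p e (tau2_sub_pi t2p)))
  have rN : rankP p N ≤ 1 := by
    have h1 := sigma'_rk_le_two hG maxN hp.out s'Np
    by_contra h2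
    exact tau2_not_sigma t2p (st2 (mem_tau2_iff.2 ⟨hp.out, s'Np, by omega⟩))
  have ncAQ : ¬ A ≤ C[Q] := fun e => by
    have := rk_ge hp.out (el_of_le hA (e.trans ug.le))
    rw [rk_cj hp.out] at this
    omega
  obtain ⟨-, nsC, t1C⟩ := tau1_cent_tau2Elem_factor hG maxM hallE t2p hA
  have t1q : q ∈ tau1 M := by
    refine t1C q hq ?_
    by_contra nd
    exact ncAQ (cent_symm ((le_of_isPi_of_normal_relIndex hQ.1 nsC.2
      (isPi_of_isPGroup hq (el_pgroup hQ)) ((piNat_compl_singleton_iff hq).2 nd)).trans inf_le_right))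
  obtain ⟨⟨hA₀, defA₀, -⟩, notJ, hA₁, -⟩ := tau1_act_tau2 hG maxM hallE t2p hA t1q hQ
    (Ftype_reg_tau13 hG FM (Or.inl t1q) (hQ.1.trans (hall_le hallE)) (el_pgroup hQ) (el1_ne_bot hq hQ))
    fun e => ncAQ (le_cent_of_commutator_eq_bot e)
  have hA₀N : ElemOf p 1 ⁅A, Q⁆ N := el_of_le hA₀ (defA₀ ▸ (inf_le_right.trans
    (centralizer_le_centralizer_singleton hx.mem)).trans hN.1.le)
  have hA₁N : ElemOf p 1 (cj g⁻¹ (A ⊓ C[Q])) N := by
    have := el_cj (el_of_le hA₁ (inf_le_right.trans ug.le)) g⁻¹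
    rwa [cj_inv_cj] at this
  obtain ⟨y, -, hy⟩ := conj_el1_of_rk1 hG maxN (le_antisymm rN (rk_ge hp.out hA₀N)) hA₁N hA₀N
  exact notJ ⟨y * g⁻¹, by rw [hy, cj_cj]⟩

end Cfsg.Agent.H88.SZ.H64
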