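import Cfsg.Agent.H88.ZMin
import Cfsg.Agent.H88.ZBG14B3
import Cfsg.Agent.H69.BG3

/-!
B & G, section 15: `M_F` and Lemma 15.1.
-/

set_option autoImplicit false
set_option linter.unusedSectionVars false
set_option linter.unusedVariables false

namespace Cfsg.Agent.H88.SZ.H66

open Cfsg.Agent.H66

variable [Om]

open Cfsg Cfsg.Agent.H63 Cfsg.Agent.H67 Cfsg.Agent.H64 Subgroup
open Cfsg.Agent.H88.SZ.H63 Cfsg.Agent.H88.SZ.H67 Cfsg.Agent.H88.SZ.H64
open Cfsg.Agent.H68 (Fcore_normal Fcore_le Fcore_nil Fcore_Hall Fcore_max Fcore_sub_Fitting)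

universe u

variable {G : Type u} [Group G] [Finite G]

/-! ### More on `M_F` (no minimal counterexample needed) -/

theorem syl_pCore_Fcore {M : Subgroup G} {p : ℕ} (hp : p.Prime)
    (h : p ∣ Nat.card (fittingHallOf M)) : IsSyl p O[{p}](fittingHallOf M) M :=
  syl_of_hall (Fcore_Hall M).hall ⟨hp, h⟩ (hall_piCoreOf_of_isNilpotent {p} (Fcore_nil M))

theorem p_core_Fcore {M : Subgroup G} {p : ℕ} (hp : p.Prime) (h : p ∣ Nat.card (fittingHallOf M)) :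
    O[{p}](fittingHallOf M) = O[{p}](M) :=
  (piCoreOf_eq_of_normal_hall (syl_pCore_Fcore hp h) ((Fcore_normal M).piCoreOf {p})).symm

theorem Fcore_pcore_Sylow {M : Subgroup G} {p : ℕ} (hp : p.Prime) (h : p ∣ Nat.card (fittingHallOf M)) :
    IsSyl p O[{p}](M) M := by
  rw [← p_core_Fcore hp h]; exact syl_pCore_Fcore hp h

/-- A normal Sylow subgroup of `M` lies in `M_F`. -/
theorem syl_le_Fcore {M P : Subgroup G} {p : ℕ} (hp : p.Prime) (sylP : IsSyl p P M) (nP : P ⊴ M) :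
    P ≤ fittingHallOf M :=
  haveI := Fact.mk hp
  Fcore_max (hall_isHallOf sylP) nP (isNilpotent_of_isPGroup hp (syl_isPGroup sylP))

/-- `F(M) ≤ M_F C_M(M_F)`. -/
theorem Fitting_le_Fcore_cent (M : Subgroup G) :
    fittingOf M ≤ fittingHallOf M ⊔ (M ⊓ C[fittingHallOf M]) := by
  have hH : IsPiHallOf (primesOf (Nat.card (fittingHallOf M))) (fittingHallOf M) (fittingOf M) :=
    hall_of_le (Fcore_Hall M).hall (Fcore_sub_Fitting M) (fittingOf_le M)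
  have hD := isDp_piCoreOf_of_isNilpotent (primesOf (Nat.card (fittingHallOf M))) (fittingOf_nil M)
  rw [← eq_piCoreOf_of_isNilpotent (fittingOf_nil M) hH] at hD
  rw [← hD.sup]
  exact sup_le_sup_left (le_inf (hD.le_right.trans (fittingOf_le M)) hD.cent) _

variable (hG : IsMinSimpleOddOrder G) {M : Subgroup G} (maxM : IsCoatom M)
include hG maxM

/-- `M'' ≤ M_σ`. -/
theorem der2_sub_Msigma : ⁅⁅M, M⁆, ⁅M, M⁆⁆ ≤ sigmaCore M := by
  obtain ⟨E, hallE⟩ := ex_sigma_compl hG maxM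
  have hs := sdprod_sigma hG maxM hallE
  have h1 : ⁅M, M⁆ ≤ sigmaCore M ⊔ ⁅E, E⁆ := hs.isMul.derived_le_sup hs.normal
  refine (commutator_mono h1 h1).trans (derived_sup_le_of_comm ?_ (der_mmax_compl_abelian hG maxM hallE))
  exact (commutator_le_of_le le_rfl le_rfl).trans hs.norm

/-- An abelian `τ₂(M)`-subgroup with fixed points in `M_σ` is cyclic. -/
theorem tau2_cent_sigma_cyclic {X : Subgroup G} (sXM : X ≤ M) (t2X : IsPiSubgroup (tau2 M) X)
    (nt : sigmaCore M ⊓ C[X] ≠ ⊥) : IsCyclic X := by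
  obtain ⟨E, hallE, sXE⟩ := ex_sigma_compl_ge hG maxM sXM (isPi_mono t2X fun _ h => tau2_not_sigma h)
  obtain ⟨E₂, hallE₂, sXE₂⟩ := exists_hall_ge (sigma_compl_sol hG maxM hallE) sXE t2X
  have cX : IsMulCommutative X :=
    isMulCommutative_of_le (tau2_compl_abelian hG maxM hallE hallE₂) sXE₂
  by_contra nc
  obtain ⟨p, hp, A, hA⟩ := exists_elemOf_of_le_rank (two_le_rank_of_comm cX nc)
  haveI := Fact.mk hp
  have t2p : p ∈ tau2 M := t2X p hp (hA.dvd_card' (by norm_num))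
  have h0 := (tau2_context hG maxM t2p (hA.mono sXM)).2.2.1
  exact nt (le_bot_iff.mp (h0 ▸ inf_le_inf_left _ (centralizer_anti hA.le)))

/-- B & G, Lemma 15.1(c), for any `(σ ∪ κ)'`-subgroup of `M`. -/
theorem sigma'_kappa'_cent_sigma {X : Subgroup G} (sXM : X ≤ M)
    (sk'X : IsPiSubgroup (sigma M ∪ kappa M)ᶜ X) (ntX : X ≠ ⊥) (nt : sigmaCore M ⊓ C[X] ≠ ⊥) :
    UniqMax C[X] M ∧ IsCyclic X ∧ IsPiSubgroup (tau2 M) X := by
  obtain ⟨y, hy, nty⟩ := exists_ne_one_of_ne_bot nt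
  have key : ∀ x ∈ X, x ≠ 1 → PiElt (tau2 M) x ∧ UniqMax C1[x] M := by
    intro x hx ntx
    have h1 : PiElt (sigma M ∪ kappa M)ᶜ x := piElt_of_mem sk'X hx
    have hxy : x ∈ M ⊓ C1[y] := ⟨sXM hx, mem_centralizer_iff_le.mp hy.2 hx⟩
    rcases pi_of_cent_sigma hG maxM hy.1 nty hxy ntx (h1.mono fun _ h h' => h (Or.inl h')) with h | h
    · exact absurd (h.1.eq_one (h1.mono fun _ h h' => h (Or.inr h'))) ntx
    · exact ⟨h.1, h.2.2⟩
  have t2X : IsPiSubgroup (tau2 M) X := isPi_iff_forall_piElt.mpr fun x hx => by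
    by_cases h : x = 1
    · exact h ▸ piElt_one _
    · exact (key x hx h).1
  have cX := tau2_cent_sigma_cyclic hG maxM sXM t2X nt
  refine ⟨?_, cX, t2X⟩
  obtain ⟨x, hx, rfl⟩ := exists_zpowers_eq_of_isCyclic cX
  rw [centralizer_zpowers]
  exact (key x hx (fun h => ntX (by simp [h]))).2

/-- B & G, Lemma 15.1. -/
theorem kappa_structure {U K : Subgroup G} (complU : KappaCompl M U K) :
    ((IsSdp (sigmaCore M) U (sigmaCore M ⊔ U) ∧ IsSdp (sigmaCore M ⊔ U) K M) ∧ IsCyclic K ∧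
        ⁅⁅M, M⁆, ⁅M, M⁆⁆ ≤ sigmaCore M) ∧
      (K ≠ ⊥ → IsSdp (sigmaCore M) U ⁅M, M⁆ ∧ IsMulCommutative U) ∧
      (∀ X : Subgroup G, X ≤ U → X ≠ ⊥ → sigmaCore M ⊓ C[X] ≠ ⊥ →
        UniqMax C[X] M ∧ IsCyclic X ∧ IsPiSubgroup (tau2 M) X) ∧
      IsMulCommutative ↥(⨆ (x : G) (_ : x ∈ sigmaCore M ∧ x ≠ 1), U ⊓ C1[x]) ∧
      (U ≠ ⊥ → ∃ U₀ : Subgroup G, U₀ ≤ U ∧ Monoid.exponent U₀ = Monoid.exponent U ∧
        IsFrobenius (sigmaCore M ⊔ U₀) (sigmaCore M) U₀) := by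
  obtain ⟨hallE, defE, defM, -, -, cU⟩ := kappa_compl_context hG maxM complU
  have sUM : U ≤ M := hall_le complU.hallU
  have hc : ∀ X : Subgroup G, X ≤ U → X ≠ ⊥ → sigmaCore M ⊓ C[X] ≠ ⊥ →
      UniqMax C[X] M ∧ IsCyclic X ∧ IsPiSubgroup (tau2 M) X := fun X sXU ntX nt =>
    sigma'_kappa'_cent_sigma hG maxM (sXU.trans sUM) (isPi_of_le (hall_isPi complU.hallU) sXU) ntX nt
  have hde : U ≠ ⊥ → (∃ A₀ : Subgroup G, A₀ ⊴ U ∧ IsMulCommutative A₀ ∧
      ∀ x ∈ sigmaCore M, x ≠ 1 → U ⊓ C1[x] ≤ A₀) ∧ ∃ V : Subgroup G, V ≤ U ∧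
      Monoid.exponent V = Monoid.exponent U ∧ IsFrobenius (sigmaCore M ⊔ V) (sigmaCore M) V := by
    intro ntU
    refine FTtypeF_complement hG maxM hallE
      (hall_isHallOf (hall_of_le complU.hallU le_sup_left (hall_le hallE))) defE.normal ntU ?_
    intro e he nte t13e
    by_contra nt
    rw [← centralizer_zpowers] at nt
    have t2e := isPi_zpowers_iff.mp
      (hc _ (zpowers_le.mpr he) (zpowers_ne_bot' nte) nt).2.2
    refine nte (t2e.eq_one (t13e.mono ?_))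
    rintro q (h | h)
    · exact tau2'1 h
    · exact fun h' => tau3'2 h' h
  refine ⟨⟨⟨defM.mono_right le_sup_left, defM.assoc_left defE⟩,
    kappa_hall_cyclic hG maxM complU.hallK, der2_sub_Msigma hG maxM⟩,
    fun ntK => ⟨Ptype_der1 hG ((ntrivg_kappa maxM complU.hallK).mp ntK) complU, cU ntK⟩, hc, ?_,
    fun ntU => (hde ntU).2⟩
  by_cases hU : U = ⊥
  · refine isMulCommutative_of_le (K := ⊥) inferInstance ?_
    exact iSup₂_le fun x _ => hU ▸ inf_le_left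
  · obtain ⟨A₀, -, cA₀, h⟩ := (hde hU).1
    exact isMulCommutative_of_le cA₀ (iSup₂_le fun x hx => h x hx.1 hx.2)

end Cfsg.Agent.H88.SZ.H66
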