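import Cfsg.Agent.H88.ZMin
import Cfsg.Agent.H88.ZBG15a

/-!
B & G, section 15: Theorem 15.2.
-/

set_option autoImplicit false
set_option linter.unusedSectionVars false
set_option linter.unusedVariables false

namespace Cfsg.Agent.H88.SZ.H66

open Cfsg.Agent.H66

variable [Om]

open Cfsg Cfsg.Agent.H63 Cfsg.Agent.H67 Cfsg.Agent.H64 Subgroup
open Cfsg.Agent.H88.SZ.H63 Cfsg.Agent.H88.SZ.H67 Cfsg.Agent.H88.SZ.H64
open Cfsg.Agent.H68 (Fcore_normal Fcore_le Fcore_nil Fcore_Hall Fcore_max Fcore_sub_Fitting)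

universe u

variable {G : Type u} [Group G] [Finite G]

namespace Aux

theorem le_norm_stabMod {B K W : Subgroup G} (hK : B ≤ N[K]) (hW : B ≤ N[W]) :
    B ≤ N[stabMod K W] := by
  intro g hg
  refine mem_normalizer_of_cj_le (le_stabMod_iff.mpr ⟨?_, ?_⟩)
  · exact cj_le_of_mem (hW hg) (le_stabMod_iff.mp le_rfl).1
  · have h := cj_mono (g := g) (le_stabMod_iff.mp (le_refl (stabMod K W))).2
    rwa [cj_commutator, cj_eq_self (hK hg), cj_eq_self (hW hg)] at h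

theorem semiprime_quo' {K R N : Subgroup G} (h : Semiprime K R) (hNK : N ≤ K) (hRN : R ≤ N[N])
    (hc : (Nat.card R).Coprime (Nat.card N)) (hs : Group.IsSolvable N) :
    Semiprime (K /ᵍ N) (R /ᵍ N) := by
  intro y hy nty
  obtain ⟨x, hx, hxN, rfl⟩ := mem_quo.mp hy
  have ntx : x ≠ 1 := fun h => nty (by rw [h, coset_one])
  have hz : zpowers x ≤ R := zpowers_le.mpr hx
  rw [← centralizer_zpowers, ← quo_zpowers hxN, ← coprime_quo_cent hNK (hz.trans hRN)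
    (hc.coprime_dvd_left (card_dvd_of_le' hz)) (Or.inr hs), centralizer_zpowers, h x hx ntx,
    coprime_quo_cent hNK hRN hc (Or.inr hs)]

/-- The nilpotent Frobenius kernel argument. -/
theorem quo_nil_of_semiprime {S K L N : Subgroup G} (solS : Group.IsSolvable S)
    (co : (Nat.card K).Coprime (Nat.card S)) (prK : Semiprime S K) (ntK : K ≠ ⊥) (sLS : L ≤ S)
    (sNL : N ≤ L) (nL : K ≤ N[L]) (nN : K ≤ N[N]) (h : L ⊓ C[K] ≤ N) :
    Group.IsNilpotent (L /ᵍ N) := by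
  obtain ⟨P, sPK, prP⟩ := exists_prime_card_le_of_ne_bot ntK
  have coP : (Nat.card P).Coprime (Nat.card N) :=
    (co.coprime_dvd_left (card_dvd_of_le' sPK)).coprime_dvd_right (card_dvd_of_le' (sNL.trans sLS))
  have h1 : L ⊓ C[P] ≤ N := by
    have := (prK.mono_left sLS).inf_cent sPK (ne_bot_of_prime_card prP)
    rwa [this]
  refine H69.prime_regular_sol_nil (R := P /ᵍ N) (quo_norms N (sPK.trans nL))
    (quo_isSolvable N (isSolvable_of_le solS sLS)) ?_ ?_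
  · rwa [card_quo_of_disjoint (sPK.trans nN) (inf_eq_bot_of_coprime' coP.symm)]
  · rw [← coprime_quo_cent sNL (sPK.trans nN) coP
      (Or.inr (isSolvable_of_le solS (sNL.trans sLS)))]
    exact quo_eq_bot_of_le h1

/-- The group theory behind Theorem 15.2, for a `K`-invariant complement `D`. -/
theorem Fcore_core {M S K Ks Q D Q₀ : Subgroup G} {q : ℕ} (defM : IsSdp S K M)
    (solS : Group.IsSolvable S) (co : (Nat.card K).Coprime (Nat.card S)) (prK : Semiprime S K)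
    (ntK : K ≠ ⊥) (hKs : Ks = S ⊓ C[K]) (hq : Nat.card Ks = q) (qpr : q.Prime)
    (hQ : Q = O[{q}](M)) (sKsQ : Ks ≤ Q) (sQS : Q ≤ S) (nnil : ¬ Group.IsNilpotent S)
    (hallD : IsPiHallOf {q}ᶜ D S) (nDK : K ≤ N[D]) (hQ₀ : Q₀ = Q ⊓ C[D]) :
    (Nat.card K).Prime ∧ IsSyl q Q S ∧ Group.IsNilpotent D ∧ ¬ D ≤ C[Q] ∧ Q₀ ⊴ M ∧
      (ChiefFactor M Q₀ Q ∧ IsElementaryAbelian q (Q /ᵍ Q₀) ∧
        Nat.card (Q /ᵍ Q₀) = q ^ Nat.card K) ∧
      (⁅S, S⁆ ≤ fittingOf M ∧ Q ⊔ (M ⊓ C[Q]) = fittingOf M ∧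
        (∀ X : Subgroup G, X ≤ M → (X ≤ fittingOf M ↔ ⁅Q, X⁆ ≤ Q₀)) ∧
        (∀ X : Subgroup G, X ≤ S → (X ≤ fittingOf M ↔ ⁅Ks, X⁆ ≤ Q₀)) ∧
        fittingOf M < S) := by
  have := Fact.mk qpr
  have nsSM := defM.normal
  have sKM := defM.le_right
  have nsQM : Q ⊴ M := hQ ▸ piCoreOf_normalIn _ _
  have qQ : IsPGroup q Q := hQ ▸ isPGroup_pCoreOf qpr M
  have qQ' : IsPiSubgroup {q} Q := isPi_of_isPGroup qpr qQ
  have nilQ : Group.IsNilpotent Q := isNilpotent_of_isPGroup qpr qQ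
  have sDS : D ≤ S := hall_le hallD
  have sDM : D ≤ M := sDS.trans nsSM.le
  have q'D : IsPiSubgroup {q}ᶜ D := hall_isPi hallD
  have prKs : (Nat.card Ks).Prime := hq ▸ qpr
  have sKsS : Ks ≤ S := sKsQ.trans sQS
  have q'K : IsPiSubgroup {q}ᶜ K := (isPi_compl_singleton_iff_coprime qpr).mpr
    (co.coprime_dvd_right (hq ▸ card_dvd_of_le' sKsS))
  have nQK : K ≤ N[Q] := sKM.trans nsQM.norm
  have nQD : D ≤ N[Q] := sDM.trans nsQM.norm
  have nKsK : K ≤ N[Ks] := le_normalizer_of_le_centralizer' (hKs ▸ inf_le_right)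
  -- `S / Q` is nilpotent, `Q` is a Sylow subgroup
  have nilSQ : Group.IsNilpotent (S /ᵍ Q) :=
    quo_nil_of_semiprime solS co prK ntK le_rfl sQS defM.norm nQK (hKs ▸ sKsQ)
  have eQ : O[{q}](S) = Q := by
    rw [piCoreOf_eq_inf_of_normalIn nsSM, ← hQ]; exact inf_eq_right.mpr sQS
  have nQS : S ≤ N[Q] := nsSM.le.trans nsQM.norm
  have sylQ : IsSyl q Q S := by
    have h1 := hall_piCoreOf_of_isNilpotent {q} nilSQ
    have h2 : O[{q}](S /ᵍ Q) = ⊥ := by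
      have := piCoreOf_quo_self {q} S
      rwa [eQ] at this
    rw [h2] at h1
    exact hall_mk sQS qQ' ((isPi_quo_iff nQS).mp (isPi_compl_of_hall_bot h1))
  have defS : IsSdp Q D S := isSdp_of_hall sylQ nQS hallD
  have nilD : Group.IsNilpotent D := by
    obtain ⟨e⟩ := defS.nonempty_equiv
    exact Group.nilpotent_of_mulEquiv e.symm
  have ncQD : ¬ D ≤ C[Q] := fun h => nnil ((defS.isDp h).isNilpotent nilQ nilD)
  have sQ₀Q : Q₀ ≤ Q := hQ₀ ▸ inf_le_left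
  have cQ₀D : Q₀ ≤ C[D] := hQ₀ ▸ inf_le_right
  have nQ₀D : D ≤ N[Q₀] := le_normalizer_of_le_centralizer' cQ₀D
  have nQ₀K : K ≤ N[Q₀] := hQ₀ ▸ le_normalizer_inf nQK (le_normalizer_centralizer nDK)
  have coD : ∀ {A : Subgroup G}, A ≤ Q → (Nat.card D).Coprime (Nat.card A) := fun h =>
    isPi_coprime' q'D (isPi_of_le qQ' h)
  -- the nilpotent kernel argument inside `Q`
  have stepC : ∀ A B : Subgroup G, A ≤ B → B ≤ Q → B ≤ N[A] → D ≤ N[A] → K ≤ N[A] → D ≤ N[B] →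
      K ≤ N[B] → Q₀ ≤ A → Ks ⊓ B ≤ A → B ≤ A := by
    intro A B sAB sBQ nAB nAD nAK nBD nBK sQ₀A hA
    have hn : Group.IsNilpotent ((B ⊔ D) /ᵍ A) := by
      refine quo_nil_of_semiprime solS co prK ntK (sup_le (sBQ.trans sQS) sDS)
        (sAB.trans le_sup_left) (le_normalizer_sup nBK nDK) nAK ?_
      refine le_trans (le_inf ?_ ?_) hA
      · rw [hKs]; exact inf_le_inf_right _ (sup_le (sBQ.trans sQS) sDS)
      · refine le_trans (le_inf inf_le_left (le_trans ?_ sKsQ)) (defS.sup_inf_left sBQ nBD).le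
        rw [hKs]; exact inf_le_inf_right _ (sup_le (sBQ.trans sQS) sDS)
    have hc : ⁅B, D⁆ ≤ A := comm_le_of_quo_nil (sup_le nAB nAD) hn le_sup_left le_sup_right
      (coD sBQ).symm
    have hm := coprime_isMul_cent_of_commutator_le sAB nAD (coD (sAB.trans sBQ))
      (Or.inl (isSolvable_of_isNilpotent nilD)) hc
    exact hm.le_of_le le_rfl (le_trans (hQ₀ ▸ inf_le_inf_right _ sBQ) sQ₀A)
  have stepD : ∀ A : Subgroup G, Q₀ ≤ A → A ≤ Q → D ≤ N[A] → K ≤ N[A] → Ks ≤ A → A = Q := by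
    intro A sQ₀A sAQ nAD nAK sKsA
    refine eq_of_inf_normalizer_le nilQ sAQ (stepC A _ (le_inf sAQ le_normalizer) inf_le_left
      inf_le_right nAD nAK (le_normalizer_inf nQD (le_normalizer_normalizer nAD))
      (le_normalizer_inf nQK (le_normalizer_normalizer nAK)) sQ₀A (inf_le_left.trans sKsA))
  have neQ₀ : Q₀ ≠ Q := fun h => ncQD (cent_symm (h ▸ cQ₀D))
  have ltQ₀ : Q₀ < Q := lt_of_le_of_ne sQ₀Q neQ₀
  have nKsQ₀ : ¬ Ks ≤ Q₀ := fun h => neQ₀ (stepD Q₀ le_rfl sQ₀Q nQ₀D nQ₀K h)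
  have stepE : ∀ A : Subgroup G, Q₀ < A → A ≤ Q → A ≤ N[Q₀] → D ≤ N[A] → K ≤ N[A] → A = Q := by
    intro A hA sAQ nQ₀A nAD nAK
    refine stepD A hA.le sAQ nAD nAK (le_of_prime_card_of_inf_ne_bot prKs fun h => ?_)
    exact hA.not_ge (stepC Q₀ A hA.le sAQ nQ₀A nQ₀D nQ₀K nAD nAK le_rfl (h ▸ bot_le))
  have nQ₀Q : Q ≤ N[Q₀] := by
    rw [← stepE (Q ⊓ N[Q₀]) (lt_inf_normalizer_of_isNilpotent nilQ ltQ₀) inf_le_left inf_le_right
      (le_normalizer_inf nQD (le_normalizer_normalizer nQ₀D))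
      (le_normalizer_inf nQK (le_normalizer_normalizer nQ₀K))]
    exact inf_le_right
  have nQ₀S : S ≤ N[Q₀] := defS.le_of_le nQ₀Q nQ₀D
  have nQ₀M : M ≤ N[Q₀] := defM.le_of_le nQ₀S nQ₀K
  have chief : ChiefFactor M Q₀ Q := by
    refine ⟨nsQM, ltQ₀, nQ₀M, fun W h₁ h₂ h₃ => ?_⟩
    rcases h₁.eq_or_lt with h | h
    · exact Or.inl h.symm
    · exact Or.inr (stepE W h h₂ (h₂.trans nQ₀Q) (sDM.trans h₃) (sKM.trans h₃))
  have qQb : IsPGroup q (Q /ᵍ Q₀) := quo_isPGroup Q₀ qQ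
  have abelQb : IsElementaryAbelian q (Q /ᵍ Q₀) := minnormal_pgroup_abelem qpr chief.minNormal qQb
  -- the Frobenius group `D K` acts on `Q / Q₀`
  have coK₀ : (Nat.card K).Coprime (Nat.card Q₀) :=
    co.coprime_dvd_right (card_dvd_of_le' (sQ₀Q.trans sQS))
  have solQ₀ : Group.IsSolvable Q₀ := isSolvable_of_le solS (sQ₀Q.trans sQS)
  have prKb : Semiprime (S /ᵍ Q₀) (K /ᵍ Q₀) :=
    semiprime_quo' prK (sQ₀Q.trans sQS) nQ₀K coK₀ solQ₀
  have cKb : S /ᵍ Q₀ ⊓ C[K /ᵍ Q₀] = Ks /ᵍ Q₀ := by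
    rw [← coprime_quo_cent (sQ₀Q.trans sQS) nQ₀K coK₀ (Or.inr solQ₀), hKs]
  have cKb' : Q /ᵍ Q₀ ⊓ C[K /ᵍ Q₀] = Ks /ᵍ Q₀ := by
    rw [← cKb]
    refine le_antisymm (inf_le_inf_right _ (quo_mono _ sQS)) (le_inf ?_ inf_le_right)
    rw [cKb]; exact quo_mono _ sKsQ
  have oKsb : Nat.card (Ks /ᵍ Q₀) = q := by
    rw [card_quo_of_disjoint (sKsQ.trans nQ₀Q) (inf_eq_bot_of_prime_card' prKs nKsQ₀), hq]
  have oKb : Nat.card (K /ᵍ Q₀) = Nat.card K :=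
    card_quo_of_disjoint nQ₀K (inf_eq_bot_of_coprime' coK₀.symm)
  have q'Db : IsPiSubgroup {q}ᶜ (D /ᵍ Q₀) := quo_isPiSubgroup _ q'D
  have frob : IsFrobenius (D /ᵍ Q₀ ⊔ K /ᵍ Q₀) (D /ᵍ Q₀) (K /ᵍ Q₀) := by
    refine isFrobenius_sup (quo_norms _ nDK) ?_ ?_ fun x hx ntx => ?_
    · intro h
      have h1 : D ≤ Q₀ := (quo_eq_bot_iff nQ₀D).mp h
      have h2 : D = ⊥ := isPi_eq_bot (isPi_of_le qQ' (h1.trans sQ₀Q)) q'D
      exact ncQD (h2 ▸ bot_le)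
    · intro h
      rw [h, card_bot] at oKb
      exact ntK (card_eq_one.mp oKb.symm)
    · refine le_bot_iff.mp ?_
      rw [← isPi_inf_eq_bot' q'Db (quo_isPiSubgroup Q₀ (isPi_of_le qQ' sKsQ)), ← cKb,
        ← prKb x hx ntx]
      exact le_inf inf_le_left (inf_le_inf_right _ (quo_mono _ sDS))
  obtain ⟨prK', oQb, cD'⟩ := H69.Frobenius_primact (V := Q /ᵍ Q₀) frob
    (sup_le (quo_norms _ nQD) (quo_norms _ nQK)) (isSolvable_of_isPGroup qpr qQb)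
    (quo_ne_bot ltQ₀ nQ₀Q)
    (isPi_coprime (isPi_of_isPGroup qpr qQb)
      (isPi_sup q'Db (quo_isPiSubgroup _ q'K) (Or.inr (quo_norms _ nDK))))
    (prKb.mono_left (quo_mono _ sQS)) (by
      rw [← coprime_quo_cent sQ₀Q nQ₀D (coD sQ₀Q) (Or.inr solQ₀), ← hQ₀, quo_self])
  rw [oKb] at prK'
  rw [cKb', oKsb, oKb] at oQb
  have cD'Q : ⁅⁅D, D⁆, Q⁆ ≤ Q₀ := by
    have h1 := cD' (by rw [cKb']; exact isCyclic_of_prime_card' (oKsb ▸ qpr))
    rw [← quo_commutator nQ₀D nQ₀D] at h1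
    exact (quo_cents_iff ((commutator_le_of_le le_rfl le_rfl).trans nQ₀D) nQ₀Q).mp
      (h1.trans inf_le_right)
  -- `C_M(Q / Q₀) = F(M)`
  obtain ⟨Cb, hCb⟩ : ∃ Cb, Cb = M ⊓ stabMod Q Q₀ := ⟨_, rfl⟩
  have leCb : ∀ X : Subgroup G, X ≤ M → (X ≤ Cb ↔ ⁅X, Q⁆ ≤ Q₀) := fun X sXM => by
    rw [hCb, le_inf_iff, le_stabMod_iff]
    exact ⟨fun h => h.2.2, fun h => ⟨sXM, sXM.trans nQ₀M, h⟩⟩
  have nsCb : Cb ⊴ M := hCb ▸ ⟨inf_le_left,
    le_normalizer_inf le_normalizer (le_norm_stabMod nsQM.norm nQ₀M)⟩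
  have sCbS : Cb ≤ S := by
    have hS : IsPiSubgroup (primesOf (Nat.card K))ᶜ S := isPi_compl_of_coprime co.symm
    have hK := defM.hall_right hS (isPi_primesOf K)
    have h0 : K ⊓ Cb = ⊥ := by
      refine inf_eq_bot_of_prime_card prK' fun h => ?_
      have h1 : K /ᵍ Q₀ ≤ C[Q /ᵍ Q₀] := quo_cents_of_commutator_le ((leCb K sKM).mp h)
      rw [inf_eq_left.mpr (cent_symm h1)] at cKb'
      rw [cKb', oKsb] at oQb
      have h2 := Nat.pow_right_injective qpr.two_le (show q ^ 1 = q ^ Nat.card K by simpa using oQb)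
      exact prK'.one_lt.ne h2
    have h1 := hall_inf_normal hK nsCb
    rw [h0] at h1
    exact le_of_normal_hall (defM.hall_left_of_hall_right hK) nsSM nsCb.le (isPi_compl_of_hall_bot h1)
  have sQCb : Q ≤ Cb := (leCb Q nsQM.le).mpr (chief.derived_le (isSolvable_of_isNilpotent nilQ))
  have sCbF : Cb ≤ fittingOf M := by
    have h1 := defS.of_le_left sQCb sCbS
    have h2 : D ⊓ Cb ≤ C[Q] := by
      refine stable_factor_cent ((coD sQ₀Q).coprime_dvd_left (card_dvd_of_le' inf_le_left))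
        (inf_le_left.trans (cent_symm cQ₀D)) ?_
      rw [commutator_comm]
      exact (leCb _ (inf_le_left.trans sDM)).mp inf_le_right
    exact le_fittingOf nsCb ((h1.isDp h2).isNilpotent nilQ (isNilpotent_of_le nilD inf_le_left))
  have eF : fittingOf M = Cb := by
    refine le_antisymm ((leCb _ (fittingOf_le M)).mpr ?_) sCbF
    rw [commutator_comm]
    exact Fitting_stab_chief (normalIn_refl M) chief
  have sD'Cb : ⁅D, D⁆ ≤ Cb :=
    (leCb _ ((commutator_le_of_le le_rfl le_rfl).trans sDM)).mpr cD'Q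
  refine ⟨prK', sylQ, nilD, ncQD, ⟨sQ₀Q.trans nsQM.le, nQ₀M⟩, ⟨chief, abelQb, oQb⟩, ?_, ?_, ?_, ?_, ?_⟩
  · rw [eF]
    exact (defS.isMul.derived_le_sup defS.normal).trans (sup_le sQCb sD'Cb)
  · refine le_antisymm ?_ ?_
    · rw [eF]
      refine sup_le sQCb ((leCb _ inf_le_left).mpr ?_)
      rw [commutator_eq_bot_of_cent inf_le_right]; exact bot_le
    · have h1 := isDp_pCoreOf_fittingOf qpr M
      rw [← hQ] at h1
      rw [← h1.sup]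
      exact sup_le_sup_left (le_inf (h1.le_right.trans (fittingOf_le M)) h1.cent) _
  · intro X sXM
    rw [eF, leCb X sXM, commutator_comm]
  · obtain ⟨Cs, hCs⟩ : ∃ Cs, Cs = S ⊓ stabMod Ks Q₀ := ⟨_, rfl⟩
    have leCs : ∀ X : Subgroup G, X ≤ S → (X ≤ Cs ↔ ⁅X, Ks⁆ ≤ Q₀) := fun X sXS => by
      rw [hCs, le_inf_iff, le_stabMod_iff]
      exact ⟨fun h => h.2.2, fun h => ⟨sXS, sXS.trans nQ₀S, h⟩⟩
    have sCbCs : Cb ≤ Cs := (leCs _ sCbS).mpr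
      ((commutator_mono le_rfl sKsQ).trans ((leCb _ nsCb.le).mp le_rfl))
    have sCsS : Cs ≤ S := hCs ▸ inf_le_left
    have nD₁D : D ≤ N[D ⊓ Cs] := le_normalizer_of_commutator_le
      (le_inf (commutator_le_of_le le_rfl le_rfl) (sD'Cb.trans sCbCs)) inf_le_left
    have nD₁K : K ≤ N[D ⊓ Cs] := le_normalizer_inf nDK
      (hCs ▸ le_normalizer_inf defM.norm (le_norm_stabMod nKsK nQ₀K))
    have hA : Q ⊓ stabMod (D ⊓ Cs) Q₀ = Q := by
      refine stepD _ (le_inf sQ₀Q (le_stabMod_iff.mpr ⟨le_normalizer, ?_⟩)) inf_le_left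
        (le_normalizer_inf nQD (le_norm_stabMod nD₁D nQ₀D))
        (le_normalizer_inf nQK (le_norm_stabMod nD₁K nQ₀K))
        (le_inf sKsQ (le_stabMod_iff.mpr ⟨sKsQ.trans nQ₀Q, ?_⟩))
      · exact commutator_le_of_norm_left (inf_le_left.trans nQ₀D)
      · rw [commutator_comm]
        exact (leCs _ (inf_le_left.trans sDS)).mp inf_le_right
    have sD₁ : D ⊓ Cs ≤ Cb := by
      refine (leCb _ (inf_le_left.trans sDM)).mpr ?_
      rw [commutator_comm]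
      exact (le_stabMod_iff.mp (inf_eq_left.mp hA)).2
    have eCs : Cs = Cb :=
      le_antisymm ((defS.of_le_left (sQCb.trans sCbCs) sCsS).le_of_le sQCb sD₁) sCbCs
    intro X sXS
    rw [eF, ← eCs, leCs X sXS, commutator_comm]
  · refine lt_of_le_of_ne (eF ▸ sCbS) fun h => nnil ?_
    rw [← h]; exact fittingOf_nil M

end Aux

open Aux

variable (hG : IsMinSimpleOddOrder G) {M : Subgroup G} (maxM : IsCoatom M)
include hG maxM

theorem P1type_of_Fcore_ne (neF : fittingHallOf M ≠ sigmaCore M) : P1Type M := by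
  by_contra h
  exact neF (notP1type_Fcore hG ((ftype_or_p2type_iff maxM).mpr h))

omit maxM in
/-- `M = M_σ ⋊ K` and `M_σ = M'` for `M ∈ 𝓜_𝓟₁`. -/
theorem P1type_sdp {K : Subgroup G} (P1M : P1Type M) (hallK : IsPiHallOf (kappa M) K M) :
    IsSdp (sigmaCore M) K M ∧ sigmaCore M = ⁅M, M⁆ := by
  obtain ⟨U, complU⟩ := ex_kappa_compl hG P1M.max hallK
  have hU : U = ⊥ := (trivg_kappa_compl hG P1M.max complU).mpr P1M
  subst hU
  have h1 := (kappa_compl_context hG P1M.max complU).2.2.1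
  rw [bot_sup_eq] at h1
  exact ⟨h1, (Ptype_der1 hG P1M.ptype complU).eq_of_bot_right⟩

omit maxM in
/-- `|K*|` is prime for `M ∈ 𝓜_𝓟₁`. -/
theorem P1type_prime_Kstar {K : Subgroup G} (P1M : P1Type M) (hallK : IsPiHallOf (kappa M) K M) :
    (Nat.card ↥(sigmaCore M ⊓ C[K])).Prime := by
  obtain ⟨L, hL⟩ := Ptype_embedding hG P1M.ptype hallK
  rcases hL.typeP2 with h | h
  · exact absurd h.1 P1M.not_p2
  · exact h.2

/-- B & G, Theorem 15.2 (a)-(g).  Instantiate the equations with `rfl`.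
`C_M(Q / Q₀) = F(M)` is stated as `∀ X ≤ M, X ≤ F(M) ↔ [Q, X] ≤ Q₀`, and
`C_{M_σ}(K* / Q₀) = F(M)` as `∀ X ≤ M_σ, X ≤ F(M) ↔ [K*, X] ≤ Q₀`. -/
theorem Fcore_structure {K D Kstar Q Q₀ : Subgroup G} {p q : ℕ}
    (hallK : IsPiHallOf (kappa M) K M) (neF : fittingHallOf M ≠ sigmaCore M)
    (hp : p = Nat.card K) (hKstar : Kstar = sigmaCore M ⊓ C[K]) (hq : q = Nat.card Kstar)
    (hQ : Q = O[{q}](M)) (hQ₀ : Q₀ = Q ⊓ C[D]) (hallD : IsPiHallOf {q}ᶜ D (sigmaCore M)) :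
    (P1Type M ∧ IsSdp (sigmaCore M) K M ∧ sigmaCore M = ⁅M, M⁆) ∧
      (p.Prime ∧ q.Prime ∧ q ∣ Nat.card (fittingHallOf M) ∧ q ∈ beta M) ∧
      (IsSyl q Q M ∧ Group.IsNilpotent D ∧ Q₀ ⊴ M) ∧
      (ChiefFactor M Q₀ Q ∧ IsElementaryAbelian q (Q /ᵍ Q₀) ∧ Nat.card (Q /ᵍ Q₀) = q ^ p) ∧
      (⁅⁅M, M⁆, ⁅M, M⁆⁆ ≤ fittingOf M ∧ Q ⊔ (M ⊓ C[Q]) = fittingOf M ∧
        (∀ X : Subgroup G, X ≤ M → (X ≤ fittingOf M ↔ ⁅Q, X⁆ ≤ Q₀)) ∧
        (∀ X : Subgroup G, X ≤ sigmaCore M → (X ≤ fittingOf M ↔ ⁅Kstar, X⁆ ≤ Q₀)) ∧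
        fittingOf M < sigmaCore M) := by
  have P1M := P1type_of_Fcore_ne hG maxM neF
  obtain ⟨defM, eMs⟩ := P1type_sdp hG P1M hallK
  have qpr : q.Prime := hq ▸ hKstar ▸ P1type_prime_Kstar hG P1M hallK
  have := Fact.mk qpr
  have nnil : ¬ Group.IsNilpotent (sigmaCore M) := fun h => neF ((Fcore_eq_Msigma hG maxM).mpr h)
  have nsMs := Msigma_normal M
  have solMs : Group.IsSolvable (sigmaCore M) := mmax_sub_sol hG maxM nsMs.le
  have co := coprime_Msigma_kappa hallK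
  have ntK : K ≠ ⊥ := (ntrivg_kappa maxM hallK).mpr P1M.ptype
  obtain ⟨_, -, -, prK, -⟩ := Ptype_structure_a hG P1M.ptype hallK
  have prKs : (Nat.card Kstar).Prime := hq ▸ qpr
  have sKsF : Kstar ≤ fittingOf (sigmaCore M) := by
    refine le_of_prime_card_of_inf_ne_bot prKs fun h => nnil ?_
    have h1 := H69.odd_sdprod_primact_commg_sub_Fitting defM (mFT_odd hG M) solMs co prK (by
      refine le_bot_iff.mp (h ▸ le_inf ?_ inf_le_left)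
      rw [hKstar]; exact inf_le_inf_right _ (fittingOf_le _))
    rw [(coprime_der1_sdprod defM co.symm solMs eMs.le).1] at h1
    exact isNilpotent_of_le_fittingOf h1
  have qKs : IsPGroup q Kstar := isPGroup_of_card_eq_prime hq.symm
  have sKsQ : Kstar ≤ Q :=
    hQ ▸ le_pCoreOf_of_le_fittingOf qpr (sKsF.trans (fittingOf_le_of_normalIn nsMs)) qKs
  have sq : q ∈ sigma M :=
    Msigma_pi M q qpr (hq ▸ card_dvd_of_le' (hKstar ▸ inf_le_left))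
  have nsQM : Q ⊴ M := hQ ▸ piCoreOf_normalIn _ _
  have qQ : IsPGroup q Q := hQ ▸ isPGroup_pCoreOf qpr M
  have sQMs : Q ≤ sigmaCore M := pgroup_le_Msigma hG maxM sq nsQM.le qQ
  obtain ⟨D', hallD', nD'K⟩ := coprime_hall_exists {q}ᶜ defM.norm co solMs
  obtain ⟨prK', sylQ, nilD', ncQD', nsQ₀, hf, hg⟩ :=
    Fcore_core defM solMs co prK ntK hKstar hq.symm qpr hQ sKsQ sQMs nnil hallD' nD'K rfl
  obtain ⟨x, hx, rfl⟩ := hall_conj solMs hallD' hallD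
  have eQ₀ : Q₀ = Q ⊓ C[D'] := by
    rw [hQ₀, ← nsQ₀.cj_eq (nsMs.le hx), cj_inf, cj_centralizer, nsQM.cj_eq (nsMs.le hx)]
  have sylQM : IsSyl q Q M := syl_of_hall (Msigma_Hall hG maxM) sq sylQ
  rw [← eQ₀] at nsQ₀ hf hg
  rw [← hp] at prK' hf
  refine ⟨⟨P1M, defM, eMs⟩, ⟨prK', qpr, ?_, ?_⟩, ⟨sylQM, isNilpotent_cj_iff.mpr nilD', nsQ₀⟩, hf,
    eMs ▸ hg.1, hg.2⟩
  · exact (hq ▸ card_dvd_of_le' sKsQ).trans (card_dvd_of_le' (syl_le_Fcore qpr sylQM nsQM))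
  · by_contra b'q
    have sD'Ms := hall_le hallD'
    have h1 : ⁅Q, D'⁆ ≤ betaCore M := comm_le_of_quo_nil
      ((commutator_le_of_le le_rfl le_rfl).trans (Mbeta_normal M).norm) (Mbeta_quo_nil hG maxM)
      (eMs ▸ sQMs) (eMs ▸ sD'Ms) (isPi_coprime (isPi_of_isPGroup qpr qQ) (hall_isPi hallD'))
    have h2 : ⁅Q, D'⁆ ≤ Q := commutator_le_of_norm_left (sD'Ms.trans (nsMs.le.trans nsQM.norm))
    have h3 : betaCore M ⊓ Q = ⊥ :=
      isPi_inf_eq_bot (Mbeta_pi M) (isPi_of_isPGroup_of_mem qpr qQ b'q)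
    exact ncQD' (cent_symm (le_cent_of_commutator_eq_bot (le_bot_iff.mp (h3 ▸ le_inf h1 h2))))

/-- A form of Theorem 15.2 with all the data chosen. -/
theorem Fcore_structure_ex {K : Subgroup G} (hallK : IsPiHallOf (kappa M) K M)
    (neF : fittingHallOf M ≠ sigmaCore M) : ∃ (q : ℕ) (Q D : Subgroup G),
    q = Nat.card ↥(sigmaCore M ⊓ C[K]) ∧ q.Prime ∧ q ∈ beta M ∧ Q = O[{q}](M) ∧ IsSyl q Q M ∧
      sigmaCore M ⊓ C[K] ≤ Q ∧ Q ≤ fittingHallOf M ∧ IsSdp Q D (sigmaCore M) ∧ Group.IsNilpotent D ∧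
      sigmaCore M = ⁅M, M⁆ ∧ ⁅⁅M, M⁆, ⁅M, M⁆⁆ ≤ fittingOf M ∧ Q ⊔ (M ⊓ C[Q]) = fittingOf M ∧
      sigmaCore M ⊓ C[sigmaCore M ⊓ C[K]] ≤ fittingOf M ∧ fittingOf M < sigmaCore M := by
  have nsMs := Msigma_normal M
  obtain ⟨D, hallD⟩ := exists_hall {Nat.card ↥(sigmaCore M ⊓ C[K])}ᶜ (mmax_sub_sol hG maxM nsMs.le)
  obtain ⟨⟨-, -, eMs⟩, ⟨-, qpr, -, bq⟩, ⟨sylQ, nilD, -⟩, -, h1, h2, -, h3, h4⟩ :=
    Fcore_structure hG maxM hallK neF rfl rfl rfl rfl rfl hallD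
  have := Fact.mk qpr
  have nsQ := piCoreOf_normalIn {Nat.card ↥(sigmaCore M ⊓ C[K])} M
  have sQF := syl_le_Fcore qpr sylQ nsQ
  have sQMs := sQF.trans (Fcore_sub_Msigma hG maxM)
  refine ⟨_, _, D, rfl, qpr, bq, rfl, sylQ,
    le_of_normal_syl sylQ nsQ (inf_le_left.trans nsMs.le) (isPGroup_of_card_eq_prime rfl), sQF,
    isSdp_of_hall (hall_of_le sylQ sQMs nsMs.le) (nsMs.le.trans nsQ.norm) hallD, nilD, eMs, h1, h2,
    (h3 _ inf_le_left).mpr ?_, h4⟩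
  rw [commutator_eq_bot_of_cent' inf_le_right]; exact bot_le

/-- B & G, Theorem 15.2, first line. -/
theorem Fcore_structure_chain :
    fittingHallOf M ≠ ⊥ ∧ fittingHallOf M ≤ sigmaCore M ∧ sigmaCore M ≤ ⁅M, M⁆ ∧ ⁅M, M⁆ < M := by
  refine ⟨?_, Fcore_sub_Msigma hG maxM, Msigma_der1 hG maxM,
    commutator_lt_of_isSolvable (mmax_sol hG maxM) (mmax_neq1 hG maxM)⟩
  by_cases neF : fittingHallOf M = sigmaCore M
  · exact neF ▸ Msigma_neq1 hG maxM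
  · obtain ⟨K, hallK⟩ := exists_hall (kappa M) (mmax_sol hG maxM)
    obtain ⟨q, Q, D, hq, qpr, -, -, -, h1, h2, -⟩ := Fcore_structure_ex hG maxM hallK neF
    exact ne_bot_mono (ne_bot_of_prime_card (hq ▸ qpr)) (h1.trans h2)

end Cfsg.Agent.H88.SZ.H66
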