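import Cfsg.Agent.H88.ZMin
import Cfsg.Agent.H88.ZBG15b

/-!
B & G, section 15: Corollaries 15.3 - 15.6.
-/

set_option autoImplicit false
set_option linter.unusedSectionVars false
set_option linter.unusedVariables false

namespace Cfsg.Agent.H88.SZ.H66

open Cfsg.Agent.H66

variable [Om]

open Cfsg Cfsg.Agent.H63 Cfsg.Agent.H67 Cfsg.Agent.H64 Subgroup
open Cfsg.Agent.H88.SZ.H63 Cfsg.Agent.H88.SZ.H67 Cfsg.Agent.H88.SZ.H64
open Cfsg.Agent.H68 (Fcore_normal Fcore_le Fcore_nil Fcore_Hall Fcore_max Fcore_sub_Fitting)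

universe u

variable {G : Type u} [Group G] [Finite G]

section

variable (hG : IsMinSimpleOddOrder G) {M : Subgroup G} (maxM : IsCoatom M)
include hG maxM

theorem cent_Hall_sigma_kappa' {H : Subgroup G} {π : Set ℕ} (hallH : IsPiHallOf π H (sigmaCore M))
    (ntH : H ≠ ⊥) : IsPiSubgroup (kappa M)ᶜ (M ⊓ C[H]) := by
  intro p hp hd kp
  obtain ⟨X, sX, oX⟩ := exists_prime_card_le hp hd
  obtain ⟨K, hallK, sXK⟩ := exists_hall_ge (π := kappa M) (mmax_sol hG maxM) (sX.trans inf_le_left)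
    (isPi_of_isPGroup_of_mem hp (isPGroup_of_card_eq_prime oX) kp)
  have PM : PType M := ⟨maxM, p, kp⟩
  obtain ⟨_, -, -, prK, -⟩ := Ptype_structure_a hG PM hallK
  have sH : H ≤ sigmaCore M ⊓ C[K] := by
    rw [← prK.inf_cent sXK (ne_bot_of_prime_card (oX ▸ hp))]
    exact le_inf (hall_le hallH) (cent_symm (sX.trans inf_le_right))
  obtain ⟨r, hr, hrH⟩ := exists_prime_dvd_card ntH
  have := Fact.mk hr
  obtain ⟨S, sylS⟩ := exists_syl r H
  exact (Ptype_structure_e hG PM hallK hr (hrH.trans (card_dvd_of_le' sH))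
    (syl_of_hall hallH (hall_isPi hallH r hr hrH) sylS)).2 ((hall_le sylS).trans sH)

/-- B & G, Corollary 15.3(a). -/
theorem cent_Hall_sigma_sdprod {H : Subgroup G} {π : Set ℕ} (hallH : IsPiHallOf π H (sigmaCore M))
    (ntH : H ≠ ⊥) : ∃ X : Subgroup G, IsSdp (sigmaCore M ⊓ C[H]) X (M ⊓ C[H]) ∧ IsCyclic X ∧
      IsPiSubgroup (tau2 M) X := by
  have nsMs := Msigma_normal M
  have e : sigmaCore M ⊓ (M ⊓ C[H]) = sigmaCore M ⊓ C[H] := by
    rw [← inf_assoc, inf_eq_left.mpr nsMs.le]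
  have h1 := normal_hall_inf (Msigma_Hall hG maxM) nsMs (inf_le_left : M ⊓ C[H] ≤ M)
  have h2 := nsMs.inf_right (inf_le_left : M ⊓ C[H] ≤ M)
  rw [e] at h1 h2
  obtain ⟨X, hallX⟩ := exists_hall_compl_of_normal_hall h1 h2
  refine ⟨X, isSdp_of_normal_hall h1 h2 hallX, ?_⟩
  by_cases ntX : X = ⊥
  · exact ntX ▸ ⟨isCyclic_bot', isPi_bot _⟩
  have sX := hall_le hallX
  refine (sigma'_kappa'_cent_sigma hG maxM (sX.trans inf_le_left) ?_ ntX
    (ne_bot_mono ntH (le_inf (hall_le hallH) (cent_symm (sX.trans inf_le_right))))).2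
  rw [Set.compl_union]
  exact isPi_inter (hall_isPi hallX) (isPi_of_le (cent_Hall_sigma_kappa' hG maxM hallH ntH) sX)

/-- `M` controls the fusion of the elements of `M_σ`. -/
theorem Msigma_fusion {x a : G} (hx : x ∈ sigmaCore M) (hxa : a * x * a⁻¹ ∈ sigmaCore M) :
    ∃ m ∈ M, a * x * a⁻¹ = m * x * m⁻¹ := by
  by_cases ntx : x = 1
  · exact ⟨1, M.one_mem, by simp [ntx]⟩
  have nty : a * x * a⁻¹ ≠ 1 := fun h => ntx (by simpa using h)
  obtain ⟨r, ⟨hr, hrM⟩, -⟩ := FT_signalizer_trans hG (SigMax.cj (⟨maxM, hx⟩ : SigMax x M) a) nty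
    (⟨maxM, hxa⟩ : SigMax _ M)
  rw [cj_cj] at hrM
  refine ⟨r * a, (cj_mmax_eq_iff hG maxM).mp hrM, ?_⟩
  have h := mem_centralizer_singleton_iff.mp (cent1_signalizer _ hr)
  calc a * x * a⁻¹ = r * (a * x * a⁻¹) * r⁻¹ := by rw [h]; group
    _ = r * a * x * (r * a)⁻¹ := by group

/-- B & G, Corollary 15.3(b). -/
theorem sigma_Hall_tame {H : Subgroup G} {π : Set ℕ} (hallH : IsPiHallOf π H (sigmaCore M))
    {x a : G} (Hx : x ∈ H) (Hxa : a * x * a⁻¹ ∈ H) :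
    ∃ b ∈ M ⊓ N[H], a * x * a⁻¹ = b * x * b⁻¹ := by
  have nsMs := Msigma_normal M
  have sH := hall_le hallH
  obtain ⟨m, hm, e⟩ := Msigma_fusion hG maxM (sH Hx) (sH Hxa)
  by_cases nH : M ≤ N[H]
  · exact ⟨m, ⟨hm, nH hm⟩, e⟩
  have neF : fittingHallOf M ≠ sigmaCore M := fun h => nH (normalIn_of_normal_hall hallH
    (hall_normalIn_of_isNilpotent ((Fcore_eq_Msigma hG maxM).mp h) hallH) nsMs).norm
  obtain ⟨K, hallK⟩ := exists_hall (kappa M) (mmax_sol hG maxM)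
  obtain ⟨q, Q, D, -, qpr, -, hQ, -, -, -, defMs, nilD, -⟩ := Fcore_structure_ex hG maxM hallK neF
  have nsQ : Q ⊴ M := hQ ▸ piCoreOf_normalIn _ _
  have qQ : IsPGroup q Q := hQ ▸ isPGroup_pCoreOf qpr M
  have nilMsQ : Group.IsNilpotent (sigmaCore M /ᵍ Q) := by
    obtain ⟨e⟩ := defMs.nonempty_equiv
    exact Group.nilpotent_of_mulEquiv e
  have nQH : M ≤ N[Q ⊔ H] := H3.le_norm_sup_hall_of_quo_nil nsQ.norm nsMs nilMsQ hallH
  have sQH : Q ⊔ H ≤ sigmaCore M := sup_le defMs.le_left sH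
  have π'q : q ∉ π := fun h => nH (by
    rwa [sup_eq_right.mpr (le_hall_of_normalIn hallH defMs.normal
      (isPi_of_isPGroup_of_mem qpr qQ h))] at nQH)
  have hF := hall_frattini_arg (mmax_sub_sol hG maxM (sQH.trans nsMs.le)) ⟨sQH.trans nsMs.le, nQH⟩
    (hall_of_le hallH le_sup_right sQH)
  rw [sup_assoc, sup_eq_right.mpr (le_inf (sH.trans nsMs.le) le_normalizer)] at hF
  obtain ⟨u, hu, n, hn, rfl⟩ := (isMul_of_normal_left nsQ hF).exists_mul hm
  refine ⟨n, hn, ?_⟩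
  have hz : n * x * n⁻¹ ∈ H := conj_mem_of_mem_normalizer hn.2 Hx
  have h1 : a * x * a⁻¹ * (n * x * n⁻¹)⁻¹ ∈ H ⊓ Q := by
    refine ⟨H.mul_mem Hxa (H.inv_mem hz), ?_⟩
    have h2 : a * x * a⁻¹ * (n * x * n⁻¹)⁻¹ = u * ((n * x * n⁻¹) * u⁻¹ * (n * x * n⁻¹)⁻¹) := by
      rw [e]; group
    rw [h2]
    exact Q.mul_mem hu (nsQ.conj_mem (nsMs.le (sH hz)) (Q.inv_mem hu))
  rw [isPi_inf_eq_bot (hall_isPi hallH) (isPi_of_isPGroup_of_mem qpr qQ π'q), mem_bot] at h1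
  exact mul_inv_eq_one.mp h1

omit maxM in
/-- B & G, Corollary 15.4. -/
theorem nilpotent_Hall_sigma {H : Subgroup G} (nilH : Group.IsNilpotent H) (hallH : IsHallOf H ⊤)
    (ntH : H ≠ ⊥) (wH : IsPiSubgroup ϖ H := by w_tac) :
    ∃ M : Subgroup G, IsCoatom M ∧ H ≤ sigmaCore M := by
  have sylG : ∀ r : ℕ, r.Prime → r ∣ Nat.card H → IsSyl r O[{r}](H) ⊤ := fun r hr h =>
    syl_of_hall hallH.hall ⟨hr, h⟩ (hall_piCoreOf_of_isNilpotent {r} nilH)
  obtain ⟨p, hp, hpH⟩ := exists_prime_dvd_card ntH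
  have := Fact.mk hp
  have hw : p ∈ ϖ := wH p hp hpH
  have ntS : O[{p}](H) ≠ ⊥ := syl_ne_bot (hall_piCoreOf_of_isNilpotent {p} nilH) hpH
  obtain ⟨M, maxM, sN⟩ := ex_mmax_norm_pgroup hG hp (isPGroup_pCoreOf hp H) ntS
  have sHM : H ≤ M := (le_normalizer_piCoreOf_self _ H).trans sN
  have sylM : ∀ r : ℕ, r.Prime → r ∣ Nat.card H → IsSyl r O[{r}](H) M := fun r hr h =>
    hall_of_le (sylG r hr h) ((piCoreOf_le _ _).trans sHM) le_top
  have sp : p ∈ sigma M := mem_sigma_of_Sylow hp maxM.1 (sylM p hp hpH) sN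
  have sylS : IsSyl p O[{p}](H) (sigmaCore M) := hall_of_le (sylM p hp hpH)
    (pgroup_le_Msigma hG maxM sp ((piCoreOf_le _ _).trans sHM) (isPGroup_pCoreOf hp H))
    (Msigma_normal M).le
  obtain ⟨X, defC, cycX, t2X⟩ := cent_Hall_sigma_sdprod hG maxM sylS ntS
  refine ⟨M, maxM, le_Msigma hG maxM sHM fun r hr hrH => ?_⟩
  by_contra s'r
  have := Fact.mk hr
  have neq : r ≠ p := fun h => s'r (h ▸ sp)
  have hallX : IsPiHallOf (sigma M)ᶜ X (M ⊓ C[O[{p}](H)]) := defC.hall_right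
    (by rw [compl_compl]; exact isPi_of_le (Msigma_pi M) inf_le_left)
    (isPi_mono t2X fun _ h => tau2_not_sigma h)
  have sT : O[{r}](H) ≤ M ⊓ C[O[{p}](H)] :=
    le_inf ((piCoreOf_le _ _).trans sHM) (pCoreOf_le_centralizer_of_ne neq H)
  have h1 : rankP r X = rankP r M := by
    rw [rankP_hall hallX s'r, ← rankP_syl (hall_of_le (sylM r hr hrH) sT inf_le_left),
      rankP_syl (sylM r hr hrH)]
  have h2 := rankP_le_one_of_isCyclic (p := r) cycX
  have h3 : r ∣ Nat.card X := by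
    rw [← rankP_pos_iff, h1, rankP_pos_iff]
    exact hrH.trans (card_dvd_of_le' sHM)
  have h4 := tau2_rk (t2X r hr h3)
  omega

/-- B & G, Corollary 15.5. -/
theorem Fitting_structure :
    (IsCyclic ↥O[(sigma M)ᶜ](fittingOf M) ∧ IsPiSubgroup (tau2 M) O[(sigma M)ᶜ](fittingOf M)) ∧
      (⁅⁅M, M⁆, ⁅M, M⁆⁆ ≤ fittingOf M ∧
        fittingHallOf M ⊔ (M ⊓ C[fittingHallOf M]) = fittingOf M ∧
        IsDp (fittingOf (sigmaCore M)) O[(sigma M)ᶜ](fittingOf M) (fittingOf M)) ∧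
      (fittingHallOf M ≤ ⁅M, M⁆ ∧ Group.IsNilpotent (⁅M, M⁆ /ᵍ fittingHallOf M)) ∧
      (PType M → fittingOf M ≤ ⁅M, M⁆) := by
  have nsMs := Msigma_normal M
  obtain ⟨ntH, sHMs, sMsM', -⟩ := Fcore_structure_chain hG maxM
  have nsH := Fcore_normal M
  have sM'M : ⁅M, M⁆ ≤ M := commutator_le_of_le le_rfl le_rfl
  have defF : IsDp (fittingOf (sigmaCore M)) O[(sigma M)ᶜ](fittingOf M) (fittingOf M) := by
    have h := isDp_piCoreOf_of_isNilpotent (sigma M) (fittingOf_nil M)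
    rwa [piCoreOf_fittingOf (sigma M), ← sigmaCore_def] at h
  obtain ⟨X, defC, cycX, t2X⟩ := cent_Hall_sigma_sdprod hG maxM
    (hall_of_le (Fcore_Hall M).hall sHMs nsMs.le) ntH
  have hallX : IsPiHallOf (sigma M)ᶜ X (M ⊓ C[fittingHallOf M]) := defC.hall_right
    (by rw [compl_compl]; exact isPi_of_le (Msigma_pi M) inf_le_left)
    (isPi_mono t2X fun _ h => tau2_not_sigma h)
  have nsY := piCoreOf_fittingOf_normalIn (sigma M)ᶜ M
  have sYX : O[(sigma M)ᶜ](fittingOf M) ≤ X := by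
    refine le_hall_of_normalIn hallX (nsY.of_le (le_inf nsY.le ?_) inf_le_left) (isPi_piCoreOf _ _)
    exact le_centralizer_of_isNilpotent_of_coprime (fittingOf_nil M) (piCoreOf_le _ _)
      (Fcore_sub_Fitting M) (isPi_coprime' (isPi_piCoreOf _ _) (isPi_of_le (Msigma_pi M) sHMs))
  have t2Y := isPi_of_le t2X sYX
  have key : ⁅⁅M, M⁆, ⁅M, M⁆⁆ ≤ fittingOf M ∧ M ⊓ C[fittingHallOf M] ≤ fittingOf M ∧
      Group.IsNilpotent (⁅M, M⁆ /ᵍ fittingHallOf M) := by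
    by_cases neF : fittingHallOf M = sigmaCore M
    · have h1 : ⁅⁅M, M⁆, ⁅M, M⁆⁆ ≤ fittingHallOf M := neF ▸ der2_sub_Msigma hG maxM
      refine ⟨h1.trans (Fcore_sub_Fitting M), ?_,
        isNilpotent_of_isMulCommutative (quo_isMulCommutative_of_der_le h1)⟩
      refine le_fittingOf (inf_centralizer_normalIn nsH.norm) ((defC.isDp ?_).isNilpotent
        (isNilpotent_of_le (Fcore_nil M) (neF ▸ inf_le_left)) (isNilpotent_of_isCyclic cycX))
      exact defC.le_right.trans (inf_le_right.trans (centralizer_anti (neF ▸ inf_le_left)))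
    · obtain ⟨K, hallK⟩ := exists_hall (kappa M) (mmax_sol hG maxM)
      obtain ⟨q, Q, D, -, qpr, -, hQ, -, -, sQH, defMs, nilD, eMs, h1, h2, -⟩ :=
        Fcore_structure_ex hG maxM hallK neF
      refine ⟨h1, ?_, ?_⟩
      · rw [← h2]
        exact (inf_le_inf_left _ (centralizer_anti sQH)).trans le_sup_right
      · rw [← eMs]
        refine quo_isNilpotent_of_le defMs.le_norm (nsMs.le.trans nsH.norm)
          (inf_le_left.trans sQH) ?_
        obtain ⟨e⟩ := defMs.nonempty_equiv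
        exact Group.nilpotent_of_mulEquiv e
  refine ⟨⟨isCyclic_of_le' cycX sYX, t2Y⟩, ⟨key.1, le_antisymm (sup_le (Fcore_sub_Fitting M) key.2.1)
    (Fitting_le_Fcore_cent M), defF⟩, ⟨sHMs.trans sMsM', key.2.2⟩, fun PM => ?_⟩
  obtain ⟨U, K, complU⟩ := kappa_witness hG maxM
  rw [← defF.sup]
  refine sup_le ((fittingOf_le _).trans sMsM') (le_trans ?_ (Ptype_der1 hG PM complU).le_right)
  refine le_hall_of_normalIn complU.hallU nsY (isPi_mono t2Y ?_)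
  rintro r h (h' | h')
  · exact tau2_not_sigma h h'
  · exact kappa_tau2' h' h

end

/-- B & G, Corollary 15.6. -/
theorem Ptype_cyclics (hG : IsMinSimpleOddOrder G) {M K : Subgroup G} (PM : PType M)
    (hallK : IsPiHallOf (kappa M) K M) :
    sigmaCore M ⊓ C[K] ≠ ⊥ ∧ IsCyclic ↥(sigmaCore M ⊓ C[K]) ∧
      sigmaCore M ⊓ C[K] ≤ ⁅⁅M, M⁆, ⁅M, M⁆⁆ ∧ sigmaCore M ⊓ C[K] ≤ fittingHallOf M ∧
      ¬ IsCyclic (fittingHallOf M) := by
  have maxM := PM.max
  have nsMs := Msigma_normal M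
  have ntKs := (Ptype_structure_c hG PM hallK).1
  obtain ⟨L, hL⟩ := Ptype_embedding hG PM hallK
  have sM'M : ⁅M, M⁆ ≤ M := commutator_le_of_le le_rfl le_rfl
  have sMsM' := Msigma_der1 hG maxM
  have sKs : sigmaCore M ⊓ C[K] ≤ ⁅⁅M, M⁆, ⁅M, M⁆⁆ :=
    (inf_le_inf_right _ sMsM').trans (coprime_der1_sdprod hL.sdp
      (hL.sdp.isHallOf_right_iff.mp (hall_isHallOf hallK)) (mmax_sub_sol hG maxM sM'M) le_rfl).2
  refine ⟨ntKs, isCyclic_of_le' hL.cyclic le_sup_right, sKs, ?_, fun cycH => ?_⟩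
  · by_cases neF : fittingHallOf M = sigmaCore M
    · exact neF ▸ inf_le_left
    · obtain ⟨q, Q, D, -, -, -, -, -, h1, h2, -⟩ := Fcore_structure_ex hG maxM hallK neF
      exact h1.trans h2
  · obtain ⟨⟨cycY, -⟩, ⟨-, eF, defF⟩, -⟩ := Fitting_structure hG maxM
    have sM'F : ⁅M, M⁆ ≤ fittingOf M := by
      rw [← eF]
      exact (le_inf sM'M (derived_le_cent_of_isCyclic cycH (Fcore_normal M).norm)).trans le_sup_right
    have nilMs := isNilpotent_of_le_fittingOf (sMsM'.trans sM'F)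
    rw [fittingOf_eq_self nilMs, ← (Fcore_eq_Msigma hG maxM).mpr nilMs] at defF
    have cF := defF.isMulCommutative (isMulCommutative_of_isCyclic cycH)
      (isMulCommutative_of_isCyclic cycY)
    rw [derived_eq_bot_iff.mpr (isMulCommutative_of_le cF sM'F)] at sKs
    exact ntKs (le_bot_iff.mp sKs)

end Cfsg.Agent.H88.SZ.H66
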