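import Cfsg.Agent.H88.ZMin
import Cfsg.Agent.H88.ZBG15c

/-!
B & G, section 15: Theorem 15.7.
-/

set_option autoImplicit false
set_option linter.unusedSectionVars false
set_option linter.unusedVariables false

namespace Cfsg.Agent.H88.SZ.H66

open Cfsg.Agent.H66

variable [Om]

open Cfsg Cfsg.Agent.H63 Cfsg.Agent.H67 Cfsg.Agent.H64 Subgroup
open Cfsg.Agent.H88.SZ.H63 Cfsg.Agent.H88.SZ.H67 Cfsg.Agent.H88.SZ.H64
open Cfsg.Agent.H68 (Fcore_normal Fcore_le Fcore_nil Fcore_Hall Fcore_max Fcore_sub_Fitting)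

universe u

variable {G : Type u} [Group G] [Finite G]

namespace Aux

theorem isExtraspecial_of_cube {p : ℕ} [hp : Fact p.Prime] {S : Subgroup G}
    (oS : Nat.card S = p ^ 3) (ncS : ¬ IsMulCommutative S) (eS : ∀ x ∈ S, x ^ p = 1) :
    IsExtraspecial p S := by
  obtain ⟨oZ, dS⟩ := H71.center_of_cube oS ncS
  have pS : IsPGroup p S := IsPGroup.of_card oS
  have inj := map_injective S.subtype_injective
  have hF : frattiniOf S = Z[S] := by
    refine le_antisymm ((frattiniOf_le_iff pS).2 ⟨dS.le, fun x hx => ?_⟩)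
      (dS ▸ derived_le_frattiniOf pS)
    rw [eS x hx]
    exact one_mem _
  refine ⟨⟨pS, inj ?_, inj ?_⟩, ?_⟩
  · rw [map_center_subtype]
    exact hF
  · rw [map_center_subtype, H69.map_commutator_subtype]
    exact dS
  · rw [← oZ, ← map_center_subtype, H3.card_map_subtype]

theorem isCyclic_of_nil_of_rank {X : Subgroup G} (nilX : Group.IsNilpotent X)
    (oX : Odd (Nat.card X)) (rX : rank X ≤ 1) : IsCyclic X := by
  refine isCyclic_of_isZGroup_of_isNilpotent (isZGroup_of_forall_syl fun p hp P sylP => ?_) nilX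
  have := Fact.mk hp
  refine (H71.odd_pgroup_rank1_cyclic (syl_isPGroup sylP)
    (oX.of_dvd_nat (card_dvd_of_le (hall_le sylP)))).2 ?_
  exact ((rankP_mono (hall_le sylP)).trans (rankP_le_rank X)).trans rX

theorem comm_of_nil_of_pCore {X : Subgroup G} (nilX : Group.IsNilpotent X)
    (h : ∀ q : ℕ, q.Prime → IsMulCommutative ↥O[{q}](X)) : IsMulCommutative X := by
  refine le_centralizer_iff_isMulCommutative.1 ?_
  refine le_of_forall_pCoreOf_le nilX fun q hq _ => ?_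
  exact le_centralizer_iff.1 (nil_le_cent_hall nilX (hall_piCoreOf_of_isNilpotent {q} nilX) (h q hq))

end Aux

section

variable (hG : IsMinSimpleOddOrder G) {M : Subgroup G} (maxM : IsCoatom M)
include hG maxM

theorem not_inU_of_cent {X K : Subgroup G} (ntX : X ≠ ⊥) (nCM : ¬ C[X] ≤ M) (sKM : K ≤ M)
    (cKX : K ≤ C[X]) (wX : IsPiSubgroup ϖ X := by w_tac) : ¬ InUniqueMaximal K := fun uK =>
  nCM ((def_uniq_mmax uK maxM sKM).sub cKX (mFT_cent_proper hG ntX))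

theorem rank_le_of_cent {X K : Subgroup G} (ntX : X ≠ ⊥) (nCM : ¬ C[X] ≤ M) (sKM : K ≤ M)
    (cKX : K ≤ C[X]) (wX : IsPiSubgroup ϖ X := by w_tac) : rank K ≤ 2 := by
  by_contra h
  exact not_inU_of_cent hG maxM ntX nCM sKM cKX wX
    (rank3_Uniqueness hG (sub_mmax_proper maxM sKM) (by omega))

theorem comm_of_cent {X K : Subgroup G} (ntX : X ≠ ⊥) (nCM : ¬ C[X] ≤ M) (sKM : K ≤ M)
    (cKX : K ≤ C[X]) {p : ℕ} (hp : p.Prime) (pK : IsPGroup p K)
    (wX : IsPiSubgroup ϖ X := by w_tac) : IsMulCommutative K := by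
  have := Fact.mk hp
  by_contra h
  exact not_inU_of_cent hG maxM ntX nCM sKM cKX wX (nonabelian_Uniqueness hG pK h
    (wp_of_noncyclic hG pK (sub_mmax_proper maxM sKM) fun e => h e.isMulCommutative))

theorem nonTI_sub_Msigma {g : G} (notMg : g ∉ M) :
    fittingOf M ⊓ cj g (fittingOf M) ≤ sigmaCore M := by
  refine H64.le_Msigma hG maxM (inf_le_left.trans (fit_le M)) fun p hp hd => ?_
  by_contra s'p
  obtain ⟨X₁, sX₁, oX₁⟩ := exists_prime_card_le hp hd
  obtain ⟨⟨cycY, -⟩, -⟩ := Fitting_structure hG maxM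
  have hY : ∀ Z : Subgroup G, Z ≤ fittingOf M → Nat.card Z = p →
      Z ≤ O[(sigma M)ᶜ](fittingOf M) := fun Z sZ oZ =>
    le_piCoreOf_of_isNilpotent (fit_nil M) sZ
      (isPi_of_isPGroup_of_mem hp (isPGroup_of_card_eq_prime oZ) s'p)
  have h₁ := hY X₁ (sX₁.trans inf_le_left) oX₁
  have h₂ := hY (cj g⁻¹ X₁) (le_cj_iff_cj_inv_le.1 (sX₁.trans inf_le_right))
    ((card_cj _ _).trans oX₁)
  have e := eq_of_isCyclic_of_card_eq cycY h₂ h₁ (card_cj _ _)
  have nX₁ := mmax_normal hG maxM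
    (normalIn_of_isCyclic cycY h₁ (piCoreOf_fittingOf_normalIn _ M))
    (ne_bot_of_prime_card (oX₁ ▸ hp))
  exact notMg (inv_mem_iff.1 (nX₁ ▸ mem_normalizer_of_cj_le e.le))

theorem nonTI_cent {g : G} (notMg : g ∉ M) {X : Subgroup G}
    (sX : X ≤ fittingOf M ⊓ cj g (fittingOf M)) (prX : (Nat.card X).Prime) : ¬ C[X] ≤ M := by
  intro sCM
  have sp : Nat.card X ∈ sigma M :=
    Msigma_pi M _ prX (card_dvd_of_le (sX.trans (nonTI_sub_Msigma hG maxM notMg)))
  obtain ⟨m, hm, c, hc, e⟩ := sigma_group_trans_a hG maxM sp (isPGroup_of_card_eq_prime rfl)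
    (g := g⁻¹) (sX.trans (inf_le_left.trans (fit_le M)))
    ((le_cj_iff_cj_inv_le.1 (sX.trans inf_le_right)).trans (fit_le M))
  exact notMg (inv_mem_iff.1 (e ▸ mul_mem hm (sCM hc)))

/-- Theorem 15.7 (a)-(d), from a subgroup of prime order `p ∉ β(M)` of `F(M)` whose centralizer
is not contained in `M`. -/
theorem nonTI_core {X : Subgroup G} (sXF : X ≤ fittingOf M) (prX : (Nat.card X).Prime)
    (sp : Nat.card X ∈ sigma M) (b'p : Nat.card X ∉ beta M) (nCM : ¬ C[X] ≤ M) :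
    (FType M ∨ P1Type M) ∧ fittingHallOf M = sigmaCore M ∧ beta M = ∅ ∧
      (∀ E, IsPiHallOf (sigma M)ᶜ E M → ⁅E, E⁆ ≤ C[sigmaCore M]) ∧ ⁅M, M⁆ ≤ fittingOf M := by
  have ntX := ne_bot_of_prime_card prX
  have b' : ∀ q ∈ beta M, ¬ IsSyl q O[{q}](M) M := fun q bq sylQ => by
    have hq := beta_prime bq
    have := Fact.mk hq
    have cQX : O[{q}](M) ≤ C[X] := by
      refine le_centralizer_of_isNilpotent_of_coprime (fit_nil M) (pCoreOf_le_fittingOf hq M) sXF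
        (isPi_coprime (isPi_piCoreOf {q} M) ?_)
      exact isPi_compl_of_isPGroup prX (isPGroup_of_card_eq_prime rfl) fun e => b'p (e ▸ bq)
    have h₁ := rank_le_of_cent hG maxM ntX nCM (piCoreOf_le _ M) cQX
    rw [rank_syl sylQ] at h₁
    have h₂ := (mem_alpha_iff.1 (beta_sub_alpha bq)).2
    omega
  obtain ⟨U, K, complU⟩ := kappa_witness hG maxM
  have defH : fittingHallOf M = sigmaCore M := by
    by_contra neF
    obtain ⟨q, Q, D, -, -, bq, rfl, sylQ, -⟩ := Fcore_structure_ex hG maxM complU.hallK neF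
    exact b' q bq sylQ
  have b0 : beta M = ∅ := by
    refine Set.eq_empty_of_forall_notMem fun q bq => b' q bq ?_
    refine Fcore_pcore_Sylow (beta_prime bq) ?_
    rw [defH]
    exact ((pi_Msigma hG maxM).1 (beta_sub_sigma hG maxM bq)).2
  have cE' : ∀ E, IsPiHallOf (sigma M)ᶜ E M → ⁅E, E⁆ ≤ C[sigmaCore M] := fun E hallE => by
    obtain ⟨H, hallH, cH⟩ := der_compl_cent_beta' hG maxM hallE
    rwa [hall_eq_of_isPi hallH fun q _ _ => by simp [b0]] at cH
  refine ⟨?_, defH, b0, cE', ?_⟩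
  · rcases ptype_or_ftype maxM with PM | FM
    · refine Or.inr (PM.p1_or_p2.resolve_right fun P2M => ?_)
      exact b'p ((Ptype_structure_g hG P2M complU.hallK).1 ▸ sp)
    · exact Or.inl FM
  · obtain ⟨E, hallE⟩ := ex_sigma_compl hG maxM
    have defM := sdprod_sigma hG maxM hallE
    obtain ⟨-, ⟨-, defF, -⟩, -⟩ := Fitting_structure hG maxM
    rw [defM.derived, ← defF, defH]
    refine sup_le (sup_le ?_ ?_) ?_
    · exact (derived_normalIn _).le.trans le_sup_left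
    · exact defM.commutator_le.trans le_sup_left
    · exact (le_inf ((derived_normalIn E).le.trans (hall_le hallE)) (cE' E hallE)).trans le_sup_right

/-- Theorem 15.7 (e), the structure of `X` and `M_σ` when `M_σ` is not abelian. -/
theorem nonTI_nonabelian {X : Subgroup G} (nilH : Group.IsNilpotent (sigmaCore M))
    (sXH : X ≤ sigmaCore M) (cycX : IsCyclic X) (ntX : X ≠ ⊥)
    (nCM : ∀ X₁ ≤ X, (Nat.card X₁).Prime → ¬ C[X₁] ≤ M) (ncH : ¬ IsMulCommutative (sigmaCore M)) :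
    ∃ p : ℕ, p.Prime ∧ Nat.card X = p ∧ ¬ IsMulCommutative ↥O[{p}](sigmaCore M) ∧
      IsCyclic ↥O[{p}ᶜ](sigmaCore M) ∧ Nat.card (omegaOne p Z[O[{p}](sigmaCore M)]) = p ∧
      NarrowOf p O[{p}](sigmaCore M) := by
  have sHM := (Msigma_normal M).le
  obtain ⟨p, hp, ncP⟩ : ∃ p : ℕ, p.Prime ∧ ¬ IsMulCommutative ↥O[{p}](sigmaCore M) := by
    by_contra h
    push Not at h
    exact ncH (Aux.comm_of_nil_of_pCore nilH h)
  have := Fact.mk hp
  set P := O[{p}](sigmaCore M) with hP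
  have pP : IsPGroup p P := isPGroup_pCoreOf hp _
  have sPH : P ≤ sigmaCore M := piCoreOf_le _ _
  have hw : p ∈ ϖ :=
    wp_of_noncyclic hG pP (sub_mmax_proper maxM (sPH.trans sHM)) fun e => ncP e.isMulCommutative
  have ncPX : ∀ X₁ ≤ X, (Nat.card X₁).Prime → ¬ P ≤ C[X₁] := fun X₁ sX₁ prX₁ h =>
    ncP (comm_of_cent hG maxM (ne_bot_of_prime_card prX₁) (nCM X₁ sX₁ prX₁) (sPH.trans sHM) h hp pP
      (isPi_of_le (w_sigmaCore M) (sX₁.trans sXH)))
  have pX : IsPiSubgroup {p} X := fun q hq hd => by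
    by_contra neq
    obtain ⟨X₁, sX₁, oX₁⟩ := exists_prime_card_le hq hd
    refine ncPX X₁ sX₁ (oX₁ ▸ hq) (le_centralizer_of_isNilpotent_of_coprime nilH sPH
      (sX₁.trans sXH) (isPi_coprime (isPi_piCoreOf {p} _) ?_))
    exact isPi_compl_of_isPGroup hq (isPGroup_of_card_eq_prime oX₁) neq
  have sXP : X ≤ P := le_piCoreOf_of_isNilpotent nilH sXH pX
  have pX' := isPGroup_of_isPi hp pX
  have hX₁ := elemOf_one_omegaOne_of_isCyclic cycX (dvd_card_of_isPGroup hp pX' ntX)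
  set X₁ := omegaOne p X
  have ntP : P ≠ ⊥ := fun e => ntX (le_bot_iff.1 (e ▸ sXP))
  obtain ⟨Z₁, hZ₁⟩ := exists_elemOf_one hp
    (dvd_card_of_isPGroup hp (pP.to_le inf_le_left) (center_ne_bot_of_isPGroup hp pP ntP))
  have cPZ₁ : P ≤ C[Z₁] := le_centralizer_iff.1 (hZ₁.le.trans inf_le_right)
  have ncPX₁ := ncPX X₁ hX₁.le hX₁.card_prime
  have nCX₁ := nCM X₁ hX₁.le hX₁.card_prime
  have ntX₁ := hX₁.ne_bot one_ne_zero
  have wX₁ : IsPiSubgroup ϖ X₁ := isPi_of_le (w_sigmaCore M) (hX₁.le.trans sXH)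
  have hB : ElemOf p 2 (X₁ ⊔ Z₁) P :=
    el2_sup hp (hX₁.mono sXP) (hZ₁.mono inf_le_left) (fun e => ncPX₁ (e ▸ cPZ₁))
      (hX₁.le.trans (sXP.trans cPZ₁))
  have sCB := (p2Elem_mmax hG maxM (hB.mono (sPH.trans sHM))).1
  have rCB : rank C[X₁ ⊔ Z₁] ≤ 2 :=
    rank_le_of_cent hG maxM ntX₁ nCX₁ sCB (centralizer_le (SetLike.coe_subset_coe.2 le_sup_left))
  have maxB : MaxElemOf p (X₁ ⊔ Z₁) ⊤ :=
    hB.top.maxElemOf_iff.2 (((rankP_mono inf_le_right).trans (rankP_le_rank _)).trans rCB)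
  obtain ⟨hZ₀, ⟨Y, -, -, hY⟩, -⟩ := basic_p2maxElem_structure hG hB.top maxB pP hB.le ncP
  have dpY := hY X₁ (hX₁.of_le le_sup_left) fun e => ncPX₁
    (le_centralizer_iff.1 (e ▸ omegaOne_center_le_centralizer p P))
  have sXC : X ≤ P ⊓ C[X₁ ⊔ Z₁] := by
    refine le_inf sXP (le_centralizer_iff.1 (sup_le ?_ (le_centralizer_iff.1 (sXP.trans cPZ₁))))
    exact hX₁.le.trans (le_centralizer_iff_isMulCommutative.2 cycX.isMulCommutative)
  have tiXY : X ⊓ Y = ⊥ := by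
    by_contra h
    refine inf_ne_bot_of_isCyclic_of_isPGroup hp cycX pX' hX₁.le inf_le_left ntX₁ h ?_
    exact le_bot_iff.1 (dpY.inf ▸ inf_le_inf_left _ inf_le_right)
  have defX : X = X₁ := by
    refine le_antisymm (le_omegaOne le_rfl fun x hx => ?_) hX₁.le
    obtain ⟨a, ha, y, hy, e⟩ := dpY.exists_mul (sXC hx)
    have h₁ : x ^ p = y ^ p := by
      rw [e, (dpY.commute ha hy).mul_pow,
        ((mem_omegaOne_iff_of_comm cycX.isMulCommutative).1 ha).2, one_mul]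
    exact mem_bot.1 (tiXY ▸ mem_inf.2 ⟨pow_mem hx p, h₁ ▸ pow_mem hy p⟩)
  refine ⟨p, hp, defX ▸ hX₁.card_one, ncP, ?_, hZ₀.card_one, fun _ => ⟨_, hB, ?_⟩⟩
  · refine Aux.isCyclic_of_nil_of_rank (isNilpotent_of_le nilH (piCoreOf_le _ _)) (mFT_odd hG _) ?_
    by_contra h
    refine not_inU_of_cent hG maxM ntX₁ nCX₁ ((piCoreOf_le _ _).trans sHM)
      ((piCoreOf_compl_le_centralizer {p} _).trans (centralizer_le (hX₁.le.trans sXP))) wX₁ ?_
    exact cent_uniq_Uniqueness hG (nonabelian_Uniqueness hG pP ncP)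
      (piCoreOf_compl_le_centralizer {p} _) (by omega)
  · exact hB.maxElemOf_iff.2 (((rankP_mono inf_le_right).trans (rankP_le_rank _)).trans rCB)

/-- Theorem 15.7 (e), the action of `M / M_σ` when `M_σ` is not abelian. -/
theorem nonTI_nonabelian_action (typeM : FType M ∨ P1Type M)
    (nilH : Group.IsNilpotent (sigmaCore M)) {p : ℕ} (hp : p.Prime) (sp : p ∈ sigma M)
    (ncP : ¬ IsMulCommutative ↥O[{p}](sigmaCore M)) (cycP' : IsCyclic ↥O[{p}ᶜ](sigmaCore M))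
    (oZ : Nat.card (omegaOne p Z[O[{p}](sigmaCore M)]) = p)
    (nP : NarrowOf p O[{p}](sigmaCore M)) :
    (∀ q : ℕ, q.Prime → q ∣ Nat.card (sigmaCore M) →
        Monoid.exponent (M /ᵍ sigmaCore M) ∣ q - 1) ∨
      (Nat.card ↥O[{p}](sigmaCore M) = p ^ 3 ∧ P1Type M ∧ (sigmaCore M).relIndex M ∣ p + 1) := by
  have := Fact.mk hp
  have nsH := Msigma_normal M
  have sylQ : ∀ q : ℕ, IsSyl q O[{q}](sigmaCore M) (sigmaCore M) := fun q =>
    hall_piCoreOf_of_isNilpotent {q} nilH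
  have cycQ : ∀ q : ℕ, q ≠ p → IsCyclic ↥O[{q}](sigmaCore M) := fun q neq =>
    isCyclic_of_le' cycP' (piCoreOf_mono_pi (Set.singleton_subset_iff.2 neq) _)
  have oZq : ∀ q : ℕ, q.Prime → q ∣ Nat.card (sigmaCore M) →
      Nat.card (omegaOne q Z[O[{q}](sigmaCore M)]) = q := fun q hq hd => by
    by_cases neq : q = p
    · rw [neq, oZ]
    · have := Fact.mk hq
      have pQ := isPGroup_pCoreOf hq (sigmaCore M)
      exact card_omegaOne_of_isCyclic (isCyclic_of_le' (cycQ q neq) inf_le_left)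
        (dvd_card_of_isPGroup hq (pQ.to_le inf_le_left)
          (center_ne_bot_of_isPGroup hq pQ (syl_ne_bot (sylQ q) hd)))
  have nZq : ∀ q : ℕ, M ≤ N[omegaOne q Z[O[{q}](sigmaCore M)]] := fun q =>
    (((nsH.piCoreOf {q}).center).omegaOne q).2
  have sZq : ∀ q : ℕ, omegaOne q Z[O[{q}](sigmaCore M)] ≤ O[{q}](sigmaCore M) := fun q =>
    omegaOne_center_le q _
  have key : ∀ q : ℕ, q.Prime → q ∣ Nat.card (sigmaCore M) → ∀ V ≤ M,
      Semiregular (omegaOne q Z[O[{q}](sigmaCore M)]) V → Monoid.exponent V ∣ q - 1 :=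
    fun q hq hd V sVM regV => by
      have h := regV.card_dvd_pred (sVM.trans (nZq q))
      rw [oZq q hq hd] at h
      exact (Group.exponent_dvd_nat_card).trans h
  obtain ⟨U, K, complU⟩ := kappa_witness hG maxM
  have hallK := complU.hallK
  rcases typeM with FM | P1M
  · left
    intro q hq hd
    obtain rfl := (trivg_kappa maxM hallK).2 FM
    obtain ⟨hallE, -, defM, -⟩ := kappa_compl_context hG maxM complU
    rw [sup_bot_eq] at hallE defM
    obtain ⟨-, -, -, -, h⟩ := kappa_structure hG maxM complU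
    obtain ⟨U₀, sU₀, eU₀, frobU₀⟩ := h (sigma_compl_neq1 hG maxM hallE)
    obtain ⟨e⟩ := defM.nonempty_equiv
    rw [← Monoid.exponent_eq_of_mulEquiv e, ← eU₀]
    exact key q hq hd U₀ (sU₀.trans defM.le_right)
      (frobU₀.reg.mono_left ((sZq q).trans (piCoreOf_le _ _)))
  have PM := P1M.ptype
  obtain ⟨defM, defMs⟩ := P1type_sdp hG P1M hallK
  have prKs := P1type_prime_Kstar hG P1M hallK
  obtain ⟨-, cycKs, sKs'', -⟩ := Ptype_cyclics hG PM hallK
  obtain ⟨-, -, -, prK, -⟩ := kappa_compl_context hG maxM complU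
  have sKM := defM.le_right
  have s'K := kappa_hall_sigma' hallK
  obtain ⟨e⟩ := defM.nonempty_equiv
  rw [← Monoid.exponent_eq_of_mulEquiv e]
  suffices h : Monoid.exponent K ∣ p - 1 ∨
      (Nat.card ↥O[{p}](sigmaCore M) = p ^ 3 ∧ Nat.card K ∣ p + 1) by
    refine h.imp (fun h q hq hd => ?_) fun h => ⟨h.1, P1M, defM.relIndex_left ▸ h.2⟩
    by_cases neq : q = p
    · rwa [neq]
    have := Fact.mk hq
    have sq := (pi_Msigma hG maxM).2 ⟨hq, hd⟩
    refine key q hq hd K sKM (Semiregular.mono_left ?_ (sZq q))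
    rcases cyclic_pgroup_cent_or_regular (cycQ q neq) (isPGroup_pCoreOf hq _)
      (sKM.trans (nsH.piCoreOf {q}).2)
      (isPi_mono s'K (Set.compl_subset_compl.2 (Set.singleton_subset_iff.2 sq))) with h₁ | h₁
    · have h₂ := le_inf (piCoreOf_le {q} (sigmaCore M)) (le_centralizer_iff.1 h₁)
      exact absurd h₂ (Ptype_structure_e hG PM hallK hq
        ((dvd_card_of_isPGroup hq (isPGroup_pCoreOf hq _) (syl_ne_bot (sylQ q) hd)).trans
          (card_dvd_of_le h₂)) (sylQ q)).2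
    · exact (prK.mono_left (piCoreOf_le _ _)).semiregular h₁
  set P := O[{p}](sigmaCore M) with hP
  have pP : IsPGroup p P := isPGroup_pCoreOf hp _
  have sPH : P ≤ sigmaCore M := piCoreOf_le _ _
  have nPM : M ≤ N[P] := (nsH.piCoreOf {p}).2
  have p'K : IsPiSubgroup {p}ᶜ K :=
    isPi_mono s'K (Set.compl_subset_compl.2 (Set.singleton_subset_iff.2 sp))
  have hd := ((pi_Msigma hG maxM).1 sp).2
  by_cases regZ : Semiregular (omegaOne p Z[P]) K
  · exact Or.inl (key p hp hd K sKM regZ)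
  have defKs : omegaOne p Z[P] = sigmaCore M ⊓ C[K] := by
    refine eq_of_prime_card prKs (le_inf ((sZq p).trans sPH) ?_)
      (ne_bot_of_prime_card (oZ.symm ▸ hp))
    refine le_of_prime_card_of_inf_ne_bot (oZ.symm ▸ hp) fun h => regZ ?_
    exact (prK.mono_left ((sZq p).trans sPH)).semiregular h
  by_cases rP : 2 < rank P
  · left
    refine exponent_dvd_of_forall_mem fun a ha => ?_
    by_contra nt
    have h₁ := (H71.norm_narrow pP (mFT_odd hG _) nP (sKM.trans nPM) (mmax_sub_sol hG maxM sKM)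
      (mFT_odd hG _)).2 rP a (nPM (sKM ha)) (piElt_of_mem p'K ha)
    have h₂ : P ≤ sigmaCore M ⊓ C[K] := by
      rw [← prK _ (pow_mem ha _) nt]
      exact le_inf sPH fun x hx => mem_centralizer_singleton_iff.2 (h₁ x hx)
    exact ncP (isCyclic_of_le' cycKs h₂).isMulCommutative
  have sylP : IsSyl p P ⊤ := syl_of_hall (Msigma_Hall_G hG maxM) sp (sylQ p)
  obtain ⟨S, C, ncS, oS, eS, cycC, cpP, ΩC⟩ := mFT_rank2_Sylow_cprod hG sylP (by w_tac) (by omega) ncP
  obtain ⟨oZS, dS⟩ := H71.center_of_cube oS ncS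
  have cC := cycC.isMulCommutative
  have defZP : Z[P] = C := by
    rw [← cpP.center.sup, inf_eq_left.2 (le_centralizer_iff_isMulCommutative.2 cC), ← ΩC]
    exact sup_eq_right.2 (omegaOne_le p C)
  have cCK : K ≤ C[C] := by
    refine coprime_abelian_faithful_omegaOne hp (defZP ▸ sKM.trans (nsH.piCoreOf {p}).center.2)
      (isPi_coprime' p'K (isPi_of_isPGroup hp (pP.to_le cpP.le_right))) cC
      (pP.to_le cpP.le_right) ?_
    rw [← defZP, defKs]
    exact le_centralizer_iff.1 inf_le_right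
  have sCS : C ≤ S := by
    refine (le_inf (cpP.le_right.trans sPH) (le_centralizer_iff.1 cCK)).trans ?_
    rw [← defKs, defZP, ΩC]
    exact inf_le_left
  have defS : S = P := by rw [← cpP.sup, sup_eq_left.2 sCS]
  rw [defS] at ncS oS eS ΩC
  have h := H69.repr_extraspecial_prime_sdprod_cycle (n := 1)
    (Aux.isExtraspecial_of_cube oS ncS fun x hx => eS ▸ pow_exponent_of_mem hx)
    (defM.mono_left sPH (sKM.trans nPM)) (kappa_structure hG maxM complU).1.2.1 oS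
    ((isPi_compl_singleton_iff_coprime hp).1 p'K).symm fun x hx nt => by
      have h₁ : omegaOne p Z[P] = Z[P] := by rw [defZP, ΩC, defZP]
      have h₂ := (prK x hx nt).trans (defKs.symm.trans h₁)
      exact le_antisymm (h₂ ▸ inf_le_inf_right _ sPH) (le_inf inf_le_left (h₂ ▸ inf_le_right))
  rw [pow_one] at h
  rcases h with h | h
  · exact Or.inr ⟨oS, h⟩
  · exact Or.inl (Group.exponent_dvd_nat_card.trans h)

/-- B & G, Theorem 15.7 (with `M' ≤ F(M)` in (c), as in the Coq proof). -/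
theorem nonTI_Fitting_structure {g : G} (notMg : g ∉ M) {H X : Subgroup G} (hH : H = fittingHallOf M)
    (hX : X = fittingOf M ⊓ cj g (fittingOf M)) (ntX : X ≠ ⊥) :
    ((FType M ∨ P1Type M) ∧ H = sigmaCore M) ∧
      (X ≤ H ∧ IsCyclic X) ∧
      (⁅M, M⁆ ≤ fittingOf M ∧ IsDp (sigmaCore M) O[(sigma M)ᶜ](fittingOf M) (fittingOf M)) ∧
      (∀ E E₁ E₂ E₃ : Subgroup G, SigmaCompl M E E₁ E₂ E₃ →
        E₃ = ⊥ ∧ IsSdp E₂ E₁ E) ∧
      ((FType M ∧ IsMulCommutative H ∧ rank H = 2) ∨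
        ((Nat.card X).Prime ∧ Nat.card X ∈ sigma M ∧ Nat.card X ∉ beta M ∧
            ¬ IsMulCommutative ↥O[{Nat.card X}](H) ∧ IsCyclic ↥O[{Nat.card X}ᶜ](H)) ∧
          ((∀ q : ℕ, q.Prime → q ∣ Nat.card H → Monoid.exponent (M /ᵍ H) ∣ q - 1) ∨
            (Nat.card ↥O[{Nat.card X}](H) = Nat.card X ^ 3 ∧ P1Type M ∧
              H.relIndex M ∣ Nat.card X + 1))) := by
  have sXMs : X ≤ sigmaCore M := hX ▸ nonTI_sub_Msigma hG maxM notMg
  have nCM : ∀ X₁ ≤ X, (Nat.card X₁).Prime → ¬ C[X₁] ≤ M := fun X₁ sX₁ prX₁ =>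
    nonTI_cent hG maxM notMg (hX ▸ sX₁) prX₁
  obtain ⟨E, hallE⟩ := ex_sigma_compl hG maxM
  obtain ⟨cycX, b'X, -⟩ := (sigma_compl_embedding hG maxM hallE).2.2 g notMg
  have sX : X ≤ sigmaCore M ⊓ cj g M :=
    le_inf sXMs (hX ▸ inf_le_right.trans (cj_mono (fit_le M)))
  replace cycX := isCyclic_of_le' cycX sX
  replace b'X := isPi_of_le b'X sX
  obtain ⟨X₁, sX₁, prX₁⟩ := exists_prime_card_le_of_ne_bot ntX
  obtain ⟨typeM, defH, b0, cE', sM'F⟩ := nonTI_core hG maxM (sX₁.trans (hX ▸ inf_le_left)) prX₁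
    (Msigma_pi M _ prX₁ (card_dvd_of_le (sX₁.trans sXMs))) (b'X _ prX₁ (card_dvd_of_le sX₁))
    (nCM X₁ sX₁ prX₁)
  obtain rfl := hH.trans defH
  have nilH := (Fcore_eq_Msigma hG maxM).1 defH
  obtain ⟨⟨-, t2Y⟩, ⟨-, defF, dpF⟩, -⟩ := Fitting_structure hG maxM
  rw [fittingOf_eq_self nilH] at dpF
  refine ⟨⟨typeM, rfl⟩, ⟨sXMs, cycX⟩, ⟨sM'F, dpF⟩, fun E E₁ E₂ E₃ complE => ?_, ?_⟩
  · obtain ⟨⟨sE₃, -⟩, -, -, ⟨-, -, sdp⟩, -⟩ := sigma_compl_context hG maxM complE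
    have sE₃E := hall_le complE.hallE₃
    have h₁ : E₃ ≤ fittingOf M := by
      rw [← defF, defH]
      exact (le_inf (sE₃E.trans (hall_le complE.hallE))
        (sE₃.trans (cE' E complE.hallE))).trans le_sup_right
    have h₂ := isPi_of_le t2Y (le_piCoreOf_of_isNilpotent (fit_nil M) h₁
      (isPi_of_le (hall_isPi complE.hallE) sE₃E))
    obtain rfl := isPi_eq_bot (hall_isPi complE.hallE₃) (isPi_mono h₂ fun _ h => tau3'2 h)
    exact ⟨rfl, by rwa [bot_sup_eq] at sdp⟩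
  have sHM := (Msigma_normal M).le
  have ntX₁ := ne_bot_of_prime_card prX₁
  by_cases cH : IsMulCommutative (sigmaCore M)
  · refine Or.inl ⟨typeM.resolve_right fun P1M => ?_, cH, le_antisymm ?_ ?_⟩
    · obtain ⟨U, K, complU⟩ := kappa_witness hG maxM
      obtain ⟨nt, -, h, -⟩ := Ptype_cyclics hG P1M.ptype complU.hallK
      rw [← (P1type_sdp hG P1M complU.hallK).2,
        commutator_eq_bot_iff_le_centralizer.2 (le_centralizer_iff_isMulCommutative.2 cH)] at h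
      exact nt (le_bot_iff.1 h)
    · exact rank_le_of_cent hG maxM ntX₁ (nCM X₁ sX₁ prX₁) sHM
        ((le_centralizer_iff_isMulCommutative.2 cH).trans (centralizer_le (sX₁.trans sXMs)))
        (isPi_of_le (w_sigmaCore M) (sX₁.trans sXMs))
    · refine two_le_rank_of_comm cH fun cycH => nCM X₁ sX₁ prX₁ ?_
      exact mmax_cent_le hG maxM (normalIn_of_isCyclic cycH (sX₁.trans sXMs) (Msigma_normal M)) ntX₁
  · obtain ⟨p, hp, rfl, ncP, cycP', oZ, nP⟩ := nonTI_nonabelian hG maxM nilH sXMs cycX ntX nCM cH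
    have sp := Msigma_pi M _ hp (card_dvd_of_le sXMs)
    exact Or.inr ⟨⟨hp, sp, by simp [b0], ncP, cycP'⟩,
      nonTI_nonabelian_action hG maxM typeM nilH hp sp ncP cycP' oZ nP⟩

theorem exists_nonTI_Fitting (notTI : ¬ NormedTI ((fittingOf M : Set G) \ {1}) ⊤ M) :
    ∃ g, g ∉ M ∧ fittingOf M ⊓ cj g (fittingOf M) ≠ ⊥ := by
  by_contra h
  push Not at h
  obtain ⟨nt, -⟩ := Fcore_structure_chain hG maxM
  obtain ⟨x, hx, ntx⟩ := (fittingHallOf M).bot_or_exists_ne_one.resolve_left nt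
  refine notTI (normedTI_mk ⟨x, Fcore_sub_Fitting M hx, ntx⟩ le_top (fun g hg y hy => ?_)
    fun g _ a ha hga => ?_)
  · exact ⟨(mem_normalizer_iff.1 ((fit_normal M).2 hg) y).1 hy.1, fun e => hy.2 (by simpa using e)⟩
  · by_contra notMg
    exact hga.2 (mem_bot.1 (h g notMg ▸ mem_inf.2 ⟨hga.1, conj_mem_cj ha.1⟩))

/-- The part of Theorem 15.7 used in section 16. -/
theorem nonTI_Fitting_facts (notTI : ¬ NormedTI ((fittingOf M : Set G) \ {1}) ⊤ M) :
    (FType M ∨ P1Type M) ∧ fittingHallOf M = sigmaCore M ∧ ⁅M, M⁆ ≤ fittingOf M ∧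
      IsDp (sigmaCore M) O[(sigma M)ᶜ](fittingOf M) (fittingOf M) := by
  obtain ⟨g, notMg, nt⟩ := exists_nonTI_Fitting hG maxM notTI
  obtain ⟨⟨h₁, h₂⟩, -, ⟨h₃, h₄⟩, -⟩ := nonTI_Fitting_structure hG maxM notMg rfl rfl nt
  exact ⟨h₁, h₂, h₃, h₄⟩

end

end Cfsg.Agent.H88.SZ.H66
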