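import Cfsg.Agent.H88.ZMin
import Cfsg.Agent.H88.ZBG14B3
import Cfsg.Agent.H63.Constt
import Cfsg.Agent.H88.ZBG15

/-! Bender-Glauberman section 16: the parts of Theorems A-E that are not literally in sections 14, 15. -/

set_option autoImplicit false
set_option linter.unusedSectionVars false
set_option linter.unusedVariables false

namespace Cfsg.Agent.H88.SZ.H67

open Cfsg.Agent.H67

variable [Om]

open Subgroup Cfsg Cfsg.Agent.H63 Cfsg.Agent.H66 Cfsg.Agent.H64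
open Cfsg.Agent.H88.SZ.H63 Cfsg.Agent.H88.SZ.H66 Cfsg.Agent.H88.SZ.H64
open Cfsg.Agent.H68 (cycV)

variable {G : Type*} [Group G] [Finite G]

/-- The kernel of a Frobenius group in the sense of the Prelude. -/
theorem frobeniusKernel_eq {M K H : Subgroup G} (h : IsFrobenius M K H) :
    frobeniusKernel (H.subgroupOf M) = (K.subgroupOf M : Set M) := by
  ext x
  constructor
  · rintro (rfl | hx)
    · exact (K.subgroupOf M).one_mem
    · by_contra hK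
      obtain ⟨k, hk, hx'⟩ := h.exists_mem_cj x.2 hK
      refine hx ⟨k, h.le_left hk⟩ ?_
      rw [← cj_eq_smul, ← subgroupOf_cj]
      exact hx'
  · intro hx
    by_cases h1 : x = 1
    · exact Or.inl h1
    refine Or.inr fun g hg => h1 ?_
    rw [← cj_eq_smul, ← subgroupOf_cj] at hg
    exact Subtype.ext ((h.cj_right g.2).sdp.eq_one hx hg)

theorem sylow_comm_rank_of_map {U : Subgroup G} {p n : ℕ} [Fact p.Prime] (P : Sylow p U)
    (h₁ : IsMulCommutative ((P : Subgroup U).map U.subtype))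
    (h₂ : rankP p ((P : Subgroup U).map U.subtype) ≤ n) :
    IsMulCommutative (P : Subgroup U) ∧ PRankLE p n (P : Subgroup U) := by
  refine ⟨?_, pRankLE_iff.2 (by rwa [rankP_map_of_injective U.subtype_injective] at h₂)⟩
  have := isMulCommutative_subgroupOf h₁ U
  rwa [subgroupOf_map_subtype'] at this

omit [Finite G] in
theorem mem_sigmaHat_iff {M : Subgroup G} {a : G} :
    a ∈ sigmaHat M ↔ a ∈ M ∧ sigmaCore M ⊓ C1[a] ≠ ⊥ := by
  refine and_congr_right fun _ => ⟨?_, fun h => ?_⟩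
  · rintro ⟨y, hy, h1, hc⟩
    exact ne_bot_of_mem (x := y) ⟨hy, mem_centralizer_singleton_iff.2 hc.symm⟩ h1
  · obtain ⟨y, hy, h1⟩ := exists_ne_one_of_ne_bot h
    exact ⟨y, hy.1, h1, (mem_centralizer_singleton_iff.1 hy.2).symm⟩

theorem sigmaHat_conj {M : Subgroup G} {a m : G} (hm : m ∈ M) (ha : a ∈ sigmaHat M) :
    m * a * m⁻¹ ∈ sigmaHat M := by
  obtain ⟨haM, y, hy, h1, hc⟩ := ha
  refine ⟨M.mul_mem (M.mul_mem hm haM) (M.inv_mem hm), m * y * m⁻¹,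
    (Msigma_normal M).conj_mem hm hy, by simpa using h1, ?_⟩
  calc m * a * m⁻¹ * (m * y * m⁻¹) = m * (a * y) * m⁻¹ := by group
    _ = m * (y * a) * m⁻¹ := by rw [hc]
    _ = m * y * m⁻¹ * (m * a * m⁻¹) := by group

section

variable (hG : IsMinSimpleOddOrder G) {M U K : Subgroup G} (maxM : IsCoatom M)
include hG maxM

theorem Fitting_TI_of_normedTI (h : NormedTI ((fittingOf M : Set G) \ {1}) ⊤ M) :
    IsTISubset (fittingOf M : Set G) :=
  have _ := hG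
  have _ := maxM
  (normedTI_diff_one_iff.1 h).2.2

/-- B & G Theorem A(8). -/
theorem BGsummaryA8 (h : KappaCompl M U K) (hne : fittingHallOf M ≠ sigmaCore M) :
    U = ⊥ ∧ NormedTI ((fittingOf M : Set G) \ {1}) ⊤ M ∧ (Nat.card K).Prime := by
  obtain ⟨D, hD⟩ := exists_hall {Nat.card ↥(sigmaCore M ⊓ C[K])}ᶜ
    (mmax_sub_sol hG maxM (Msigma_normal M).le)
  obtain ⟨⟨P1M, -⟩, ⟨hp, -⟩, -⟩ := Fcore_structure hG maxM h.hallK hne rfl rfl rfl rfl rfl hD
  refine ⟨(trivg_kappa_compl hG maxM h).2 P1M, ?_, hp⟩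
  by_contra hc
  exact hne (nonTI_Fitting_facts hG maxM hc).2.1

omit maxM in
/-- B & G Theorem C(10). -/
theorem BGsummaryC10 (P2M : P2Type M) (hK : IsPiHallOf (kappa M) K M) :
    (Nat.card K).Prime ∧ NormedTI ((fittingOf M : Set G) \ {1}) ⊤ M ∧ sigmaCore M ≤ fittingOf M := by
  obtain ⟨-, hp, nil, -⟩ := Ptype_structure_g hG P2M hK
  refine ⟨hp, ?_, le_fittingOf (Msigma_normal M) nil⟩
  by_contra hc
  rcases (nonTI_Fitting_facts hG P2M.max hc).1 with h | h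
  · exact h.not_ptype P2M.ptype
  · exact h.not_p2 P2M

/-- `M_σ U` is the normal Hall `κ(M)'`-subgroup of `M`. -/
theorem kappa'_Hall (h : KappaCompl M U K) :
    IsPiHallOf (kappa M)ᶜ (sigmaCore M ⊔ U) M ∧ sigmaCore M ⊔ U ⊴ M :=
  have hs := (kappa_structure hG maxM h).1.1.2
  ⟨hs.hall_left_of_hall_right h.hallK, hs.normal⟩

theorem mem_sigma_sup_iff (h : KappaCompl M U K) {a : G} (ha : a ∈ M) :
    a ∈ sigmaCore M ⊔ U ↔ PiElt (kappa M)ᶜ a :=
  mem_normal_hall_iff (kappa'_Hall hG maxM h).1 (kappa'_Hall hG maxM h).2 ha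

theorem mem_sigmaA_iff (h : KappaCompl M U K) {a : G} :
    a ∈ sigmaA M U ↔ a ∈ sigmaHat M ∧ PiElt (kappa M)ᶜ a :=
  and_congr_right fun ha => by
    rw [SetLike.mem_coe, sup_comm]
    exact mem_sigma_sup_iff hG maxM h ha.1

/-- B & G Theorem B(1). -/
theorem BGsummaryB1 (hU : IsPiHallOf (sigma M ∪ kappa M)ᶜ U M) {p : ℕ} [Fact p.Prime]
    {S : Subgroup G} (sylS : IsSyl p S U) : IsMulCommutative S ∧ rankP p S ≤ 2 := by
  have hp : p.Prime := Fact.out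
  refine ⟨?_, (rankP_le_rank S).trans (sigma'_rank2 hG maxM (sylS.1.trans hU.1)
    (isPi_mono (isPi_of_le (hall_isPi hU) sylS.1) (Set.compl_subset_compl.2 Set.subset_union_left)))⟩
  by_cases h0 : S = ⊥
  · rw [h0]; infer_instance
  have hd := dvd_card_of_syl_ne_bot sylS h0
  have hπ := hall_isPi hU p hp hd
  exact (sigma'_kappa'_facts hG maxM (syl_of_hall hU hπ sylS) (hd.trans (card_dvd_of_le hU.1))
    (fun h => hπ (Or.inl h)) fun h => hπ (Or.inr h)).1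

/-- A `(σ ∪ κ)'`-element of `M^#` centralizing an element of `M_σ^#`. -/
theorem uniq_cent1_of_sigmaHat {a : G} (ha : a ∈ sigmaHat M) (h1 : a ≠ 1)
    (hπ : PiElt (sigma M ∪ kappa M)ᶜ a) : UniqMax C1[a] M ∧ PiElt (tau2 M) a := by
  obtain ⟨haM, hc⟩ := mem_sigmaHat_iff.1 ha
  obtain ⟨U, hU, sU⟩ := exists_hall_ge (mmax_sol hG maxM) (zpowers_le_of_mem haM)
    (isPi_zpowers_iff.2 hπ)
  obtain ⟨K, h⟩ := ex_kappa_compl_of_hallU hG maxM hU
  obtain ⟨h₁, -, h₂⟩ := (kappa_structure hG maxM h).2.2.1 _ sU (zpowers_ne_bot' h1)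
    (by rwa [centralizer_zpowers])
  exact ⟨by rwa [centralizer_zpowers] at h₁, isPi_zpowers_iff.1 h₂⟩

/-- The `σ(M)'`-part of an element of `A(M) - M_σ`. -/
theorem sigmaA_constt {a : G} (ha : a ∈ sigmaHat M) (hk : PiElt (kappa M)ᶜ a)
    (hs : a ∉ sigmaCore M) : constt (sigma M)ᶜ a ≠ 1 ∧ UniqMax C1[constt (sigma M)ᶜ a] M ∧
      PiElt (tau2 M) (constt (sigma M)ᶜ a) := by
  obtain ⟨haM, hc⟩ := mem_sigmaHat_iff.1 ha
  have h1 : constt (sigma M)ᶜ a ≠ 1 := fun h =>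
    hs (mem_Msigma hG maxM haM (constt_compl_eq_one_iff.1 h))
  refine ⟨h1, uniq_cent1_of_sigmaHat hG maxM (mem_sigmaHat_iff.2 ⟨constt_mem _ haM,
    ne_bot_mono hc (inf_le_inf_left _ (cent1_le_cent1_constt _ a))⟩) h1 ?_⟩
  rw [Set.compl_union]
  exact PiNat.inter (piElt_constt _ a) (piElt_constt_of_piElt _ hk)

/-- B & G Theorem B(5), pointwise form. -/
theorem mem_of_conj_sigmaA {a g : G} (ha : a ∈ sigmaHat M) (hk : PiElt (kappa M)ᶜ a)
    (hs : a ∉ sigmaCore M) (ha' : g * a * g⁻¹ ∈ sigmaHat M) : g ∈ M := by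
  have hs' : g * a * g⁻¹ ∉ sigmaCore M := fun h =>
    hs (mem_Msigma hG maxM ha.1 (piElt_conj_iff.1 (piElt_of_mem (Msigma_pi M) h)))
  have u₁ := (sigmaA_constt hG maxM ha hk hs).2.1
  have u₂ := (sigmaA_constt hG maxM ha' (hk.conj g) hs').2.1
  rw [consttJ, ← cj_centralizer_singleton] at u₂
  exact mem_of_cj_le_uniq_mmax hG u₁ u₂.le

/-- B & G Theorem B(5). -/
theorem BGsummaryB5 (h : KappaCompl M U K) : IsTISubset (sigmaA M U \ (sigmaCore M : Set G)) := by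
  intro g hg x hx hx'
  obtain ⟨hx₁, hx₂⟩ := (mem_sigmaA_iff hG maxM h).1 hx.1
  refine absurd (le_set_normalizer (L := M) (fun m hm y hy => ?_)
    (mem_of_conj_sigmaA hG maxM hx₁ hx₂ hx.2 hx'.1.1)) hg
  obtain ⟨hy₁, hy₂⟩ := (mem_sigmaA_iff hG maxM h).1 hy.1
  refine ⟨(mem_sigmaA_iff hG maxM h).2 ⟨sigmaHat_conj hm hy₁, hy₂.conj m⟩, fun hc => hy.2 ?_⟩
  simpa [mul_assoc] using (Msigma_normal M).conj_mem (M.inv_mem hm) hc

/-- B & G Theorem D(4). -/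
theorem BGsummaryD4 {x : G} {N : Subgroup G} (hx : x ∈ sigmaCore M) (h1 : x ≠ 1)
    (hC : ¬ C1[x] ≤ M) (maxN : IsCoatom N) (hN : C1[x] ≤ N) :
    SigBase x N ∧ (FType N ∨ P2Type N) ∧ fittingHallOf N = sigmaCore N ∧
      IsSdp (sigmaCore N ⊓ C1[x]) (M ⊓ C1[x]) C1[x] ∧ IsSdp (sigmaCore N) (M ⊓ N) N ∧
      x ∈ sigmaHat N ∧ PiElt (kappa N)ᶜ x ∧ Disjoint (sigma M) (sigma N) := by
  have hb := sigBase_of_le hG ⟨maxM, hx⟩ h1 hC maxN hN
  obtain ⟨ntR, t2x, tN, sdp, sub, -, hall⟩ := FT_signalizer_context hG ⟨maxM, hx⟩ h1 hb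
  refine ⟨hb, tN, notP1type_Fcore hG tN, sdp, (sigma_compl_iff_sdp hG maxN).1 hall,
    mem_sigmaHat_iff.2 ⟨hN (mem_centralizer_singleton_self x), ntR⟩,
    t2x.mono fun p hp hk => kappa_tau2' hk hp, ?_⟩
  obtain ⟨p, hp, hd⟩ := exists_prime_dvd_orderOf h1
  exact (sigma_eq_or_disjoint hG maxM maxN).resolve_left fun h =>
    tau2_not_sigma (t2x p hp hd) (h ▸ sub (t2x p hp hd))

end

end Cfsg.Agent.H88.SZ.H67
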