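import Cfsg.Agent.H88.ZMin
import Mathlib
import Cfsg.Agent.H88.ZPF11b
import Cfsg.Agent.H72.PFGen

/-!
Peterfalvi section 11 (maximal subgroups of types III and IV; Coq names): (11.8) and (11.9).
(11.3) - (11.7) are in `H69.PF11b`.
-/

set_option autoImplicit false
set_option linter.unusedSectionVars false
set_option linter.unusedVariables false
set_option linter.unusedSectionVars false
set_option linter.unusedVariables false
set_option linter.style.haveILetI false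

namespace Cfsg.Agent.H88.SZ.H69

open Cfsg.Agent.H69

variable [Om]

open Cfsg Cfsg.Agent.H63 Cfsg.Agent.H67 Cfsg.Agent.H68 Cfsg.Agent.H70 Cfsg.Agent.H13 Cfsg.Agent.H2
  Cfsg.Agent.H65.PF Subgroup
open Cfsg.Agent.H88.SZ.H63 Cfsg.Agent.H88.SZ.H67 Cfsg.Agent.H88.SZ.H68 Cfsg.Agent.H88.SZ.H13 Cfsg.Agent.H88.SZ.H2
open Cfsg.Agent.H65 (mem_zspan_self zspan_sub zspan_add zspan_neg zspan_natCast_smul
  zspan_intCast_smul zspan_sum)

universe u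

theorem cfdot_real_etaCol_even {G : Type u} [Group G] [Finite G] {W₁ W₂ : Subgroup G}
    (hc : CycTI W₁ W₂) {φ : G → ℂ} (hφ : IsVChar ⊤ φ) (rφ : conjFun φ = φ)
    (h1 : cfdot ⊤ φ (eta W₁ W₂ 1 1) = 0) :
    ∃ m : ℤ, cfdot ⊤ φ (∑ i, eta W₁ W₂ i 1) = 2 * m := by
  classical
  have ha : ∀ i, ∃ n : ℤ, cfdot ⊤ φ (eta W₁ W₂ i 1) = n := fun i =>
    hφ.exists_int_cfdot (cycTIiso_vchar hc i 1)
  choose a ha using ha
  have hN : cfdot ⊤ φ (∑ i, eta W₁ W₂ i 1) = ((∑ i, a i : ℤ) : ℂ) := by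
    rw [cfdot_sum_right]
    push_cast
    exact Finset.sum_congr rfl fun i _ => ha i
  have hi : ∀ i, a i⁻¹ = a i := fun i => by
    have := ha i⁻¹
    rw [← inv_one (G := W₂ →* ℂˣ), ← conjFun_eta hc, ← rφ, cfdot_conjFun,
      ← hφ.cfdot_comm (cycTIiso_vchar hc i 1), ha i] at this
    exact_mod_cast this.symm
  have h0 : a 1 = 0 := by
    have := ha 1
    rw [h1] at this
    exact_mod_cast this.symm
  have h2 : ((∑ i, a i : ℤ) : ZMod 2) = 0 := by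
    push_cast
    refine Finset.sum_involution (fun i _ => i⁻¹) (fun i _ => ?_) (fun i _ hn e => hn ?_)
      (fun i _ => Finset.mem_univ _) fun i _ => inv_inv i
    · rw [hi, ← two_mul]
      exact mul_eq_zero_of_left rfl _
    · by_cases e1 : i = 1
      · rw [e1, h0, Int.cast_zero]
      · exact absurd e (hom_inv_ne_self hc.W1_odd e1)
  obtain ⟨m, hm⟩ := (ZMod.intCast_zmod_eq_zero_iff_dvd _ 2).1 h2
  exact ⟨m, by rw [hN, hm]; push_cast; ring⟩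

theorem sum_eq_add_of_const {ι : Type*} [Fintype ι] {f : ι → ℝ} (i₀ : ι) {c : ℝ}
    (h : ∀ i, i ≠ i₀ → f i = c) : ∑ i, f i = f i₀ + (Fintype.card ι - 1) * c := by
  classical
  rw [← Finset.add_sum_erase _ _ (Finset.mem_univ i₀), Finset.sum_congr rfl
    (fun i hi => h i (Finset.ne_of_mem_erase hi)), Finset.sum_const,
    Finset.card_erase_of_mem (Finset.mem_univ i₀), Finset.card_univ, nsmul_eq_mul,
    Nat.cast_pred (Fintype.card_pos_iff.2 ⟨i₀⟩)]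

theorem int_bound_119 {p q x y : ℤ} (hp : 3 ≤ p) (hq : 3 ≤ q)
    (h : 1 + (p - 1) * y ^ 2 + (q - 1) * (x ^ 2 + (p - 1) * (x + y - 1) ^ 2) ≤ q) :
    (x = 1 ∧ y = 0) ∨ (x = 0 ∧ y = 1 ∧ p ≤ q) := by
  have hx := sq_nonneg x
  have hy := sq_nonneg y
  have h1 : 0 ≤ (p - 1) * y ^ 2 := mul_nonneg (by omega) hy
  have h2 : x ^ 2 + (p - 1) * (x + y - 1) ^ 2 ≤ 1 := by nlinarith
  have h3 : x + y - 1 = 0 := by
    by_contra e
    have : 1 ≤ (x + y - 1) ^ 2 := (one_le_sq_iff_one_le_abs _).2 (Int.one_le_abs e)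
    nlinarith
  rw [h3] at h h2
  by_cases e : y = 0
  · exact Or.inl ⟨by omega, e⟩
  have h4 : 1 ≤ y ^ 2 := (one_le_sq_iff_one_le_abs _).2 (Int.one_le_abs e)
  have h5 : x = 0 := by
    by_contra e
    have : 1 ≤ x ^ 2 := (one_le_sq_iff_one_le_abs _).2 (Int.one_le_abs e)
    nlinarith
  obtain rfl : y = 1 := by omega
  subst h5
  exact Or.inr ⟨rfl, rfl, by nlinarith⟩

variable {G : Type u} [Group G] [Finite G] {M W₁ U W₂ : Subgroup G}

local notation "HH" => fittingHallOf M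
local notation "H0" => fcoreKer M U
local notation "CC" => fcomplKer M U
local notation "KK" => (⁅M, M⁆ : Subgroup G)
local notation "qq" => Nat.card W₁
local notation "uu" => ubar M U
local notation "τ" => ftDade0 M
local notation "S1" => seqIndD ⁅M, M⁆ M ⁅M, M⁆ (fittingHallOf M ⊔ fcomplKer M U)
local notation "S2" => seqIndD ⁅M, M⁆ M (fittingHallOf M) (fcomplKer M U)
local notation "μ" => prTIred M W₁ W₂
local notation "η" => eta W₁ W₂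

theorem prTIred0_eq_Ind {L K : Subgroup G} (h : PrimeTI L K W₁ W₂) :
    prTIred L W₁ W₂ 1 = cfInd L K (cfOne K) := by
  rw [← cfInd_prTIres h, prTIres0 h]

/-- An irreducible character induced from `K` is not one of the `mu2_ i j`. -/
theorem cfdot_prTIirr_seqInd {L K : Subgroup G} (h : PrimeTI L K W₁ W₂) {ζ : G → ℂ}
    (hζ : ζ ∈ seqIndT K L) (hi : IsIrr L ζ) (i : W₁ →* ℂˣ) (j : W₂ →* ℂˣ) :
    cfdot L (prTIirr L W₁ W₂ i j) ζ = 0 := by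
  obtain ⟨θ, hθ, rfl⟩ := hζ
  rcases prTIres_irr_cases h hθ with ⟨k, rfl⟩ | ⟨-, h1⟩
  · rw [cfInd_prTIres h] at hi
    exact absurd hi (prTIred_not_irr h k)
  · exact (prTIirr_irr h i j).cfdot_of_ne hi (h1 i j).symm

theorem cfdot_prTIred_seqInd {L K : Subgroup G} (h : PrimeTI L K W₁ W₂) {ζ : G → ℂ}
    (hζ : ζ ∈ seqIndT K L) (hi : IsIrr L ζ) (j : W₂ →* ℂˣ) :
    cfdot L (prTIred L W₁ W₂ j) ζ = 0 := by
  rw [prTIred, cfdot_sum_left]
  exact Finset.sum_eq_zero fun i _ => cfdot_prTIirr_seqInd h hζ hi i j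

open scoped Classical in
theorem cfdot_etaCol (h : CycTI W₁ W₂) (k : W₂ →* ℂˣ) (i : W₁ →* ℂˣ) (j : W₂ →* ℂˣ) :
    cfdot ⊤ (∑ i', eta W₁ W₂ i' k) (eta W₁ W₂ i j) = if j = k then 1 else 0 := by
  split_ifs with e
  · rw [e, cfdot_sum_eta h]
  · exact cfdot_sum_eta_of_ne h (Ne.symm e) i

variable (hG : IsMinSimpleOddOrder G) (hM : IsCoatom M) (h : IsTypePWith M W₁ U W₂)
  (h2 : FTtype M ≠ 2)
include hG hM h h2

theorem FTtype34_Dade_dot {α β : G → ℂ} (hα : α ∈ CFon M KK^#) (hβ : β ∈ CFun M) :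
    cfdot ⊤ (τ α) (τ β) = cfdot M α β :=
  have hp := FTtype34_prDade hG hM h h2
  Dade_isometry hp.dade (CFon_mono (prDade_sub_A0 hp) hα) hβ

theorem FTtype34_Dade_dot' {α β : G → ℂ} (hα : α ∈ CFun M) (hβ : β ∈ CFon M KK^#) :
    cfdot ⊤ (τ α) (τ β) = cfdot M α β :=
  have hp := FTtype34_prDade hG hM h h2
  Dade_isometry' hp.dade hα (CFon_mono (prDade_sub_A0 hp) hβ)

theorem FTtype34_Dade_vchar {α : G → ℂ} (hv : IsVChar M α) (hα : α ∈ CFon M KK^#) :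
    IsVChar ⊤ (τ α) :=
  have hp := FTtype34_prDade hG hM h h2
  Dade_vchar hp.dade hv (CFon_mono (prDade_sub_A0 hp) hα).2

theorem FTtype34_S1_irr {ζ : G → ℂ} (hζ : ζ ∈ S1) : IsIrr M ζ ∧ ζ 1 = qq :=
  typeP_seqInd_der2_irr h (FTtype34_der2' hG hM h h2).le hζ

/-- The Dade image of the difference of two members of `𝒮₁` is orthogonal to the `η`. -/
theorem FTtype34_S1_sub_ortho {ζ ξ : G → ℂ} (hζ : ζ ∈ S1) (hξ : ξ ∈ S1) (i : W₁ →* ℂˣ)
    (j : W₂ →* ℂˣ) : cfdot ⊤ (τ (ζ - ξ)) (η i j) = 0 := by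
  by_cases e : ζ = ξ
  · rw [e, sub_self, map_zero, cfdot_zero_left]
  have h9 := FTtype34_P9 hG hM h h2
  obtain ⟨a1, a2⟩ := FTtype34_S1_irr hG hM h h2 hζ
  obtain ⟨b1, b2⟩ := FTtype34_S1_irr hG hM h h2 hξ
  refine prDade_ortho_eta_of_norm (FTtype34_prDade hG hM h h2) (a1.isVChar.sub b1.isVChar)
    (seqIndT_sub_on h9.K_normal (seqInd_subT hζ) (seqInd_subT hξ) (a2.trans b2.symm)) ?_ i j
  rw [cfnorm_sub_of_orth (a1.cfdot_of_ne b1 e), a1.cfnorm, b1.cfnorm]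
  norm_num

theorem FTtype34_mu_S2 {j : W₂ →* ℂˣ} (hj : j ≠ 1) : μ j ∈ S2 ∧ μ j 1 = (qq * uu : ℕ) := by
  have ht := FT_primeTI_hyp hG h
  have := typeP_reducible_core_Ind_prime hG hM h (FTtype5_exclusion hG hM) (FTtype34_prime hG hM h h2)
    (prTIres_irr ht j) (fun e => hj (prTIres_inj ht (e.trans (prTIres0 ht).symm)))
    (by rw [cfInd_prTIres ht]; exact prTIred_not_irr ht j)
  rw [cfInd_prTIres ht] at this
  have h1 := this.mem
  rw [FTtype34_fcoreKer hG hM h h2, bot_sup_eq] at h1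
  exact ⟨h1, this.one⟩

theorem FTtype34_S2_coherent : Coherent M S2 {1}ᶜ τ :=
  (Ptype_core_coherence hG hM h (FTtype5_exclusion hG hM)).mono (seqIndD_mono_right (by
    rw [FTtype34_fcoreKer hG hM h h2, bot_sup_eq]
    exact commutator_le_of_le le_rfl le_rfl))

theorem FTtype34_S1_notMem_S2 {ζ : G → ℂ} (hζ : ζ ∈ S1) : ζ ∉ S2 :=
  have h9 := FTtype34_P9 hG hM h h2
  seqIndD_disjoint h9.K_le h9.HC_normal.norm hζ le_sup_left h9.H_leK

theorem FTtype34_bridge0 {ζ : G → ℂ} (hζ : ζ ∈ S1) : IsVChar M (μ 1 - ζ) ∧ μ 1 - ζ ∈ CFon M KK^# ∧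
    cfdot M (μ 1 - ζ) (μ 1 - ζ) = qq + 1 := by
  have h9 := FTtype34_P9 hG hM h h2
  have ht := FT_primeTI_hyp hG h
  obtain ⟨a1, a2⟩ := FTtype34_S1_irr hG hM h h2 hζ
  have h0 := cfdot_prTIred_seqInd ht (seqInd_subT hζ) a1 1
  refine ⟨(prTIred_vchar ht 1).sub a1.isVChar, ?_, ?_⟩
  · rw [prTIred0_eq_Ind ht]
    exact cfInd1_sub_lin_on h9.K_normal (seqInd_subT hζ) (by rw [a2, h9.relIndex_K])
  · rw [cfdot_sub_left, cfdot_sub_right, cfdot_sub_right, h0, cfdot_symm_zero h0, a1.cfdot_self,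
      cfdot_prTIred ht, if_pos rfl]
    ring

/-- (11.8.1) -/
theorem FTtype34_constants : ∃ n : ℕ, T345Const M W₁ W₂ uu 1 n ∧ Even n ∧ 0 < n ∧ uu = n * qq + 1 ∧
    ∀ S : Finset (G → ℂ), ↑S = S1 → S.card = n := by
  have h9 := FTtype34_P9 hG hM h h2
  have ht := FT_primeTI_hyp hG h
  obtain ⟨d, δ, n, hc⟩ := FTtype345_constants hG hM h h2
  obtain ⟨j, hj⟩ := exists_hom_ne_one_of_ne_bot (isMulCommutative_of_isCyclic ht.W2_cyc) ht.W2_ne
  have hq := h9.three_le_q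
  have hd : d = uu := by
    have h1 := (FTtype34_mu_S2 hG hM h h2 hj).2
    rw [prTIred_1 ht, hc.deg 1 j hj] at h1
    exact Nat.eq_of_mul_eq_mul_left h9.q_pos (by exact_mod_cast h1)
  subst hd
  have hδ : δ = 1 := by
    refine hc.pm.resolve_right fun e => ?_
    have h1 := hc.ratio
    have h3 := (Nat.modEq_iff_dvd.1 h9.u_modEq)
    rw [h1, e] at h3
    have h4 : (qq : ℤ) ∣ 2 := by
      have := dvd_add h3 (dvd_mul_left (qq : ℤ) n)
      rwa [show ((1 : ℕ) : ℤ) - (n * qq + -1) + n * qq = 2 by push_cast; ring] at this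
    have := Int.le_of_dvd two_pos h4
    omega
  subst hδ
  have hu : uu = n * qq + 1 := by exact_mod_cast hc.ratio
  refine ⟨n, hc, ?_, ?_, hu, fun S hS => ?_⟩
  · have h1 := h9.u_odd
    rw [hu, Nat.odd_add_one, Nat.not_odd_iff_even, Nat.even_mul] at h1
    exact h1.resolve_right (Nat.not_even_iff_odd.2 h9.q_odd)
  · have := h9.one_lt_u
    rcases Nat.eq_zero_or_pos n with rfl | e
    · omega
    · exact e
  · have h1 := sum_seqIndD_square' h9.K_normal h9.K_normal h9.HC_normal le_rfl h9.HC_leK S hS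
    rw [Finset.sum_congr rfl (g := fun _ => (qq : ℂ) ^ 2) (fun ξ hξ => by
      obtain ⟨a1, a2⟩ := FTtype34_S1_irr hG hM h h2 (hS ▸ hξ : ξ ∈ S1)
      rw [a1.cfnorm, a2]; simp), Finset.sum_const, nsmul_eq_mul, h9.relIndex_K, h9.relIndex_HC_K,
      hu] at h1
    have h3 : (qq : ℂ) ^ 2 ≠ 0 := pow_ne_zero _ (Nat.cast_ne_zero.2 h9.q_pos.ne')
    have h4 : (S.card : ℂ) = n := mul_right_cancel₀ h3 (by rw [h1]; push_cast; ring)
    exact_mod_cast h4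

open scoped Classical in
/-- (11.8) -/
theorem FTtype34_not_ortho_cycTIiso {ζ : G → ℂ}
    (hζ : ζ ∈ seqIndD ⁅M, M⁆ M ⁅M, M⁆ (fittingHallOf M ⊔ fcomplKer M U)) :
    ¬ ∀ i j, cfdot ⊤ (ftDade0 M (prTIred M W₁ W₂ 1 - ζ)) (eta W₁ W₂ i j) =
      if j = 1 then 1 else 0 := by
  intro hb
  have h9 := FTtype34_P9 hG hM h h2
  have hp := FTtype34_prDade hG hM h h2
  have hc := hp.cycTI
  have ht := hp.prTI
  have hS0 := FTtype34_subcoherent hG hM h h2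
  have hs1 : S1 ⊆ seqIndD KK M KK ⊥ := seqIndD_mono_right bot_le
  have hs2 : S2 ⊆ seqIndD KK M KK ⊥ := seqInd_sub1 h9.H_leK
  have hirr := fun ξ (hξ : ξ ∈ S1) => FTtype34_S1_irr hG hM h h2 hξ
  obtain ⟨hζi, hζ1⟩ := hirr ζ hζ
  obtain ⟨n, hn, hev, hn0, hu, hcard⟩ := FTtype34_constants hG hM h h2
  obtain ⟨S, hS⟩ := exists_finset_seqIndD KK M KK (HH ⊔ CC)
  replace hcard := hcard S hS
  have hmS : ∀ {ξ}, ξ ∈ S ↔ ξ ∈ S1 := by rw [← hS]; exact Finset.mem_coe.symm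
  obtain ⟨hφv, hφon, hφn⟩ := FTtype34_bridge0 hG hM h h2 hζ
  have hsub : ∀ ξ ∈ S1, ξ - ζ ∈ CFon M KK^# := fun ξ hξ =>
    seqIndT_sub_on h9.K_normal (seqInd_subT hξ) (seqInd_subT hζ) ((hirr ξ hξ).2.trans hζ1.symm)
  have hμζ : ∀ ξ ∈ S1, ∀ i j, cfdot M (prTIirr M W₁ W₂ i j) ξ = 0 := fun ξ hξ =>
    cfdot_prTIirr_seqInd ht (seqInd_subT hξ) (hirr ξ hξ).1
  have hμζ' : ∀ ξ ∈ S1, ∀ j, cfdot M ξ (μ j) = 0 := fun ξ hξ j =>
    cfdot_symm_zero (cfdot_prTIred_seqInd ht (seqInd_subT hξ) (hirr ξ hξ).1 j)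
  -- (11.8.4)
  obtain ⟨E, hE⟩ : ∃ E, E = ∑ i, η i 1 := ⟨_, rfl⟩
  have hEv : IsVChar ⊤ E := hE ▸ isVChar_sum _ _ fun i _ => cycTIiso_vchar hc i 1
  have hoE : ∀ {α : G → ℂ}, (∀ i j, cfdot ⊤ α (η i j) = 0) → cfdot ⊤ α E = 0 := fun hα => by
    rw [hE, cfdot_sum_right]; exact Finset.sum_eq_zero fun i _ => hα i 1
  obtain ⟨χ, hχ⟩ : ∃ χ, χ = E - τ (μ 1 - ζ) := ⟨_, rfl⟩
  have hτφ := FTtype34_Dade_vchar hG hM h h2 hφv hφon
  have hχv : IsVChar ⊤ χ := hχ ▸ hEv.sub hτφ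
  have hχη : ∀ i j, cfdot ⊤ χ (η i j) = 0 := fun i j => by
    rw [hχ, cfdot_sub_left, hE, cfdot_etaCol hc, hb, sub_self]
  have hφχ : cfdot ⊤ (τ (μ 1 - ζ)) χ = -1 := by
    rw [hχ, cfdot_sub_right, FTtype34_Dade_dot hG hM h h2 hφon hφv.cfun, hφn, hE, cfdot_sum_right]
    simp only [hb, if_true, Finset.sum_const, Finset.card_univ, hc.card_hom1, nsmul_eq_mul, mul_one]
    ring
  have hχn : cfdot ⊤ χ χ = 1 := by
    nth_rewrite 1 [hχ]
    rw [cfdot_sub_left, hφχ, cfdot_symm_zero (hoE hχη)]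
    ring
  have hpiv : ∀ ξ ∈ S1, ξ ≠ ζ → cfdot ⊤ (τ (ξ - ζ)) χ = -1 := fun ξ hξ hne => by
    rw [hχ, cfdot_sub_right, hoE (FTtype34_S1_sub_ortho hG hM h h2 hξ hζ),
      FTtype34_Dade_dot hG hM h h2 (hsub ξ hξ) hφv.cfun, cfdot_sub_left, cfdot_sub_right,
      cfdot_sub_right, hμζ' ξ hξ, hμζ' ζ hζ, (hirr ξ hξ).1.cfdot_of_ne hζi hne, hζi.cfdot_self]
    ring
  have hpiv' : ∀ ξ ∈ S1, ξ ≠ ζ → ∃ a : ℤ, ξ 1 = a * ζ 1 ∧
      rdot ⊤ (τ (ξ - (a : ℂ) • ζ)) χ = -a * rdot M ζ ζ := fun ξ hξ hne =>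
    ⟨1, by rw [(hirr ξ hξ).2, hζ1]; simp, by
      rw [Int.cast_one, one_smul, rdot_def, hpiv ξ hξ hne, irr_rdot_self hζi]; simp⟩
  have hχn' : rdot ⊤ χ χ = rdot M ζ ζ := by rw [rdot_def, hχn, irr_rdot_self hζi, Complex.one_re]
  obtain ⟨τ₁, hτ₁, hτ₁ζ⟩ := (hS0.mono hs1 fun _ => conj_seqInd).pivot_coherence_with hζ hχv hpiv' hχn'
  have hτ₁η : ∀ ξ ∈ S1, ∀ i j, cfdot ⊤ (τ₁ ξ) (η i j) = 0 := fun ξ hξ =>
    H65.PF.coherent_ortho_cycTIiso hp hs1 hτ₁ hξ (conj_seqInd hξ) (hS0.conj_ne ξ (hs1 hξ)) (hirr ξ hξ).1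
  -- (11.8.2)
  obtain ⟨j, hj⟩ := exists_hom_ne_one_of_ne_bot (isMulCommutative_of_isCyclic ht.W2_cyc) ht.W2_ne
  obtain ⟨α, hα⟩ : ∃ α, α = bridge345 M W₁ W₂ 1 n ζ 1 j := ⟨_, rfl⟩
  have hα' : α = prTIirr M W₁ W₂ 1 j - prTIirr M W₁ W₂ 1 1 - (n : ℂ) • ζ := by
    rw [hα, bridge345_def, Int.cast_one, one_smul]
  have hαv : IsVChar M α := hα ▸ vchar_FTtype345_bridge hG hM h h2 hn hζi (hs1 hζ) hζ1 1 j
  have hταv : IsVChar ⊤ (τ α) := hα ▸ vchar_Dade_FTtype345_bridge hG hM h h2 hn hζi (hs1 hζ) hζ1 1 hj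
  have hταn : rdot ⊤ (τ α) (τ α) = 2 + (n : ℝ) ^ 2 :=
    hα ▸ norm_FTtype345_bridge hG hM h h2 hn hζi (hs1 hζ) hζ1 1 hj
  obtain ⟨a, ha⟩ : ∃ a : ℤ, cfdot ⊤ (τ α) χ = a - n := by
    obtain ⟨c, hc⟩ := hταv.exists_int_cfdot hχv
    exact ⟨c + n, by rw [hc]; push_cast; ring⟩
  have hαξ : ∀ ξ ∈ S1, ξ ≠ ζ → cfdot ⊤ (τ α) (τ₁ ξ) = a := fun ξ hξ hne => by
    have h1 := FTtype34_Dade_dot' hG hM h h2 hαv.cfun (hsub ξ hξ)
    rw [← hτ₁.agree' _ (zspan_sub (mem_zspan_self hξ) (mem_zspan_self hζ)) ((hsub ξ hξ).2 1 (by simp)),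
      map_sub, cfdot_sub_right, hτ₁ζ, ha] at h1
    rw [hα'] at h1
    simp only [cfdot_sub_left, cfdot_sub_right, cfdot_smul_left, hμζ ξ hξ, hμζ ζ hζ, hζi.cfdot_self,
      hζi.cfdot_of_ne (hirr ξ hξ).1 hne.symm] at h1
    rw [← hα'] at h1
    linear_combination h1
  have hτ₁o : ∀ ξ ∈ S, ∀ ξ' ∈ S, ξ ≠ ξ' → cfdot ⊤ (τ₁ ξ) (τ₁ ξ') = 0 := fun ξ hξ ξ' hξ' hne => by
    rw [hτ₁.isom _ (hmS.1 hξ) _ (hmS.1 hξ'), (hirr _ (hmS.1 hξ)).1.cfdot_of_ne (hirr _ (hmS.1 hξ')).1 hne]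
  have hτ₁n : ∀ ξ ∈ S, cfdot ⊤ (τ₁ ξ) (τ₁ ξ) = 1 := fun ξ hξ => by
    rw [hτ₁.isom _ (hmS.1 hξ) _ (hmS.1 hξ), (hirr _ (hmS.1 hξ)).1.cfdot_self]
  have hB : (a - n) ^ 2 + (n - 1) * a ^ 2 ≤ 2 + (n : ℤ) ^ 2 := by
    have h1 := rdot_bessel_on S τ₁ (fun ξ hξ ξ' hξ' hne => rdot_eq_zero_of_dot (hτ₁o ξ hξ ξ' hξ' hne))
      (fun ξ hξ => by rw [rdot_def, hτ₁n ξ hξ, Complex.one_re]) (τ α)
    rw [hταn, ← Finset.add_sum_erase _ _ (hmS.2 hζ), Finset.sum_congr rfl (g := fun _ => (a : ℝ) ^ 2)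
      (fun ξ hξ => by
        rw [rdot_def, hαξ ξ (hmS.1 (Finset.mem_of_mem_erase hξ)) (Finset.ne_of_mem_erase hξ),
          Complex.intCast_re]), Finset.sum_const, Finset.card_erase_of_mem (hmS.2 hζ), hcard,
      nsmul_eq_mul, Nat.cast_pred hn0, rdot_def, hτ₁ζ, ha] at h1
    simp only [Complex.sub_re, Complex.intCast_re, Complex.natCast_re] at h1
    exact_mod_cast h1
  -- (11.8.5)
  have hαE : cfdot ⊤ (τ α) E = a - 1 := by
    have h1 := FTtype34_Dade_dot' hG hM h h2 hαv.cfun hφon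
    rw [show τ (μ 1 - ζ) = E - χ by rw [hχ]; abel, cfdot_sub_right, ha] at h1
    rw [hα'] at h1
    simp only [cfdot_sub_left, cfdot_sub_right, cfdot_smul_left, hμζ ζ hζ, hμζ' ζ hζ, hζi.cfdot_self,
      cfdot_prTIirr_red ht, if_neg hj, if_true] at h1
    rw [← hα'] at h1
    linear_combination h1
  have hηE : ∀ k, cfdot ⊤ (η 1 k) E = if k = 1 then 1 else 0 := fun k => by
    rw [(cycTIiso_vchar hc 1 k).cfdot_comm hEv, hE, cfdot_etaCol hc]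
  obtain ⟨m, hm⟩ : ∃ m : ℤ, a = 2 * m := by
    have hcζ := conj_seqInd hζ
    have e1 : τ (prTIirr M W₁ W₂ 1 j⁻¹ - prTIirr M W₁ W₂ 1 j) = η 1 j⁻¹ - η 1 j := by
      have := prDade_sub_TIirr hp 1 (inv_ne_one.2 hj) hj
        ((hn.deg 1 _ (inv_ne_one.2 hj)).trans (hn.deg 1 j hj).symm)
      rwa [hn.sign _ (inv_ne_one.2 hj), Int.cast_one, one_smul] at this
    have e2 : τ (ζ - conjFun ζ) = χ - τ₁ (conjFun ζ) := by
      rw [← hτ₁.agree' _ (seqInd_sub_conj_zchar hζ) (seqInd_sub_conj_one hζ), map_sub, hτ₁ζ]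
    have e3 : conjFun α = α + (prTIirr M W₁ W₂ 1 j⁻¹ - prTIirr M W₁ W₂ 1 j) +
        (n : ℂ) • (ζ - conjFun ζ) := by
      rw [hα', conjFun_sub, conjFun_sub, conjFun_smul, ← prTIirr_inv ht, ← prTIirr_inv ht, inv_one,
        inv_one, map_natCast, smul_sub]
      abel
    have e4 : conjFun (τ α) = τ α + (η 1 j⁻¹ - η 1 j) + (n : ℂ) • (χ - τ₁ (conjFun ζ)) := by
      rw [← e1, ← e2, ← map_smul, ← map_add, ← map_add, ← e3]
      exact (Dade_conjC α).symm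
    have e5 : conjFun χ = τ₁ (conjFun ζ) := by
      rw [← hτ₁ζ]
      exact cfConjC_Dade_coherent' hp.dade hτ₁ hζi hζ hcζ (hS0.conj_ne ζ (hs1 hζ))
    obtain ⟨m, hm⟩ := cfdot_real_etaCol_even hc
      (φ := τ α - η 1 j + η 1 1 + (n : ℂ) • χ)
      (((hταv.sub (cycTIiso_vchar hc 1 j)).add (cycTIiso_vchar hc 1 1)).add (hχv.natCast_smul n))
      (by
        rw [conjFun_add, conjFun_add, conjFun_sub, conjFun_smul, e4, e5, conjFun_eta hc, conjFun_eta hc,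
          inv_one, inv_one, map_natCast, smul_sub]
        abel)
      (by
        have e6 : cfdot ⊤ (τ α) (η 1 1) = -1 := by
          rw [eta_one_one hc]
          refine (cfdot_Dade_one hp.dade
            (hα ▸ supp_FTtype345_bridge hG hM h h2 hn hζi (hs1 hζ) hζ1 1 hj)).trans ?_
          rw [hα', ← prTIirr00 ht]
          simp only [cfdot_sub_left, cfdot_smul_left, cfdot_symm_zero (hμζ ζ hζ 1 1), cfdot_prTIirr ht]
          simp [hj]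
        simp only [cfdot_add_left, cfdot_sub_left, cfdot_smul_left, e6, hχη, cfdot_eta_self hc,
          cfdot_eta_of_ne hc (Or.inr hj)]
        ring)
    rw [← hE] at hm
    simp only [cfdot_add_left, cfdot_sub_left, cfdot_smul_left, hαE, hηE, hoE hχη, if_neg hj,
      if_true] at hm
    exact ⟨m, by exact_mod_cast (show (a : ℂ) = 2 * m by linear_combination hm)⟩
  have ha0 : a = 0 := by
    obtain ⟨k, hk⟩ := hev
    have hn2 : (2 : ℤ) ≤ n := by omega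
    have h1 : m = 0 ∨ m = 1 := by
      by_contra h1
      have h3 : 2 ≤ m * (m - 1) := by rcases (show m ≤ -1 ∨ 2 ≤ m by omega) with e | e <;> nlinarith
      rw [hm] at hB
      nlinarith
    rcases h1 with rfl | rfl
    · omega
    obtain ⟨Y, hY⟩ : ∃ Y, Y = (2 : ℂ) • ∑ ξ ∈ S, τ₁ ξ - (n : ℂ) • τ₁ ζ := ⟨_, rfl⟩
    have hYξ : ∀ ξ ∈ S, cfdot ⊤ (τ α - Y) (τ₁ ξ) = 0 := fun ξ hξ => by
      rw [hY, cfdot_sub_left, cfdot_sub_left, cfdot_smul_left, cfdot_smul_left, cfdot_sum_left,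
        Finset.sum_eq_single ξ (fun ξ' h' hne => hτ₁o ξ' h' ξ hξ hne) (fun e => absurd hξ e), hτ₁n ξ hξ]
      by_cases e : ξ = ζ
      · rw [e, hτ₁n ζ (hmS.2 hζ), hτ₁ζ, ha, hm]; push_cast; ring
      · rw [hτ₁o ζ (hmS.2 hζ) ξ hξ (Ne.symm e), hαξ ξ (hmS.1 hξ) e, hm]; push_cast; ring
    have hYz : Y ∈ zspan (τ₁ '' S1) := by
      rw [hY]
      refine zspan_sub ?_ (zspan_natCast_smul (mem_zspan_self (Set.mem_image_of_mem τ₁ hζ)) n)
      exact_mod_cast zspan_natCast_smul (zspan_sum S _ fun ξ hξ => mem_zspan_self (Set.mem_image_of_mem τ₁ (hmS.1 hξ))) 2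
    have hYo : cfdot ⊤ Y (τ α - Y) = 0 := dot_eq_zero_of_zspan (by
      rintro _ ⟨ξ, hξ, rfl⟩
      exact cfdot_symm_zero (hYξ ξ (hmS.2 hξ))) hYz
    have hYn : cfnorm ⊤ Y = (n : ℝ) ^ 2 := by
      refine cfnorm_eq_of_cfdot ?_
      have e1 : cfdot ⊤ (τ α) Y = cfdot ⊤ Y Y := by
        have := cfdot_symm_zero hYo
        rwa [cfdot_sub_left, sub_eq_zero] at this
      rw [← e1, hY, cfdot_sub_right, cfdot_natCast_smul_right, show (2 : ℂ) = ((2 : ℕ) : ℂ) by simp,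
        cfdot_natCast_smul_right, cfdot_sum_right, ← Finset.add_sum_erase _ _ (hmS.2 hζ),
        Finset.sum_congr rfl (g := fun _ => (a : ℂ)) (fun ξ hξ =>
          hαξ ξ (hmS.1 (Finset.mem_of_mem_erase hξ)) (Finset.ne_of_mem_erase hξ)), Finset.sum_const,
        Finset.card_erase_of_mem (hmS.2 hζ), hcard, nsmul_eq_mul, Nat.cast_pred hn0, hτ₁ζ, ha, hm]
      push_cast; ring
    have hX := FTtype345_bridge_coherence hG hM h h2 hn hζi (hs1 hζ) hζ1 hτ₁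
      (seqInd_conjC_subset le_rfl bot_le) (fun ξ hξ => (hirr ξ hξ).1) 1 hj (X := τ α - Y) (Y := Y)
      (by rw [← hα, sub_add_cancel]) hYz hYo hYn
    have hYE : cfdot ⊤ Y E = 0 := dot_eq_zero_of_zspan (by
      rintro _ ⟨ξ, hξ, rfl⟩
      exact hoE (hτ₁η ξ hξ)) hYz
    have := congrArg (fun f => cfdot ⊤ f E) hX
    simp only [cfdot_sub_left, cfdot_smul_left, hαE, hYE, hηE, if_neg hj, if_true] at this
    exact_mod_cast (show (a : ℂ) = 0 by push_cast at this; linear_combination this)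
  -- (11.8.6)
  have hαi : ∀ i, cfdot ⊤ (τ (bridge345 M W₁ W₂ 1 n ζ i j)) χ = -n := fun i => by
    have e1 := prDade_sub2_TIirr hp i j
    rw [hn.sign j hj, Int.cast_one, one_smul, one_smul] at e1
    rw [show bridge345 M W₁ W₂ 1 n ζ i j = α + (prTIirr M W₁ W₂ i j - prTIirr M W₁ W₂ 1 j -
      prTIirr M W₁ W₂ i 1 + prTIirr M W₁ W₂ 1 1) by
        rw [hα', bridge345_def, Int.cast_one, one_smul]; abel, map_add, cfdot_add_left, ha, ha0]
    erw [e1]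
    simp only [cfdot_add_left, cfdot_sub_left, fun i j => cfdot_symm_zero (hχη i j)]
    simp
  have hμχ : cfdot ⊤ (τ (μ j - (uu : ℂ) • ζ)) χ = -uu := by
    have e1 := sum_FTtype345_bridge hG hM h h2 hn hζi (hs1 hζ) hζ1 j
    rw [Int.cast_one, one_smul, eq_sub_iff_add_eq] at e1
    rw [← e1, map_add, map_sum, cfdot_add_left, cfdot_sum_left, hφχ, hu]
    simp only [hαi, Finset.sum_const, Finset.card_univ, hc.card_hom1, nsmul_eq_mul]
    push_cast; ring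
  obtain ⟨τ₂, hτ₂⟩ := FTtype34_S2_coherent hG hM h h2
  obtain ⟨hμ2, hμ1⟩ := FTtype34_mu_S2 hG hM h h2 hj
  have hun : seqIndD KK M KK CC = S1 ∪ S2 := by
    rw [← seqIndD_union le_sup_right h9.HC_leK, seqIndDY']
  refine FTtype34_noncoherence' hG hM h h2 ((hS0.mono (seqIndD_mono_right bot_le)
    fun _ => conj_seqInd).pivot_coherence (hun ▸ Or.inl hζ) hχv (fun ξ hξ hne => ?_) hχn')
  rw [hun] at hξ
  rcases hξ with hξ | hξ
  · exact hpiv' ξ hξ hne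
  obtain ⟨b, -, hb1⟩ := seqInd_degree hξ
  rw [h9.relIndex_K] at hb1
  refine ⟨b, by rw [hb1, hζ1]; simp, ?_⟩
  have hz : (uu : ℂ) • ξ - (b : ℂ) • μ j ∈ zspan S2 :=
    zspan_sub (zspan_natCast_smul (mem_zspan_self hξ) _) (zspan_natCast_smul (mem_zspan_self hμ2) _)
  have e1 : cfdot ⊤ (τ ((uu : ℂ) • ξ - (b : ℂ) • μ j)) χ = 0 := by
    rw [← hτ₂.agree' _ hz (by simp only [Pi.sub_apply, Pi.smul_apply, hb1, hμ1, smul_eq_mul]; push_cast; ring),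
      ← hτ₁ζ]
    exact hS0.coherent_ortho hs2 (fun _ => conj_seqInd) hs1 (fun _ => conj_seqInd) hτ₂ hτ₁
      (fun _ => FTtype34_S1_notMem_S2 hG hM h h2) hz (mem_zspan_self hζ)
  have e2 : (uu : ℂ) * cfdot ⊤ (τ (ξ - (b : ℂ) • ζ)) χ = uu * -b := by
    rw [← cfdot_smul_left, ← map_smul, show (uu : ℂ) • (ξ - (b : ℂ) • ζ) =
      ((uu : ℂ) • ξ - (b : ℂ) • μ j) + (b : ℂ) • (μ j - (uu : ℂ) • ζ) by module, map_add, map_smul,
      cfdot_add_left, cfdot_smul_left, e1, hμχ]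
    ring
  rw [Int.cast_natCast, rdot_def, mul_left_cancel₀ (Nat.cast_ne_zero.2 h9.u_pos.ne') e2,
    irr_rdot_self hζi]
  simp

open scoped Classical in
/-- (11.9)(a), (b) for one `ζ` -/
theorem FTtype34_bridge0_eta {ζ : G → ℂ} (hζ : ζ ∈ S1) :
    (∀ i j, cfdot ⊤ (τ (μ 1 - ζ)) (η i j) = if i = 1 then 1 else 0) ∧ Nat.card W₂ < qq := by
  have h9 := FTtype34_P9 hG hM h h2
  have hp := FTtype34_prDade hG hM h h2
  have hc := hp.cycTI
  have ht := hp.prTI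
  obtain ⟨hζi, hζ1⟩ := FTtype34_S1_irr hG hM h h2 hζ
  obtain ⟨hφv, hφon, hφn⟩ := FTtype34_bridge0 hG hM h h2 hζ
  have hτφ := FTtype34_Dade_vchar hG hM h h2 hφv hφon
  have h0 := cfdot_prTIred_seqInd ht (seqInd_subT hζ) hζi 1
  have a11 : cfdot ⊤ (τ (μ 1 - ζ)) (η 1 1) = 1 := by
    rw [eta_one_one hc]
    refine (cfdot_Dade_one hp.dade (CFon_mono (prDade_sub_A0 hp) hφon)).trans ?_
    rw [← prTIirr00 ht, cfdot_sub_left, (prTIred_vchar ht 1).cfdot_comm (prTIirr_irr ht 1 1).isVChar,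
      cfdot_prTIirr_red ht, cfdot_symm_zero (cfdot_prTIirr_seqInd ht (seqInd_subT hζ) hζi 1 1)]
    simp
  have haut : ∀ (σ : ℂ →+* ℂ) i j, cfdot ⊤ (τ (μ 1 - ζ)) (η (homAut σ i) (homAut σ j)) =
      cfdot ⊤ (τ (μ 1 - ζ)) (η i j) := fun σ i j => by
    have e1 : cfAut σ (τ (μ 1 - ζ)) = τ (μ 1 - ζ) + τ (ζ - cfAut σ ζ) := by
      refine (Dade_aut σ _).symm.trans ?_
      rw [← map_add, sub_add_sub_cancel, cfAut_sub, ← prTIred_aut ht, homAut_one]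
      rfl
    rw [← hτφ.cfdot_cfAut (cycTIiso_vchar hc i j) σ, cfAut_eta hc, e1, cfdot_add_left,
      FTtype34_S1_sub_ortho hG hM h h2 hζ (cfAut_seqInd σ hζ), add_zero]
  obtain ⟨i₀, hi₀⟩ := exists_hom_ne_one_of_ne_bot (isMulCommutative_of_isCyclic ht.W1_cyc) ht.W1_ne
  obtain ⟨j₀, hj₀⟩ := exists_hom_ne_one_of_ne_bot (isMulCommutative_of_isCyclic ht.W2_cyc) ht.W2_ne
  obtain ⟨x, hx⟩ := hτφ.exists_int_cfdot (cycTIiso_vchar hc i₀ 1)
  obtain ⟨y, hy⟩ := hτφ.exists_int_cfdot (cycTIiso_vchar hc 1 j₀)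
  have ai : ∀ i, i ≠ 1 → cfdot ⊤ (τ (μ 1 - ζ)) (η i 1) = x := fun i hi => by
    obtain ⟨σ, h1, h3⟩ := exists_aut_of_prime_W2 hc.coprime.symm h9.prime hi₀ hi
    rw [← hx, ← haut σ i₀ 1, h1, h3]
  have aj : ∀ j, j ≠ 1 → cfdot ⊤ (τ (μ 1 - ζ)) (η 1 j) = y := fun j hj => by
    obtain ⟨σ, h1, h3⟩ := exists_aut_of_prime_W2 hc.coprime (FTtype34_prime hG hM h h2) hj₀ hj
    rw [← hy, ← haut σ 1 j₀, h1, h3]
  have aij : ∀ i j, i ≠ 1 → j ≠ 1 → cfdot ⊤ (τ (μ 1 - ζ)) (η i j) = (x + y - 1 : ℤ) := fun i j hi hj => by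
    have := cycTIiso_cfdot_exchange hc hτφ.cfun
      (H65.PF.prDade_vanish_cycV hp (CFon_mono Set.sdiff_subset hφon)) i 1 j 1
    erw [a11, ai i hi, aj j hj] at this
    push_cast
    linear_combination this
  have hcζ := conj_seqInd hζ
  obtain ⟨hci, hc1⟩ := FTtype34_S1_irr hG hM h h2 hcζ
  have hne : conjFun ζ ≠ ζ := (FTtype34_subcoherent hG hM h h2).conj_ne ζ (seqIndD_mono_right bot_le hζ)
  have hon := seqIndT_sub_on h9.K_normal (seqInd_subT hζ) (seqInd_subT hcζ) (hζ1.trans hc1.symm)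
  obtain ⟨β, hβ⟩ : ∃ β, β = μ 1 - ζ + ((1 / 2 : ℝ) : ℂ) • (ζ - conjFun ζ) := ⟨_, rfl⟩
  have hβon : β ∈ CFon M KK^# := hβ ▸ Submodule.add_mem _ hφon (Submodule.smul_mem _ _ hon)
  have hβη : ∀ i j, cfdot ⊤ (τ β) (η i j) = cfdot ⊤ (τ (μ 1 - ζ)) (η i j) := fun i j => by
    rw [hβ, map_add, map_smul, cfdot_add_left, cfdot_smul_left,
      FTtype34_S1_sub_ortho hG hM h h2 hζ hcζ, mul_zero, add_zero]
  have hβn : cfdot ⊤ (τ β) (τ β) = ((qq + 1 / 2 : ℝ) : ℂ) := by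
    have h1 := cfdot_prTIred_seqInd ht (seqInd_subT hcζ) hci 1
    rw [FTtype34_Dade_dot hG hM h h2 hβon hβon.1, hβ]
    simp only [cfdot_add_left, cfdot_add_right, cfdot_smul_left, cfdot_ofReal_smul_right, cfdot_sub_left,
      cfdot_sub_right, h0, h1, cfdot_symm_zero h0, cfdot_symm_zero h1, hζi.cfdot_self, hci.cfdot_self,
      hci.cfdot_of_ne hζi hne, hζi.cfdot_of_ne hci hne.symm, cfdot_prTIred ht, if_true]
    push_cast; ring
  have hB := rdot_bessel_on Finset.univ (fun k : (W₁ →* ℂˣ) × (W₂ →* ℂˣ) => η k.1 k.2)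
    (fun k _ l _ hne => rdot_eq_zero_of_dot (cfdot_eta_of_ne hc (not_and_or.1 fun e =>
      hne (Prod.ext e.1 e.2)))) (fun k _ => by rw [rdot_def, cfdot_eta_self hc, Complex.one_re]) (τ β)
  rw [rdot_of_dot hβn, Fintype.sum_prod_type, sum_eq_add_of_const 1
    (c := (x : ℝ) ^ 2 + (Nat.card W₂ - 1) * ((x + y - 1 : ℤ) : ℝ) ^ 2) (fun i hi => by
      rw [sum_eq_add_of_const 1 (fun j hj => by rw [rdot_def, hβη, aij i j hi hj, Complex.intCast_re]),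
        rdot_def, hβη, ai i hi, Complex.intCast_re, hc.card_hom2]),
    sum_eq_add_of_const 1 (fun j hj => by rw [rdot_def, hβη, aj j hj, Complex.intCast_re]),
    rdot_def, hβη, a11, hc.card_hom1, hc.card_hom2, Complex.one_re, one_pow] at hB
  have hB' : 1 + ((Nat.card W₂ : ℤ) - 1) * y ^ 2 + ((qq : ℤ) - 1) *
      (x ^ 2 + ((Nat.card W₂ : ℤ) - 1) * (x + y - 1) ^ 2) < qq + 1 := by
    have := hB.trans_lt (show (qq + 1 / 2 : ℝ) < qq + 1 by linarith)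
    exact_mod_cast this
  rcases int_bound_119 (by exact_mod_cast hc.three_le_W2) (by exact_mod_cast hc.three_le_W1)
    (Int.lt_add_one_iff.1 hB') with ⟨rfl, rfl⟩ | ⟨rfl, rfl, hpq⟩
  · refine absurd (fun i j => ?_) (FTtype34_not_ortho_cycTIiso hG hM h h2 hζ)
    by_cases hi : i = 1 <;> by_cases hj : j = 1
    · rw [hi, hj, a11, if_pos rfl]
    · rw [hi, aj j hj, if_neg hj, Int.cast_zero]
    · rw [hj, ai i hi, if_pos rfl, Int.cast_one]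
    · rw [aij i j hi hj, if_neg hj]; simp
  refine ⟨fun i j => ?_, lt_of_le_of_ne (by exact_mod_cast hpq) hc.card_ne.symm⟩
  by_cases hi : i = 1 <;> by_cases hj : j = 1
  · rw [hi, hj, a11, if_pos rfl]
  · rw [hi, aj j hj, if_pos rfl, Int.cast_one]
  · rw [hj, ai i hi, if_neg hi, Int.cast_zero]
  · rw [aij i j hi hj, if_neg hi]; simp

theorem FTtype34_exists_S1 : ∃ ζ, ζ ∈ S1 := by
  have h9 := FTtype34_P9 hG hM h h2
  obtain ⟨ζ, hζ, -⟩ := exists_linInd (L := M) (isSolvable_of_le h9.solM h9.K_le)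
    (M := HH ⊔ CC) ⟨h9.HC_leK, h9.K_le.trans h9.HC_normal.norm⟩ fun e => by
      have := h9.relIndex_HC_K
      rw [e, relIndex_self] at this
      exact h9.one_lt_u.ne this
  exact ⟨ζ, hζ⟩

/-- (11.9)(c) -/
theorem FTtype34_Galois : TypePGalois M U := by
  classical
  by_contra hn
  have h9 := FTtype34_P9 hG hM h h2
  have hp := FTtype34_prDade hG hM h h2
  have hc := hp.cycTI
  have ht := hp.prTI
  have h5 := FTtype5_exclusion hG hM
  obtain ⟨ζ, hζ⟩ := FTtype34_exists_S1 hG hM h h2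
  obtain ⟨hη, hpq⟩ := FTtype34_bridge0_eta hG hM h h2 hζ
  obtain ⟨hζi, hζ1⟩ := FTtype34_S1_irr hG hM h h2 hζ
  obtain ⟨hφv, hφon, -⟩ := FTtype34_bridge0 hG hM h h2 hζ
  obtain ⟨f, ψ, hf⟩ := h9.exists_nonGalois hn
  obtain ⟨a1, a2, -⟩ := nonGalois_facts hG hM h h5 hf
  obtain ⟨-, T, hT, hT'⟩ := typeP_nonGalois_characters_d hG hM h h5 hf
  obtain ⟨b, hb⟩ : (ppre ψ ⊥).relIndex U ∣ uu := relIndex_dvd_of_le_left U (h9.C_le_U1 hf)
  set a := (ppre ψ ⊥).relIndex U with ha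
  obtain ⟨l, hl⟩ : T.Nonempty := by
    rw [Finset.nonempty_iff_ne_empty]
    rintro rfl
    have := h9.three_le_p
    rw [Finset.card_empty, mul_zero] at hT
    exact absurd hT (not_le.2 (Nat.mul_pos (by omega) Nat.card_pos))
  obtain ⟨hl2, hli, hl1, -⟩ := hT' l hl
  rw [FTtype34_fcoreKer hG hM h h2, bot_sup_eq, ← FTtype34_fcomplKer_eq_der hG hM h h2] at hl2
  replace hl2 : l ∈ S2 := hl2
  obtain ⟨j, hj⟩ := exists_hom_ne_one_of_ne_bot (isMulCommutative_of_isCyclic ht.W2_cyc) ht.W2_ne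
  obtain ⟨hμ2, hμ1⟩ := FTtype34_mu_S2 hG hM h h2 hj
  obtain ⟨τ₂, hτ₂⟩ := FTtype34_S2_coherent hG hM h h2
  have hz : μ j - (b : ℂ) • l ∈ zspan S2 :=
    zspan_sub (mem_zspan_self hμ2) (zspan_natCast_smul (mem_zspan_self hl2) _)
  have hz1 : (μ j - (b : ℂ) • l) 1 = 0 := by
    simp only [Pi.sub_apply, Pi.smul_apply, hl1, hμ1, smul_eq_mul, hb]; push_cast; ring
  obtain ⟨ε, k, hε, -, hμ⟩ := FTtypeP_coherent_TIred' hG hM h (S₁ := S2)
    (by rw [FTtype34_core hG hM h h2]; exact seqInd_conjC_subset h9.H_leK bot_le) hτ₂ hl2 hli hμ2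
  have e1 : cfdot ⊤ (τ (μ 1 - ζ)) (τ (μ j - (b : ℂ) • l)) = 0 := by
    rw [FTtype34_Dade_dot hG hM h h2 hφon (Submodule.sub_mem _ (prTIred_vchar ht j).cfun
      (Submodule.smul_mem _ _ hli.isVChar.cfun))]
    simp only [cfdot_sub_left, cfdot_sub_right, cfdot_natCast_smul_right, cfdot_prTIred ht,
      if_neg hj.symm, cfdot_prTIred_seqInd ht (seqInd_subT hl2) hli,
      cfdot_symm_zero (cfdot_prTIred_seqInd ht (seqInd_subT hζ) hζi j),
      hζi.cfdot_of_ne hli fun e => FTtype34_S1_notMem_S2 hG hM h h2 hζ (e ▸ hl2)]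
    simp
  obtain ⟨m, hm⟩ := (FTtype34_Dade_vchar hG hM h h2 hφv hφon).exists_int_cfdot
    (hτ₂.vchar l (mem_zspan_self hl2))
  rw [← hτ₂.agree' _ hz hz1, map_sub τ₂, map_smul, hμ, cfdot_sub_right, cfdot_natCast_smul_right,
    cfdot_intCast_smul_right, cfdot_sum_right, hm] at e1
  simp only [hη, Finset.sum_ite_eq', Finset.mem_univ, if_true, mul_one] at e1
  have e2 : ε = b * m := by exact_mod_cast sub_eq_zero.1 e1
  have hb1 : b = 1 := by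
    have : (b : ℤ) ∣ 1 := by
      rcases hε with e | e
      · exact ⟨m, by rw [← e2, e]⟩
      · exact ⟨-m, by rw [mul_neg, ← e2, e, neg_neg]⟩
    exact Nat.dvd_one.1 (by exact_mod_cast this)
  rw [hb1, mul_one] at hb
  rw [← hb, FTtype34_p_eq hG hM h h2] at a2
  have h3 := Nat.le_of_dvd (by have := hc.three_le_W2; omega) a2
  have h4 := Nat.le_of_dvd (by have := h9.one_lt_u; omega)
    ((Nat.modEq_iff_dvd' h9.u_pos).1 h9.u_modEq.symm)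
  omega

theorem FTtype34_U_cyclic : FTtype M = 3 ∧ IsCyclic U := by
  have h1 := ((FTtype34_P9 hG hM h h2).galois_facts (FTtype34_Galois hG hM h h2)).1
  rw [FTtype34_fcomplKer_eq_der hG hM h h2] at h1
  have hU := isCyclic_of_nil_of_quo_derived h.U_nilpotent h1
  have h3 := FTtype34_gt2 hG hM h h2
  have h5 := FTtype5_exclusion hG hM
  have h4 : FTtype M ≠ 4 := fun e =>
    (compl_of_typeIV hG hM h e).not_abelian (isMulCommutative_of_isCyclic hU)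
  have := FTtype_range hG hM
  exact ⟨by omega, hU⟩

open scoped Classical in
/-- (11.9) -/
theorem FTtype34_structure :
    (∀ ζ ∈ seqIndD ⁅M, M⁆ M ⁅M, M⁆ (fittingHallOf M ⊔ fcomplKer M U), ∀ i j,
      cfdot ⊤ (ftDade0 M (prTIred M W₁ W₂ 1 - ζ)) (eta W₁ W₂ i j) = if i = 1 then 1 else 0) ∧
    Nat.card W₂ < Nat.card W₁ ∧ FTtype M = 3 ∧ TypePGalois M U :=
  ⟨fun _ hζ => (FTtype34_bridge0_eta hG hM h h2 hζ).1,
    (FTtype34_bridge0_eta hG hM h h2 (FTtype34_exists_S1 hG hM h h2).choose_spec).2,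
    (FTtype34_U_cyclic hG hM h h2).1, FTtype34_Galois hG hM h h2⟩

theorem FTtype34_fcomplKer_eq_bot : fcomplKer M U = ⊥ := by
  rw [FTtype34_fcomplKer_eq_der hG hM h h2]
  exact derived_eq_bot_iff.2 (isMulCommutative_of_isCyclic (FTtype34_U_cyclic hG hM h h2).2)

end Cfsg.Agent.H88.SZ.H69
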