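import Cfsg.Agent.H88.ZMin
import Cfsg.Agent.H88.ZPF8b
import Cfsg.Agent.H88.ZR
import Cfsg.Agent.H88.ZBG16

/-! Peterfalvi section 8, group-theoretic part and Dade isometries, deduced from the summary theorems
of the local analysis. -/

set_option autoImplicit false
set_option linter.unusedSectionVars false
set_option linter.unusedVariables false
set_option linter.unusedSectionVars false

namespace Cfsg.Agent.H88.SZ.H68

open Cfsg.Agent.H68

variable [Om]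

open Cfsg Cfsg.Agent.H63 Cfsg.Agent.H67 Cfsg.Agent.H70 Subgroup
open Cfsg.Agent.H88.SZ.H63 Cfsg.Agent.H88.SZ.H67

universe u

variable {G : Type u} [Group G] [Finite G]

section FTtype
variable (hG : IsMinSimpleOddOrder G) {M : Subgroup G}
include hG

/-! ### The type of a maximal subgroup -/

theorem exists_sigma_decomposition (hM : IsCoatom M) : ∃ K U, IsSigmaDecomposition M K U := by
  obtain ⟨⟨K, hK⟩, hc⟩ := R1351 hG M hM
  obtain ⟨U, hU⟩ := (R1352 hG M hM K (hc K hK) hK).1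
  exact ⟨K, U, hU⟩

theorem sigma_decomposition_ne (hM : IsCoatom M) {K U : Subgroup G} (h : IsSigmaDecomposition M K U)
    (hK : K = ⊥) : U ≠ ⊥ := by
  rintro rfl
  subst hK
  obtain ⟨-, -, h1, h2, -⟩ := R1355 hG M hM
  refine h2.not_ge fun m hm => h1 ?_
  obtain ⟨a, ha, b, hb, rfl⟩ := h.compl.2.2.2 m hm
  rw [mem_bot.1 ha, one_mul]
  simpa using hb

theorem mmax_Fcore_neq1 (hM : IsCoatom M) : fittingHallOf M ≠ ⊥ := (R1355 hG M hM).1

theorem Fcore_sub_der1 (hM : IsCoatom M) : fittingHallOf M ≤ ⁅M, M⁆ :=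
  (R1355 hG M hM).2.1.trans (R1355 hG M hM).2.2.1

theorem norm_Fcore (hM : IsCoatom M) : N[fittingHallOf M] = M :=
  mmax_normal hG hM (Fcore_normal M) (mmax_Fcore_neq1 hG hM)

theorem norm_Fitting (hM : IsCoatom M) : N[fittingOf M] = M :=
  mmax_normal hG hM (fittingOf_normalIn M) (fittingOf_ne_bot (mmax_sol hG hM) (mmax_neq1 hG hM))

theorem FTtype_range (hM : IsCoatom M) : 1 ≤ FTtype M ∧ FTtype M ≤ 5 := by
  refine ⟨?_, FTtype_le_five M⟩
  obtain ⟨K, U, h⟩ := exists_sigma_decomposition hG hM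
  have h1 := H71.typeI_iff hG M hM K U h
  have h2 := R1381 hG M hM K U h
  have h3 := R1382 hG M hM K U h
  have h5 := R1383 hG M hM K U h
  have h0 := sigma_decomposition_ne hG hM h
  unfold FTtype
  split_ifs <;> first | omega | tauto

theorem FTtype_eq_two_iff (hM : IsCoatom M) : FTtype M = 2 ↔ IsOfTypeII M := by
  obtain ⟨K, U, h⟩ := exists_sigma_decomposition hG hM
  have h1 := H71.typeI_iff hG M hM K U h
  have h2 := R1381 hG M hM K U h
  unfold FTtype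
  split_ifs <;> simp [*] <;> tauto

theorem FTtype_eq_three_iff (hM : IsCoatom M) : FTtype M = 3 ↔ IsOfTypeIII M := by
  obtain ⟨K, U, h⟩ := exists_sigma_decomposition hG hM
  have h1 := H71.typeI_iff hG M hM K U h
  have h2 := R1381 hG M hM K U h
  have h3 := R1382 hG M hM K U h
  unfold FTtype
  split_ifs with a b c d e
  · exact iff_of_false (by omega) (by tauto)
  · exact iff_of_false (by omega) (by tauto)
  · exact iff_of_true rfl c
  · exact iff_of_false (by omega) c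
  · exact iff_of_false (by omega) c
  · exact iff_of_false (by simp) c

theorem FTtype_eq_four_iff (hM : IsCoatom M) : FTtype M = 4 ↔ IsOfTypeIV M := by
  obtain ⟨K, U, h⟩ := exists_sigma_decomposition hG hM
  have h1 := H71.typeI_iff hG M hM K U h
  have h2 := R1381 hG M hM K U h
  have h3 := R1382 hG M hM K U h
  unfold FTtype
  split_ifs with a b c d e
  · exact iff_of_false (by omega) (by tauto)
  · exact iff_of_false (by omega) (by tauto)
  · exact iff_of_false (by omega) fun h4 => not_typeIII_of_typeIV h4 c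
  · exact iff_of_true rfl d
  · exact iff_of_false (by omega) d
  · exact iff_of_false (by simp) d

theorem FTtype_eq_five_iff (hM : IsCoatom M) : FTtype M = 5 ↔ IsOfTypeV M := by
  obtain ⟨K, U, h⟩ := exists_sigma_decomposition hG hM
  have h1 := H71.typeI_iff hG M hM K U h
  have h2 := R1381 hG M hM K U h
  have h3 := R1382 hG M hM K U h
  have h5 := R1383 hG M hM K U h
  unfold FTtype
  split_ifs with a b c d e
  · exact iff_of_false (by omega) (by tauto)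
  · exact iff_of_false (by omega) (by tauto)
  · exact iff_of_false (by omega) (by tauto)
  · exact iff_of_false (by omega) (by tauto)
  · exact iff_of_true rfl e
  · exact iff_of_false (by simp) e

theorem FTtype_cases (hM : IsCoatom M) :
    FTtype M = 1 ∨ FTtype M = 2 ∨ FTtype M = 3 ∨ FTtype M = 4 ∨ FTtype M = 5 := by
  have := FTtype_range hG hM; omega

theorem compl_of_typeI (hM : IsCoatom M) (h : FTtype M = 1) {U : Subgroup G}
    (hU : IsSdp (fittingHallOf M) U M) : OfTypeI M U := by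
  obtain ⟨h1, h2⟩ := (isOfTypeI_iff hU).1 (FTtype_eq_one_iff.1 h)
  obtain ⟨-, -, V, hV⟩ := isOfTypeF_iff'.1 h1
  exact ⟨compl_of_typeF hU hV, h2.imp_left fun h =>
    normedTI_diff_one_iff.2 ⟨mmax_Fcore_neq1 hG hM, norm_Fcore hG hM, h⟩⟩

theorem FTtype1_witness (hM : IsCoatom M) (h : FTtype M = 1) : ∃ U, OfTypeI M U := by
  obtain ⟨U, hU⟩ := exists_Fcore_compl M
  exact ⟨U, compl_of_typeI hG hM h hU⟩

theorem FTtypeP_witness (hM : IsCoatom M) (h : FTtype M ≠ 1) :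
    ∃ W₁ U W₂, IsTypePWith M W₁ U W₂ := by
  rcases FTtype_cases hG hM with h | h | h | h | h
  · contradiction
  · obtain ⟨_, _, _, h, -⟩ := (FTtype_eq_two_iff hG hM).1 h; exact ⟨_, _, _, h⟩
  · obtain ⟨_, _, _, h, -⟩ := (FTtype_eq_three_iff hG hM).1 h; exact ⟨_, _, _, h⟩
  · obtain ⟨_, _, _, h, -⟩ := (FTtype_eq_four_iff hG hM).1 h; exact ⟨_, _, _, h⟩
  · obtain ⟨_, _, _, h, -⟩ := (FTtype_eq_five_iff hG hM).1 h; exact ⟨_, _, _, h⟩

theorem FTtype1_of_typeF (hM : IsCoatom M) {U : Subgroup G} (h : OfTypeF M U) : FTtype M = 1 := by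
  by_contra h1
  obtain ⟨_, _, _, hP⟩ := FTtypeP_witness hG hM h1
  exact typePF_exclusion hP U h

variable {W₁ U W₂ : Subgroup G}

theorem FTtypeP_neq1 (hM : IsCoatom M) (h : IsTypePWith M W₁ U W₂) : FTtype M ≠ 1 := fun h1 => by
  obtain ⟨V, hV⟩ := FTtype1_witness hG hM h1
  exact typePF_exclusion h V hV.typeF

theorem ofTypeII_IV_of_conj (hM : IsCoatom M) (h : IsTypePWith M W₁ U W₂) {W₁' U' W₂' : Subgroup G}
    (h' : IsTypePWith M W₁' U' W₂') (h1 : U' ≠ ⊥) (h2 : (Nat.card W₁').Prime)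
    (h3 : IsTISubset (fittingOf M : Set G)) : OfTypeII_IV M W₁ U W₂ := by
  obtain ⟨x, -, rfl, rfl, -⟩ := of_typeP_conj h h'
  exact ⟨h, by rwa [Ne, cj_eq_bot_iff] at h1, by rwa [card_cj] at h2, normedTI_diff_one_iff.2
    ⟨fittingOf_ne_bot (mmax_sol hG hM) (mmax_neq1 hG hM), norm_Fitting hG hM, h3⟩⟩

omit hG in
theorem typeP_norm_U_iff (h : IsTypePWith M W₁ U W₂) {W₁' U' W₂' : Subgroup G}
    (h' : IsTypePWith M W₁' U' W₂') :
    (NU U M ↔ NU U' M) ∧ (IsMulCommutative U ↔ IsMulCommutative U') := by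
  obtain ⟨x, hx, -, rfl, -⟩ := of_typeP_conj h h'
  refine ⟨?_, isMulCommutative_cj_iff.symm⟩
  conv_rhs => rw [← cj_eq_self_of_mem hx, NU_cj]

theorem compl_of_typeII (hM : IsCoatom M) (h : IsTypePWith M W₁ U W₂) (h2 : FTtype M = 2) :
    OfTypeII M W₁ U W₂ := by
  obtain ⟨W₁', U', W₂', h', a1, a2, a3, a4, a5, a6, a7⟩ := (FTtype_eq_two_iff hG hM).1 h2
  obtain ⟨e1, e2⟩ := typeP_norm_U_iff h h'
  obtain ⟨-, -, V, hV⟩ := isOfTypeF_iff'.1 a6
  exact ⟨ofTypeII_IV_of_conj hG hM h h' a1 a2 a3, e2.2 a4, mt e1.1 a5,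
    compl_of_typeF (a7 ▸ typeP_sdp_core h) hV, a7⟩

theorem compl_of_typeIII (hM : IsCoatom M) (h : IsTypePWith M W₁ U W₂) (h3 : FTtype M = 3) :
    OfTypeIII M W₁ U W₂ := by
  obtain ⟨W₁', U', W₂', h', a1, a2, a3, a4, a5⟩ := (FTtype_eq_three_iff hG hM).1 h3
  obtain ⟨e1, e2⟩ := typeP_norm_U_iff h h'
  exact ⟨ofTypeII_IV_of_conj hG hM h h' a1 a2 a3, e2.2 a4, e1.2 a5⟩

theorem compl_of_typeIV (hM : IsCoatom M) (h : IsTypePWith M W₁ U W₂) (h4 : FTtype M = 4) :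
    OfTypeIV M W₁ U W₂ := by
  obtain ⟨W₁', U', W₂', h', a1, a2, a3, a4, a5⟩ := (FTtype_eq_four_iff hG hM).1 h4
  obtain ⟨e1, e2⟩ := typeP_norm_U_iff h h'
  exact ⟨ofTypeII_IV_of_conj hG hM h h' a1 a2 a3, mt e2.1 a4, e1.2 a5⟩

theorem compl_of_typeV (hM : IsCoatom M) (h : IsTypePWith M W₁ U W₂) (h5 : FTtype M = 5) :
    OfTypeV M W₁ U W₂ := by
  obtain ⟨W₁', U', W₂', h', a1, a2⟩ := isOfTypeV_iff.1 ((FTtype_eq_five_iff hG hM).1 h5)
  obtain ⟨x, -, rfl, rfl, -⟩ := of_typeP_conj h h'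
  unfold TypeVCases at a2
  rw [card_cj] at a2
  exact ⟨h, cj_eq_bot_iff.1 a1, a2.imp_left fun h =>
    normedTI_diff_one_iff.2 ⟨mmax_Fcore_neq1 hG hM, norm_Fcore hG hM, h⟩⟩

theorem compl_of_typeII_IV (hM : IsCoatom M) (h : IsTypePWith M W₁ U W₂) (h5 : FTtype M ≠ 5) :
    OfTypeII_IV M W₁ U W₂ := by
  rcases FTtype_cases hG hM with h1 | h1 | h1 | h1 | h1
  · exact absurd h1 (FTtypeP_neq1 hG hM h)
  · exact (compl_of_typeII hG hM h h1).base
  · exact (compl_of_typeIII hG hM h h1).base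
  · exact (compl_of_typeIV hG hM h h1).base
  · contradiction

theorem FTtype5_iff_U_eq (hM : IsCoatom M) (h : IsTypePWith M W₁ U W₂) : FTtype M = 5 ↔ U = ⊥ :=
  ⟨fun h5 => (compl_of_typeV hG hM h h5).U_eq, fun hU => by
    by_contra h5; exact (compl_of_typeII_IV hG hM h h5).U_ne hU⟩

theorem FTtype2_iff_norm (hM : IsCoatom M) (h : IsTypePWith M W₁ U W₂) (hU : U ≠ ⊥) :
    FTtype M = 2 ↔ ¬ NU U M := by
  refine ⟨fun h2 => (compl_of_typeII hG hM h h2).not_norm_le, fun hn => ?_⟩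
  rcases FTtype_cases hG hM with h1 | h1 | h1 | h1 | h1
  · exact absurd h1 (FTtypeP_neq1 hG hM h)
  · exact h1
  · exact absurd (compl_of_typeIII hG hM h h1).norm_le hn
  · exact absurd (compl_of_typeIV hG hM h h1).norm_le hn
  · exact absurd (compl_of_typeV hG hM h h1).U_eq hU

/-! ### `M_s`, `A₁(M)`, `A(M)`, `A₀(M)` -/

theorem def_FTcore (hM : IsCoatom M) : typeCore M = sigmaCore M := by
  obtain ⟨K, U, h⟩ := exists_sigma_decomposition hG hM
  have h3 := R1382 hG M hM K U h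
  unfold typeCore
  split_ifs with a
  · obtain ⟨hK, rfl, -⟩ := h3.1 a
    rw [(R1365 hG M hM K ⊥ h hK).1, bot_sup_eq]
  · by_contra hne
    obtain ⟨h1, -, h2⟩ := R1357 hG M hM K U h hne
    exact a (h3.2 ⟨ne_bot_of_prime_card h2, h1, hne⟩)

theorem Fcore_sub_FTcore (hM : IsCoatom M) : fittingHallOf M ≤ typeCore M := by
  rw [def_FTcore hG hM]; exact (R1355 hG M hM).2.1

theorem FTcore_neq1 (hM : IsCoatom M) : typeCore M ≠ ⊥ := fun e =>
  mmax_Fcore_neq1 hG hM (le_bot_iff.1 (e ▸ Fcore_sub_FTcore hG hM))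

theorem FTcore_sub_der1 (hM : IsCoatom M) : typeCore M ≤ ⁅M, M⁆ := by
  rw [def_FTcore hG hM]; exact (R1355 hG M hM).2.2.1

theorem FTcore_of_ne (hM : IsCoatom M) (h3 : FTtype M ≠ 3) (h4 : FTtype M ≠ 4) :
    typeCore M = fittingHallOf M := by
  unfold typeCore
  rw [if_neg]
  rw [← FTtype_eq_three_iff hG hM, ← FTtype_eq_four_iff hG hM]
  tauto

theorem FTcore_type_le2 (hM : IsCoatom M) (h : FTtype M ≤ 2) : typeCore M = fittingHallOf M :=
  FTcore_of_ne hG hM (by omega) (by omega)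

theorem FTcore_type5 (hM : IsCoatom M) (h : FTtype M = 5) : typeCore M = fittingHallOf M :=
  FTcore_of_ne hG hM (by omega) (by omega)

theorem FTcore_type_gt2 (hM : IsCoatom M) (h : 2 < FTtype M) : typeCore M = ⁅M, M⁆ := by
  by_cases h5 : FTtype M = 5
  · obtain ⟨W₁, U, W₂, hP⟩ := FTtypeP_witness hG hM (by omega)
    have := typeP_sdp_core hP
    rw [(FTtype5_iff_U_eq hG hM hP).1 h5] at this
    rw [FTcore_type5 hG hM h5, this.eq_of_bot_right]
  · have := FTtype_le_five M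
    unfold typeCore
    rw [if_pos]
    rw [← FTtype_eq_three_iff hG hM, ← FTtype_eq_four_iff hG hM]
    omega

theorem FTsupp1_sub (hM : IsCoatom M) : typeA1 M ⊆ typeA M := fun a ha => by
  by_cases h : FTtype M = 1
  · exact (mem_FTsupp_type1 h).2 ⟨(FTcore_normal M).le ha.1, ha.2, a,
      FTcore_type_le2 hG hM (by omega) ▸ ha.1, ha.2, rfl⟩
  · exact (mem_FTsupp_typeP h).2 ⟨FTcore_sub_der1 hG hM ha.1, ha.2, a, ha.1, ha.2, rfl⟩

theorem FTsupp1_sub0 (hM : IsCoatom M) : typeA1 M ⊆ typeA0 M :=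
  (FTsupp1_sub hG hM).trans (FTsupp_sub0 M)

theorem Fcore_sub_FTsupp1 (hM : IsCoatom M) : (fittingHallOf M)^# ⊆ typeA1 M := fun _ ha =>
  ⟨Fcore_sub_FTcore hG hM ha.1, ha.2⟩

theorem Fcore_sub_FTsupp (hM : IsCoatom M) : (fittingHallOf M)^# ⊆ typeA M :=
  (Fcore_sub_FTsupp1 hG hM).trans (FTsupp1_sub hG hM)

theorem Fcore_sub_FTsupp0 (hM : IsCoatom M) : (fittingHallOf M)^# ⊆ typeA0 M :=
  (Fcore_sub_FTsupp hG hM).trans (FTsupp_sub0 M)

theorem Fitting_sub_FTsupp (hM : IsCoatom M) : (fittingOf M)^# ⊆ typeA M := fun a ha => by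
  obtain ⟨⟨y, hy, _, hyc⟩, hy1⟩ := ne_bot_iff_exists_ne_one.1
    (inf_center_ne_bot_of_isNilpotent (fittingOf_nil M)
      ⟨Fcore_sub_Fitting M, (fittingOf_le M).trans (Fcore_normal M).norm⟩ (mmax_Fcore_neq1 hG hM))
  have h1 : y ≠ 1 := fun e => hy1 (Subtype.ext e)
  have h2 : a * y = y * a := mem_centralizer_iff.1 hyc a ha.1
  by_cases h : FTtype M = 1
  · exact (mem_FTsupp_type1 h).2 ⟨fittingOf_le M ha.1, ha.2, y, hy, h1, h2⟩
  · obtain ⟨W₁, U, W₂, hP⟩ := FTtypeP_witness hG hM h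
    exact (mem_FTsupp_typeP h).2 ⟨hP.fitting_le ha.1, ha.2, y, Fcore_sub_FTcore hG hM hy, h1, h2⟩

theorem FTsupp1_type_le2 (hM : IsCoatom M) (h : FTtype M ≤ 2) :
    typeA1 M = (fittingHallOf M)^# := by rw [FTsupp1_eq, FTcore_type_le2 hG hM h]

theorem FTsupp1_type_gt2 (hM : IsCoatom M) (h : 2 < FTtype M) : typeA1 M = ⁅M, M⁆^# := by
  rw [FTsupp1_eq, FTcore_type_gt2 hG hM h]

theorem FTsupp_type_gt2 (hM : IsCoatom M) (h : 2 < FTtype M) : typeA M = ⁅M, M⁆^# :=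
  Set.Subset.antisymm (FTsupp_sub_der1 (by omega)) (FTsupp1_type_gt2 hG hM h ▸ FTsupp1_sub hG hM)

theorem FTsupp_eq1 (hM : IsCoatom M) (h : 2 < FTtype M) : typeA M = typeA1 M := by
  rw [FTsupp_type_gt2 hG hM h, FTsupp1_type_gt2 hG hM h]

theorem FT_Frobenius_type1 (hM : IsCoatom M) (h : IsFrobeniusKer M (fittingHallOf M)) :
    FTtype M = 1 := by
  obtain ⟨U, hU⟩ := h
  exact FTtype1_of_typeF hG hM (Frobenius_of_typeF hU)

theorem FTsupp_Frobenius (hM : IsCoatom M) (h : IsFrobeniusKer M (fittingHallOf M)) :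
    typeA M = (fittingHallOf M)^# := by
  refine Set.Subset.antisymm (fun a ha => ?_) (Fcore_sub_FTsupp hG hM)
  obtain ⟨h1, h2, x, hx, hx1, e⟩ := (mem_FTsupp_type1 (FT_Frobenius_type1 hG hM h)).1 ha
  exact ⟨h.cent1_ker hx hx1 ⟨h1, mem_centralizer_singleton_iff.2 e⟩, h2⟩

theorem FTsupp1_nonempty (hM : IsCoatom M) : (typeA1 M).Nonempty := by
  obtain ⟨⟨y, hy⟩, hy1⟩ := ne_bot_iff_exists_ne_one.1 (FTcore_neq1 hG hM)
  exact ⟨y, hy, fun e => hy1 (Subtype.ext e)⟩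

/-! ### (8.8), (8.9) -/

theorem FTtypeP_pair_cases : AllType1 G ∨ ∃ S T W₁ W₂ : Subgroup G, TypePPair S T W₁ W₂ := by
  rcases H71.BGsummaryI hG with h | ⟨W₁, W₂, S, T, h1, hS, hT, h2, h3, h4, h5, h6, h7, h8⟩
  · exact Or.inl fun M hM => FTtype_eq_one_iff.2 (h M hM)
  · have key : ∀ {M : Subgroup G}, IsCoatom M →
        IsOfTypeII M ∨ IsOfTypeIII M ∨ IsOfTypeIV M ∨ IsOfTypeV M → FTtype M ≠ 1 := fun {M} hM h => by
      rw [← FTtype_eq_two_iff hG hM, ← FTtype_eq_three_iff hG hM, ← FTtype_eq_four_iff hG hM,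
        ← FTtype_eq_five_iff hG hM] at h
      omega
    refine Or.inr ⟨S, T, W₁, W₂, h1, hS, hT,
      isSdp_of_isComplIn h2 (h2.2.1.trans (derived_normalIn S).norm),
      isSdp_of_isComplIn h3 (h3.2.1.trans (derived_normalIn T).norm), h4,
      h5.imp (FTtype_eq_two_iff hG hS).2 (FTtype_eq_two_iff hG hT).2, key hS h6, key hT h7,
      fun M hM h => ?_⟩
    rcases h8 M hM with h' | ⟨g, h' | h'⟩
    · exact absurd (FTtype_eq_one_iff.2 h') h
    · exact Or.inl ⟨g, h'⟩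
    · exact Or.inr ⟨g, h'⟩

theorem typeP_pairW {S T : Subgroup G} (h : TypePPair S T W₁ W₂) :
    ∃ U, IsTypePWith S W₁ U W₂ := by
  obtain ⟨W₁', U', W₂', hP⟩ := FTtypeP_witness hG h.maxS h.neS
  obtain ⟨x, hx, rfl⟩ := of_typeP_compl_conj hP h.sdpS
  have hP' := conj_of_typeP_of_mem hP hx
  have hW : W₂ ≤ S := le_sup_right.trans (h.inf.symm.le.trans inf_le_left)
  rw [typeP_W2_eq h.cti hW hP'] at hP'
  exact ⟨_, hP'⟩

theorem TypePPair.not_conj {S T : Subgroup G} (h : TypePPair S T W₁ W₂) : ¬ Conj S T :=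
  not_conj_of_sdp_der h.sdpS h.sdpT h.cti

theorem FTtypeP_pair_witness (hM : IsCoatom M) (h : IsTypePWith M W₁ U W₂) :
    ∃ T V, TypePPair M T W₁ W₂ ∧ IsTypePWith T W₂ V W₁ := by
  have h1 := FTtypeP_neq1 hG hM h
  have key : ∀ S T X₁ X₂ : Subgroup G, TypePPair S T X₁ X₂ → Conj S M →
      ∃ T V, TypePPair M T W₁ W₂ ∧ IsTypePWith T W₂ V W₁ := by
    rintro S T X₁ X₂ hp ⟨g, rfl⟩
    obtain ⟨U', hU'⟩ := typeP_pairW hG (hp.cj g)
    obtain ⟨x, hx, rfl, -, rfl⟩ := of_typeP_conj hU' h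
    have hp' := (hp.cj g).cj x
    rw [cj_eq_self_of_mem hx] at hp'
    obtain ⟨V, hV⟩ := typeP_pairW hG hp'.symm
    exact ⟨_, V, hp', hV⟩
  rcases FTtypeP_pair_cases hG with h' | ⟨S, T, X₁, X₂, hp⟩
  · exact absurd (h' M hM) h1
  · rcases hp.conj M hM h1 with h' | h'
    · exact key _ _ _ _ hp h'
    · exact key _ _ _ _ hp.symm h'

theorem of_typeP_pair {S T V : Subgroup G} (hS : IsCoatom S) (h : IsTypePWith S W₁ U W₂)
    (hT : IsCoatom T) (h' : IsTypePWith T W₂ V W₁) : TypePPair S T W₁ W₂ := by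
  obtain ⟨T₁, V₁, hp, hV₁⟩ := FTtypeP_pair_witness hG hS h
  rcases hp.conj T hT (FTtypeP_neq1 hG hT h') with hc | ⟨g, rfl⟩
  · exact absurd hc (not_conj_of_sdp_der (typeP_sdp_der h) (typeP_sdp_der h') h.selfNormalizing)
  · obtain ⟨x, hx, e2, -, e1⟩ := of_typeP_conj (conj_of_typeP hV₁ g) h'
    have h1 : x * g ∈ N[W₁ ⊔ W₂] := by
      rw [← cj_eq_self_iff, cj_sup, cj_mul, cj_mul, e1, e2]
    rw [snc_norm_W h.selfNormalizing, ← hp.inf] at h1
    have h2 : cj g T₁ = T₁ := by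
      rw [← cj_eq_self_of_mem hx, cj_cj, cj_eq_self_of_mem h1.2]
    rwa [h2]

/-- The type `P` data in terms of the standard factorisation. -/
theorem typeP_sigma_witness (hM : IsCoatom M) (h : IsTypePWith M W₁ U W₂) :
    ∃ K V, IsSigmaDecomposition M K V ∧ K ≠ ⊥ ∧
      ∃ x ∈ M, K = cj x W₁ ∧ sigmaCore M ⊓ C[K] = cj x W₂ := by
  obtain ⟨K, V, hd⟩ := exists_sigma_decomposition hG hM
  have hK : K ≠ ⊥ := fun e => FTtypeP_neq1 hG hM h (FTtype_eq_one_iff.2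
    ((H71.typeI_iff hG M hM K V hd).2 ⟨e, sigma_decomposition_ne hG hM hd e⟩))
  have hder := (R1365 hG M hM K V hd hK).1
  have hs : sigmaCore M ⊴ M := def_FTcore hG hM ▸ FTcore_normal M
  have hKs : K ⊓ sigmaCore M = ⊥ :=
    isPi_inf_eq_bot' (π := sigma M) (fun p hp hd' => (hd.hall.2.1 p hp hd').2.2.1)
      (R1350 hG M hM).1.2.1
  have hKM : K ≤ M := hd.hall.1
  have hVM : V ≤ M := hd.compl.1
  have hsdp : IsSdp ⁅M, M⁆ K M := by
    refine ⟨hKM.trans (derived_normalIn M).norm, eq_bot_iff.2 fun k hk => ?_,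
      le_antisymm (sup_le (derived_normalIn M).le hKM) fun m hm => ?_⟩
    · obtain ⟨hk1, hk2⟩ := hk
      rw [hder, sup_comm] at hk1
      obtain ⟨s, hs', v, hv, rfl⟩ :=
        (Cfsg.Agent.H68.mem_sup_of_le_normalizer (hVM.trans hs.norm)).1 hk1
      have h1 : v ∈ V ⊓ (K ⊔ sigmaCore M) := ⟨hv, by
        simpa using mul_mem (mem_sup_right (inv_mem hs')) (mem_sup_left hk2)⟩
      rw [hd.compl.2.2.1, mem_bot] at h1
      subst h1
      rw [← hKs]
      exact ⟨hk2, by simpa using hs'⟩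
    · obtain ⟨a, ha, b, hb, rfl⟩ := hd.compl.2.2.2 m hm
      rw [hder]
      exact mul_mem (mem_sup_left (mem_sup_left ha))
        ((sup_le le_sup_right (le_sup_right.trans le_sup_left) : K ⊔ sigmaCore M ≤ _) hb)
  obtain ⟨x, hx, rfl⟩ := of_typeP_compl_conj h hsdp
  have hP := conj_of_typeP_of_mem h hx
  refine ⟨_, V, hd, hK, x, hx, rfl, le_antisymm ?_ ?_⟩
  · rw [← typeP_cent_compl hP]
    exact inf_le_inf_right _ (R1355 hG M hM).2.2.1
  · rw [← typeP_cent_core_compl hP]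
    exact inf_le_inf_right _ (R1355 hG M hM).2.1

/-! ### (8.11) - (8.13) -/

theorem FTcore_facts (hM : IsCoatom M) :
    IsHallOf (fittingHallOf M) ⊤ ∧ IsHallOf (typeCore M) ⊤ ∧
      ∀ (p : ℕ) (S : Subgroup G), p.Prime → IsSyl p S (typeCore M) → S ≠ ⊥ → N[S] ≤ M := by
  obtain ⟨h1, h2, h3⟩ := R1389 hG M hM
  refine ⟨⟨le_top, by rwa [relIndex_top_right]⟩, ⟨le_top, by rwa [relIndex_top_right]⟩,
    fun p S hp hS hne => ?_⟩
  have := Fact.mk hp
  obtain ⟨P, rfl⟩ := exists_sylow_map hS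
  exact h1 p hp P fun e => hne (by rw [e, Subgroup.map_bot])

/-- (8.12); `D` is `M` for type I and `M'` for type II. -/
theorem FTtypeI_II_facts (hM : IsCoatom M) {D : Subgroup G}
    (hD : FTtype M = 1 ∧ D = M ∨ FTtype M = 2 ∧ D = ⁅M, M⁆) (hU : IsSdp (fittingHallOf M) U D) :
    (∀ (p : ℕ) (S : Subgroup G), p.Prime → IsSyl p S U → IsMulCommutative S ∧ rank S ≤ 2) ∧
    (∀ X : Set G, X.Nonempty → X ⊆ U^# → fittingHallOf M ⊓ Subgroup.centralizer X ≠ ⊥ →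
      UniqMax (Subgroup.centralizer X) M) ∧
    ((typeA M \ typeA1 M).Nonempty → NormedTI (typeA M \ typeA1 M) ⊤ M) := by
  obtain ⟨h1, h2, h3⟩ := H71.FTtypeI_II hG M hM U (by
    rcases hD with ⟨h, rfl⟩ | ⟨h, rfl⟩
    · exact Or.inl ⟨FTtype_eq_one_iff.1 h, hU.isComplIn⟩
    · exact Or.inr ⟨(FTtype_eq_two_iff hG hM).1 h, hU.isComplIn⟩)
  refine ⟨fun p S hp hS => ?_, fun X hne hX hc => ⟨hM, h2 X hX hne hc⟩, fun hne => ?_⟩
  · have := Fact.mk hp
    obtain ⟨P, rfl⟩ := exists_sylow_map hS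
    obtain ⟨a1, a2⟩ := h1 p hp P
    refine ⟨isMulCommutative_map a1 _, ?_⟩
    rw [rank_map_of_injective U.subtype_injective, rank_pgroup P.isPGroup']
    exact pRankLE_iff.1 a2
  · have := normedTI_of_isTISubset h3 hne fun e => (FTsupp_sub M e.1).2 rfl
    rwa [mmax_norm_set hG hM hne (Set.sdiff_subset.trans (FTsupp_sub M)) fun x hx a ha =>
      ⟨FTsupp_norm hx ha.1, fun e => ha.2 (by simpa [mul_assoc] using FTsupp1_norm (inv_mem hx) e)⟩]
      at this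

/-- (8.13)(a) -/
theorem FTsupport_fusion (hM : IsCoatom M) {x g : G} (hx : x ∈ typeA0 M)
    (hg : g * x * g⁻¹ ∈ typeA0 M) : ∃ m ∈ M, m * x * m⁻¹ = g * x * g⁻¹ :=
  (H71.BGsummaryII hG M hM _ (Or.inr rfl)).1 x hx g hg

/-- (8.13)(b) -/
theorem FTsupport_uniq (hM : IsCoatom M) {x : G} (hx : x ∈ typeA0 M) (hC : ¬ C1[x] ≤ M) :
    x ∈ typeA1 M ∧ ∃ L, UniqMax C1[x] L :=
  ((H71.BGsummaryII hG M hM _ (Or.inr rfl)).2.1 x hx hC).imp_right exists_uniqMax

/-- (8.13)(c) -/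
theorem FTsupport_facts (hM : IsCoatom M) {x : G} (hx : x ∈ typeA0 M) (hC : ¬ C1[x] ≤ M)
    {L : Subgroup G} (hL : IsCoatom L) (hxL : C1[x] ≤ L) :
    IsSdp (fittingHallOf L) (M ⊓ L) L ∧ IsSdp (fittingHallOf L ⊓ C1[x]) (M ⊓ C1[x]) C1[x] ∧
    (∀ y ∈ typeA0 M, (Nat.card (fittingHallOf L)).Coprime (Nat.card ↥(M ⊓ C1[y]))) ∧
    x ∈ typeA L \ typeA1 L ∧ FTtype L ≤ 2 ∧
    (FTtype L = 2 → IsFrobeniusKer M (fittingHallOf M)) ∧
    supportR M x = fittingHallOf L ⊓ C1[x] := by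
  obtain ⟨h1, h2, h3, h4, h5, h6, h7⟩ := (H71.BGsummaryII hG M hM _ (Or.inr rfl)).2.2 x hx hC L hL hxL
  obtain ⟨-, L', hL'⟩ := FTsupport_uniq hG hM hx hC
  obtain rfl := hL'.eq hL hxL
  refine ⟨isSdp_of_isComplIn h1 (inf_le_right.trans (Fcore_normal L).norm),
    isSdp_of_isComplIn h3 (inf_le_right.trans h2), h4, h5, ?_, fun h => ?_,
    FTsignalizer_of_uniq hC hL'⟩
  · rw [← FTtype_eq_one_iff, ← FTtype_eq_two_iff hG hL] at h6; omega
  · obtain ⟨E, hE, hk⟩ := h7 ((FTtype_eq_two_iff hG hL).1 h)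
    exact isFrobeniusKer_of_frobeniusKernel (Fcore_normal M) (mmax_Fcore_neq1 hG hM) hE
      (by rw [hk, Fcore_subgroupOf])

/-! ### (8.15), (8.16) -/

theorem norm_FTsupp1 (hM : IsCoatom M) : Subgroup.normalizer (typeA1 M) = M :=
  mmax_norm_set hG hM (FTsupp1_nonempty hG hM) (FTsupp1_sub_max M) fun _ hx _ => FTsupp1_norm hx

theorem norm_FTsupp (hM : IsCoatom M) : Subgroup.normalizer (typeA M) = M :=
  mmax_norm_set hG hM ((FTsupp1_nonempty hG hM).mono (FTsupp1_sub hG hM)) (FTsupp_sub M)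
    fun _ hx _ => FTsupp_norm hx

theorem norm_FTsupp0 (hM : IsCoatom M) : Subgroup.normalizer (typeA0 M) = M :=
  mmax_norm_set hG hM ((FTsupp1_nonempty hG hM).mono (FTsupp1_sub0 hG hM)) (FTsupp0_sub M)
    fun _ hx _ => FTsupp0_norm hx

theorem FT_Dade0_hyp (hM : IsCoatom M) : DadeHypothesis (typeA0 M) M (supportR M) := by
  have key : ∀ a ∈ typeA0 M, IsSdp (supportR M a) (M ⊓ C1[a]) C1[a] ∧ C1[a] ≤ N[supportR M a] ∧
      ∀ b ∈ typeA0 M, (Nat.card (supportR M a)).Coprime (Nat.card ↥(M ⊓ C1[b])) := fun a ha => by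
    by_cases hC : C1[a] ≤ M
    · rw [FTsignalizer_of_le hC, inf_eq_right.2 hC]
      have h0 : C1[a] ≤ N[(⊥ : Subgroup G)] := by rw [normalizer_eq_top (⊥ : Subgroup G)]; exact le_top
      exact ⟨⟨h0, by simp, by simp⟩, h0, by simp⟩
    · obtain ⟨-, L, hL⟩ := FTsupport_uniq hG hM ha hC
      obtain ⟨-, h1, h2, -, -, -, h3⟩ := FTsupport_facts hG hM ha hC hL.max hL.le
      rw [h3]
      exact ⟨h1, h1.le_norm, fun b hb => (h2 b hb).coprime_dvd_left (card_dvd_of_le inf_le_left)⟩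
  exact ⟨fun e => (FTsupp0_sub M e).2 rfl, fun a ha => (FTsupp0_sub M ha).1,
    fun _ hx _ => FTsupp0_norm hx, fun a ha g hg => FTsupport_fusion hG hM ha hg,
    fun a ha => (key a ha).1.le_left,
    fun a ha c hc u hu => conj_mem_of_mem_normalizer ((key a ha).2.1 hc) hu,
    fun a ha => (key a ha).1.inf, fun a ha => (key a ha).1.sup, fun a ha => (key a ha).2.2⟩

theorem FT_Dade_hyp (hM : IsCoatom M) : DadeHypothesis (typeA M) M (supportR M) :=
  dade_restrict (FT_Dade0_hyp hG hM) (FTsupp_sub0 M) fun _ hx _ => FTsupp_norm hx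

theorem FT_Dade1_hyp (hM : IsCoatom M) : DadeHypothesis (typeA1 M) M (supportR M) :=
  dade_restrict (FT_Dade0_hyp hG hM) (FTsupp1_sub0 hG hM) fun _ hx _ => FTsupp1_norm hx

omit hG in
theorem Fcore_diff_norm {x a : G} (hx : x ∈ M) (ha : a ∈ (fittingHallOf M)^#) :
    x * a * x⁻¹ ∈ (fittingHallOf M)^# :=
  ⟨conj_mem_of_mem_normalizer ((Fcore_normal M).norm hx) ha.1, fun e => ha.2 (by simpa using e)⟩

theorem FT_DadeF_hyp (hM : IsCoatom M) : DadeHypothesis (fittingHallOf M)^# M (supportR M) :=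
  dade_restrict (FT_Dade0_hyp hG hM) (Fcore_sub_FTsupp0 hG hM) fun _ hx _ => Fcore_diff_norm hx

theorem FT_DadeE (hM : IsCoatom M) {φ : G → ℂ} (h : φ ∈ CFon M (typeA M)) :
    ftDade M φ = ftDade0 M φ :=
  restr_DadeE (FT_Dade0_hyp hG hM) (FTsupp_sub0 M) (fun _ hx _ => FTsupp_norm hx) h

theorem FT_Dade1E (hM : IsCoatom M) {φ : G → ℂ} (h : φ ∈ CFon M (typeA1 M)) :
    ftDade1 M φ = ftDade0 M φ :=
  restr_DadeE (FT_Dade0_hyp hG hM) (FTsupp1_sub0 hG hM) (fun _ hx _ => FTsupp1_norm hx) h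

theorem FT_DadeF_E (hM : IsCoatom M) {φ : G → ℂ} (h : φ ∈ CFon M (fittingHallOf M)^#) :
    ftDadeF M φ = ftDade0 M φ :=
  restr_DadeE (FT_Dade0_hyp hG hM) (Fcore_sub_FTsupp0 hG hM) (fun _ hx _ => Fcore_diff_norm hx) h

/-- The signalizer is trivial on `A₀(M) − A₁(M)`, in particular on `V^M`. -/
theorem FTsignalizer_eq_bot (hM : IsCoatom M) {x : G} (hx : x ∈ typeA0 M) (h1 : x ∉ typeA1 M) :
    supportR M x = ⊥ ∧ C1[x] ≤ M := by
  have h : C1[x] ≤ M := by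
    by_contra hC; exact h1 (FTsupport_uniq hG hM hx hC).1
  exact ⟨FTsignalizer_of_le h, h⟩

theorem FTtypeII_ker_TI (hM : IsCoatom M) (h : FTtype M = 2) :
    NormedTI (typeA0 M) ⊤ M ∧ NormedTI (typeA M) ⊤ M ∧ NormedTI (typeA1 M) ⊤ M := by
  obtain ⟨W₁, U, W₂, hP⟩ := FTtypeP_witness hG hM (by omega)
  have hti := (compl_of_typeII hG hM hP h).base.ti
  have h1 := FTsupp1_nonempty hG hM
  have h0 : NormedTI (typeA0 M) ⊤ M := by
    refine normedTI_mk (h1.mono (FTsupp1_sub0 hG hM)) le_top (fun _ hx _ => FTsupp0_norm hx)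
      fun g _ a ha hg => ?_
    have hC : C1[a] ≤ M := by
      by_contra hC
      have h2 := (FTsupport_uniq hG hM ha hC).1
      rw [FTsupp1_type_le2 hG hM h.le] at h2
      exact hC (hti.cent1_le_top ⟨Fcore_sub_Fitting M h2.1, h2.2⟩)
    obtain ⟨m, hm, e⟩ := FTsupport_fusion hG hM ha hg
    have h3 : m⁻¹ * g ∈ C1[a] := by
      rw [mem_centralizer_singleton_iff]
      calc m⁻¹ * g * a = m⁻¹ * (g * a * g⁻¹) * g := by group
        _ = _ := by rw [← e]; group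
    simpa using mul_mem hm (hC h3)
  exact ⟨h0, h0.subset (h1.mono (FTsupp1_sub hG hM)) (norm_FTsupp hG hM).ge (FTsupp_sub0 M),
    h0.subset h1 (norm_FTsupp1 hG hM).ge (FTsupp1_sub0 hG hM)⟩

/-! ### (8.17), (8.18) -/

theorem FT_primes_cover {p : ℕ} (hp : p.Prime) (h : p ∣ Nat.card G) (hw : p ∈ ϖ) :
    ∃ M : Subgroup G, IsCoatom M ∧ p ∣ Nat.card (typeCore M) := by
  obtain ⟨M, hM, hσ⟩ := (R1378 hG).1 p hp h hw
  refine ⟨M, hM, ?_⟩
  rw [def_FTcore hG hM]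
  have h1 := (R1350 hG M hM).1
  have h2 := hσ.2.1
  rw [← card_mul_relIndex h1.1] at h2
  exact ((Nat.Prime.dvd_mul hp).1 h2).resolve_right (h1.2.2 p hp hσ)

theorem FTcore_coprime {L : Subgroup G} (hM : IsCoatom M) (hL : IsCoatom L) (h : ¬ Conj M L) :
    (Nat.card (typeCore M)).Coprime (Nat.card (typeCore L)) := by
  rw [def_FTcore hG hM, def_FTcore hG hL]
  refine Nat.coprime_of_dvd fun p hp h1 h2 => h ?_
  exact (R1378 hG).2 M L hM hL
    ⟨p, (R1350 hG M hM).1.2.1 p hp h1, (R1350 hG L hL).1.2.1 p hp h2⟩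

omit hG [Finite G] in
theorem tildeOf_eq_dadeSupport' (M : Subgroup G) (A : Set G) :
    tildeOf M A = dadeSupport A (supportR M) := by
  ext g
  constructor
  · rintro ⟨a, ha, r, hr, y, e⟩
    exact ⟨a, ha, r, hr, y⁻¹, by rw [e]; group⟩
  · rintro ⟨a, ha, r, hr, y, e⟩
    exact ⟨a, ha, r, hr, y⁻¹, by rw [← e]; group⟩

theorem FT_Dade1_support_eq (hM : IsCoatom M) :
    dadeSupport (typeA1 M) (supportR M) = tildeOf M ((sigmaCore M : Set G) \ {1}) := by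
  rw [tildeOf_eq_dadeSupport', FTsupp1_eq, def_FTcore hG hM]

theorem card_FT_Dade1_support (hM : IsCoatom M) :
    Nat.card (dadeSupport (typeA1 M) (supportR M)) = (Nat.card (typeCore M) - 1) * M.index := by
  rw [FT_Dade1_support_eq hG hM, def_FTcore hG hM, Nat.card_coe_set_eq, R1377 hG M hM]

theorem FT_Dade1_support_disjoint {S T : Subgroup G} (hS : IsCoatom S) (hT : IsCoatom T)
    (h : ¬ Conj S T) :
    Disjoint (dadeSupport (typeA1 S) (supportR S)) (dadeSupport (typeA1 T) (supportR T)) := by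
  rw [FT_Dade1_support_eq hG hS, FT_Dade1_support_eq hG hT, Set.disjoint_iff_inter_eq_empty]
  exact (R1379 hG).1 S T hS hT fun g e => h ⟨g, e⟩

theorem FT_Dade1_cover_type1 (h : AllType1 G) {g : G} (hg : g ≠ 1) (hw : PiElt ϖ g) :
    ∃ M : Subgroup G, IsCoatom M ∧ g ∈ dadeSupport (typeA1 M) (supportR M) := by
  obtain ⟨M, hM, h1⟩ := (R1379 hG).2.1 (fun M hM => by
    obtain ⟨K, V, hd⟩ := exists_sigma_decomposition hG hM
    obtain ⟨rfl, -⟩ := (H71.typeI_iff hG M hM K V hd).1 (FTtype_eq_one_iff.1 (h M hM))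
    refine Set.eq_empty_of_forall_notMem fun p hp => hd.hall.2.2 p hp.1 hp ?_
    rw [relIndex_bot_left]
    exact hp.2.1) g hg hw
  exact ⟨M, hM, by rwa [FT_Dade1_support_eq hG hM]⟩

theorem FT_Dade1_cover_pair {S T : Subgroup G} (h : TypePPair S T W₁ W₂) {g : G} (hg : g ≠ 1)
    (hw : PiElt ϖ g) :
    g ∈ classSupport (cycV W₁ W₂) ⊤ ∨
      ∃ M : Subgroup G, IsCoatom M ∧ g ∈ dadeSupport (typeA1 M) (supportR M) := by
  obtain ⟨U, hP⟩ := typeP_pairW hG h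
  obtain ⟨K, V, hd, hK, x, -, rfl, e⟩ := typeP_sigma_witness hG h.maxS hP
  rcases ((R1379 hG).2.2 S _ V h.maxS hd hK).1 g hg hw with ⟨M, hM, h1⟩ | ⟨y, z, hz, rfl⟩
  · exact Or.inr ⟨M, hM, by rwa [FT_Dade1_support_eq hG hM]⟩
  · rw [e] at hz
    rw [← classSupport_cjSet_of_mem _ (mem_top x), ← cycV_cj]
    exact Or.inl ⟨z, hz, y, mem_top y, rfl⟩

theorem FT_Dade1_support_disjoint_V {S : Subgroup G} (hS : IsCoatom S) (h : IsTypePWith S W₁ U W₂)
    (hM : IsCoatom M) :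
    Disjoint (classSupport (cycV W₁ W₂) ⊤) (dadeSupport (typeA1 M) (supportR M)) := by
  obtain ⟨K, V, hd, hK, x, -, rfl, e⟩ := typeP_sigma_witness hG hS h
  rw [← classSupport_cjSet_of_mem _ (mem_top x), ← cycV_cj, FT_Dade1_support_eq hG hM, Set.disjoint_left]
  rintro _ ⟨z, hz, y, -, rfl⟩
  refine ((R1379 hG).2.2 S _ V hS hd hK).2 M hM y z ?_
  rw [e]; exact hz

/-- A complement to `M_F` in `M` (type I) or `M'` (type II) through a given element of coprime order. -/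
theorem exists_FTtypeI_II_compl (hM : IsCoatom M) {D : Subgroup G}
    (hD : FTtype M = 1 ∧ D = M ∨ FTtype M = 2 ∧ D = ⁅M, M⁆) {x : G} (hx : x ∈ D)
    (hc : (orderOf x).Coprime (Nat.card (fittingHallOf M))) :
    ∃ U, IsSdp (fittingHallOf M) U D ∧ x ∈ U := by
  have hDM : D ≤ M := by
    rcases hD with ⟨-, rfl⟩ | ⟨-, rfl⟩
    · exact le_rfl
    · exact (derived_normalIn M).le
  have hFD : fittingHallOf M ≤ D := by
    rcases hD with ⟨-, rfl⟩ | ⟨-, rfl⟩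
    · exact Fcore_le _
    · exact Fcore_sub_der1 hG hM
  have hH := (Fcore_Hall M).of_le hFD hDM
  obtain ⟨U, hU⟩ := exists_isSdp_of_normal_hall hH ⟨hFD, hDM.trans (Fcore_normal M).norm⟩
  obtain ⟨g, hg, h1⟩ := exists_le_cj_hall (mmax_sub_sol hG hM hDM) (hU.hall_right_of_hall_left hH.hall)
    (zpowers_le.2 hx) (isPi_compl_of_coprime (by rwa [Nat.card_zpowers]))
  exact ⟨_, hU.cj_right hg, h1 (mem_zpowers x)⟩

theorem FT_supp1_inter_supp {S T : Subgroup G} (hS : IsCoatom S) (hT : IsCoatom T) (h : ¬ Conj S T)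
    {x : G} (hxS : x ∈ typeA1 S) (hxT : x ∈ typeA T) : UniqMax C1[x] T ∧ ¬ C1[x] ≤ S := by
  have hc : (orderOf x).Coprime (Nat.card (typeCore T)) :=
    (FTcore_coprime hG hS hT h).coprime_dvd_left (orderOf_dvd_natCard _ hxS.1)
  have h1 : x ∉ typeA1 T := fun e =>
    hxS.2 (orderOf_eq_one_iff.1 (Nat.eq_one_of_dvd_coprimes hc dvd_rfl (orderOf_dvd_natCard _ e.1)))
  have h2 : FTtype T ≤ 2 := by
    by_contra h2
    exact h1 (FTsupp_eq1 hG hT (by omega) ▸ hxT)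
  rw [FTcore_type_le2 hG hT h2] at hc
  have key : ∀ D : Subgroup G, FTtype T = 1 ∧ D = T ∨ FTtype T = 2 ∧ D = ⁅T, T⁆ → x ∈ D →
      (∃ y ∈ fittingHallOf T, y ≠ 1 ∧ x * y = y * x) → UniqMax C1[x] T := by
    rintro D hD hx ⟨y, hy, hy1, e⟩
    obtain ⟨U, hU, hxU⟩ := exists_FTtypeI_II_compl hG hT hD hx hc
    refine (FTtypeI_II_facts hG hT hD hU).2.1 {x} (Set.singleton_nonempty x)
      (Set.singleton_subset_iff.2 ⟨hxU, hxS.2⟩) fun e' => hy1 ?_
    have : y ∈ fittingHallOf T ⊓ C1[x] := ⟨hy, mem_centralizer_singleton_iff.2 e.symm⟩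
    rwa [e', mem_bot] at this
  have h3 : UniqMax C1[x] T := by
    by_cases h4 : FTtype T = 1
    · obtain ⟨a1, -, a2⟩ := (mem_FTsupp_type1 h4).1 hxT
      exact key T (Or.inl ⟨h4, rfl⟩) a1 a2
    · obtain ⟨a1, -, a2⟩ := (mem_FTsupp_typeP h4).1 hxT
      rw [FTcore_type_le2 hG hT h2] at a2
      have := FTtype_range hG hT
      exact key _ (Or.inr ⟨by omega, rfl⟩) a1 a2
  exact ⟨h3, fun e => h (h3.eq hS e ▸ conj_refl _)⟩

theorem FTsupports_iff {S T : Subgroup G} (hS : IsCoatom S) (hT : IsCoatom T) (h : ¬ Conj S T) :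
    Supports T S ↔ (typeA1 S ∩ typeA T).Nonempty := by
  constructor
  · rintro ⟨-, x, hx, h1, h2⟩
    exact ⟨x, (FTsupport_uniq hG hS hx h1).1, (FTsupport_facts hG hS hx h1 hT h2).2.2.2.1.1⟩
  · rintro ⟨x, h1, h2⟩
    obtain ⟨h3, h4⟩ := FT_supp1_inter_supp hG hS hT h h1 h2
    exact ⟨hT, x, FTsupp1_sub0 hG hS h1, h4, h3.le⟩

theorem FTsupports_cj_iff {S T : Subgroup G} (hS : IsCoatom S) (hT : IsCoatom T) (h : ¬ Conj S T) :
    (∃ g, Supports (cj g T) S) ↔ ¬ Disjoint (dadeSupport (typeA1 S) (supportR S))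
      (dadeSupport (typeA T) (supportR T)) := by
  have hnc : ∀ g, ¬ Conj S (cj g T) := fun g e => h (e.trans (conj_cj g T).symm)
  rw [Set.not_disjoint_iff]
  constructor
  · rintro ⟨g, hg⟩
    obtain ⟨x, h1, h2⟩ := (FTsupports_iff hG hS (isCoatom_cj hT) (hnc g)).1 hg
    refine ⟨x, ⟨x, h1, 1, one_mem _, 1, by simp⟩, ?_⟩
    rw [← FT_DadeA_support_cj g]
    exact ⟨x, h2, 1, one_mem _, 1, by simp⟩
  · rintro ⟨y, ⟨a, ha, u, hu, x, e⟩, b, hb, v, hv, z, e'⟩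
    have hC : C1[b] ≤ T := by
      by_contra hC
      exact Set.disjoint_left.1 (FT_Dade1_support_disjoint hG hS hT h) ⟨a, ha, u, hu, x, e⟩
        ⟨b, (FTsupport_uniq hG hT (FTsupp_sub0 T hb) hC).1, v, hv, z, e'⟩
    rw [FTsignalizer_of_le hC, mem_bot] at hv
    subst hv
    have hD := FT_Dade1_hyp hG hS
    have h1 : a * u ∈ typeA (cj (x * z⁻¹) T) := by
      rw [FTsupp_cj, mem_cjSet, ← e]
      have : (x * z⁻¹)⁻¹ * (x * y * x⁻¹) * (x * z⁻¹) = b := by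
        rw [← mul_one b, ← e']; group
      rwa [this]
    refine ⟨_, (FTsupports_iff hG hS (isCoatom_cj hT) (hnc _)).2 ⟨a, ha, FTsupp_zpowers h1 ?_ ha.2⟩⟩
    refine mem_of_pow_mem_of_coprime (n := Nat.card (supportR S a)) ?_ (dade_coprime_orderOf hD ha ha)
    have h2 : (a * u) ^ Nat.card (supportR S a) = a ^ Nat.card (supportR S a) := by
      rw [Commute.mul_pow (dade_comm hD ha hu), orderOf_dvd_iff_pow_eq_one.1 (orderOf_dvd_natCard _ hu),
        mul_one]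
    rw [← h2]
    exact pow_mem (mem_zpowers _) _

theorem FT_Dade_support_disjoint {S T : Subgroup G} (hS : IsCoatom S) (hT : IsCoatom T)
    (h : ¬ Conj S T) :
    (Supports T S ↔ (typeA1 S ∩ typeA T).Nonempty) ∧
    (∀ x ∈ typeA1 S ∩ typeA T, ¬ C1[x] ≤ S ∧ C1[x] ≤ T) ∧
    ((∃ g, Supports (cj g T) S) ↔ ¬ Disjoint (dadeSupport (typeA1 S) (supportR S))
      (dadeSupport (typeA T) (supportR T))) ∧
    (Disjoint (dadeSupport (typeA1 S) (supportR S)) (dadeSupport (typeA T) (supportR T)) ∨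
      Disjoint (dadeSupport (typeA1 T) (supportR T)) (dadeSupport (typeA S) (supportR S))) := by
  refine ⟨FTsupports_iff hG hS hT h, fun x hx => ?_, FTsupports_cj_iff hG hS hT h, ?_⟩
  · obtain ⟨h3, h4⟩ := FT_supp1_inter_supp hG hS hT h hx.1 hx.2
    exact ⟨h4, h3.le⟩
  · by_contra hn
    rw [not_or, ← FTsupports_cj_iff hG hS hT h, ← FTsupports_cj_iff hG hT hS (fun e => h e.symm)] at hn
    obtain ⟨⟨g, hL, y, hy, h1, h2⟩, k, hk⟩ := hn
    obtain ⟨-, -, h3, -, h4, -⟩ := FTsupport_facts hG hS hy h1 hL h2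
    rw [FTtype_cj] at h4
    obtain ⟨z, hz1, hz2⟩ := (FTsupports_iff hG hT (isCoatom_cj hS)
      fun e => h ((conj_cj k S).trans e.symm)).1 hk
    rw [FTsupp1_type_le2 hG hT h4] at hz1
    rw [FTsupp_cj, mem_cjSet] at hz2
    have h5 := h3 _ (FTsupp_sub0 S hz2)
    rw [Fcore_cj, card_cj] at h5
    have h6 : orderOf (k⁻¹ * z * k) ∣ Nat.card ↥(S ⊓ C1[k⁻¹ * z * k]) :=
      orderOf_dvd_natCard _ ⟨(FTsupp_sub S hz2).1, mem_centralizer_singleton_iff.2 rfl⟩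
    have h7 : orderOf (k⁻¹ * z * k) = orderOf z := by
      simpa using orderOf_injective (MulAut.conj k⁻¹).toMonoidHom (conj_injective' _) z
    rw [h7] at h6
    exact hz1.2 (orderOf_eq_one_iff.1 (Nat.eq_one_of_dvd_coprimes h5 (orderOf_dvd_natCard _ hz1.1) h6))

end FTtype

end Cfsg.Agent.H88.SZ.H68
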