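import Cfsg.Agent.H88.ZMin
import Mathlib
import Cfsg.Agent.H14.PF12a
import Cfsg.Agent.H14.PF12b
import Cfsg.Agent.H68.PF7
import Cfsg.Agent.H88.ZPF8
import Cfsg.Agent.H65.PF6
import Cfsg.Agent.H88.ZPF10
import Cfsg.Agent.H88.ZPF11

/-! Peterfalvi section 12: maximal subgroups of type I. -/

set_option autoImplicit false
set_option linter.unusedSectionVars false
set_option linter.unusedVariables false

namespace Cfsg.Agent.H88.SZ.H14

open Cfsg.Agent.H14

variable [Om]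

open Cfsg Cfsg.Agent.H63 Cfsg.Agent.H67 Cfsg.Agent.H70 Cfsg.Agent.H68 Subgroup
open Cfsg.Agent.H88.SZ.H63 Cfsg.Agent.H88.SZ.H67 Cfsg.Agent.H88.SZ.H68
open Cfsg.Agent.H65.PF

universe u

variable {G : Type u} [Group G] [Finite G] (hG : IsMinSimpleOddOrder G) {L M : Subgroup G}

include hG

theorem FTtype1_T1Hyp (hL : IsCoatom L) (h : FTtype L = 1) :
    T1Hyp L (fittingHallOf L) (typeA L) (supportR L) where
  odd := mFT_odd hG L
  normal := Fcore_normal L
  hall := Fcore_Hall L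
  dade := FT_Dade_hyp hG hL
  sub := Fcore_sub_FTsupp hG hL
  supp a ha h1 hA := by
    by_contra hne
    obtain ⟨y, hy, hy1⟩ := exists_ne_one_of_ne_bot hne
    exact hA ((mem_FTsupp_type1 h).2
      ⟨ha, h1, y, hy.1, hy1, (mem_centralizer_singleton_iff.1 hy.2).symm⟩)
  sig a ha hH := (FTsignalizer_eq_bot hG hL (FTsupp_sub0 L ha) (by
    rw [FTsupp1_type_le2 hG hL (by omega)]
    exact fun h => hH h.1)).1
  inert θ hθ h1 := by
    obtain ⟨U, hU⟩ := FTtype1_witness hG hL h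
    obtain ⟨U₁, h₁⟩ := hU.typeF.inertia
    exact (hU.typeF.sdp.of_le_left (L := L ⊓ H70.inertia _ θ)
      (le_inf (Fcore_le L) (H70.le_inertia hθ.cfun)) inf_le_left).derived_le_of_comm
      (isMulCommutative_of_le h₁.2.1
        ((inf_le_inf_left _ inf_le_right).trans (typeF_context_c hU.typeF h₁ hθ h1)))

/-- (12.3) -/
theorem FTtype1_constR_disjoint (hM : IsCoatom M) (hL : IsCoatom L) (hM1 : FTtype M = 1)
    (hL1 : FTtype L = 1) (h : ¬ Conj M L) :
    Disjoint (constR M (fittingHallOf M) (typeA M) (supportR M))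
      (constR L (fittingHallOf L) (typeA L) (supportR L)) := by
  rcases (FT_Dade_support_disjoint hG hM hL h).2.2.2 with hd | hd
  · rw [FTsupp1_type_le2 hG hM (by omega)] at hd
    exact (constR_disjoint (FTtype1_T1Hyp hG hL hL1) (FTtype1_T1Hyp hG hM hM1) hd).symm
  · rw [FTsupp1_type_le2 hG hL (by omega)] at hd
    exact constR_disjoint (FTtype1_T1Hyp hG hM hM1) (FTtype1_T1Hyp hG hL hL1) hd

theorem FTtype1_ref_irr (hL : IsCoatom L) :
    ∃ φ ∈ seqIndD (fittingHallOf L) L (fittingHallOf L) ⊥, φ 1 = (fittingHallOf L).relIndex L :=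
  exists_linInd (Fcore_sol L) (bot_normalIn _) (mmax_Fcore_neq1 hG hL).symm

/-- (12.6) -/
theorem FT_seqInd_Frobenius_coherence (hL : IsCoatom L) (hF : IsFrobeniusKer L (fittingHallOf L)) :
    (∀ χ ∈ seqIndD (fittingHallOf L) L (fittingHallOf L) ⊥, IsIrr L χ) ∧
    Coherent L (seqIndD (fittingHallOf L) L (fittingHallOf L) ⊥) {1}ᶜ (ftDade L) ∧
    Coherent L (seqIndD (fittingHallOf L) L (fittingHallOf L) ⊥) {1}ᶜ (ftDadeF L) := by
  have h1 := FT_Frobenius_type1 hG hL hF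
  have hT := FTtype1_T1Hyp hG hL h1
  have hon : ∀ α ∈ zspanOn (seqIndD (fittingHallOf L) L (fittingHallOf L) ⊥) {1}ᶜ,
      α ∈ CFon L (fittingHallOf L)^# := fun α ha =>
    zcharD1_seqInd_on hT.normal (H65.mem_zspanOn_compl_one.1 ha).1 (H65.mem_zspanOn_compl_one.1 ha).2
  have key : Coherent L (seqIndD (fittingHallOf L) L (fittingHallOf L) ⊥) {1}ᶜ (ftDade L) := by
    obtain ⟨U, hU⟩ := id hF
    have hI := compl_of_typeI hG hL h1 hU.sdp
    obtain ⟨R₁, hR⟩ := hT.subcoh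
    rw [← seqIndC1_Frobenius hF] at hR
    rcases hI.cases with hti | ⟨hab, -⟩ | ⟨hexp, -⟩
    · exact (Sibley_coherence_Frobenius hT.odd (Fcore_nil L) hti hF).congr_tau fun α ha =>
        (Dade_Ind_TI hT.dade hT.sub hti (hon α ha)).symm
    · exact hR.uniform_degree_coherence fun φ hφ ψ hψ => by
        rw [seqInd_derived_degree (derived_eq_bot_iff.2 hab).le hφ,
          seqInd_derived_degree (derived_eq_bot_iff.2 hab).le hψ]
    · by_contra hn
      obtain ⟨-, -, p, hp, hpg, -, hnd⟩ := non_coherent_chief hT.normal (Fcore_sol L) hR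
        ⟨hT.odd, bot_normalIn _, bot_le, quo_isNilpotent _ (Fcore_nil L), (hU.quo (by
          rw [sup_bot_eq]; exact commutator_lt_of_isSolvable (Fcore_sol L) hU.ker_ne) (by
          rw [sup_bot_eq]
          exact le_normalizer_commutator hT.normal.norm hT.normal.norm)).isFrobeniusKer⟩ hn
      apply hnd
      rw [hU.sdp.relIndex_left,
        typeF_context_a hT.odd hI.typeF ⟨le_rfl, rfl, by rw [hU.sdp.sup]; exact hU⟩]
      exact hexp p hp ((dvd_card_of_isPGroup hp hpg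
        (quo_ne_bot (bot_lt_iff_ne_bot.2 hU.ker_ne) (le_normalizer_bot _))).trans (card_quo_dvd _ _))
  exact ⟨fun χ hχ => seqInd_Frobenius_irr hF le_rfl hχ, key,
    key.congr_tau fun α ha => (hT.dadeF_eq (hon α ha)).symm⟩

theorem disjoint_Dade_FTtype1 (hM : IsCoatom M) (hL : IsCoatom L) (hM1 : FTtype M = 1)
    (hL1 : FTtype L = 1) (h : ¬ Conj M L) :
    Disjoint (dadeSupport (fittingHallOf M)^# (supportR M))
      (dadeSupport (fittingHallOf L)^# (supportR L)) := by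
  rw [← FTsupp1_type_le2 hG hM (by omega), ← FTsupp1_type_le2 hG hL (by omega)]
  exact FT_Dade1_support_disjoint hG hM hL h

/-- The image of a coherent character of a Frobenius maximal subgroup is orthogonal to the sets
`R(φ)` of the other maximal subgroups of type I. -/
theorem coherent_OrthR (hM : IsCoatom M) (hL : IsCoatom L) (hM1 : FTtype M = 1)
    (hF : IsFrobeniusKer L (fittingHallOf L)) (h : ¬ Conj M L) {ν : (G → ℂ) →ₗ[ℂ] (G → ℂ)}
    (hν : CoherentWith L (seqIndD (fittingHallOf L) L (fittingHallOf L) ⊥) {1}ᶜ (ftDadeF L) ν)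
    {χ : G → ℂ} (hχ : χ ∈ seqIndD (fittingHallOf L) L (fittingHallOf L) ⊥) :
    OrthR M (fittingHallOf M) (typeA M) (supportR M) (ν χ) := by
  have hL1 := FT_Frobenius_type1 hG hL hF
  have hT := FTtype1_T1Hyp hG hL hL1
  have hi := seqInd_Frobenius_irr hF le_rfl hχ
  refine OrthR.of_disjoint (FTtype1_constR_disjoint hG hM hL hM1 hL1 h) (hν.dirr hχ hi)
    (seqIndC1_Frobenius hF ▸ hχ) ?_
  rw [← hT.dadeF_eq (seqInd_sub_conj_on hT.normal hχ)]
  exact (cfdot_coherent_sub_conj hν hi hχ (conj_seqInd hχ)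
    (seqInd_conjC_neq hT.odd hT.normal le_rfl hχ)).trans_ne one_ne_zero

section NonFrobenius

variable {p : ℕ} {P : Subgroup G}

/-- (12.9) -/
theorem nonFrob_witness (hM : IsCoatom M) (hM1 : FTtype M = 1) (hp : p.Prime)
    (hK : ¬ p ∣ Nat.card (fittingHallOf M)) (hP : IsSyl p P M) (hr : 2 ≤ rankP p M) :
    IsMulCommutative P ∧ rankP p P = 2 ∧ ∃ L, IsCoatom L ∧ P ≤ typeCore L ∧
      ∃ x ∈ P, x ≠ 1 ∧ x ^ p = 1 ∧
        ¬ fittingHallOf M ⊓ C1[x] ≤ ⁅fittingHallOf M, fittingHallOf M⁆ ∧ UniqMax C1[x] M ∧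
        ¬ C1[x] ≤ L := by
  haveI := Fact.mk hp
  have hPp := syl_isPGroup hP
  have hc : (Nat.card P).Coprime (Nat.card (fittingHallOf M)) :=
    isPi_coprime (hall_isPi hP) ((isPi_compl_singleton_iff hp).2 hK)
  obtain ⟨U, hU, hPU⟩ := exists_hall_ge (mmax_sol hG hM) hP.1 (isPi_compl_of_coprime hc)
  obtain ⟨h1, h2, -⟩ := FTtypeI_II_facts hG hM (Or.inl ⟨hM1, rfl⟩)
    (isSdp_of_hall (Fcore_Hall M).hall (Fcore_normal M).norm hU)
  obtain ⟨hab, hrk⟩ := h1 p P hp (hall_of_le hP hPU hU.1)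
  rw [rank_pgroup hPp] at hrk
  have hr2 : rankP p P = 2 := le_antisymm hrk (rankP_syl hP ▸ hr)
  have hpP : p ∣ Nat.card P := dvd_card_of_le_rankP hr2.ge two_pos
  obtain ⟨L₀, hL₀, hd⟩ := FT_primes_cover hG hp (hpP.trans (card_subgroup_dvd_card P))
    (wp_of_rankP hG hM.1 hr)
  obtain ⟨S, hS⟩ := exists_syl p (typeCore L₀)
  obtain ⟨g, -, hg⟩ := exists_le_cj_syl
    (syl_of_hall (FTcore_facts hG hL₀).2.1.hall ⟨hp, hd⟩ hS) le_top hPp
  have hPL : P ≤ typeCore (cj g L₀) := FTcore_cj g L₀ ▸ hg.trans (cj_mono hS.1)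
  obtain ⟨x, hx, hx1, hxK⟩ := exists_cent1_not_le (A := omegaOne p P) (K := fittingHallOf M)
    (H := ⁅fittingHallOf M, fittingHallOf M⁆) (isMulCommutative_of_le hab (omegaOne_le p P))
    (not_isCyclic_of_two_le_rankP (p := p) (by rw [rankP_omegaOne, hr2]))
    (((omegaOne_le p P).trans hP.1).trans (Fcore_normal M).norm)
    (hc.coprime_dvd_left (card_dvd_of_le (omegaOne_le p P)))
    (commutator_lt_of_isSolvable (Fcore_sol M) (mmax_Fcore_neq1 hG hM)).not_ge
  obtain ⟨hxP, hxp⟩ := (mem_omegaOne_iff_of_comm hab).1 hx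
  have hu : UniqMax C1[x] M := h2 {x} (Set.singleton_nonempty x)
    (Set.singleton_subset_iff.2 ⟨hPU hxP, hx1⟩) (fun e => hxK (e.le.trans bot_le))
  refine ⟨hab, hr2, cj g L₀, isCoatom_cj hL₀, hPL, x, hxP, hx1, hxp, hxK, hu, fun hle => hK ?_⟩
  rw [hu.eq (isCoatom_cj hL₀) hle, FTcore_type_le2 hG hM (by omega)] at hPL
  exact hpP.trans (card_dvd_of_le hPL)

/-- (12.10) -/
theorem nonFrob_frobL (hp : p.Prime)
    (IH : ∀ q < p, q.Prime → ∀ N : Subgroup G, IsCoatom N → FTtype N = 1 → 2 ≤ rankP q N →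
      q ∣ Nat.card (fittingHallOf N))
    (hL : IsCoatom L) (hPL : P ≤ typeCore L) (hPp : IsPGroup p P) (hr : rankP p P = 2) {x : G}
    (hx : x ∈ P) (hx1 : x ≠ 1) (hC : ¬ C1[x] ≤ L) :
    P ≤ fittingHallOf L ∧ IsFrobeniusKer L (fittingHallOf L) := by
  haveI := Fact.mk hp
  have hL1 : FTtype L = 1 := by
    by_contra h1
    obtain ⟨W₁, U, W₂, h⟩ := FTtypeP_witness hG hL h1
    have hPH : P ≤ fittingHallOf L := by
      by_cases h2 : FTtype L = 2
      · rwa [FTcore_type_le2 hG hL h2.le] at hPL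
      have hPd := hPL.trans (FTcore_sub_der1 hG hL)
      have hs := typeP_sdp_core h
      have h3 := rankP_le_add_of_isSdp (p := p) hs
      have h4 := rankP_le_one_of_isCyclic (p := p) (H69.FTtype34_U_cyclic hG hL h h2).2
      have h5 := rankP_mono (p := p) hPd
      exact le_of_normal_hall ((Fcore_Hall L).of_le hs.le_left (derived_normalIn L).le).hall
        hs.normal hPd (isPi_of_isPGroup_of_mem hp hPp ⟨hp, rankP_pos_iff.1 (by omega)⟩)
    exact hC ((compl_of_typeII_IV hG hL h (H2.FTtype5_exclusion hG hL)).ti.cent1_le_top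
      ⟨Fcore_sub_Fitting L (hPH hx), hx1⟩)
  rw [FTcore_type_le2 hG hL (by omega)] at hPL
  obtain ⟨U, hU⟩ := FTtype1_witness hG hL hL1
  refine ⟨hPL, U, frob_of_rank (mFT_odd hG L) hU.typeF fun q hq hd hrq =>
    IH q ?_ hq L hL hL1 hrq⟩
  have hpH : p ∣ Nat.card (fittingHallOf L) :=
    (dvd_card_of_le_rankP hr.ge two_pos).trans (card_dvd_of_le hPL)
  rcases hU.cases with hti | ⟨hab, hrk⟩ | ⟨hexp, -⟩
  · exact absurd (hti.cent1_le_top ⟨hPL hx, hx1⟩) hC
  · obtain ⟨u, hu, hou, hreg⟩ := exists_reg_elt hU.typeF hq hd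
    have h1 := dvd_pred_of_reg (K := omegaOne p (fittingHallOf L)) (hou ▸ hq)
      (le_normalizer_omegaOne hU.typeF.sdp.norm hu)
      (le_bot_iff.1 ((inf_le_inf_right _ (omegaOne_le _ _)).trans hreg.le))
    have h2 : rankP p (fittingHallOf L) = 2 :=
      le_antisymm ((rankP_le_rank _).trans hrk.le) (hr.ge.trans (rankP_mono hPL))
    rw [card_omegaOne_of_comm hab, hou, h2] at h1
    exact lt_of_prime_dvd_sq_sub_one hp hq (mFT_odd_of_dvd hG hpH)
      (mFT_odd_of_dvd hG hd (sub_mmax_proper hL hU.typeF.sdp.le_right)) h1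
  · have h1 := Nat.le_of_dvd (by have := hp.two_le; omega)
      ((dvd_exponent_of_dvd_card hq hd).trans (hexp p hp hpH))
    have := hp.two_le
    omega

/-- (12.11)-(12.16) -/
theorem nonFrob_contra (hM : IsCoatom M) (hM1 : FTtype M = 1) (hp : p.Prime)
    (hK : ¬ p ∣ Nat.card (fittingHallOf M)) (hP : IsSyl p P M) (hab : IsMulCommutative P)
    (hr : rankP p P = 2) (hL : IsCoatom L) (hPH : P ≤ fittingHallOf L)
    (hF : IsFrobeniusKer L (fittingHallOf L)) {x : G} (hx : x ∈ P) (hx1 : x ≠ 1) (hxp : x ^ p = 1)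
    (hxK : ¬ fittingHallOf M ⊓ C1[x] ≤ ⁅fittingHallOf M, fittingHallOf M⁆)
    (hu : UniqMax C1[x] M) (hC : ¬ C1[x] ≤ L) : False := by
  haveI := Fact.mk hp
  have hL1 := FT_Frobenius_type1 hG hL hF
  have hTL := FTtype1_T1Hyp hG hL hL1
  have hTM := FTtype1_T1Hyp hG hM hM1
  have hxH : x ∈ (fittingHallOf L)^# := ⟨hPH hx, hx1⟩
  have hox : orderOf x = p := orderOf_eq_prime hxp hx1
  have hxM : x ∈ M := hP.1 hx
  have hxK' : x ∉ fittingHallOf M := fun h => hK (hox ▸ H67.orderOf_dvd_card_of_mem h)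
  have hpH : p ∣ Nat.card (fittingHallOf L) := hox ▸ H67.orderOf_dvd_card_of_mem (hPH hx)
  have hCK : fittingHallOf M ⊓ C1[x] ≠ ⊥ := fun e => hxK (e.le.trans bot_le)
  -- (12.11)
  obtain ⟨hsd, -, -, -, -, -, hRx⟩ :=
    FTsupport_facts hG hL (Fcore_sub_FTsupp0 hG hL hxH) hC hM hu.le
  have hMF : OfTypeF M (L ⊓ M) := (compl_of_typeI hG hM hM1 hsd).typeF
  have hPU : P ≤ L ⊓ M := le_inf (hPH.trans (Fcore_le L)) hP.1
  have hLM : L ⊓ M ≤ fittingHallOf L := le_of_typeF_of_Frobenius hF (Fcore_Hall L) (Fcore_nil L)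
    hMF inf_le_left hp hP hPH hPU hx hx1 hCK
  -- (12.12)
  obtain ⟨E, hE⟩ := id hF
  have hNx : N[zpowers x] ≤ M := norm_le_of_uniq_cent hG hu (zpowers_ne_bot.2 hx1)
    (zpowers_le.2 (mem_centralizer_iff_le.2 le_rfl))
    (isPi_of_le (w_of_normal_nil hG hL (Fcore_normal L) (Fcore_nil L)) (zpowers_le.2 hxH.1))
  obtain ⟨hed, hep⟩ := compl_card_bound hE hTL.odd (Fcore_nil L) hp hP hab hr hPH hx hx1 hxp hNx
    (inf_comm L M ▸ hLM)
  rw [← hE.sdp.relIndex_left] at hed hep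
  have he2 : 2 ≤ (fittingHallOf L).relIndex L := by
    have h1 := relIndex_pos (fittingHallOf L) L
    have h2 : (fittingHallOf L).relIndex L ≠ 1 := fun e => hE.lt_left.not_ge (relIndex_eq_one.1 e)
    omega
  have hbig : (fittingHallOf L).relIndex L ^ 2 + 3 * (fittingHallOf L).relIndex L + 1 ≤
      Nat.card (fittingHallOf L) := by
    have h1 := Nat.le_of_dvd Nat.card_pos ((pow_rankP_dvd (p := p) P).trans (card_dvd_of_le hPH))
    rw [hr] at h1
    nlinarith
  -- (12.13), (12.14)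
  obtain ⟨ν, hν⟩ := (FT_seqInd_Frobenius_coherence hG hL hF).2.2
  obtain ⟨χ, hχ, hχ1⟩ := FTtype1_ref_irr hG hL
  have hi := seqInd_Frobenius_irr hF le_rfl hχ
  have hψ := hν.dirr hχ hi
  have hML : ¬ Conj M L := by
    rintro ⟨g, rfl⟩
    rw [Fcore_cj, card_cj] at hpH
    exact hK hpH
  have hoM := coherent_OrthR hG hM hL hM1 hF hML hν hχ
  have hrho : ∀ y ∈ fittingHallOf L, y ≠ 1 →
      rho (fittingHallOf L)^# L (supportR L) (ν χ) y = χ y := fun y hy hy1 =>
    rho_coherent_Frobenius hF hTL.dadeF hν hχ hχ1 hbig hy hy1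
  have h14 : ∀ g ∈ fittingHallOf M, ν χ (x * g) = χ x := fun g hg => by
    rw [hoM.ortho_constant hTM hψ.cfun hxM hxK' hg, ← hrho x hxH.1 hx1]
    refine (rho_apply_of_const hTL.dadeF hxH fun u hu' => ?_).symm
    rw [hRx] at hu'
    exact hoM.ortho_constant hTM hψ.cfun hxM hxK' hu'.1
  -- (12.15)
  have hMnF : ¬ IsFrobeniusKer M (fittingHallOf M) := fun h => by
    obtain ⟨y, hy, hy1⟩ := exists_ne_one_of_ne_bot hCK
    exact hxK' (h.cent1_ker hy.1 hy1 ⟨hxM, mem_centralizer_singleton_comm.1 hy.2⟩)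
  have h15 : ∀ g ∈ fittingHallOf M, g ≠ 1 →
      rho (fittingHallOf M)^# M (supportR M) (ν χ) g = ν χ g := fun g hg hg1 => by
    by_cases hc : C1[g] ≤ M
    · exact rho_apply_of_bot hTM.dadeF _ ⟨hg, hg1⟩ (FTsignalizer_of_le hc)
    obtain ⟨N, hN, hgN⟩ := mmax_exists (mFT_cent1_proper hG hg1
      (piElt_of_mem (w_of_normal_nil hG hM (Fcore_normal M) (Fcore_nil M)) hg))
    obtain ⟨-, -, -, hA, hN2, hN2', hRg⟩ :=
      FTsupport_facts hG hM (Fcore_sub_FTsupp0 hG hM ⟨hg, hg1⟩) hc hN hgN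
    have hN1 : FTtype N = 1 := by
      have := (FTtype_range hG hN).1
      by_contra h
      exact hMnF (hN2' (by omega))
    rw [FTsupp1_type_le2 hG hN hN2] at hA
    have hNL : ¬ Conj N L := fun h => by
      obtain ⟨a, rfl⟩ := h.symm
      have h1 := hF.cj a
      rw [← Fcore_cj] at h1
      exact hA.2 (FTsupp_Frobenius hG hN h1 ▸ hA.1)
    refine rho_apply_of_const hTM.dadeF ⟨hg, hg1⟩ fun u hu' => ?_
    rw [hRg] at hu'
    exact (coherent_OrthR hG hN hL hN1 hF hNL hν hχ).ortho_constant (FTtype1_T1Hyp hG hN hN1)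
      hψ.cfun (hgN (mem_centralizer_singleton_self g)) (fun h => hA.2 ⟨h, hg1⟩) hu'.1
  have hne : ∀ g, g ∉ ⁅fittingHallOf M, fittingHallOf M⁆ → g ≠ 1 := fun g hg e =>
    hg (e ▸ one_mem _)
  obtain ⟨g, hg, hg'⟩ := SetLike.not_le_iff_exists.1 hxK
  have hconst : ∀ y ∈ fittingHallOf M, y ∉ ⁅fittingHallOf M, fittingHallOf M⁆ →
      rho (fittingHallOf M)^# M (supportR M) (ν χ) y = ν χ g := fun y hy hy' => by
    rw [hoM.invDade_ortho_constant hTM hψ.cfun hy hy' hg.1 hg', h15 g hg.1 (hne g hg')]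
  obtain ⟨n, hn⟩ := IsDirr_exists_int_of_pow hψ.isVChar (g := g) fun m hm => by
    have h1 : g ^ m ∉ ⁅fittingHallOf M, fittingHallOf M⁆ := fun h => by
      obtain ⟨k, hk⟩ := exists_pow_eq_self_of_coprime (x := g)
        (hm.coprime_dvd_right (orderOf_dvd_natCard g))
      exact hg' (hk ▸ pow_mem h k)
    rw [← h15 _ (pow_mem hg.1 m) (hne _ h1), hconst _ (pow_mem hg.1 m) h1]
  -- (12.16)
  have hdv := prime_dvd_sub_of_values hp (mFT_odd_of_dvd hG hpH) hψ hi.isChar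
    (Fcore_le L hxH.1) hxp (mem_centralizer_singleton_iff.1 hg.2).symm (h14 g hg.1) hn hχ1
  have hn2 := succ_le_sq_of_dvd he2 hep hed hdv
  have hlt : ⁅fittingHallOf M, fittingHallOf M⁆ < fittingHallOf M :=
    commutator_lt_of_isSolvable (Fcore_sol M) hMF.ne_bot
  obtain ⟨u, huU, hou, hreg⟩ := exists_reg_elt hMF hp
    (hox ▸ H67.orderOf_dvd_card_of_mem (hPU hx))
  have hk := succ_le_relIndex_of_reg (hou ▸ hp) (hsd.norm huU)
    (le_normalizer_commutator hsd.norm hsd.norm huU) hreg hlt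
  have i1 := cfnorm_rho_add_le hTM.dadeF hTL.dadeF (disjoint_Dade_FTtype1 hG hM hL hM1 hL1 hML)
    hψ.cfun
  have i2 := le_cfnorm_of_const (L := M) (φ := rho (fittingHallOf M)^# M (supportR M) (ν χ))
    hlt.le (Fcore_le M) (c := (fittingHallOf L).relIndex L + 1) fun y hy hy' => by
      rw [hconst y hy hy', hn, Complex.norm_intCast, sq_abs]
      exact_mod_cast hn2
  have i3 := cfnorm_of_eq_off_one (φ := rho (fittingHallOf L)^# L (supportR L) (ν χ)) (Fcore_le L)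
    hi hχ1 (rho_apply_one hTL.dadeF _) fun y hy1 => by
      by_cases hy : y ∈ fittingHallOf L
      · exact hrho y hy hy1
      · rw [rho_notin _ (fun h => hy h.1), seqInd_offK hTL.normal hχ y hy]
  rw [i3, hψ.cfnorm] at i1
  have e1 := card_mul_relIndex hlt.le
  have e2 : Nat.card M ≤ Nat.card (fittingHallOf M) * Nat.card (fittingHallOf L) := by
    rw [hsd.card]
    exact Nat.mul_le_mul_left _ (card_le_of_le hLM)
  rw [← e1] at i2 e2
  refine final_ineq (e := (fittingHallOf L).relIndex L) (h := Nat.card (fittingHallOf L))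
    (k := (⁅fittingHallOf M, fittingHallOf M⁆).relIndex (fittingHallOf M))
    (K' := Nat.card ↥⁅fittingHallOf M, fittingHallOf M⁆) (m := Nat.card M)
    (by exact_mod_cast (by omega)) (by exact_mod_cast Nat.card_pos) (by exact_mod_cast Nat.card_pos)
    (by exact_mod_cast (by omega)) (by exact_mod_cast Nat.card_pos) (by exact_mod_cast e2) ?_
  push_cast at i2
  linarith

theorem FTtype1_rank_dvd (p : ℕ) : p.Prime → ∀ M : Subgroup G, IsCoatom M → FTtype M = 1 →
    2 ≤ rankP p M → p ∣ Nat.card (fittingHallOf M) := by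
  induction p using Nat.strong_induction_on with
  | _ p IH =>
    intro hp M hM hM1 hr
    haveI := Fact.mk hp
    by_contra hK
    obtain ⟨P, hP⟩ := exists_syl p M
    obtain ⟨hab, hr2, L, hL, hPL, x, hx, hx1, hxp, hxK, hu, hC⟩ :=
      nonFrob_witness hG hM hM1 hp hK hP hr
    obtain ⟨hPH, hF⟩ := nonFrob_frobL hG hp IH hL hPL (syl_isPGroup hP) hr2 hx hx1 hC
    exact nonFrob_contra hG hM hM1 hp hK hP hab hr2 hL hPH hF hx hx1 hxp hxK hu hC

end NonFrobenius

/-- (12.7) -/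
theorem FTtype1_Frobenius (hM : IsCoatom M) (h : FTtype M = 1) :
    IsFrobeniusKer M (fittingHallOf M) := by
  obtain ⟨U, hU⟩ := FTtype1_witness hG hM h
  exact ⟨U, frob_of_rank (mFT_odd hG M) hU.typeF fun q hq _ hr =>
    FTtype1_rank_dvd hG q hq M hM h hr⟩

theorem w_Fcore (hM : IsCoatom M) : IsPiSubgroup ϖ (fittingHallOf M) :=
  w_of_normal_nil hG hM (Fcore_normal M) (Fcore_nil M)

/-- If all maximal subgroups are of type I, their kernels contain the centralizers of their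
nonidentity elements. -/
theorem allType1_isolated (hall : AllType1 G) (hM : IsCoatom M) {a : G}
    (ha : a ∈ fittingHallOf M) (ha1 : a ≠ 1) : C1[a] ≤ fittingHallOf M := by
  have hF : ∀ M : Subgroup G, IsCoatom M → IsFrobeniusKer M (fittingHallOf M) := fun M hM =>
    FTtype1_Frobenius hG hM (hall M hM)
  have hC : C1[a] ≤ M := by
    by_contra hc
    obtain ⟨N, hN, haN⟩ := mmax_exists (mFT_cent1_proper hG ha1 (piElt_of_mem (w_Fcore hG hM) ha))
    obtain ⟨-, -, -, hA, hN2, -⟩ :=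
      FTsupport_facts hG hM (Fcore_sub_FTsupp0 hG hM ⟨ha, ha1⟩) hc hN haN
    rw [FTsupp1_type_le2 hG hN hN2, FTsupp_Frobenius hG hN (hF N hN)] at hA
    exact hA.2 hA.1
  exact (le_inf hC le_rfl).trans ((hF M hM).cent1_ker ha ha1)

end Cfsg.Agent.H88.SZ.H14
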