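import Cfsg.Agent.H88.ZMin
import Cfsg.Agent.H88.ZPF11
import Cfsg.Agent.H88.ZPF12
import Cfsg.Agent.H88.ZPF8Char
import Cfsg.Agent.H72.PFGen

/-!
Peterfalvi (13.1)-(13.3): the structure of a maximal subgroup `S` of type `P` and its characters.
`P = fittingHallOf S`, `H = fittingOf S = P C`, `C = U ⊓ C[P]`, `p = |W₂|`, `q = |W₁|`, `u = ubar S U`.
-/

set_option autoImplicit false
set_option linter.unusedSectionVars false
set_option linter.unusedVariables false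
set_option linter.unusedSectionVars false

namespace Cfsg.Agent.H88.SZ.H72

open Cfsg.Agent.H72

variable [Om]

open Cfsg Cfsg.Agent.H63 Cfsg.Agent.H67 Cfsg.Agent.H68 Cfsg.Agent.H70 Cfsg.Agent.H13 Cfsg.Agent.H65.PF
open Cfsg.Agent.H88.SZ.H63 Cfsg.Agent.H88.SZ.H67 Cfsg.Agent.H88.SZ.H68 Cfsg.Agent.H88.SZ.H13

universe u

variable {G : Type u} [Group G] [Finite G] {S W₁ U W₂ : Subgroup G}

/-- A maximal subgroup of type `P` of a minimal simple group of odd order. -/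
structure TP (S W₁ U W₂ : Subgroup G) : Prop where
  hG : IsMinSimpleOddOrder G
  max : IsCoatom S
  tp : IsTypePWith S W₁ U W₂

namespace TP

variable (h : TP S W₁ U W₂)
include h

theorem n5 : FTtype S ≠ 5 := H2.FTtype5_exclusion h.hG h.max

theorem n1 : FTtype S ≠ 1 := FTtypeP_neq1 h.hG h.max h.tp

theorem primeq : (Nat.card W₁).Prime := (H2.FTtypeP_primes h.hG h.max h.tp).1

theorem primep : (Nat.card W₂).Prime := (H2.FTtypeP_primes h.hG h.max h.tp).2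

theorem cyc : CycTI W₁ W₂ := FT_cyclicTI_hyp h.hG h.tp h.max

theorem pti : PrimeTI S ⁅S, S⁆ W₁ W₂ := FT_primeTI_hyp h.hG h.tp h.max

theorem pdd : PrimeDade S ⁅S, S⁆ (fittingHallOf S) (typeA S) (typeA0 S) W₁ W₂ (supportR S) :=
  FT_prDade_hypF h.hG h.max h.tp

theorem dd : DadeHypothesis (typeA0 S) S (supportR S) := FT_Dade0_hyp h.hG h.max

theorem q3 : 3 ≤ Nat.card W₁ := h.cyc.three_le_W1

theorem p3 : 3 ≤ Nat.card W₂ := h.cyc.three_le_W2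

theorem pq_ne : Nat.card W₂ ≠ Nat.card W₁ := h.cyc.card_ne.symm

theorem type23 : FTtype S = 2 ∨ FTtype S = 3 := by
  by_cases h2 : FTtype S = 2
  · exact Or.inl h2
  · exact Or.inr (H69.FTtype34_structure h.hG h.max h.tp h2).2.2.1

theorem type2_of_lt (hlt : Nat.card W₁ < Nat.card W₂) : FTtype S = 2 := by
  by_contra h2
  have := (H69.FTtype34_structure h.hG h.max h.tp h2).2.1
  omega

theorem commU : IsMulCommutative U := by
  rcases h.type23 with h2 | h3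
  · exact (compl_of_typeII h.hG h.max h.tp h2).abelian
  · exact (compl_of_typeIII h.hG h.max h.tp h3).abelian

theorem U_ne : U ≠ ⊥ := Ptype_U_ne_bot h.hG h.max h.tp h.n5

theorem frobUW : IsFrobenius (U ⊔ W₁) U W₁ := typeP_Frobenius_UW1 h.tp h.U_ne

theorem core_facts : IsElementaryAbelian (Nat.card W₂) (fittingHallOf S) ∧
    Nat.card (fittingHallOf S) = Nat.card W₂ ^ Nat.card W₁ ∧ fcoreKer S U = ⊥ := by
  by_cases h2 : FTtype S = 2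
  · obtain ⟨h1, h3, -, h4⟩ := H2.FTtypeII_prime_facts h.hG h.max h.tp h2
    exact ⟨h1, h3, h4⟩
  · exact H69.FTtype34_Fcore_kernel_trivial h.hG h.max h.tp h2

theorem abelP : IsElementaryAbelian (Nat.card W₂) (fittingHallOf S) := h.core_facts.1

theorem cardP : Nat.card (fittingHallOf S) = Nat.card W₂ ^ Nat.card W₁ := h.core_facts.2.1

theorem ker_bot : fcoreKer S U = ⊥ := h.core_facts.2.2

theorem commP : IsMulCommutative (fittingHallOf S) := h.abelP.1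

theorem P_ne : fittingHallOf S ≠ ⊥ := typeP_core_ne h.tp

theorem C_eq : fcomplKer S U = U ⊓ C[fittingHallOf S] := fcomplKer_of_fcoreKer_eq_bot h.ker_bot

theorem fit_dp : IsDp (fittingHallOf S) (U ⊓ C[fittingHallOf S]) (fittingOf S) :=
  typeP_context_a h.tp

theorem H_eq : fittingHallOf S ⊔ fcomplKer S U = fittingOf S := by rw [h.C_eq, h.fit_dp.sup]

theorem commC : IsMulCommutative ↥(U ⊓ C[fittingHallOf S]) :=
  isMulCommutative_of_le h.commU inf_le_left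

theorem commH : IsMulCommutative (fittingOf S) := h.fit_dp.isMulCommutative h.commP h.commC

theorem pr_eq : fcorePrime S U = Nat.card W₂ :=
  def_Ptype_factor_prime h.hG h.max h.tp h.n5 h.primep

theorem P_le_H : fittingHallOf S ≤ fittingOf S := Fcore_sub_Fitting S

theorem H_le_der : fittingOf S ≤ ⁅S, S⁆ := h.tp.fitting_le

theorem P_le_der : fittingHallOf S ≤ ⁅S, S⁆ := typeP_core_le_der h.tp

theorem der_normal : ⁅S, S⁆ ⊴ S := derived_normalIn S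

theorem der_le : ⁅S, S⁆ ≤ S := h.der_normal.le

theorem H_normal : fittingOf S ⊴ S := fittingOf_normalIn S

theorem H_le : fittingOf S ≤ S := h.H_normal.le

theorem P_norm : S ≤ N[fittingHallOf S] := (Fcore_normal S).norm

theorem W2_le_P : W₂ ≤ fittingHallOf S := typeP_W2_le_core h.tp

theorem relIndex_H : (fittingOf S).relIndex S = Nat.card W₁ * ubar S U := by
  rw [← h.H_eq]; exact relIndex_HC h.hG h.max h.tp h.n5

theorem relIndex_H_der : (fittingOf S).relIndex ⁅S, S⁆ = ubar S U := by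
  rw [← h.H_eq]; exact relIndex_HC_der h.hG h.max h.tp h.n5

theorem cardH : Nat.card (fittingOf S) =
    Nat.card W₂ ^ Nat.card W₁ * Nat.card ↥(U ⊓ C[fittingHallOf S]) := by
  rw [h.fit_dp.card, h.cardP]

theorem cardU : Nat.card U = Nat.card ↥(U ⊓ C[fittingHallOf S]) * ubar S U := by
  rw [ubar, h.C_eq, card_mul_relIndex inf_le_left]

theorem card_der : Nat.card ↥⁅S, S⁆ = Nat.card W₂ ^ Nat.card W₁ * Nat.card U := by
  rw [(typeP_sdp_core h.tp).card, h.cardP]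

theorem cardS : Nat.card S = Nat.card W₂ ^ Nat.card W₁ * Nat.card U * Nat.card W₁ := by
  rw [(typeP_sdp_der h.tp).card, h.card_der]

theorem one_lt_u : 1 < ubar S U := one_lt_ubar h.hG h.max h.tp h.n5

theorem u_modEq : ubar S U ≡ 1 [MOD Nat.card W₁] := ubar_modEq h.hG h.max h.tp h.n5

theorem u_odd : Odd (ubar S U) := mFT_odd_relIndex h.hG _ _
  (sub_mmax_proper h.max ((typeP_U_le_der h.tp).trans h.der_le))

theorem coprime_PU : (Nat.card W₂).Coprime (Nat.card U) := by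
  have := typeP_coprime_core_U h.tp
  rw [h.cardP] at this
  exact (Nat.coprime_pow_left_iff (by have := h.q3; omega) _ _).1 this

theorem coprime_UW : (Nat.card U).Coprime (Nat.card W₁) := h.frobUW.coprime

theorem galois_facts (hg : TypePGalois S U) :
    IsCyclic (U /ᵍ fcomplKer S U) ∧ (ubar S U).Coprime (Nat.card W₂ - 1) ∧
      ubar S U ∣ (Nat.card W₂ ^ Nat.card W₁ - 1) / (Nat.card W₂ - 1) := by
  have := typeP_Galois_facts h.hG h.max h.tp h.n5 hg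
  rwa [h.pr_eq] at this

theorem nonGalois (hn : ¬ TypePGalois S U) : ∃ a : ℕ, 1 < a ∧ 2 * a ∣ Nat.card W₂ - 1 ∧
    ubar S U ∣ a ^ (Nat.card W₁ - 1) ∧ ∀ x ∈ U, x ^ a ∈ fcomplKer S U := by
  obtain ⟨f, ψ, hf⟩ := typeP_Galois_Pn h.hG h.max h.tp h.n5 hn
  obtain ⟨h1, h2, h3, -, ⟨e, he⟩, h6⟩ := nonGalois_facts h.hG h.max h.tp h.n5 hf
  refine ⟨_, h1, ?_, h6, fun x hx => ?_⟩
  · replace h2 := h2.trans (dvd_of_eq (congrArg (· - 1) h.pr_eq))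
    have h7 : 2 ∣ Nat.card W₂ - 1 := by
      obtain ⟨k, hk⟩ := h.cyc.W2_odd
      exact ⟨k, by omega⟩
    exact Nat.Coprime.mul_dvd_of_dvd_of_dvd ((Nat.coprime_two_left).2 h3) h7 h2
  · rw [← he]
    refine ⟨⟨x, hx⟩ ^ _, ?_, rfl⟩
    show e (⟨x, hx⟩ ^ _) ∈ (⊥ : Subgroup _)
    rw [Subgroup.mem_bot, map_pow]
    funext k
    rw [Pi.pow_apply, Pi.one_apply]
    apply Multiplicative.toAdd.injective
    rw [toAdd_pow, toAdd_one, nsmul_eq_mul, ZMod.natCast_self, zero_mul]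

/-- (13.2)(c). -/
theorem u_le : ubar S U * (Nat.card W₂ - 1) ≤ Nat.card W₂ ^ Nat.card W₁ - 1 := by
  have hp := h.p3
  have hq := h.q3
  have hpos : 1 < Nat.card W₂ ^ Nat.card W₁ := Nat.one_lt_pow (by omega) (by omega)
  by_cases hg : TypePGalois S U
  · have h1 := (h.galois_facts hg).2.2
    have h2 : Nat.card W₂ - 1 ∣ Nat.card W₂ ^ Nat.card W₁ - 1 := by
      simpa using Nat.sub_dvd_pow_sub_pow (Nat.card W₂) 1 (Nat.card W₁)
    exact Nat.le_of_dvd (by omega) ((Nat.dvd_div_iff_mul_dvd h2).1 h1 |> fun e => by rwa [mul_comm] at e)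
  · obtain ⟨a, h1, h2, h3, -⟩ := h.nonGalois hg
    have h4 : 2 * a ≤ Nat.card W₂ - 1 := Nat.le_of_dvd (by omega) h2
    have h5 : ubar S U ≤ a ^ (Nat.card W₁ - 1) := Nat.le_of_dvd (by positivity) h3
    have h6 : a ^ (Nat.card W₁ - 1) ≤ (Nat.card W₂ - 1) ^ (Nat.card W₁ - 1) :=
      Nat.pow_le_pow_left (by omega) _
    have h7 : (Nat.card W₂ - 1) ^ (Nat.card W₁ - 1) * (Nat.card W₂ - 1) =
        (Nat.card W₂ - 1) ^ Nat.card W₁ := by
      rw [← pow_succ]; congr 1; omega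
    have h8 : (Nat.card W₂ - 1) ^ Nat.card W₁ < Nat.card W₂ ^ Nat.card W₁ :=
      Nat.pow_lt_pow_left (by omega) (by omega)
    have h9 := Nat.mul_le_mul_right (Nat.card W₂ - 1) (h5.trans h6)
    omega

theorem two_u_le : 2 * ubar S U + 1 ≤ Nat.card W₂ ^ Nat.card W₁ := by
  have h1 := h.u_le
  have hp := h.p3
  have hq := h.q3
  have hpos : 1 < Nat.card W₂ ^ Nat.card W₁ := Nat.one_lt_pow (by omega) (by omega)
  have h2 : ubar S U * 2 ≤ ubar S U * (Nat.card W₂ - 1) := Nat.mul_le_mul_left _ (by omega)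
  omega

theorem two_q_lt_u : 2 * Nat.card W₁ < ubar S U := by
  have h1 := h.u_modEq
  have h2 := h.one_lt_u
  obtain ⟨k, hk⟩ := (Nat.modEq_iff_dvd' h2.le).1 h1.symm
  obtain ⟨a, ha⟩ := h.u_odd
  obtain ⟨b, hb⟩ := h.cyc.W1_odd
  have hk0 : k ≠ 0 := by rintro rfl; omega
  have hk1 : k ≠ 1 := by rintro rfl; omega
  have : Nat.card W₁ * 2 ≤ Nat.card W₁ * k := Nat.mul_le_mul_left _ (by omega)
  omega

theorem core_eq : coreS S (fcoreKer S U ⊔ ⁅fcomplKer S U, fcomplKer S U⁆) =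
    seqIndD ⁅S, S⁆ S (fittingHallOf S) ⊥ := by
  rw [h.ker_bot, h.C_eq, derived_eq_bot_iff.2 h.commC, bot_sup_eq]

/-- (13.2)(d). -/
theorem coh : Coherent S (seqIndD ⁅S, S⁆ S (fittingHallOf S) ⊥) {1}ᶜ (ftDade0 S) := by
  rw [← h.core_eq]; exact Ptype_core_coherence h.hG h.max h.tp h.n5

theorem tiH : NormedTI (fittingOf S)^# ⊤ S := (compl_of_typeII_IV h.hG h.max h.tp h.n5).ti

/-- (13.2)(e). -/
theorem cent_le {x : G} (hx : x ∈ typeA0 S) : C1[x] ≤ S := by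
  by_contra hC
  have hx1 : x ≠ 1 := (FTsupp0_sub S hx).2
  obtain ⟨L, hL, hxL, -⟩ := (FTsupport_uniq h.hG h.max hx hC).2
  obtain ⟨-, -, -, h4, h5, h6, -⟩ := FTsupport_facts h.hG h.max hx hC hL hxL
  by_cases h2 : FTtype L = 2
  · exact h.n1 (FT_Frobenius_type1 h.hG h.max (h6 h2))
  · have h1 : FTtype L = 1 := by have := (FTtype_range h.hG hL).1; omega
    rw [FTsupp_Frobenius h.hG hL (H14.FTtype1_Frobenius h.hG hL h1), FTsupp1_type_le2 h.hG hL h5] at h4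
    exact h4.2 h4.1

theorem R_bot {x : G} (hx : x ∈ typeA0 S) : supportR S x = ⊥ := FTsignalizer_of_le (h.cent_le hx)

theorem tiA0 : NormedTI (typeA0 S) ⊤ S :=
  normedTI_of_dadeHyp h.dd ((FTsupp1_nonempty h.hG h.max).mono (FTsupp1_sub0 h.hG h.max))
    fun _ ha => h.R_bot ha

theorem tau_eq {α : G → ℂ} (hα : α ∈ CFon S (typeA0 S)) : ftDade0 S α = cfInd ⊤ S α :=
  Dade_Ind h.dd (fun _ ha => h.R_bot ha) hα

theorem H_sub : (fittingOf S)^# ⊆ typeA0 S :=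
  (Fitting_sub_FTsupp h.hG h.max).trans (FTsupp_sub0 S)

theorem P_sub : (fittingHallOf S)^# ⊆ typeA0 S := Fcore_sub_FTsupp0 h.hG h.max

theorem tiP : NormedTI (fittingHallOf S)^# ⊤ S := by
  obtain ⟨x, hx, h1⟩ := exists_ne_one_of_ne_bot h.P_ne
  exact normedTI_mk ⟨x, hx, h1⟩ le_top (fun _ hg _ ha => Fcore_diff_norm hg ha)
    fun g hg a ha hc => h.tiA0.mem hg (h.P_sub ha) (h.P_sub hc)

/-- The Dade image of a function supported on `B ⊆ A₀(S)` vanishes off `B^G`. -/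
theorem tau_off {α : G → ℂ} {B : Set G} (hB : B ⊆ typeA0 S) (hα : α ∈ CFon S B) {g : G}
    (hg : g ∉ classSupport B ⊤) : ftDade0 S α g = 0 := by
  refine Dade_notin_of_supp h.dd hα ?_
  rwa [dadeSupport_of_bot fun a ha => h.R_bot (hB ha)]

theorem tau_res {α χ : G → ℂ} (hα : α ∈ CFon S (typeA0 S)) (hχ : χ ∈ CFun (⊤ : Subgroup G)) :
    cfdot ⊤ χ (ftDade0 S α) = cfdot S χ α := by
  rw [h.tau_eq hα, cfdot_cfInd_right le_top hχ]

/-! ### (13.3) -/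

theorem mu_mem {j : W₂ →* ℂˣ} (hj : j ≠ 1) :
    prTIred S W₁ W₂ j ∈ seqIndD ⁅S, S⁆ S (fittingHallOf S) ⊥ :=
  prTIred_mem_seqIndD h.pti h.W2_le_P hj

theorem mu_indHC {j : W₂ →* ℂˣ} (hj : j ≠ 1) : IsIndHC S W₁ U (prTIred S W₁ W₂ j) := by
  rw [← cfInd_prTIres h.pti]
  refine typeP_reducible_core_Ind_prime h.hG h.max h.tp h.n5 h.primep (prTIres_irr h.pti j)
    (fun e => hj (prTIres_inj h.pti (e.trans (prTIres0 h.pti).symm))) ?_
  rw [cfInd_prTIres h.pti]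
  exact prTIred_not_irr h.pti j

theorem mem1_of_ind {ζ ξ : G → ℂ} (hζ : ζ ∈ seqIndD ⁅S, S⁆ S (fittingHallOf S) ⊥)
    (hξ : IsLin (fittingHallOf S ⊔ fcomplKer S U) ξ)
    (e : ζ = cfInd S (fittingHallOf S ⊔ fcomplKer S U) ξ) :
    ζ ∈ seqIndD (fittingOf S) S (fittingHallOf S) ⊥ := by
  rw [h.H_eq] at hξ e
  refine ⟨ξ, hξ.isIrr, bot_le, fun hk => ?_, e⟩
  exact seqInd_not_le_cfker h.der_le h.P_le_der hζ (e ▸ le_cfker_cfInd h.H_le h.P_norm hk)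

theorem mu_mem1 {j : W₂ →* ℂˣ} (hj : j ≠ 1) :
    prTIred S W₁ W₂ j ∈ seqIndD (fittingOf S) S (fittingHallOf S) ⊥ := by
  obtain ⟨ξ, h1, h2⟩ := (h.mu_indHC hj).ind
  exact h.mem1_of_ind (h.mu_mem hj) h1 h2

theorem mem1_one {ζ : G → ℂ} (hζ : ζ ∈ seqIndD (fittingOf S) S (fittingHallOf S) ⊥) :
    ζ 1 = (Nat.card W₁ : ℂ) * ubar S U := by
  obtain ⟨θ, h1, -, -, rfl⟩ := hζ
  rw [cfInd_one, (h1.isLin_of_comm fun _ ha _ hb => comm_of_isMulCommutative h.commH ha hb).2,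
    h.relIndex_H, mul_one, Nat.cast_mul]

theorem mem1_zspan {ζ : G → ℂ} (hζ : ζ ∈ seqIndD (fittingOf S) S (fittingHallOf S) ⊥) :
    ζ ∈ zspan (seqIndD ⁅S, S⁆ S (fittingHallOf S) ⊥) :=
  seqIndD_mem_zspan h.P_le_H h.H_le_der h.der_le (h.der_le.trans h.P_norm) hζ

theorem mem_of_mem1 {ζ : G → ℂ} (hζ : ζ ∈ seqIndD (fittingOf S) S (fittingHallOf S) ⊥)
    (hi : IsIrr S ζ) : ζ ∈ seqIndD ⁅S, S⁆ S (fittingHallOf S) ⊥ := by
  obtain ⟨θ, h1, -, h2, rfl⟩ := hζ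
  rw [← cfInd_cfInd h.H_le_der h.der_le] at hi ⊢
  refine ⟨_, IsIrr.of_cfInd (h1.isChar_cfInd h.H_le_der) h.der_le hi, bot_le, fun hk => h2 ?_, rfl⟩
  exact (h1.le_cfker_cfInd_iff h.H_le_der (h.der_le.trans h.P_norm)).1 hk

theorem q_ne : (Nat.card W₁ : ℂ) ≠ 0 := by have := h.q3; exact_mod_cast (by omega)

theorem mu2_one (i : W₁ →* ℂˣ) {j : W₂ →* ℂˣ} (hj : j ≠ 1) :
    prTIirr S W₁ W₂ i j 1 = ubar S U := by
  have h1 := h.mem1_one (h.mu_mem1 hj)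
  rw [prTIred_1 h.pti] at h1
  rw [prTIirr_1 h.pti, mul_left_cancel₀ h.q_ne h1]

theorem sign_eq (j : W₂ →* ℂˣ) : prTIsign S W₁ W₂ j = 1 := by
  by_cases hj : j = 1
  · rw [hj]; exact prTIsign0 h.pti
  rcases prTIsign_cases (W₁ := W₁) S j with h1 | h1
  · exact h1
  exfalso
  obtain ⟨n, hn⟩ := primeTIirr1_mod h.pti 1 j
  rw [h.mu2_one 1 hj, h1] at hn
  have h2 : (ubar S U : ℤ) = -1 + n * (Nat.card W₁ : ℤ) := by exact_mod_cast hn
  obtain ⟨k, hk⟩ := (Nat.modEq_iff_dvd' h.one_lt_u.le).1 h.u_modEq.symm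
  have h3 : (ubar S U : ℤ) = 1 + Nat.card W₁ * k := by
    have := h.one_lt_u
    have h4 : ubar S U = 1 + Nat.card W₁ * k := by omega
    exact_mod_cast h4
  have h4 : (Nat.card W₁ : ℤ) ∣ 2 := ⟨n - k, by linarith⟩
  have h5 : Nat.card W₁ ∣ 2 := by exact_mod_cast h4
  have := Nat.le_of_dvd two_pos h5
  have := h.q3
  omega

omit h in
/-- `𝒮` contains an irreducible character induced from a linear character of `H`. -/
def _root_.Cfsg.Agent.H88.SZ.H72.HasLam (S : Subgroup G) : Prop :=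
  ∃ ζ ∈ seqIndD (fittingOf S) S (fittingHallOf S) ⊥, IsIrr S ζ

/-- (13.3)(b). -/
theorem no_lam (hn : ¬ HasLam S) : TypePGalois S U ∧ U ⊓ C[fittingHallOf S] = ⊥ ∧
    Nat.card U * (Nat.card W₂ - 1) = Nat.card W₂ ^ Nat.card W₁ - 1 := by
  rcases typeP_reducible_core_cases h.hG h.max h.tp h.n5 with
    ⟨ζ, h1, h2, -, ξ, h3, h4⟩ | ⟨h1, h2, -, -, h3, -⟩
  · rw [h.core_eq] at h2
    exact (hn ⟨ζ, h.mem1_of_ind h2 h3 h4, h1⟩).elim
  · refine ⟨h1, h.C_eq ▸ h2, ?_⟩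
    rw [h3, h.pr_eq]
    exact Nat.div_mul_cancel (by simpa using Nat.sub_dvd_pow_sub_pow (Nat.card W₂) 1 (Nat.card W₁))

omit h in
/-- A coherent extension on `𝒮` as in (13.3)(c). -/
structure _root_.Cfsg.Agent.H88.SZ.H72.TCoh (S W₁ W₂ : Subgroup G) (ν : (G → ℂ) →ₗ[ℂ] (G → ℂ)) : Prop where
  coh : CoherentWith S (seqIndD ⁅S, S⁆ S (fittingHallOf S) ⊥) {1}ᶜ (ftDade0 S) ν
  mu : ∀ j, j ≠ 1 → ∃ (ε : ℤ) (k : W₂ →* ℂˣ), (ε = 1 ∨ ε = -1) ∧ k ≠ 1 ∧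
    ν (prTIred S W₁ W₂ j) = (ε : ℂ) • ∑ i, eta W₁ W₂ i k

theorem nonreal {χ : G → ℂ} (hχ : χ ∈ seqIndD ⁅S, S⁆ S (fittingHallOf S) ⊥) : conjFun χ ≠ χ :=
  seqInd_conjC_neq (mmax_odd h.hG h.max) h.der_normal h.P_le_der hχ

theorem exists_tcoh : ∃ ν, TCoh S W₁ W₂ ν := by
  by_cases hi : ∃ χ ∈ seqIndD ⁅S, S⁆ S (fittingHallOf S) ⊥, IsIrr S χ
  · obtain ⟨ν, hν⟩ := h.coh
    refine ⟨ν, hν, fun j hj => ?_⟩
    rcases coherent_prDade_TIred h.pdd (seqInd_conjC_subset1 le_rfl) (fun _ => h.nonreal) hi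
      (h.mu_mem hj) hν with h1 | ⟨h1, -⟩
    · exact ⟨_, j, Or.inl (h.sign_eq j), hj, h1⟩
    · refine ⟨-1, j⁻¹, Or.inr rfl, inv_ne_one.2 hj, ?_⟩
      rw [h1, h.sign_eq]; simp
  · obtain ⟨k, hk⟩ := exists_hom_ne_one_of_ne_bot (isMulCommutative_of_isCyclic h.cyc.W2_cyc) h.cyc.W2_ne
    obtain ⟨ν, h1, h2⟩ := uniform_prTIred_coherent h.pdd hk
    refine ⟨ν, CoherentWith.mono h2 fun φ hφ => ?_, fun j hj => ⟨_, j, Or.inl (h.sign_eq k), hj, h1 j⟩⟩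
    rcases seqInd_prTI_cases h.pti h.P_le_der hφ with h3 | ⟨j, hj, rfl⟩
    · exact (hi ⟨φ, hφ, h3⟩).elim
    · exact ⟨j, hj, by rw [h.mem1_one (h.mu_mem1 hj), h.mem1_one (h.mu_mem1 hk)], rfl⟩

variable {ν : (G → ℂ) →ₗ[ℂ] (G → ℂ)}

theorem irr_ortho (hν : TCoh S W₁ W₂ ν) {χ : G → ℂ}
    (hχ : χ ∈ seqIndD ⁅S, S⁆ S (fittingHallOf S) ⊥) (hi : IsIrr S χ) (i : W₁ →* ℂˣ)
    (j : W₂ →* ℂˣ) : cfdot ⊤ (ν χ) (eta W₁ W₂ i j) = 0 :=
  H65.PF.coherent_ortho_cycTIiso h.pdd subset_rfl hν.coh hχ (conj_seqInd hχ) (h.nonreal hχ) hi i j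

theorem ortho_col0 (hν : TCoh S W₁ W₂ ν) {α : G → ℂ}
    (hα : α ∈ zspan (seqIndD ⁅S, S⁆ S (fittingHallOf S) ⊥)) (i : W₁ →* ℂˣ) :
    cfdot ⊤ (ν α) (eta W₁ W₂ i 1) = 0 := by
  have := cfdot_map_eq_of_zspan (L := S) (μ := 0) (c := 0) (η := eta W₁ W₂ i 1) ν
    (fun ξ hξ => ?_) hα
  · rwa [zero_mul] at this
  rw [zero_mul]
  rcases seqInd_prTI_cases h.pti h.P_le_der hξ with h3 | ⟨j, hj, rfl⟩
  · exact h.irr_ortho hν hξ h3 i 1
  · obtain ⟨ε, k, -, hk, e⟩ := hν.mu j hj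
    rw [e, cfdot_smul_left, cfdot_sum_eta_of_ne h.cyc hk, mul_zero]

theorem dot_col (hν : TCoh S W₁ W₂ ν) {j k : W₂ →* ℂˣ} (hj : j ≠ 1) {ε : ℤ} (hε : ε = 1 ∨ ε = -1)
    (e : ν (prTIred S W₁ W₂ j) = (ε : ℂ) • ∑ i, eta W₁ W₂ i k) {α : G → ℂ}
    (hα : α ∈ zspan (seqIndD ⁅S, S⁆ S (fittingHallOf S) ⊥)) (i : W₁ →* ℂˣ) :
    cfdot ⊤ (ν α) (eta W₁ W₂ i k) = ε / Nat.card W₁ * cfdot S α (prTIred S W₁ W₂ j) := by
  classical
  refine cfdot_map_eq_of_zspan ν (fun ξ hξ => ?_) hα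
  rcases seqInd_prTI_cases h.pti h.P_le_der hξ with h3 | ⟨l, hl, rfl⟩
  · rw [h.irr_ortho hν hξ h3 i k, seqInd_ortho h.der_normal hξ (h.mu_mem hj)
      (fun e => prTIred_not_irr h.pti j (e ▸ h3)), mul_zero]
  by_cases hlj : l = j
  · rw [hlj, e, cfdot_smul_left, cfdot_sum_eta h.cyc, cfdot_prTIred h.pti, if_pos rfl, mul_one,
      div_mul_cancel₀ _ h.q_ne]
  obtain ⟨ε', k', hε', -, e'⟩ := hν.mu l hl
  have h0 := CoherentWith.isom hν.coh _ hξ _ (h.mu_mem hj)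
  rw [cfdot_prTIred h.pti, if_neg hlj] at h0 ⊢
  by_cases hk : k' = k
  · exfalso
    rw [e, e', hk, cfdot_smul_left, cfdot_intCast_smul_right, cfdot_sum_right] at h0
    simp only [cfdot_sum_eta h.cyc, Finset.sum_const, Finset.card_univ, h.cyc.card_hom1,
      nsmul_eq_mul, mul_one] at h0
    have := h.q_ne
    rcases hε with rfl | rfl <;> rcases hε' with rfl | rfl <;> simp_all
  · rw [e', cfdot_smul_left, cfdot_sum_eta_of_ne h.cyc hk, mul_zero, mul_zero]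

theorem sub1_on {ζ ξ : G → ℂ} (hζ : ζ ∈ seqIndD (fittingOf S) S (fittingHallOf S) ⊥)
    (hξ : ξ ∈ seqIndD (fittingOf S) S (fittingHallOf S) ⊥) : ζ - ξ ∈ CFon S (fittingOf S)^# :=
  seqIndT_sub_on h.H_normal (seqInd_subT hζ) (seqInd_subT hξ)
    (by rw [h.mem1_one hζ, h.mem1_one hξ])

theorem tau_sub1 (hν : TCoh S W₁ W₂ ν) {ζ ξ : G → ℂ}
    (hζ : ζ ∈ seqIndD (fittingOf S) S (fittingHallOf S) ⊥)
    (hξ : ξ ∈ seqIndD (fittingOf S) S (fittingHallOf S) ⊥) :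
    ftDade0 S (ζ - ξ) = ν ζ - ν ξ := by
  rw [← map_sub, CoherentWith.agree' hν.coh _ (H65.zspan_sub (h.mem1_zspan hζ) (h.mem1_zspan hξ))
    (by rw [Pi.sub_apply, h.mem1_one hζ, h.mem1_one hξ, sub_self])]

open scoped Classical in
/-- (13.5). -/
theorem split (hν : TCoh S W₁ W₂ ν) {χ ζ : G → ℂ} (hχ : IsVChar ⊤ χ)
    (hζ : ζ ∈ seqIndD (fittingOf S) S (fittingHallOf S) ⊥) {a : ℤ}
    (ha : ∀ ξ ∈ seqIndD (fittingOf S) S (fittingHallOf S) ⊥,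
      cfdot ⊤ (ν ξ) χ = if ξ = ζ then (a : ℂ) else 0) :
    ∃ (α : G → ℂ) (m : ℤ), IsVChar (fittingOf S) α ∧ (∀ x ∈ fittingHallOf S, α x = m) ∧
      (∀ x ∈ fittingOf S, x ≠ 1 → χ x = (a / cfnorm S ζ : ℝ) * ζ x + α x) ∧
      nsum (fittingOf S)^# χ = a ^ 2 / cfnorm S ζ * Nat.card S -
        (a / cfnorm S ζ * (fittingOf S).relIndex S) ^ 2 -
        2 * (a / cfnorm S ζ * (fittingOf S).relIndex S) * m + nsum (fittingOf S)^# α ∧
      ((Nat.card (fittingHallOf S) : ℝ) - 1) * m ^ 2 ≤ nsum (fittingOf S)^# α := by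
  obtain ⟨b, hb⟩ := (hχ.cfRes (le_top : S ≤ ⊤)).exists_int_cfdot (seqInd_vchar h.H_le hζ)
  rw [cfdot_cfRes_left le_rfl] at hb
  refine split1 h.H_normal h.commH h.P_le_H h.P_norm hχ hζ (a := a) (b := b - a) fun ξ hξ => ?_
  have h1 := h.tau_res (CFon_mono h.H_sub (h.sub1_on hξ hζ)) hχ.cfun
  have h2 : ∀ ξ ∈ seqIndD (fittingOf S) S (fittingHallOf S) ⊥,
      cfdot ⊤ χ (ν ξ) = if ξ = ζ then (a : ℂ) else 0 := fun ξ hξ => by
    rw [hχ.cfdot_comm (hν.coh.vchar _ (h.mem1_zspan hξ)), ha ξ hξ]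
  rw [h.tau_sub1 hν hξ hζ, cfdot_sub_right, cfdot_sub_right, h2 ξ hξ, h2 ζ hζ, if_pos rfl, hb] at h1
  push_cast
  linear_combination -h1

end TP

end Cfsg.Agent.H88.SZ.H72
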