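import Cfsg.Agent.H88.ZMin
import Cfsg.Agent.H88.ZPF13a
import Cfsg.Agent.H72.PFNum
import Cfsg.Agent.S1546
import Cfsg.Agent.H12.Galois

/-!
Peterfalvi (13.4)-(13.15): `C_U(P) = 1` and the order of `U`.
-/

set_option autoImplicit false
set_option linter.unusedSectionVars false
set_option linter.unusedVariables false
set_option linter.unusedSectionVars false

namespace Cfsg.Agent.H88.SZ.H72

open Cfsg.Agent.H72

variable [Om]

open Cfsg Cfsg.Agent.H63 Cfsg.Agent.H67 Cfsg.Agent.H68 Cfsg.Agent.H70 Cfsg.Agent.H13 Cfsg.Agent.H65.PF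
open Cfsg.Agent.H88.SZ.H63 Cfsg.Agent.H88.SZ.H67 Cfsg.Agent.H88.SZ.H68 Cfsg.Agent.H88.SZ.H13

universe u

variable {G : Type u} [Group G] [Finite G] {S T W₁ U V W₂ : Subgroup G}

theorem isPrimitiveRoot_hom {W : Subgroup G} (hp : (Nat.card W).Prime) {i : W →* ℂˣ} (hi : i ≠ 1)
    {y : G} (hy : y ∈ W) (h1 : y ≠ 1) : IsPrimitiveRoot (i ⟨y, hy⟩ : ℂ) (Nat.card W) := by
  have := Fact.mk hp
  have h2 : i ⟨y, hy⟩ ≠ 1 := fun e => hi <| MonoidHom.ext fun x => by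
    obtain ⟨n, hn⟩ := ((zpowers_eq_of_prime_card' hp hy h1).ge x.2 : (x : G) ∈ Subgroup.zpowers y)
    have : x = ⟨y, hy⟩ ^ n := Subtype.ext hn.symm
    rw [this, map_zpow, e, one_zpow, MonoidHom.one_apply]
  have h3 : i ⟨y, hy⟩ ^ Nat.card W = 1 := by rw [← map_pow, pow_card_eq_one', map_one]
  rw [IsPrimitiveRoot.coe_units_iff, ← orderOf_eq_prime h3 h2]
  exact IsPrimitiveRoot.orderOf _

theorem dirr_one_le_norm_one {L : Subgroup G} {φ : G → ℂ} (h : IsDirr L φ) : 1 ≤ ‖φ 1‖ ^ 2 := by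
  obtain ⟨n, hn⟩ := h.isVChar.exists_int
  have h0 : n ≠ 0 := by rintro rfl; exact h.one_ne_zero (by rw [hn, Int.cast_zero])
  rw [hn, Complex.norm_intCast, sq_abs]
  exact_mod_cast (Int.one_le_abs h0).trans (by rw [← sq_abs]; nlinarith [Int.one_le_abs h0])

omit [Finite G] in
theorem conj_mem_classSupport_top {A : Set G} {x : G} (hx : x ∈ classSupport A ⊤) (g : G) :
    g * x * g⁻¹ ∈ classSupport A ⊤ := by
  obtain ⟨a, ha, m, -, rfl⟩ := hx
  exact ⟨a, ha, g * m, trivial, by group⟩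

theorem mem_classSupport_of_pow {K : Subgroup G} {x : G} {m : ℕ} (hm : m.Coprime (Nat.card G))
    (hx : x ^ m ∈ classSupport K^# ⊤) : x ∈ classSupport K^# ⊤ := by
  obtain ⟨n, hn⟩ := exists_pow_eq_self_of_coprime (hm.coprime_dvd_right (orderOf_dvd_natCard x))
  obtain ⟨a, ⟨ha, ha1⟩, g, -, e⟩ := hx
  have e' : x = g * a ^ n * g⁻¹ := by rw [← hn, e, conj_pow]
  refine ⟨a ^ n, ⟨K.pow_mem ha n, fun h1 => ha1 ?_⟩, g, trivial, e'⟩
  rw [Set.mem_singleton_iff.1 h1, mul_one, mul_inv_cancel] at e'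
  rw [e', one_pow] at e
  exact conj_eq_one_iff.1 e.symm

theorem pow_eq_one_iff_of_coprime' {x : G} {m : ℕ} (hm : m.Coprime (Nat.card G)) :
    x ^ m = 1 ↔ x = 1 := by
  obtain ⟨n, hn⟩ := exists_pow_eq_self_of_coprime (hm.coprime_dvd_right (orderOf_dvd_natCard x))
  exact ⟨fun e => by rw [← hn, e, one_pow], fun e => by rw [e, one_pow]⟩

omit [Finite G] in
theorem one_notMem_classSupport {K : Subgroup G} : (1 : G) ∉ classSupport K^# ⊤ :=
  fun ⟨_, ha, _, _, e⟩ => ha.2 (conj_eq_one_iff.1 e.symm)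

theorem nsum_split3 {A B : Set G} (hA : (1 : G) ∉ A) (hB : (1 : G) ∉ B) (hAB : Disjoint A B)
    (φ : G → ℂ) : nsum Set.univ φ = ‖φ 1‖ ^ 2 + nsum A φ + nsum B φ + nsum ({1} ∪ A ∪ B)ᶜ φ := by
  rw [← Set.union_compl_self ({1} ∪ A ∪ B), nsum_union disjoint_compl_right,
    nsum_union (Set.disjoint_union_left.2 ⟨Set.disjoint_singleton_left.2 hB, hAB⟩),
    nsum_union (Set.disjoint_singleton_left.2 hA), nsum_singleton]

theorem num_13_10 {p q c u v : ℕ} {a b : ℝ} (hp : 3 ≤ p) (hq : 3 ≤ q) (hu : 0 < u) (ha : 0 < a)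
    (hv : v * (q - 1) = q ^ p - 1) (hab : a * (p ^ q * (c * u) * q) = b * (q ^ p * v * p))
    (h : b * (q ^ p * v - v ^ 2 - (q ^ p - 1)) < a * (q * u) ^ 2) :
    mPQ p q * (p : ℝ) ^ (q - 1) * c < u * q := by
  have hq' : (3 : ℝ) ≤ q := by exact_mod_cast hq
  have hp' : (3 : ℝ) ≤ p := by exact_mod_cast hp
  have hu' : (0 : ℝ) < u := by exact_mod_cast hu
  have h1 : 1 < q ^ p := Nat.one_lt_pow (by omega) (by omega)
  have hv' : (v : ℝ) * (q - 1) = q ^ p - 1 := by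
    have := congrArg (Nat.cast : ℕ → ℝ) hv
    push_cast [Nat.cast_sub (show 1 ≤ q by omega), Nat.cast_sub h1.le] at this
    exact this
  have hQ : (1 : ℝ) < q ^ p := by exact_mod_cast h1
  have hq1 : (q : ℝ) - 1 ≠ 0 := by linarith
  have hvq : (v : ℝ) = (q ^ p - 1) / (q - 1) := by rw [eq_div_iff hq1, hv']
  have hm : mPQ p q * (q ^ p * v) = q ^ p * v - v ^ 2 - (q ^ p - 1) := by
    have hQ0 : (q : ℝ) ^ p ≠ 0 := by linarith
    rw [mPQ, hvq]; field_simp; ring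
  rw [← hm] at h
  rw [cast_pow_pred (p := p) (show 1 ≤ q by omega)] at hab
  have h2 : b * (q ^ p * v) = a * (p ^ (q - 1) * (c * u) * q) := by
    have hp0 : (p : ℝ) ≠ 0 := by linarith
    apply mul_right_cancel₀ hp0
    linear_combination -hab
  have h3 : a * (u * q) * (mPQ p q * (p : ℝ) ^ (q - 1) * c) < a * (u * q) * (u * q) := by
    calc _ = mPQ p q * (b * (q ^ p * v)) := by rw [h2]; ring
      _ = b * (mPQ p q * (q ^ p * v)) := by ring
      _ < _ := h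
      _ = _ := by ring
  exact lt_of_mul_lt_mul_left h3 (by positivity)

namespace TP

variable (h : TP S W₁ U W₂) {ν : (G → ℂ) →ₗ[ℂ] (G → ℂ)}
include h

theorem exists_hom1 : ∃ i : W₁ →* ℂˣ, i ≠ 1 :=
  exists_hom_ne_one_of_ne_bot (isMulCommutative_of_isCyclic h.cyc.W1_cyc) h.cyc.W1_ne

theorem exists_hom2 : ∃ j : W₂ →* ℂˣ, j ≠ 1 :=
  exists_hom_ne_one_of_ne_bot (isMulCommutative_of_isCyclic h.cyc.W2_cyc) h.cyc.W2_ne

theorem W1_le : W₁ ≤ S := typeP_W1_le h.tp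

theorem mod_aux {i : W₁ →* ℂˣ} (hi : i ≠ 1) {x y : G} (hy : y ∈ W₁) (hy1 : y ≠ 1) (hx : x ∈ W₂)
    {L : Subgroup G} (hL : W₁ ≤ L) {φ : G → ℂ} (hφ : IsVChar L φ) :
    ∃ z : ℂ, IsIntegral ℤ z ∧ φ (y * x) - φ x = (1 - i ⟨y, hy⟩) * z :=
  vchar_ker_mod_prim h.primeq (isPrimitiveRoot_hom h.primeq hi hy hy1) hφ
    (orderOf_eq_of_prime_card h.primeq hy hy1) (hL hy) (h.cyc.dp.commute hy hx).eq

theorem card_P_real : 2 * (ubar S U : ℝ) ≤ (Nat.card (fittingHallOf S) : ℝ) - 1 := by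
  have := h.two_u_le
  rw [← h.cardP] at this
  have h1 : (2 * ubar S U + 1 : ℝ) ≤ Nat.card (fittingHallOf S) := by exact_mod_cast this
  linarith

/-- (13.6). -/
theorem lam_bound (hν : TCoh S W₁ W₂ ν) {ζ : G → ℂ}
    (hζ : ζ ∈ seqIndD (fittingOf S) S (fittingHallOf S) ⊥) (hi : IsIrr S ζ) :
    (Nat.card S : ℝ) - (Nat.card W₁ * ubar S U) ^ 2 ≤ nsum (fittingOf S)^# (ν ζ) := by
  classical
  have hv : IsVChar ⊤ (ν ζ) := hν.coh.vchar _ (h.mem1_zspan hζ)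
  obtain ⟨α, m, -, h2, h3, h4, h5⟩ := h.split hν hv hζ (a := 1) fun ξ hξ => by
    rw [hν.coh.dot _ (h.mem1_zspan hξ) _ (h.mem1_zspan hζ)]
    split_ifs with e
    · rw [e, hi.cfdot_self, Int.cast_one]
    · exact seqInd_ortho h.H_normal hξ hζ e
  rw [hi.cfnorm, h.relIndex_H] at h4
  rw [hi.cfnorm] at h3
  obtain ⟨i, hi1⟩ := h.exists_hom1
  obtain ⟨y, hy, hy1⟩ := exists_ne_one_of_ne_bot h.cyc.W1_ne
  obtain ⟨x, hx, hx1⟩ := exists_ne_one_of_ne_bot h.cyc.W2_ne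
  have hV := H70.mul_mem_cycV h.cyc.dp.inf hy hy1 hx hx1
  obtain ⟨z₁, hz₁, e₁⟩ := h.mod_aux hi1 hy hy1 hx le_top hv
  obtain ⟨z₂, hz₂, e₂⟩ := h.mod_aux hi1 hy hy1 hx h.W1_le hi.isVChar
  rw [ortho_cycTIiso_vanish h.cyc hv.cfun (h.irr_ortho hν (h.mem_of_mem1 hζ hi) hi) hV] at e₁
  rw [seqInd_offK h.H_normal hζ _ (fun hH =>
    prDade_supp_disjoint h.pti (subset_classSupport _ _ hV) (h.H_le_der hH))] at e₂
  have e₃ := h3 x (h.P_le_H (h.W2_le_P hx)) hx1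
  rw [h2 x (h.W2_le_P hx)] at e₃
  obtain ⟨b, hb⟩ := int_eqAmod_prime_prim h.primeq (isPrimitiveRoot_hom h.primeq hi1 hy hy1)
    (n := m) (hz₂.sub hz₁) (by push_cast at e₃; linear_combination -e₃ - e₁ + e₂)
  have hb' : (m : ℝ) = Nat.card W₁ * b := by exact_mod_cast hb
  have h6 : (0 : ℝ) ≤ b ^ 2 - b := by
    have : (0 : ℤ) ≤ b ^ 2 - b := by nlinarith [Int.le_self_sq b]
    exact_mod_cast this
  have h7 := h.card_P_real
  have h8 : 2 * (ubar S U : ℝ) * m ^ 2 ≤ (Nat.card (fittingHallOf S) - 1) * m ^ 2 :=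
    mul_le_mul_of_nonneg_right h7 (sq_nonneg _)
  have h9 : (0 : ℝ) ≤ 2 * ubar S U * (Nat.card W₁ : ℝ) ^ 2 * (b ^ 2 - b) := by positivity
  rw [h4]
  push_cast
  rw [hb'] at h5 h8 ⊢
  nlinarith

/-- (13.7). -/
theorem eta_row_bound {i : W₁ →* ℂˣ} (hi : i ≠ 1) :
    (Nat.card (fittingOf S) : ℝ) - 1 ≤ nsum (fittingOf S)^# (eta W₁ W₂ i 1) := by
  classical
  obtain ⟨ν, hν⟩ := h.exists_tcoh
  obtain ⟨j, hj⟩ := h.exists_hom2
  have hv := cycTIiso_vchar h.cyc i 1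
  obtain ⟨α, m, h1, h2, h3, h4, h5⟩ := h.split hν hv (h.mu_mem1 hj) (a := 0) fun ξ hξ => by
    rw [h.ortho_col0 hν (h.mem1_zspan hξ)]; simp
  simp only [Int.cast_zero, zero_div, zero_mul, Complex.ofReal_zero, zero_add, ne_eq,
    OfNat.ofNat_ne_zero, not_false_eq_true, zero_pow, sub_zero, mul_zero] at h3 h4
  obtain ⟨y, hy, hy1⟩ := exists_ne_one_of_ne_bot h.cyc.W1_ne
  obtain ⟨x, hx, hx1⟩ := exists_ne_one_of_ne_bot h.cyc.W2_ne
  obtain ⟨z, hz, e⟩ := h.mod_aux hi hy hy1 hx le_top hv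
  rw [eta_restrict h.cyc _ _ (H70.mul_mem_cycV h.cyc.dp.inf hy hy1 hx hx1),
    omega_mul h.cyc.dp.inf _ _ hy hx, h3 x (h.P_le_H (h.W2_le_P hx)) hx1, h2 x (h.W2_le_P hx),
    MonoidHom.one_apply, Units.val_one, mul_one] at e
  have hm : m ≠ 0 := by
    rintro rfl
    have h6 := int_eqAmod_prime_prim h.primeq (isPrimitiveRoot_hom h.primeq hi hy hy1)
      (n := 1) (hz.add isIntegral_one) (by push_cast at e ⊢; linear_combination e)
    have h7 : Nat.card W₁ ∣ 1 := by exact_mod_cast h6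
    have := Nat.le_of_dvd one_pos h7
    have := h.q3
    omega
  have ha1 : α 1 = m := h2 1 (one_mem _)
  have ha0 : α ≠ 0 := fun e => hm (by rw [e, Pi.zero_apply] at ha1; exact_mod_cast ha1.symm)
  obtain ⟨N, hN⟩ := h1.exists_nat_cfnorm
  have hN1 : 1 ≤ N := by have := h1.one_le_cfnorm ha0; rw [hN] at this; exact_mod_cast this
  rw [h4]
  rw [nsum_diff_one, hN, ha1, Complex.norm_intCast, sq_abs] at h5 ⊢
  rcases hN1.eq_or_lt with rfl | hN2
  · obtain ⟨ε, χ, hε, hχ, e⟩ := isDirr_iff.1 (h1.isDirr (cfnorm_eq_one_iff.1 (by rw [hN, Nat.cast_one])))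
    have h6 := (hχ.isLin_of_comm fun _ ha _ hb => comm_of_isMulCommutative h.commH ha hb).2
    rw [e, Pi.smul_apply, h6, smul_eq_mul, mul_one] at ha1
    have h7 : (m : ℝ) ^ 2 = 1 := by
      have : (m : ℂ) ^ 2 = 1 := by rcases hε with rfl | rfl <;> rw [← ha1] <;> norm_num
      exact_mod_cast this
    rw [h7]; simp
  · have h6 : (2 : ℝ) ≤ N := by exact_mod_cast hN2
    have h7 := h.card_P_real
    have h8 : (1 : ℝ) < ubar S U := by exact_mod_cast h.one_lt_u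
    have h9 : (0 : ℝ) ≤ Nat.card (fittingOf S) := Nat.cast_nonneg _
    nlinarith [sq_nonneg (m : ℝ)]

/-- (13.8). -/
theorem eta_col_bound : ∃ k : W₂ →* ℂˣ, k ≠ 1 ∧
    (Nat.card ↥⁅S, S⁆ : ℝ) - (ubar S U) ^ 2 ≤ nsum (fittingOf S)^# (eta W₁ W₂ 1 k) := by
  classical
  obtain ⟨ν, hν⟩ := h.exists_tcoh
  obtain ⟨j, hj⟩ := h.exists_hom2
  obtain ⟨ε, k, hε, hk, e⟩ := hν.mu j hj
  refine ⟨k, hk, ?_⟩
  obtain ⟨α, m, -, -, -, h4, h5⟩ := h.split hν (cycTIiso_vchar h.cyc 1 k) (h.mu_mem1 hj) (a := ε)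
    fun ξ hξ => by
      rw [h.dot_col hν hj hε e (h.mem1_zspan hξ)]
      split_ifs with e'
      · rw [e', cfdot_prTIred h.pti, if_pos rfl, div_mul_cancel₀ _ h.q_ne]
      · rw [seqInd_ortho h.H_normal hξ (h.mu_mem1 hj) e', mul_zero]
  have hq : (Nat.card W₁ : ℝ) ≠ 0 := by have := h.q3; exact_mod_cast (by omega)
  have h6 : (ε : ℝ) ^ 2 = 1 := by rcases hε with rfl | rfl <;> norm_num
  have h7 : (ε : ℝ) / Nat.card W₁ * (Nat.card W₁ * ubar S U) = ε * ubar S U := by field_simp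
  rw [cfnorm_prTIred h.pti, h.relIndex_H, (typeP_sdp_der h.tp).card] at h4
  push_cast at h4
  rw [h7, h6, mul_pow, h6] at h4
  have h8 : (0 : ℝ) ≤ m ^ 2 - ε * m := by
    have : (0 : ℤ) ≤ m ^ 2 - ε * m := by
      rcases hε with rfl | rfl <;> nlinarith [Int.le_self_sq m, Int.le_self_sq (-m)]
    exact_mod_cast this
  have h9 : 2 * (ubar S U : ℝ) * m ^ 2 ≤ (Nat.card (fittingHallOf S) - 1) * m ^ 2 :=
    mul_le_mul_of_nonneg_right h.card_P_real (sq_nonneg _)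
  have h10 : (0 : ℝ) ≤ 2 * ubar S U * (m ^ 2 - ε * m) := by positivity
  have h11 : 1 / (Nat.card W₁ : ℝ) * (Nat.card ↥⁅S, S⁆ * Nat.card W₁) = Nat.card ↥⁅S, S⁆ := by
    field_simp
  rw [h4, h11]
  nlinarith

theorem eta_off_V {x : G} (hx : x ∉ classSupport (cycV W₁ W₂) ⊤) (i : W₁ →* ℂˣ) (j : W₂ →* ℂˣ) :
    eta W₁ W₂ i j x = eta W₁ W₂ i 1 x + eta W₁ W₂ 1 j x - 1 := by
  have h1 := congrFun (cfInd_cfCycTI h.cyc i j) x
  rw [cfInd_eq_zero_of_not_mem_classSupport (fun y _ hy => (cfCycTI_on h.cyc.dp i j).2 y hy) hx,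
    eta_one_one h.cyc] at h1
  simp only [Pi.add_apply, Pi.sub_apply, Pi.one_apply] at h1
  linear_combination -h1

/-- (13.9)(a). -/
theorem lam_or_eta (hν : TCoh S W₁ W₂ ν) {ζ : G → ℂ}
    (hζ : ζ ∈ seqIndD (fittingOf S) S (fittingHallOf S) ⊥) {i : W₁ →* ℂˣ} (hi : i ≠ 1) {x : G}
    (hx : x ∉ classSupport (fittingOf S)^# ⊤) : ν ζ x ≠ 0 ∨ eta W₁ W₂ i 1 x ≠ 0 := by
  classical
  by_contra hc
  push Not at hc
  obtain ⟨j, hj⟩ := h.exists_hom2
  obtain ⟨ε, k, hε, -, e⟩ := hν.mu j hj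
  have h1 := h.tau_off h.H_sub (h.sub1_on hζ (h.mu_mem1 hj)) hx
  rw [h.tau_sub1 hν hζ (h.mu_mem1 hj), Pi.sub_apply, hc.1, e, zero_sub, neg_eq_zero, Pi.smul_apply,
    smul_eq_mul, mul_eq_zero, Finset.sum_apply] at h1
  replace h1 := h1.resolve_left (by rcases hε with rfl | rfl <;> simp)
  have h2 : ∀ i' : W₁ →* ℂˣ, i' ≠ 1 → eta W₁ W₂ i' 1 x = 0 := fun i' hi' => by
    obtain ⟨σ, h3, -⟩ := exists_aut_of_prime_W2 h.cyc.coprime.symm h.primeq hi hi'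
    rw [← h3, ← homAut_one (σ : ℂ →+* ℂ), ← cfAut_eta h.cyc, cfAut_apply, hc.2, map_zero]
  have h3 : x ∉ classSupport (cycV W₁ W₂) ⊤ := by
    rintro ⟨v, hv, g, -, rfl⟩
    have h4 := hc.2
    rw [cfun_conj (eta_mem_CFun h.cyc i 1) trivial, eta_restrict h.cyc _ _ hv] at h4
    exact (isLin_omega h.cyc.dp i 1).apply_ne_zero hv.1 h4
  have h4 : ∀ i' : W₁ →* ℂˣ, eta W₁ W₂ i' k x =
      eta W₁ W₂ 1 k x - 1 + if i' = 1 then 1 else 0 := fun i' => by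
    split_ifs with e'
    · rw [e', sub_add_cancel]
    · rw [h.eta_off_V h3, h2 i' e', zero_add, add_zero]
  rw [Finset.sum_congr rfl fun i' _ => h4 i'] at h1
  simp only [Finset.sum_add_distrib, Finset.sum_const, Finset.card_univ, h.cyc.card_hom1,
    Finset.sum_ite_eq', Finset.mem_univ, if_true, nsmul_eq_mul] at h1
  have h5 : IsIntegral ℤ (((1 : ℕ) : ℂ) / (Nat.card W₁ : ℕ)) := by
    have : (((1 : ℕ) : ℂ) / (Nat.card W₁ : ℕ)) = 1 - eta W₁ W₂ 1 k x := by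
      rw [div_eq_iff h.q_ne]; push_cast; linear_combination h1
    rw [this]
    exact isIntegral_one.sub ((cycTIiso_vchar h.cyc 1 k).isIntegral x)
  have h6 := H12.dvd_of_isIntegral_div (by have := h.q3; omega) h5
  have := Nat.le_of_dvd one_pos h6
  have := h.q3
  omega

theorem not_Q_le (h' : TP T W₂ V W₁) (g : G) : ¬ cj g (fittingHallOf T) ≤ S := fun hle => by
  have h1 := card_dvd_of_le' hle
  rw [card_cj, h'.cardP, h.cardS] at h1
  have h2 : (Nat.card W₁ ^ Nat.card W₂).Coprime (Nat.card W₂ ^ Nat.card W₁ * Nat.card U) :=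
    Nat.Coprime.pow_left _ (Nat.Coprime.mul_right (h.cyc.coprime.pow_right _) h.coprime_UW.symm)
  have h3 := Nat.le_of_dvd h.primeq.pos (h2.dvd_of_dvd_mul_left h1)
  have h4 : Nat.card W₁ ^ 1 < Nat.card W₁ ^ Nat.card W₂ :=
    Nat.pow_lt_pow_right h.primeq.one_lt h.primep.one_lt
  rw [pow_one] at h4
  omega

theorem disjoint_HK (h' : TP T W₂ V W₁) :
    Disjoint (classSupport (fittingOf S)^# ⊤) (classSupport (fittingOf T)^# ⊤) := by
  rw [Set.disjoint_left]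
  rintro _ ⟨x, hx, a, -, rfl⟩ ⟨y, hy, b, -, e⟩
  refine h.not_Q_le h' (a⁻¹ * b) (cj_le_iff.2 fun z hz => h.cent_le (h.H_sub hx) ?_)
  have h1 : x = a⁻¹ * b * y * (a⁻¹ * b)⁻¹ := by
    rw [mul_assoc a⁻¹, mul_inv_rev, inv_inv, ← mul_assoc, mul_assoc a⁻¹, ← e]; group
  rw [Subgroup.mem_centralizer_singleton_iff, h1, conj_mul, conj_mul,
    comm_of_isMulCommutative h'.commH (h'.P_le_H hz) hy.1]

theorem tau_ortho (h' : TP T W₂ V W₁) {α β : G → ℂ} (hα : α ∈ CFon S (fittingOf S)^#)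
    (hβ : β ∈ CFon T (fittingOf T)^#) : cfdot ⊤ (ftDade0 S α) (ftDade0 T β) = 0 :=
  cfdot_eq_zero_of_disjoint (fun _ hg => h.tau_off h.H_sub hα hg)
    (fun _ hg => h'.tau_off h'.H_sub hβ hg) (h.disjoint_HK h')

theorem lam_pair (hν : TCoh S W₁ W₂ ν) {ζ : G → ℂ}
    (hζ : ζ ∈ seqIndD (fittingOf S) S (fittingHallOf S) ⊥) (hi : IsIrr S ζ) :
    IsDirr ⊤ (ν ζ) ∧ IsDirr ⊤ (ν (conjFun ζ)) ∧ cfdot ⊤ (ν ζ) (ν (conjFun ζ)) = 0 ∧
      ν ζ 1 = ν (conjFun ζ) 1 := by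
  have h1 := h.mem_of_mem1 hζ hi
  refine ⟨CoherentWith.dirr hν.coh h1 hi, CoherentWith.dirr hν.coh (conj_seqInd h1) hi.conjFun, ?_, ?_⟩
  · rw [CoherentWith.isom hν.coh _ h1 _ (conj_seqInd h1),
      seqInd_conjC_ortho (mmax_odd h.hG h.max) h.der_normal h.P_le_der h1]
  · rw [← sub_eq_zero, ← Pi.sub_apply, ← h.tau_sub1 hν hζ (conj_seqInd hζ)]
    exact Dade1 h.dd _

/-- (13.4). -/
theorem not_lam (h' : TP T W₂ V W₁) (hl : HasLam S) : ¬ HasLam T := by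
  classical
  rintro ⟨θ, hθ, hθi⟩
  obtain ⟨ζ, hζ, hζi⟩ := hl
  obtain ⟨ν, hν⟩ := h.exists_tcoh
  obtain ⟨ν', hν'⟩ := h'.exists_tcoh
  obtain ⟨j, hj⟩ := h.exists_hom2
  obtain ⟨l, hl⟩ := h.exists_hom1
  obtain ⟨ε, k, hε, -, e⟩ := hν.mu j hj
  obtain ⟨ε', k', hε', -, e'⟩ := hν'.mu l hl
  obtain ⟨a1, a2, a3, a4⟩ := h.lam_pair hν hζ hζi
  obtain ⟨b1, b2, b3, b4⟩ := h'.lam_pair hν' hθ hθi
  have h1 : cfdot ⊤ (ν ζ) (ν' θ) = 0 := by
    refine (dirr_diff_ortho a1 a2 b1 b2 one_ne_zero one_ne_zero a3 b3 ?_ a4 (by rw [b4])).1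
    rw [Complex.ofReal_one, one_smul, one_smul, ← h.tau_sub1 hν hζ (conj_seqInd hζ),
      ← h'.tau_sub1 hν' hθ (conj_seqInd hθ)]
    exact h.tau_ortho h' (h.sub1_on hζ (conj_seqInd hζ)) (h'.sub1_on hθ (conj_seqInd hθ))
  have h2 := h.tau_ortho h' (h.sub1_on hζ (h.mu_mem1 hj)) (h'.sub1_on hθ (h'.mu_mem1 hl))
  have h3 : cfdot ⊤ (ν ζ) (∑ i, eta W₂ W₁ i k') = 0 := by
    rw [cfdot_sum_right]
    exact Finset.sum_eq_zero fun i _ => by
      rw [eta_symm h.cyc, h.irr_ortho hν (h.mem_of_mem1 hζ hζi) hζi]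
  have h4 : cfdot ⊤ (∑ i, eta W₁ W₂ i k) (ν' θ) = 0 := by
    rw [cfdot_sum_left]
    exact Finset.sum_eq_zero fun i _ => cfdot_symm_zero <| by
      rw [← eta_symm h.cyc, h'.irr_ortho hν' (h'.mem_of_mem1 hθ hθi) hθi]
  have h5 : cfdot ⊤ (∑ i, eta W₁ W₂ i k) (∑ i, eta W₂ W₁ i k') = 1 := by
    rw [cfdot_sum_right, Finset.sum_eq_single k (fun i _ hi => by
      rw [eta_symm h.cyc, cfdot_sum_eta_of_ne h.cyc hi.symm]) (by simp), eta_symm h.cyc,
      cfdot_sum_eta h.cyc]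
  rw [h.tau_sub1 hν hζ (h.mu_mem1 hj), h'.tau_sub1 hν' hθ (h'.mu_mem1 hl), e, e', cfdot_sub_left,
    cfdot_sub_right, cfdot_sub_right, h1, cfdot_intCast_smul_right, h3, cfdot_smul_left, h4,
    cfdot_smul_left, cfdot_intCast_smul_right, h5] at h2
  rcases hε with rfl | rfl <;> rcases hε' with rfl | rfl <;> norm_num at h2

theorem exists_pair : ∃ T V, TP T W₂ V W₁ := by
  obtain ⟨T, V, h1, h2⟩ := FTtypeP_pair_witness h.hG h.max h.tp
  exact ⟨T, V, h.hG, h1.maxT, h2⟩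

theorem H_eq_P_of (hC : U ⊓ C[fittingHallOf S] = ⊥) : fittingOf S = fittingHallOf S := by
  rw [← h.fit_dp.sup, hC, sup_bot_eq]

theorem u_eq_of (hC : U ⊓ C[fittingHallOf S] = ⊥) : ubar S U = Nat.card U := by
  rw [h.cardU, hC, Subgroup.card_bot, one_mul]

/-- (13.10). -/
theorem lam_ineq (hl : HasLam S) : mPQ (Nat.card W₂) (Nat.card W₁) *
    (Nat.card W₂ : ℝ) ^ (Nat.card W₁ - 1) * Nat.card ↥(U ⊓ C[fittingHallOf S]) <
      ubar S U * Nat.card W₁ := by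
  obtain ⟨T, V, h'⟩ := h.exists_pair
  obtain ⟨-, hD, hv⟩ := h'.no_lam (h.not_lam h' hl)
  obtain ⟨ζ, hζ, hi⟩ := hl
  obtain ⟨ν, hν⟩ := h.exists_tcoh
  obtain ⟨i, hi1, b8⟩ := h'.eta_col_bound
  rw [eta_symm h.cyc, h'.u_eq_of hD, h'.card_der] at b8
  have b6 := h.lam_bound hν hζ hi
  have b7 := h.eta_row_bound hi1
  have hd := (h.lam_pair hν hζ hi).1
  have he := cycTIiso_dirr h.cyc i 1
  have hs := nsum_split3 one_notMem_classSupport one_notMem_classSupport (h.disjoint_HK h')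
  have e1 := hs (ν ζ)
  have e2 := hs (eta W₁ W₂ i 1)
  have e3 := hs 1
  rw [nsum_univ, hd.cfnorm, nsum_classSupport h.tiH hd.cfun] at e1
  rw [nsum_univ, he.cfnorm, nsum_classSupport h.tiH he.cfun, nsum_classSupport h'.tiH he.cfun] at e2
  rw [nsum_univ, isIrr_one.cfnorm, nsum_classSupport h.tiH isIrr_one.cfun,
    nsum_classSupport h'.tiH isIrr_one.cfun, nsum_one, nsum_one, nsum_one, ncard_diff_one,
    ncard_diff_one, Nat.cast_sub Nat.card_pos, Nat.cast_sub Nat.card_pos, h'.cardH, hD,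
    Subgroup.card_bot, mul_one, Pi.one_apply, norm_one] at e3
  have b9 := ncard_le_nsum_add (A := ({1} ∪ classSupport (fittingOf S)^# ⊤ ∪
    classSupport (fittingOf T)^# ⊤)ᶜ) hd.isVChar he.isVChar (fun x hx m hm hc => hx <| by
      rcases hc with (hc | hc) | hc
      · exact Or.inl (Or.inl ((pow_eq_one_iff_of_coprime' hm).1 hc))
      · exact Or.inl (Or.inr (mem_classSupport_of_pow hm hc))
      · exact Or.inr (mem_classSupport_of_pow hm hc))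
    fun x hx => h.lam_or_eta hν hζ hi1 fun hc => hx (Or.inl (Or.inr hc))
  have c1 := dirr_one_le_norm_one hd
  have c2 := dirr_one_le_norm_one he
  have c3 := nsum_nonneg (classSupport (fittingOf T)^# ⊤) (ν ζ)
  have gS : (S.index : ℝ) * Nat.card S = Nat.card G := by exact_mod_cast S.index_mul_card
  have gT : (T.index : ℝ) * Nat.card T = Nat.card G := by exact_mod_cast T.index_mul_card
  have iS : (0 : ℝ) < S.index := by exact_mod_cast Nat.pos_of_ne_zero Subgroup.index_ne_zero_of_finite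
  have iT : (0 : ℝ) < T.index := by exact_mod_cast Nat.pos_of_ne_zero Subgroup.index_ne_zero_of_finite
  have d6 := mul_le_mul_of_nonneg_left b6 iS.le
  have d7 := mul_le_mul_of_nonneg_left b7 iS.le
  have d8 := mul_le_mul_of_nonneg_left b8 iT.le
  refine num_13_10 h.p3 h.q3 (by have := h.one_lt_u; omega) iS hv (b := T.index) ?_ ?_
  · rw [h.cardS, h.cardU] at gS
    rw [h'.cardS] at gT
    push_cast at gS gT
    rw [gS, gT]
  · push_cast at e3 d8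
    nlinarith

/-- (13.12). -/
theorem C_bot : U ⊓ C[fittingHallOf S] = ⊥ := by
  by_contra hC
  have hl : HasLam S := by_contra fun hn => hC (h.no_lam hn).2.1
  have h1 : W₁ ≤ N[U ⊓ C[fittingHallOf S]] :=
    le_normalizer_inf h.frobUW.norm (le_normalizer_centralizer (h.W1_le.trans h.P_norm))
  have h2 := two_mul_lt_of_modEq h.cyc.W1_odd
    (mmax_sub_odd h.hG h.max (inf_le_left.trans ((typeP_U_le_der h.tp).trans h.der_le)))
    ((h.frobUW.reg.mono_left inf_le_left).card_modEq h1) (fun e => hC (Subgroup.card_eq_one.1 e))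
  have h3 := h.coprime_PU
  rw [h.cardU] at h3
  obtain ⟨hq, hp, hc, hu1, hu2⟩ := num_13_12 h.primep h.primeq h.p3 h.q3 h.pq_ne (h.lam_ineq hl)
    h.u_le h2 h3.coprime_mul_right_right.symm
  have h4 : IsHallOf (fittingOf S) S := by
    refine ⟨h.H_le, ?_⟩
    rw [h.cardH, h.relIndex_H, hp, hq, hc]
    rw [hp, hc] at h3
    generalize ubar S U = u at *
    interval_cases u
    · norm_num
    · norm_num at h3
    · norm_num
  have h5 := Fcore_max h4 h.H_normal (fittingOf_nil S)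
  exact hC (le_bot_iff.1 ((le_inf (h.fit_dp.le_right.trans h5) le_rfl).trans h.fit_dp.inf.le))

theorem H_eq_P : fittingOf S = fittingHallOf S := h.H_eq_P_of h.C_bot

theorem u_eq : ubar S U = Nat.card U := h.u_eq_of h.C_bot

theorem lam_ineq' (hl : HasLam S) : mPQ (Nat.card W₂) (Nat.card W₁) *
    (Nat.card W₂ : ℝ) ^ (Nat.card W₁ - 1) < Nat.card U * Nat.card W₁ := by
  have := h.lam_ineq hl
  rwa [h.C_bot, Subgroup.card_bot, Nat.cast_one, mul_one, h.u_eq] at this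

/-- (13.13). -/
theorem nonGalois_order (hn : ¬ TypePGalois S U) : Nat.card W₁ = 3 ∧ ∃ a : ℕ, 1 < a ∧
    2 * a + 1 = Nat.card W₂ ∧ Nat.card U = a ^ 2 ∧ ∀ x ∈ U, x ^ a = 1 := by
  obtain ⟨a, h1, h2, h3, h4⟩ := h.nonGalois hn
  rw [h.u_eq] at h3
  rw [h.C_eq, h.C_bot] at h4
  obtain ⟨e1, e2, e3⟩ := num_13_13 h.primep h.primeq h.p3 h.q3 h.pq_ne
    (h.lam_ineq' (by_contra fun hl => hn (h.no_lam hl).1)) h3 h2
  exact ⟨e1, a, h1, e2, e3, h4⟩

/-- (13.15). -/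
theorem galois_order (hg : TypePGalois S U) :
    (Nat.card W₂ % Nat.card W₁ = 1 →
      Nat.card U * Nat.card W₁ * (Nat.card W₂ - 1) = Nat.card W₂ ^ Nat.card W₁ - 1) ∧
    (Nat.card W₂ % Nat.card W₁ ≠ 1 →
      Nat.card U * (Nat.card W₂ - 1) = Nat.card W₂ ^ Nat.card W₁ - 1) := by
  have hp := h.p3
  have hq := h.q3
  obtain ⟨x, hx⟩ := (h.galois_facts hg).2.2
  rw [h.u_eq] at hx
  obtain ⟨n1, n2, n3⟩ := S1546.result _ _ h.primep h.primeq (by omega) (by omega)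
  have e : Nat.card U * x * (Nat.card W₂ - 1) = Nat.card W₂ ^ Nat.card W₁ - 1 := by
    rw [← hx]
    exact Nat.div_mul_cancel (by simpa using Nat.sub_dvd_pow_sub_pow (Nat.card W₂) 1 (Nat.card W₁))
  have hb : x ≤ 2 * Nat.card W₁ := by
    by_cases hl : HasLam S
    · exact num_13_15 h.primep h.primeq hp hq h.pq_ne (h.lam_ineq' hl) e
    · have h1 := (h.no_lam hl).2.2
      rw [← e] at h1
      have h2 := Nat.eq_of_mul_eq_mul_right (by omega) h1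
      have h3 : 1 = x := Nat.eq_of_mul_eq_mul_left Nat.card_pos (by rw [mul_one]; exact h2)
      omega
  rw [hx] at n1 n2 n3
  have hxo : Odd x := (Nat.odd_mul.1 n1).2
  refine ⟨fun h1 => ?_, fun h1 => ?_⟩
  · obtain ⟨k, rfl⟩ := h.coprime_UW.symm.dvd_of_dvd_mul_left (n2 h1)
    have h2 : Odd k := (Nat.odd_mul.1 hxo).2
    have h3 : k ≤ 2 := Nat.le_of_mul_le_mul_left (by rw [mul_comm _ 2]; exact hb) h.primeq.pos
    obtain ⟨l, rfl⟩ := h2
    obtain rfl : l = 0 := by omega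
    simpa using e
  · have h2 := (n3 h1).2 x (Dvd.intro_left _ rfl)
    obtain rfl : x = 1 := by
      by_contra h3
      have := two_mul_lt_of_modEq h.cyc.W1_odd hxo (by
        rw [Nat.ModEq, h2, Nat.mod_eq_of_lt (by omega)]) h3
      omega
    simpa using e

end TP

end Cfsg.Agent.H88.SZ.H72
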